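import Mathlib

set_option autoImplicit false
set_option linter.unreachableTactic false
set_option linter.unusedTactic false

namespace Cfsg.Agent.Lib.helper47

section commutant

variable {F : Type*} [Field F]

/-- a `2 × 2` matrix is non-scalar -/
def IsNonScalar (g : Matrix (Fin 2) (Fin 2) F) : Prop :=
  g 0 1 ≠ 0 ∨ g 1 0 ≠ 0 ∨ g 0 0 ≠ g 1 1

/-- the linear combination `x + y g` -/
def lin (g : Matrix (Fin 2) (Fin 2) F) (x y : F) : Matrix (Fin 2) (Fin 2) F :=
  !![x + y * g 0 0, y * g 0 1; y * g 1 0, x + y * g 1 1]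

theorem lin_eq (g : Matrix (Fin 2) (Fin 2) F) (x y : F) :
    lin g x y = x • (1 : Matrix (Fin 2) (Fin 2) F) + y • g := by
  ext i j
  fin_cases i <;> fin_cases j <;> simp [lin]

theorem lin_comm (g : Matrix (Fin 2) (Fin 2) F) (x y : F) : lin g x y * g = g * lin g x y := by
  rw [lin_eq]
  simp [add_mul, mul_add]

theorem det_lin (g : Matrix (Fin 2) (Fin 2) F) (x y : F) :
    (lin g x y).det = x ^ 2 + (g 0 0 + g 1 1) * x * y + g.det * y ^ 2 := by
  rw [lin, Matrix.det_fin_two_of, Matrix.det_fin_two]
  ring

theorem lin_injective (g : Matrix (Fin 2) (Fin 2) F) (hg : IsNonScalar g) (x y x' y' : F)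
    (h : lin g x y = lin g x' y') : x = x' ∧ y = y' := by
  have h00 := congrFun (congrFun h 0) 0
  have h01 := congrFun (congrFun h 0) 1
  have h10 := congrFun (congrFun h 1) 0
  have h11 := congrFun (congrFun h 1) 1
  simp only [lin, Matrix.of_apply, Matrix.cons_val', Matrix.cons_val_zero, Matrix.cons_val_one,
    Matrix.empty_val', Matrix.cons_val_fin_one] at h00 h01 h10 h11
  have hy : y = y' := by
    rcases hg with hg | hg | hg
    · exact mul_right_cancel₀ hg h01
    · exact mul_right_cancel₀ hg h10
    · have h5 : (y - y') * (g 0 0 - g 1 1) = 0 := by linear_combination h00 - h11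
      rcases mul_eq_zero.mp h5 with h6 | h6
      · exact sub_eq_zero.mp h6
      · exact absurd (sub_eq_zero.mp h6) hg
  subst hy
  exact ⟨by linear_combination h00, rfl⟩

/-- the commutant of a non-scalar `2 × 2` matrix consists of the `x + y g` -/
theorem commutant (g h : Matrix (Fin 2) (Fin 2) F) (hg : IsNonScalar g) (hc : h * g = g * h) :
    ∃ x y : F, h = lin g x y := by
  have e00 := congrFun (congrFun hc 0) 0
  have e01 := congrFun (congrFun hc 0) 1
  have e10 := congrFun (congrFun hc 1) 0
  have e11 := congrFun (congrFun hc 1) 1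
  simp only [Matrix.mul_apply, Fin.sum_univ_two] at e00 e01 e10 e11
  rcases hg with hg | hg | hg
  · refine ⟨h 0 0 - h 0 1 / g 0 1 * g 0 0, h 0 1 / g 0 1, ?_⟩
    ext i j
    fin_cases i <;> fin_cases j <;> simp [lin] <;> field_simp
    all_goals first
      | ring1
      | linear_combination e00 | linear_combination -e00
      | linear_combination e01 | linear_combination -e01
      | linear_combination e10 | linear_combination -e10
      | linear_combination e11 | linear_combination -e11
  · refine ⟨h 0 0 - h 1 0 / g 1 0 * g 0 0, h 1 0 / g 1 0, ?_⟩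
    ext i j
    fin_cases i <;> fin_cases j <;> simp [lin] <;> field_simp
    all_goals first
      | ring1
      | linear_combination e00 | linear_combination -e00
      | linear_combination e01 | linear_combination -e01
      | linear_combination e10 | linear_combination -e10
      | linear_combination e11 | linear_combination -e11
  · have hne : g 0 0 - g 1 1 ≠ 0 := sub_ne_zero.mpr hg
    refine ⟨h 0 0 - (h 0 0 - h 1 1) / (g 0 0 - g 1 1) * g 0 0,
      (h 0 0 - h 1 1) / (g 0 0 - g 1 1), ?_⟩
    ext i j
    fin_cases i <;> fin_cases j <;> simp [lin] <;> field_simp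
    all_goals first
      | ring1
      | linear_combination e00 | linear_combination -e00
      | linear_combination e01 | linear_combination -e01
      | linear_combination e10 | linear_combination -e10
      | linear_combination e11 | linear_combination -e11

end commutant

section centralizer

variable {F : Type*} [Field F]

/-- `x + y g` as an element of `SL₂` -/
def linSL (g : Matrix (Fin 2) (Fin 2) F) (x y : F) (h : (lin g x y).det = 1) :
    Matrix.SpecialLinearGroup (Fin 2) F := ⟨lin g x y, h⟩

theorem linSL_coe (g : Matrix (Fin 2) (Fin 2) F) (x y : F) (h : (lin g x y).det = 1) :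
    (linSL g x y h : Matrix (Fin 2) (Fin 2) F) = lin g x y := rfl

theorem linSL_mem (g : Matrix.SpecialLinearGroup (Fin 2) F) (x y : F)
    (h : (lin (g : Matrix (Fin 2) (Fin 2) F) x y).det = 1) :
    linSL (g : Matrix (Fin 2) (Fin 2) F) x y h ∈
      Subgroup.centralizer ({g} : Set (Matrix.SpecialLinearGroup (Fin 2) F)) := by
  rw [Subgroup.mem_centralizer_singleton_iff]
  apply Subtype.ext
  rw [Matrix.SpecialLinearGroup.coe_mul, Matrix.SpecialLinearGroup.coe_mul, linSL_coe]
  exact lin_comm _ _ _

theorem det_lin_eq_one (g : Matrix.SpecialLinearGroup (Fin 2) F) (x y : F)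
    (h : x ^ 2 + ((g : Matrix (Fin 2) (Fin 2) F) 0 0 + (g : Matrix (Fin 2) (Fin 2) F) 1 1) * x * y +
      y ^ 2 = 1) : (lin (g : Matrix (Fin 2) (Fin 2) F) x y).det = 1 := by
  rw [det_lin, g.det_coe]
  linear_combination h

/-- the centralizer in `SL₂(F)` of a non-scalar `g` of trace `t` is in bijection with the solutions
of `x² + t x y + y² = 1` -/
theorem card_centralizer (g : Matrix.SpecialLinearGroup (Fin 2) F)
    (hg : IsNonScalar (g : Matrix (Fin 2) (Fin 2) F)) :
    Nat.card (Subgroup.centralizer ({g} : Set (Matrix.SpecialLinearGroup (Fin 2) F))) =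
      Nat.card {p : F × F // p.1 ^ 2 + ((g : Matrix (Fin 2) (Fin 2) F) 0 0 +
        (g : Matrix (Fin 2) (Fin 2) F) 1 1) * p.1 * p.2 + p.2 ^ 2 = 1} := by
  symm
  apply Nat.card_eq_of_bijective
    (fun p => (⟨linSL (g : Matrix (Fin 2) (Fin 2) F) p.1.1 p.1.2 (det_lin_eq_one g _ _ p.2),
      linSL_mem g _ _ _⟩ :
      Subgroup.centralizer ({g} : Set (Matrix.SpecialLinearGroup (Fin 2) F))))
  constructor
  · intro p p' h
    have h1 : lin (g : Matrix (Fin 2) (Fin 2) F) p.1.1 p.1.2 =
        lin (g : Matrix (Fin 2) (Fin 2) F) p'.1.1 p'.1.2 :=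
      congrArg (fun z : Subgroup.centralizer ({g} : Set (Matrix.SpecialLinearGroup (Fin 2) F)) =>
        ((z : Matrix.SpecialLinearGroup (Fin 2) F) : Matrix (Fin 2) (Fin 2) F)) h
    obtain ⟨h2, h3⟩ := lin_injective _ hg _ _ _ _ h1
    exact Subtype.ext (Prod.ext h2 h3)
  · rintro ⟨h, hh⟩
    rw [Subgroup.mem_centralizer_singleton_iff] at hh
    have hc : (h : Matrix (Fin 2) (Fin 2) F) * (g : Matrix (Fin 2) (Fin 2) F) =
        (g : Matrix (Fin 2) (Fin 2) F) * (h : Matrix (Fin 2) (Fin 2) F) := by
      rw [← Matrix.SpecialLinearGroup.coe_mul, ← Matrix.SpecialLinearGroup.coe_mul, hh]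
    obtain ⟨x, y, hxy⟩ := commutant _ _ hg hc
    refine ⟨⟨(x, y), ?_⟩, ?_⟩
    · have h5 := h.det_coe
      rw [hxy, det_lin, g.det_coe] at h5
      linear_combination h5
    · apply Subtype.ext
      apply Subtype.ext
      exact hxy.symm

end centralizer

end Cfsg.Agent.Lib.helper47
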