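import Mathlib

/-! S4471 split project (architect helper68), piece U: a finite matrix group is conjugate to a
group of unitary matrices (averaging + square root of the positive definite Gram matrix). -/

set_option autoImplicit false

namespace Cfsg.Agent.Lib.helper68.BL

open scoped ComplexConjugate Matrix ComplexOrder

universe u

open scoped MatrixOrder in
theorem helper47_exists_sqrt {n : ℕ} (H : Matrix (Fin n) (Fin n) ℂ) (hH : H.PosSemidef) :
    ∃ C : Matrix (Fin n) (Fin n) ℂ, Cᴴ = C ∧ C * C = H := by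
  refine ⟨CFC.sqrt H, ?_, ?_⟩
  · exact (Matrix.nonneg_iff_posSemidef.mp (CFC.sqrt_nonneg H)).isHermitian
  · exact CFC.sqrt_mul_sqrt_self H hH.nonneg

/-- U : a finite matrix group is conjugate to a group of unitary matrices. -/
theorem exists_unitary_hom {G : Type u} [Group G] [Finite G] {n : ℕ}
    (R : G →* Matrix (Fin n) (Fin n) ℂ) :
    ∃ (C D : Matrix (Fin n) (Fin n) ℂ) (U : G →* Matrix (Fin n) (Fin n) ℂ), C * D = 1 ∧ D * C = 1 ∧
      (∀ g : G, U g = C * R g * D) ∧ ∀ g : G, (U g)ᴴ * U g = 1 := by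
  classical
  cases nonempty_fintype G
  obtain ⟨H, hHdef⟩ : ∃ H : Matrix (Fin n) (Fin n) ℂ, H = ∑ g : G, (R g)ᴴ * R g := ⟨_, rfl⟩
  have hinv' : ∀ g : G, R g⁻¹ * R g = 1 := fun g => by rw [← map_mul, inv_mul_cancel, map_one]
  have hpd : H.PosDef := by
    rw [hHdef]
    apply Matrix.posDef_sum Finset.univ_nonempty
    intro g _
    apply Matrix.PosDef.conjTranspose_mul_self
    intro v w hvw
    have h1 := congrArg (fun x => (R g⁻¹).mulVec x) hvw
    simpa [Matrix.mulVec_mulVec, hinv'] using h1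
  have hinvar : ∀ h : G, (R h)ᴴ * H * R h = H := by
    intro h
    rw [hHdef, Finset.mul_sum, Finset.sum_mul]
    apply Fintype.sum_equiv (Equiv.mulRight h)
    intro g
    simp [map_mul, Matrix.conjTranspose_mul, Matrix.mul_assoc]
  obtain ⟨C, hCh, hCC⟩ := helper47_exists_sqrt H hpd.posSemidef
  have hdet : IsUnit C.det := by
    have h1 : (C * C).det ≠ 0 := by rw [hCC]; exact hpd.det_pos.ne'
    rw [Matrix.det_mul] at h1
    exact isUnit_iff_ne_zero.mpr (fun h0 => h1 (by rw [h0, zero_mul]))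
  have hCD : C * C⁻¹ = 1 := Matrix.mul_nonsing_inv C hdet
  have hDC : C⁻¹ * C = 1 := Matrix.nonsing_inv_mul C hdet
  refine ⟨C, C⁻¹, ⟨⟨fun g => C * R g * C⁻¹, ?_⟩, ?_⟩, hCD, hDC, fun g => rfl, ?_⟩
  · simp [hCD]
  · intro a b
    simp only [map_mul]
    calc C * (R a * R b) * C⁻¹ = C * R a * (1 : Matrix (Fin n) (Fin n) ℂ) * R b * C⁻¹ := by
          simp [Matrix.mul_assoc]
      _ = C * R a * (C⁻¹ * C) * R b * C⁻¹ := by rw [hDC]
      _ = C * R a * C⁻¹ * (C * R b * C⁻¹) := by simp only [Matrix.mul_assoc]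
  · intro g
    show (C * R g * C⁻¹)ᴴ * (C * R g * C⁻¹) = 1
    rw [Matrix.conjTranspose_mul, Matrix.conjTranspose_mul, hCh]
    calc (C⁻¹)ᴴ * ((R g)ᴴ * C) * (C * R g * C⁻¹)
        = (C⁻¹)ᴴ * ((R g)ᴴ * (C * C) * R g) * C⁻¹ := by simp only [Matrix.mul_assoc]
      _ = (C⁻¹)ᴴ * (C * C) * C⁻¹ := by rw [hCC, hinvar, ← hCC]
      _ = (C⁻¹)ᴴ * C * (C * C⁻¹) := by simp only [Matrix.mul_assoc]
      _ = (C⁻¹)ᴴ * Cᴴ := by rw [hCD, Matrix.mul_one, hCh]
      _ = (C * C⁻¹)ᴴ := by rw [Matrix.conjTranspose_mul]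
      _ = 1 := by rw [hCD, Matrix.conjTranspose_one]

end Cfsg.Agent.Lib.helper68.BL
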