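import Mathlib
import Cfsg.Agent.Lib.helper26.S4409Defs

/-!
# S4409, piece CP32 (core, helper47): the central product of two quaternion groups of order 8
with amalgamated centres is extraspecial of order 32.  The "special" criterion SPEC is a
hypothesis here.
-/

set_option autoImplicit false

namespace Cfsg.Agent.Lib.helper26.S4409

variable {G : Type*} [Group G]

open scoped commutatorElement

/-- facts about a quaternion subgroup of order 8, read off from `QuaternionGroup 2`. -/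
theorem h47_q8_facts (M : Subgroup G) (hM : IsQ8 M) :
    ∃ z : G, z ∈ M ∧ z ≠ 1 ∧ z * z = 1 ∧ (∀ m ∈ M, z * m = m * z) ∧
      (∀ m ∈ M, (∀ m' ∈ M, m * m' = m' * m) → m = 1 ∨ m = z) ∧
      (∀ m ∈ M, ∀ m' ∈ M, ∀ w ∈ M,
        (m * m' * m⁻¹ * m'⁻¹) * w = w * (m * m' * m⁻¹ * m'⁻¹)) ∧
      (∀ m ∈ M, ∀ w ∈ M, (m * m) * w = w * (m * m)) ∧
      (∃ m ∈ M, ∃ m' ∈ M, m * m' ≠ m' * m) ∧ Nat.card ↥M = 8 := by
  obtain ⟨e⟩ := hM
  have d1 : ∀ x y w : QuaternionGroup 2,
      (x * y * x⁻¹ * y⁻¹) * w = w * (x * y * x⁻¹ * y⁻¹) := by decide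
  have d2 : ∀ x y : QuaternionGroup 2, (x * x) * y = y * (x * x) := by decide
  have d3 : ∀ x : QuaternionGroup 2, (∀ y, x * y = y * x) → x = 1 ∨ x = QuaternionGroup.a 2 := by
    decide
  have d4 : ∃ x y : QuaternionGroup 2, x * y ≠ y * x := by decide
  have d5 : ∀ y : QuaternionGroup 2, QuaternionGroup.a 2 * y = y * QuaternionGroup.a 2 := by
    decide
  have d6 : (QuaternionGroup.a 2 : QuaternionGroup 2) ≠ 1 := by decide
  have d7 : (QuaternionGroup.a 2 : QuaternionGroup 2) * QuaternionGroup.a 2 = 1 := by decide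
  obtain ⟨z0, hz0⟩ : ∃ z0 : ↥M, z0 = e.symm (QuaternionGroup.a 2) := ⟨_, rfl⟩
  have hez : e z0 = QuaternionGroup.a 2 := by rw [hz0, MulEquiv.apply_symm_apply]
  refine ⟨(z0 : G), z0.2, ?_, ?_, ?_, ?_, ?_, ?_, ?_, ?_⟩
  · intro h
    have h1 : z0 = 1 := Subtype.ext h
    rw [h1, map_one] at hez
    exact d6 hez.symm
  · have h1 : z0 * z0 = 1 := e.injective (by rw [map_mul, hez, map_one]; exact d7)
    exact congrArg Subtype.val h1
  · intro m hm
    have h1 : z0 * ⟨m, hm⟩ = ⟨m, hm⟩ * z0 :=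
      e.injective (by rw [map_mul, map_mul, hez]; exact d5 _)
    exact congrArg Subtype.val h1
  · intro m hm hcen
    have h1 : ∀ y : QuaternionGroup 2, e ⟨m, hm⟩ * y = y * e ⟨m, hm⟩ := by
      intro y
      have h2 := hcen (e.symm y : G) (e.symm y).2
      have h3 : (⟨m, hm⟩ : ↥M) * e.symm y = e.symm y * ⟨m, hm⟩ := Subtype.ext h2
      have h4 := congrArg e h3
      rw [map_mul, map_mul, MulEquiv.apply_symm_apply] at h4
      exact h4
    rcases d3 _ h1 with h | h
    · left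
      have h5 : (⟨m, hm⟩ : ↥M) = 1 := e.injective (by rw [h, map_one])
      exact congrArg Subtype.val h5
    · right
      have h5 : (⟨m, hm⟩ : ↥M) = z0 := e.injective (by rw [h, hez])
      exact congrArg Subtype.val h5
  · intro m hm m' hm' w hw
    have h1 : ((⟨m, hm⟩ : ↥M) * ⟨m', hm'⟩ * (⟨m, hm⟩ : ↥M)⁻¹ * (⟨m', hm'⟩ : ↥M)⁻¹) * ⟨w, hw⟩ =
        ⟨w, hw⟩ * ((⟨m, hm⟩ : ↥M) * ⟨m', hm'⟩ * (⟨m, hm⟩ : ↥M)⁻¹ * (⟨m', hm'⟩ : ↥M)⁻¹) :=
      e.injective (by simp only [map_mul, map_inv]; exact d1 _ _ _)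
    exact congrArg Subtype.val h1
  · intro m hm w hw
    have h1 : ((⟨m, hm⟩ : ↥M) * ⟨m, hm⟩) * ⟨w, hw⟩ = ⟨w, hw⟩ * ((⟨m, hm⟩ : ↥M) * ⟨m, hm⟩) :=
      e.injective (by simp only [map_mul]; exact d2 _ _)
    exact congrArg Subtype.val h1
  · obtain ⟨x, y, hxy⟩ := d4
    refine ⟨(e.symm x : G), (e.symm x).2, (e.symm y : G), (e.symm y).2, ?_⟩
    intro h
    have h3 : e.symm x * e.symm y = e.symm y * e.symm x := Subtype.ext h
    have h4 := congrArg e h3
    rw [map_mul, map_mul, MulEquiv.apply_symm_apply, MulEquiv.apply_symm_apply] at h4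
    exact hxy h4
  · rw [Nat.card_congr e.toEquiv, Nat.card_eq_fintype_card, QuaternionGroup.card]

theorem h47_cp32_core [Finite G] (M C : Subgroup G) (hM : IsQ8 M) (hC : IsQ8 C)
    (hMC : C ≤ Subgroup.centralizer (M : Set G)) (hne : M ⊓ C ≠ ⊥)
    (hSpec : IsPGroup 2 ↥(M ⊔ C : Subgroup G) →
      _root_.commutator ↥(M ⊔ C : Subgroup G) = Subgroup.center ↥(M ⊔ C : Subgroup G) →
      (∀ x : ↥(M ⊔ C : Subgroup G), x * x ∈ Subgroup.center ↥(M ⊔ C : Subgroup G)) →
      Cfsg.IsSpecial 2 ↥(M ⊔ C : Subgroup G)) :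
    Cfsg.IsExtraspecial 2 ↥(M ⊔ C : Subgroup G) ∧ Nat.card ↥(M ⊔ C : Subgroup G) = 32 := by
  classical
  have hcomm : ∀ m ∈ M, ∀ c ∈ C, m * c = c * m := fun m hm c hc =>
    Subgroup.mem_centralizer_iff.1 (hMC hc) m hm
  obtain ⟨z, hzM, hz1, hzz, hzcM, hcenM, hcomM, hsqM, hnabM, hcardM⟩ := h47_q8_facts M hM
  obtain ⟨z', hzC', hz1', hzz', hzcC', hcenC, hcomC, hsqC, hnabC, hcardC⟩ := h47_q8_facts C hC
  have hinfM : ∀ x, x ∈ M → x ∈ C → x = 1 ∨ x = z := fun x hxM hxC =>
    hcenM x hxM (fun m' hm' => (hcomm m' hm' x hxC).symm)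
  have hinfC : ∀ x, x ∈ M → x ∈ C → x = 1 ∨ x = z' := fun x hxM hxC =>
    hcenC x hxC (fun c' hc' => hcomm x hxM c' hc')
  obtain ⟨x0, hx0, hx01⟩ : ∃ x ∈ M ⊓ C, x ≠ 1 := by
    by_contra hcon
    push Not at hcon
    exact hne ((Subgroup.eq_bot_iff_forall _).2 hcon)
  have hx0z : x0 = z := (hinfM x0 hx0.1 hx0.2).resolve_left hx01
  have hx0z' : x0 = z' := (hinfC x0 hx0.1 hx0.2).resolve_left hx01
  have hzz'eq : z' = z := by rw [← hx0z', hx0z]
  subst hzz'eq
  have hzC : z' ∈ C := hzC'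
  obtain ⟨φ, hφ⟩ : ∃ φ : ↥M × ↥C →* G, ∀ p : ↥M × ↥C, φ p = (p.1 : G) * (p.2 : G) :=
    ⟨MonoidHom.noncommCoprod M.subtype C.subtype (fun m c => hcomm m m.2 c c.2), fun p => rfl⟩
  have hrange : φ.range = M ⊔ C := by
    apply le_antisymm
    · rintro x ⟨p, rfl⟩
      rw [hφ]
      exact Subgroup.mul_mem _ (Subgroup.mem_sup_left p.1.2) (Subgroup.mem_sup_right p.2.2)
    · refine sup_le ?_ ?_
      · intro m hm
        exact ⟨(⟨m, hm⟩, 1), by rw [hφ]; simp⟩
      · intro c hc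
        exact ⟨(1, ⟨c, hc⟩), by rw [hφ]; simp⟩
  have hP1 : ∀ x ∈ M ⊔ C, ∃ m ∈ M, ∃ c ∈ C, x = m * c := by
    intro x hx
    rw [← hrange] at hx
    obtain ⟨p, rfl⟩ := hx
    exact ⟨p.1, p.1.2, p.2, p.2.2, hφ p⟩
  have hker : Nat.card ↥φ.ker = 2 := by
    rw [Nat.card_eq_two_iff]
    have hzker : ((⟨z', hzM⟩, ⟨z', hzC⟩) : ↥M × ↥C) ∈ φ.ker := by
      rw [MonoidHom.mem_ker, hφ]
      exact hzz
    refine ⟨1, ⟨_, hzker⟩, ?_, ?_⟩
    · intro h
      have h1 : (1 : G) = z' :=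
        congrArg (fun k : ↥φ.ker => ((k : ↥M × ↥C).1 : G)) h
      exact hz1 h1.symm
    · ext k
      simp only [Set.mem_insert_iff, Set.mem_singleton_iff, Set.mem_univ, iff_true]
      obtain ⟨⟨m, c⟩, hk⟩ := k
      have hk' : (m : G) * (c : G) = 1 := by
        have h2 := hk
        rw [MonoidHom.mem_ker, hφ] at h2
        exact h2
      have hmc : (m : G) = (c : G)⁻¹ := eq_inv_of_mul_eq_one_left hk'
      have hmC : (m : G) ∈ C := by rw [hmc]; exact C.inv_mem c.2
      rcases hinfM m m.2 hmC with h | h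
      · left
        have hc1 : (c : G) = 1 := by rw [h, one_mul] at hk'; exact hk'
        apply Subtype.ext
        apply Prod.ext
        · exact Subtype.ext h
        · exact Subtype.ext hc1
      · right
        have hcz : (c : G) = z' := by
          rw [h] at hk'
          have h3 : (c : G) = z'⁻¹ := eq_inv_of_mul_eq_one_right hk'
          rw [h3]
          exact inv_eq_of_mul_eq_one_left hzz
        apply Subtype.ext
        apply Prod.ext
        · exact Subtype.ext h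
        · exact Subtype.ext hcz
  have hcard : Nat.card ↥(M ⊔ C : Subgroup G) = 32 := by
    have h1 := Subgroup.card_mul_index φ.ker
    rw [Subgroup.index_ker, hker, Nat.card_prod, hcardM, hcardC] at h1
    have h2 : Nat.card ↥φ.range = Nat.card ↥(M ⊔ C : Subgroup G) := by rw [hrange]
    omega
  have hzP : z' ∈ M ⊔ C := Subgroup.mem_sup_left hzM
  have hzcP : ∀ x ∈ M ⊔ C, z' * x = x * z' := by
    intro x hx
    obtain ⟨m, hm, c, hc, rfl⟩ := hP1 x hx
    rw [← mul_assoc, hzcM m hm, mul_assoc, hzcC' c hc, mul_assoc]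
  have hcen : ∀ x : ↥(M ⊔ C : Subgroup G),
      x ∈ Subgroup.center ↥(M ⊔ C : Subgroup G) ↔ ((x : G) = 1 ∨ (x : G) = z') := by
    intro x
    rw [Subgroup.mem_center_iff]
    constructor
    · intro hx
      obtain ⟨m, hm, c, hc, hxe⟩ := hP1 x x.2
      have hxM : ∀ m' ∈ M, m * m' = m' * m := by
        intro m' hm'
        have h1 : m' * (x : G) = (x : G) * m' :=
          congrArg Subtype.val (hx ⟨m', Subgroup.mem_sup_left hm'⟩)
        rw [hxe] at h1
        have h3 : m * c * m' = m * m' * c := by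
          rw [mul_assoc, ← hcomm m' hm' c hc, ← mul_assoc]
        rw [h3, ← mul_assoc] at h1
        exact (mul_right_cancel h1).symm
      have hxC : ∀ c' ∈ C, c * c' = c' * c := by
        intro c' hc'
        have h1 : c' * (x : G) = (x : G) * c' :=
          congrArg Subtype.val (hx ⟨c', Subgroup.mem_sup_right hc'⟩)
        rw [hxe] at h1
        have h3 : c' * (m * c) = m * (c' * c) := by
          rw [← mul_assoc, ← hcomm m hm c' hc', mul_assoc]
        rw [h3, mul_assoc] at h1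
        exact (mul_left_cancel h1).symm
      rcases hcenM m hm hxM with h | h <;> rcases hcenC c hc hxC with h' | h'
      · left; rw [hxe, h, h', mul_one]
      · right; rw [hxe, h, h', one_mul]
      · right; rw [hxe, h, h', mul_one]
      · left; rw [hxe, h, h', hzz]
    · rintro (h | h) g
      · apply Subtype.ext
        show (g : G) * (x : G) = (x : G) * (g : G)
        rw [h, mul_one, one_mul]
      · apply Subtype.ext
        show (g : G) * (x : G) = (x : G) * (g : G)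
        rw [h]
        exact (hzcP g g.2).symm
  have hcencard : Nat.card ↥(Subgroup.center ↥(M ⊔ C : Subgroup G)) = 2 := by
    rw [Nat.card_eq_two_iff]
    refine ⟨1, ⟨⟨z', hzP⟩, (hcen _).2 (Or.inr rfl)⟩, ?_, ?_⟩
    · intro h
      have h1 : (1 : G) = z' :=
        congrArg (fun k : ↥(Subgroup.center ↥(M ⊔ C : Subgroup G)) =>
          ((k : ↥(M ⊔ C : Subgroup G)) : G)) h
      exact hz1 h1.symm
    · ext k
      simp only [Set.mem_insert_iff, Set.mem_singleton_iff, Set.mem_univ, iff_true]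
      rcases (hcen k.1).1 k.2 with h | h
      · left; exact Subtype.ext (Subtype.ext h)
      · right; exact Subtype.ext (Subtype.ext h)
  have hcomm_eq : _root_.commutator ↥(M ⊔ C : Subgroup G) =
      Subgroup.center ↥(M ⊔ C : Subgroup G) := by
    apply le_antisymm
    · rw [commutator_def, Subgroup.commutator_le]
      intro x _ y _
      rw [hcen]
      obtain ⟨m, hm, c, hc, hxe⟩ := hP1 x x.2
      obtain ⟨m', hm', c', hc', hye⟩ := hP1 y y.2
      have hxφ : (x : G) = φ (⟨m, hm⟩, ⟨c, hc⟩) := by rw [hφ]; exact hxe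
      have hyφ : (y : G) = φ (⟨m', hm'⟩, ⟨c', hc'⟩) := by rw [hφ]; exact hye
      have h1 : ((⁅x, y⁆ : ↥(M ⊔ C : Subgroup G)) : G) =
          (m * m' * m⁻¹ * m'⁻¹) * (c * c' * c⁻¹ * c'⁻¹) := by
        have h2 : ((⁅x, y⁆ : ↥(M ⊔ C : Subgroup G)) : G) = ⁅(x : G), (y : G)⁆ := rfl
        rw [h2, hxφ, hyφ, ← map_commutatorElement, hφ]
        rfl
      rw [h1]
      have ha : m * m' * m⁻¹ * m'⁻¹ = 1 ∨ m * m' * m⁻¹ * m'⁻¹ = z' :=
        hcenM _ (M.mul_mem (M.mul_mem (M.mul_mem hm hm') (M.inv_mem hm)) (M.inv_mem hm'))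
          (fun w hw => hcomM m hm m' hm' w hw)
      have hb : c * c' * c⁻¹ * c'⁻¹ = 1 ∨ c * c' * c⁻¹ * c'⁻¹ = z' :=
        hcenC _ (C.mul_mem (C.mul_mem (C.mul_mem hc hc') (C.inv_mem hc)) (C.inv_mem hc'))
          (fun w hw => hcomC c hc c' hc' w hw)
      rcases ha with h | h <;> rcases hb with h' | h'
      · left; rw [h, h', mul_one]
      · right; rw [h, h', one_mul]
      · right; rw [h, h', mul_one]
      · left; rw [h, h', hzz]
    · intro x hx
      rcases (hcen x).1 hx with h | h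
      · have h1 : x = 1 := Subtype.ext h
        rw [h1]
        exact Subgroup.one_mem _
      · obtain ⟨m, hm, m', hm', hne'⟩ := hnabM
        have ha : m * m' * m⁻¹ * m'⁻¹ = z' := by
          have hmem : m * m' * m⁻¹ * m'⁻¹ ∈ M :=
            M.mul_mem (M.mul_mem (M.mul_mem hm hm') (M.inv_mem hm)) (M.inv_mem hm')
          rcases hcenM _ hmem (fun w hw => hcomM m hm m' hm' w hw) with h1 | h1
          · exfalso
            apply hne'
            have h2 : m * m' * m⁻¹ * m'⁻¹ * m' * m = m' * m := by rw [h1, one_mul]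
            simpa [mul_assoc] using h2
          · exact h1
        have hx' : x = ⁅(⟨m, Subgroup.mem_sup_left hm⟩ : ↥(M ⊔ C : Subgroup G)),
            ⟨m', Subgroup.mem_sup_left hm'⟩⁆ := by
          apply Subtype.ext
          rw [h, ← ha]
          rfl
        rw [hx', commutator_def]
        exact Subgroup.commutator_mem_commutator (Subgroup.mem_top _) (Subgroup.mem_top _)
  have hsq : ∀ x : ↥(M ⊔ C : Subgroup G), x * x ∈ Subgroup.center ↥(M ⊔ C : Subgroup G) := by
    intro x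
    rw [hcen]
    obtain ⟨m, hm, c, hc, hxe⟩ := hP1 x x.2
    have h1 : ((x * x : ↥(M ⊔ C : Subgroup G)) : G) = (m * m) * (c * c) := by
      show (x : G) * (x : G) = _
      rw [hxe]
      exact Commute.mul_mul_mul_comm (show Commute c m from (hcomm m hm c hc).symm) m c
    rw [h1]
    have ha : m * m = 1 ∨ m * m = z' :=
      hcenM _ (M.mul_mem hm hm) (fun w hw => hsqM m hm w hw)
    have hb : c * c = 1 ∨ c * c = z' :=
      hcenC _ (C.mul_mem hc hc) (fun w hw => hsqC c hc w hw)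
    rcases ha with h | h <;> rcases hb with h' | h'
    · left; rw [h, h', mul_one]
    · right; rw [h, h', one_mul]
    · right; rw [h, h', mul_one]
    · left; rw [h, h', hzz]
  have hPG : IsPGroup 2 ↥(M ⊔ C : Subgroup G) :=
    IsPGroup.of_card (n := 5) (by rw [hcard]; norm_num)
  exact ⟨⟨hSpec hPG hcomm_eq hsq, hcencard⟩, hcard⟩

end Cfsg.Agent.Lib.helper26.S4409
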