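import Mathlib
import Cfsg.Agent.Lib.helper26.S4409Defs
import Cfsg.Agent.Lib.helper54.S4409_SPEC
import Cfsg.Agent.Lib.helper47.S4409CP32core

/-!
# S4409, piece CP32 (helper47): `Q8 ∘ Q8` is extraspecial of order 32 (verbatim Skel statement).
-/

set_option autoImplicit false

namespace Cfsg.Agent.Lib.helper26.S4409

variable {G : Type*} [Group G]

theorem cp32 [Finite G] (M C : Subgroup G) (hM : IsQ8 M) (hC : IsQ8 C)
    (hMC : C ≤ Subgroup.centralizer (M : Set G)) (hne : M ⊓ C ≠ ⊥) :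
    Cfsg.IsExtraspecial 2 ↥(M ⊔ C : Subgroup G) ∧ Nat.card ↥(M ⊔ C : Subgroup G) = 32 :=
  h47_cp32_core M C hM hC hMC hne (fun hP h1 h2 => spec hP h1 h2)

end Cfsg.Agent.Lib.helper26.S4409
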