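import Cfsg.Agent.Lib.helper81.WTDefs

/-! S4414 split project (architect helper81), piece P1: the trivial weight does not occur. -/

set_option autoImplicit false

namespace Cfsg.Agent.Lib.helper81.WT

open scoped TensorProduct

universe u v w

/-- [P1] the trivial weight does not occur -/
theorem proj_one {S : Type u} [Group S] [Finite S] {F : Type w} [Field F] [Finite F] [CharP F 2]
    {V : Type v} [AddCommGroup V] [Module F V]
    (R : Representation F S V) (Y : Subgroup S) [Y.Normal] [Fintype ↥Y]
    (h0 : ∑ y : ↥Y, R (y : S) = 0) : proj R Y (1 : ↥Y →* Fˣ) = 0 := by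
  unfold proj
  simpa using h0

end Cfsg.Agent.Lib.helper81.WT
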