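import Mathlib

/-!
# Alternating bimultiplicative pairings on a subgroup, invariant under an element `x`

Abstract part of the dichotomy `dich` (piece D of S4306): the radical, the subgroup
`[R, x] Rad`, nondegeneracy of the pairing on it, and the index formula.
-/

set_option autoImplicit false

namespace Cfsg.Agent.Lib.helper47.PQD

variable {Γ : Type*} [Group Γ] {F : Type*} [Field F]

/-- An alternating bimultiplicative pairing on `R`, invariant under conjugation by `x`. -/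
structure Pg (R : Subgroup Γ) (x : Γ) (c : Γ → Γ → F) : Prop where
  ml : ∀ u ∈ R, ∀ u' ∈ R, ∀ v ∈ R, c (u * u') v = c u v * c u' v
  mr : ∀ u ∈ R, ∀ v ∈ R, ∀ v' ∈ R, c u (v * v') = c u v * c u v'
  sy : ∀ u ∈ R, ∀ v ∈ R, c u v * c v u = 1
  cj : ∀ u ∈ R, ∀ v ∈ R, c (x * u * x⁻¹) (x * v * x⁻¹) = c u v
  xR : ∀ u ∈ R, x * u * x⁻¹ ∈ R

theorem pow_coprime_one (z : F) (a b : ℕ) (ha : z ^ a = 1) (hb : z ^ b = 1)
    (hab : a.Coprime b) : z = 1 := by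
  have h1 : orderOf z ∣ a := orderOf_dvd_of_pow_eq_one ha
  have h2 : orderOf z ∣ b := orderOf_dvd_of_pow_eq_one hb
  have h3 : orderOf z ∣ 1 := by
    have := Nat.dvd_gcd h1 h2
    rwa [hab] at this
  exact orderOf_eq_one_iff.mp (Nat.dvd_one.mp h3)

theorem mem_normalizer_of_pow (H : Subgroup Γ) (x : Γ) (a : ℕ) (ha : 0 < a) (hxa : x ^ a = 1)
    (h : ∀ u ∈ H, x * u * x⁻¹ ∈ H) : x ∈ Subgroup.normalizer (H : Set Γ) := by
  have hp : ∀ i : ℕ, ∀ u ∈ H, x ^ i * u * (x ^ i)⁻¹ ∈ H := by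
    intro i
    induction i with
    | zero => intro u hu; simpa using hu
    | succ i ih =>
      intro u hu
      have e : x ^ (i + 1) * u * (x ^ (i + 1))⁻¹ = x * (x ^ i * u * (x ^ i)⁻¹) * x⁻¹ := by
        rw [pow_succ']; group
      rw [e]
      exact h _ (ih u hu)
  rw [Subgroup.mem_normalizer_iff]
  intro u
  refine ⟨h u, fun hu => ?_⟩
  have h2 := hp (a - 1) _ hu
  have h3 : x ^ (a - 1) * x = 1 := by rw [← pow_succ, Nat.sub_add_cancel ha, hxa]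
  have h4 : (x ^ (a - 1))⁻¹ = x := inv_eq_of_mul_eq_one_right h3
  have e : x ^ (a - 1) * (x * u * x⁻¹) * (x ^ (a - 1))⁻¹ = u := by
    rw [h4]
    calc x ^ (a - 1) * (x * u * x⁻¹) * x = (x ^ (a - 1) * x) * u * (x⁻¹ * x) := by
          simp only [mul_assoc]
      _ = u := by rw [h3]; simp
  rwa [e] at h2

namespace Pg

variable {R : Subgroup Γ} {x : Γ} {c : Γ → Γ → F}

theorem ne0 (P : Pg R x c) {u v : Γ} (hu : u ∈ R) (hv : v ∈ R) : c u v ≠ 0 := by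
  intro h
  have h1 := P.sy u hu v hv
  rw [h, zero_mul] at h1
  exact zero_ne_one h1

theorem one_l (P : Pg R x c) {v : Γ} (hv : v ∈ R) : c 1 v = 1 := by
  have h := P.ml 1 R.one_mem 1 R.one_mem v hv
  rw [mul_one] at h
  have h0 := P.ne0 R.one_mem hv
  exact mul_left_cancel₀ h0 (by rw [mul_one]; exact h.symm)

theorem one_r (P : Pg R x c) {u : Γ} (hu : u ∈ R) : c u 1 = 1 := by
  have h := P.mr u hu 1 R.one_mem 1 R.one_mem
  rw [mul_one] at h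
  have h0 := P.ne0 hu R.one_mem
  exact mul_left_cancel₀ h0 (by rw [mul_one]; exact h.symm)

theorem inv_l (P : Pg R x c) {u v : Γ} (hu : u ∈ R) (hv : v ∈ R) : c u⁻¹ v = (c u v)⁻¹ := by
  have h := P.ml u hu u⁻¹ (R.inv_mem hu) v hv
  rw [mul_inv_cancel, P.one_l hv] at h
  exact eq_inv_of_mul_eq_one_right h.symm

theorem inv_r (P : Pg R x c) {u v : Γ} (hu : u ∈ R) (hv : v ∈ R) : c u v⁻¹ = (c u v)⁻¹ := by
  have h := P.mr u hu v hv v⁻¹ (R.inv_mem hv)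
  rw [mul_inv_cancel, P.one_r hu] at h
  exact eq_inv_of_mul_eq_one_right h.symm

theorem swap (P : Pg R x c) {u v : Γ} (hu : u ∈ R) (hv : v ∈ R) : c v u = (c u v)⁻¹ :=
  eq_inv_of_mul_eq_one_right (P.sy u hu v hv)

theorem pow_l (P : Pg R x c) {u v : Γ} (hu : u ∈ R) (hv : v ∈ R) (n : ℕ) :
    c (u ^ n) v = c u v ^ n := by
  induction n with
  | zero => rw [pow_zero, pow_zero, P.one_l hv]
  | succ n ih => rw [pow_succ, pow_succ, P.ml _ (R.pow_mem hu n) u hu v hv, ih]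

theorem xRp (P : Pg R x c) (i : ℕ) {u : Γ} (hu : u ∈ R) : x ^ i * u * (x ^ i)⁻¹ ∈ R := by
  induction i with
  | zero => simpa using hu
  | succ i ih =>
    have e : x ^ (i + 1) * u * (x ^ (i + 1))⁻¹ = x * (x ^ i * u * (x ^ i)⁻¹) * x⁻¹ := by
      rw [pow_succ']; group
    rw [e]
    exact P.xR _ ih

theorem cjp (P : Pg R x c) (i : ℕ) {u v : Γ} (hu : u ∈ R) (hv : v ∈ R) :
    c (x ^ i * u * (x ^ i)⁻¹) (x ^ i * v * (x ^ i)⁻¹) = c u v := by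
  induction i with
  | zero => simp
  | succ i ih =>
    have e : ∀ g : Γ, x ^ (i + 1) * g * (x ^ (i + 1))⁻¹ = x * (x ^ i * g * (x ^ i)⁻¹) * x⁻¹ := by
      intro g
      rw [pow_succ']; group
    rw [e u, e v, P.cj _ (P.xRp i hu) _ (P.xRp i hv), ih]

theorem comm_val (P : Pg R x c) {v t : Γ} (hv : v ∈ R) (ht : t ∈ R) :
    c (x * v * x⁻¹ * v⁻¹) t = c (x * v * x⁻¹) t * (c v t)⁻¹ := by
  rw [P.ml _ (P.xR v hv) _ (R.inv_mem hv) t ht, P.inv_l hv ht]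

theorem comm_mem_R (P : Pg R x c) {v : Γ} (hv : v ∈ R) : x * v * x⁻¹ * v⁻¹ ∈ R :=
  R.mul_mem (P.xR v hv) (R.inv_mem hv)

/-- The radical of the pairing. -/
def rad (P : Pg R x c) : Subgroup Γ where
  carrier := {u | u ∈ R ∧ ∀ v ∈ R, c u v = 1}
  mul_mem' := by
    rintro u u' ⟨hu, h1⟩ ⟨hu', h2⟩
    exact ⟨R.mul_mem hu hu', fun v hv => by
      rw [P.ml u hu u' hu' v hv, h1 v hv, h2 v hv, mul_one]⟩
  one_mem' := ⟨R.one_mem, fun v hv => P.one_l hv⟩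
  inv_mem' := by
    rintro u ⟨hu, h1⟩
    exact ⟨R.inv_mem hu, fun v hv => by rw [P.inv_l hu hv, h1 v hv, inv_one]⟩

theorem mem_rad (P : Pg R x c) {u : Γ} : u ∈ P.rad ↔ u ∈ R ∧ ∀ v ∈ R, c u v = 1 := Iff.rfl

/-- The subgroup `[R, x] Rad`. -/
def r2 (P : Pg R x c) : Subgroup Γ where
  carrier := {u | u ∈ R ∧ ∃ v ∈ R, ∀ t ∈ R, c u t = c (x * v * x⁻¹) t * (c v t)⁻¹}
  mul_mem' := by
    rintro u u' ⟨hu, v, hv, h1⟩ ⟨hu', v', hv', h2⟩
    refine ⟨R.mul_mem hu hu', v * v', R.mul_mem hv hv', fun t ht => ?_⟩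
    have e : x * (v * v') * x⁻¹ = (x * v * x⁻¹) * (x * v' * x⁻¹) := by group
    rw [P.ml u hu u' hu' t ht, h1 t ht, h2 t ht, e, P.ml _ (P.xR v hv) _ (P.xR v' hv') t ht,
      P.ml v hv v' hv' t ht, mul_inv]
    ring
  one_mem' := ⟨R.one_mem, 1, R.one_mem, fun t ht => by
    have e : x * 1 * x⁻¹ = (1 : Γ) := by group
    rw [e, P.one_l ht, inv_one, mul_one]⟩
  inv_mem' := by
    rintro u ⟨hu, v, hv, h1⟩
    refine ⟨R.inv_mem hu, v⁻¹, R.inv_mem hv, fun t ht => ?_⟩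
    have e : x * v⁻¹ * x⁻¹ = (x * v * x⁻¹)⁻¹ := by group
    rw [P.inv_l hu ht, h1 t ht, e, P.inv_l (P.xR v hv) ht, P.inv_l hv ht, mul_inv]

theorem mem_r2 (P : Pg R x c) {u : Γ} : u ∈ P.r2 ↔
    u ∈ R ∧ ∃ v ∈ R, ∀ t ∈ R, c u t = c (x * v * x⁻¹) t * (c v t)⁻¹ := Iff.rfl

theorem rad_le_R (P : Pg R x c) : P.rad ≤ R := fun _ h => h.1

theorem r2_le_R (P : Pg R x c) : P.r2 ≤ R := fun _ h => h.1

theorem rad_le_r2 (P : Pg R x c) : P.rad ≤ P.r2 := by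
  rintro u ⟨hu, h1⟩
  refine ⟨hu, 1, R.one_mem, fun t ht => ?_⟩
  have e : x * 1 * x⁻¹ = (1 : Γ) := by group
  rw [e, P.one_l ht, inv_one, mul_one, h1 t ht]

theorem comm_mem_r2 (P : Pg R x c) {v : Γ} (hv : v ∈ R) : x * v * x⁻¹ * v⁻¹ ∈ P.r2 :=
  ⟨P.comm_mem_R hv, v, hv, fun _ ht => P.comm_val hv ht⟩

theorem cl2 (P : Pg R x c) {u v : Γ} (hu : u ∈ R) (hv : v ∈ R) :
    u * v * u⁻¹ * v⁻¹ ∈ P.rad := by
  refine ⟨R.mul_mem (R.mul_mem (R.mul_mem hu hv) (R.inv_mem hu)) (R.inv_mem hv), fun t ht => ?_⟩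
  rw [P.ml _ (R.mul_mem (R.mul_mem hu hv) (R.inv_mem hu)) _ (R.inv_mem hv) t ht,
    P.ml _ (R.mul_mem hu hv) _ (R.inv_mem hu) t ht, P.ml u hu v hv t ht, P.inv_l hu ht,
    P.inv_l hv ht]
  have h1 := P.ne0 hu ht
  have h2 := P.ne0 hv ht
  field_simp

theorem exists_pre (P : Pg R x c) (a : ℕ) (ha : 0 < a) (hxa : x ^ a = 1) {t : Γ} (ht : t ∈ R) :
    ∃ t' ∈ R, x * t' * x⁻¹ = t := by
  refine ⟨x ^ (a - 1) * t * (x ^ (a - 1))⁻¹, P.xRp (a - 1) ht, ?_⟩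
  have h3 : x * x ^ (a - 1) = 1 := by rw [← pow_succ', Nat.sub_add_cancel ha, hxa]
  have h4 : (x ^ (a - 1))⁻¹ = x := inv_eq_of_mul_eq_one_left h3
  have h5 : x ^ (a - 1) * x = 1 := by rw [← pow_succ, Nat.sub_add_cancel ha, hxa]
  calc x * (x ^ (a - 1) * t * (x ^ (a - 1))⁻¹) * x⁻¹
      = (x * x ^ (a - 1)) * t * ((x ^ (a - 1))⁻¹ * x⁻¹) := by simp only [mul_assoc]
    _ = t := by rw [h3, h4, mul_inv_cancel]; simp

theorem rad_conj (P : Pg R x c) (a : ℕ) (ha : 0 < a) (hxa : x ^ a = 1) {u : Γ}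
    (hu : u ∈ P.rad) : x * u * x⁻¹ ∈ P.rad := by
  refine ⟨P.xR u hu.1, fun t ht => ?_⟩
  obtain ⟨t', ht', rfl⟩ := P.exists_pre a ha hxa ht
  rw [P.cj u hu.1 t' ht', hu.2 t' ht']

theorem r2_conj (P : Pg R x c) (a : ℕ) (ha : 0 < a) (hxa : x ^ a = 1) {u : Γ}
    (hu : u ∈ P.r2) : x * u * x⁻¹ ∈ P.r2 := by
  obtain ⟨huR, v, hv, h1⟩ := hu
  refine ⟨P.xR u huR, x * v * x⁻¹, P.xR v hv, fun t ht => ?_⟩
  obtain ⟨t', ht', rfl⟩ := P.exists_pre a ha hxa ht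
  rw [P.cj u huR t' ht', P.cj _ (P.xR v hv) t' ht', P.cj v hv t' ht', h1 t' ht']

theorem rad_normalizer (P : Pg R x c) (a : ℕ) (ha : 0 < a) (hxa : x ^ a = 1) :
    x ∈ Subgroup.normalizer (P.rad : Set Γ) :=
  mem_normalizer_of_pow _ x a ha hxa (fun _ hu => P.rad_conj a ha hxa hu)

theorem r2_normalizer (P : Pg R x c) (a : ℕ) (ha : 0 < a) (hxa : x ^ a = 1) :
    x ∈ Subgroup.normalizer (P.r2 : Set Γ) :=
  mem_normalizer_of_pow _ x a ha hxa (fun _ hu => P.r2_conj a ha hxa hu)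

/-- The core lemma: an element of `[R, x] Rad` which is `x`-invariant modulo the radical lies
in the radical. -/
theorem core (P : Pg R x c) (a r : ℕ) (hxa : x ^ a = 1) (hcop : a.Coprime r)
    (hpow : ∀ u ∈ R, ∀ v ∈ R, ∃ k : ℕ, c u v ^ (r ^ k) = 1)
    {u : Γ} (hu : u ∈ P.r2) (hinv : ∀ t ∈ R, c u (x * t * x⁻¹) = c u t) : u ∈ P.rad := by
  obtain ⟨huR, v, hv, h1⟩ := hu
  refine ⟨huR, fun t ht => ?_⟩
  have e : ∀ (i : ℕ) (g : Γ),
      x ^ (i + 1) * g * (x ^ (i + 1))⁻¹ = x * (x ^ i * g * (x ^ i)⁻¹) * x⁻¹ := by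
    intro i g
    rw [pow_succ']; group
  have hinvp : ∀ i : ℕ, ∀ t ∈ R, c u (x ^ i * t * (x ^ i)⁻¹) = c u t := by
    intro i
    induction i with
    | zero => intro t _; simp
    | succ i ih =>
      intro t ht
      rw [e, hinv _ (P.xRp i ht), ih t ht]
  have hstep : ∀ i : ℕ, c u t * c v (x ^ (i + 1) * t * (x ^ (i + 1))⁻¹)
      = c v (x ^ i * t * (x ^ i)⁻¹) := by
    intro i
    have h2 := h1 _ (P.xRp (i + 1) ht)
    rw [hinvp (i + 1) t ht] at h2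
    have h3 : c (x * v * x⁻¹) (x ^ (i + 1) * t * (x ^ (i + 1))⁻¹)
        = c v (x ^ i * t * (x ^ i)⁻¹) := by
      rw [e, P.cj v hv _ (P.xRp i ht)]
    rw [h3] at h2
    rw [h2]
    have h0 := P.ne0 hv (P.xRp (i + 1) ht)
    field_simp
  have hall : ∀ i : ℕ, c u t ^ i * c v (x ^ i * t * (x ^ i)⁻¹) = c v t := by
    intro i
    induction i with
    | zero => simp
    | succ i ih => rw [pow_succ, mul_assoc, hstep i, ih]
  have ha : c u t ^ a = 1 := by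
    have h2 := hall a
    rw [hxa] at h2
    simp only [one_mul, inv_one, mul_one] at h2
    have h0 := P.ne0 hv ht
    exact mul_right_cancel₀ h0 (by rw [h2, one_mul])
  obtain ⟨k, hk⟩ := hpow u huR t ht
  exact pow_coprime_one _ a (r ^ k) ha hk (Nat.Coprime.pow_right k hcop)

/-- Nondegeneracy of the pairing on `[R, x] Rad` modulo the radical. -/
theorem nondeg (P : Pg R x c) (a r : ℕ) (hxa : x ^ a = 1) (hcop : a.Coprime r)
    (hpow : ∀ u ∈ R, ∀ v ∈ R, ∃ k : ℕ, c u v ^ (r ^ k) = 1)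
    {u : Γ} (hu : u ∈ P.r2) (h : ∀ v ∈ P.r2, c v u = 1) : u ∈ P.rad := by
  apply P.core a r hxa hcop hpow hu
  intro t ht
  have h1 := h _ (P.comm_mem_r2 ht)
  rw [P.comm_val ht hu.1] at h1
  have h0 := P.ne0 ht hu.1
  have h2 : c (x * t * x⁻¹) u = c t u := by
    field_simp at h1
    exact h1
  rw [P.swap (P.xR t ht) hu.1, P.swap ht hu.1, h2]

/-- `x` acts fixed-point-freely on `[R, x] Rad` modulo the radical. -/
theorem fpf (P : Pg R x c) (a r : ℕ) (ha : a.Prime) (hxa : x ^ a = 1) (hcop : a.Coprime r)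
    (hpow : ∀ u ∈ R, ∀ v ∈ R, ∃ k : ℕ, c u v ^ (r ^ k) = 1) :
    ∀ i, 0 < i → i < a → ∀ u ∈ P.r2, x ^ i * u * x⁻¹ ^ i * u⁻¹ ∈ P.rad → u ∈ P.rad := by
  intro i hi0 hia u hu hd
  have huR : u ∈ R := hu.1
  rw [inv_pow] at hd
  have h1 : ∀ t ∈ R, c (x ^ i * u * (x ^ i)⁻¹) t = c u t := by
    intro t ht
    have h2 := hd.2 t ht
    rw [P.ml _ (P.xRp i huR) _ (R.inv_mem huR) t ht, P.inv_l huR ht] at h2
    have h0 := P.ne0 huR ht
    field_simp at h2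
    exact h2
  have h2 : ∀ t ∈ R, c u (x ^ i * t * (x ^ i)⁻¹) = c u t := by
    intro t ht
    rw [← h1 _ (P.xRp i ht), P.cjp i huR ht]
  have h3 : ∀ m : ℕ, ∀ t ∈ R, c u (x ^ (i * m) * t * (x ^ (i * m))⁻¹) = c u t := by
    intro m
    induction m with
    | zero => intro t _; simp
    | succ m ih =>
      intro t ht
      have e : x ^ (i * (m + 1)) * t * (x ^ (i * (m + 1)))⁻¹
          = x ^ i * (x ^ (i * m) * t * (x ^ (i * m))⁻¹) * (x ^ i)⁻¹ := by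
        have e1 : x ^ (i * (m + 1)) = x ^ i * x ^ (i * m) := by
          rw [← pow_add]
          congr 1
          ring
        rw [e1]
        group
      rw [e, h2 _ (P.xRp (i * m) ht), ih t ht]
  have hcop' : Nat.Coprime i a := by
    rw [Nat.coprime_comm]
    exact (Nat.Prime.coprime_iff_not_dvd ha).mpr (Nat.not_dvd_of_pos_of_lt hi0 hia)
  obtain ⟨m, hm⟩ := Nat.exists_mul_mod_eq_one_of_coprime hcop' ha.one_lt
  have h4 : x ^ (i * m) = x := by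
    have h5 : i * m = a * (i * m / a) + 1 := by
      have := Nat.div_add_mod (i * m) a
      omega
    rw [h5, pow_succ, pow_mul, hxa, one_pow, one_mul]
  apply P.core a r hxa hcop hpow hu
  intro t ht
  have h6 := h3 m t ht
  rwa [h4] at h6

instance radNormal (P : Pg R x c) : ((P.rad).subgroupOf P.r2).Normal := by
  constructor
  intro n hn g
  rw [Subgroup.mem_subgroupOf] at hn ⊢
  have hg : (g : Γ) ∈ R := g.2.1
  refine ⟨R.mul_mem (R.mul_mem hg hn.1) (R.inv_mem hg), fun t ht => ?_⟩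
  simp only [Subgroup.coe_mul, Subgroup.coe_inv]
  rw [P.ml _ (R.mul_mem hg hn.1) _ (R.inv_mem hg) t ht, P.ml _ hg _ hn.1 t ht, hn.2 t ht,
    P.inv_l hg ht, mul_one, mul_inv_cancel₀ (P.ne0 hg ht)]

/-- The homomorphism `u ↦ [x, u]` from `R` to `[R, x] Rad / Rad`. -/
noncomputable def phi (P : Pg R x c) : ↥R →* (↥P.r2 ⧸ (P.rad).subgroupOf P.r2) where
  toFun u := QuotientGroup.mk ⟨x * (u : Γ) * x⁻¹ * (u : Γ)⁻¹, P.comm_mem_r2 u.2⟩
  map_one' := by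
    have h : (⟨x * ((1 : ↥R) : Γ) * x⁻¹ * ((1 : ↥R) : Γ)⁻¹, P.comm_mem_r2 (1 : ↥R).2⟩ : ↥P.r2)
        = 1 := by
      apply Subtype.ext
      simp
    rw [h]
    rfl
  map_mul' u v := by
    rw [← QuotientGroup.mk_mul, QuotientGroup.eq, Subgroup.mem_subgroupOf]
    simp only [Subgroup.coe_mul, Subgroup.coe_inv]
    have hu := u.2
    have hv := v.2
    have e : x * ((u : Γ) * (v : Γ)) * x⁻¹ = (x * u * x⁻¹) * (x * v * x⁻¹) := by group
    have hA : x * ((u : Γ) * (v : Γ)) * x⁻¹ * ((u : Γ) * (v : Γ))⁻¹ ∈ R :=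
      P.comm_mem_R (R.mul_mem hu hv)
    refine ⟨R.mul_mem (R.inv_mem hA) (R.mul_mem (P.comm_mem_R hu) (P.comm_mem_R hv)),
      fun t ht => ?_⟩
    rw [P.ml _ (R.inv_mem hA) _ (R.mul_mem (P.comm_mem_R hu) (P.comm_mem_R hv)) t ht,
      P.inv_l hA ht, P.ml _ (P.comm_mem_R hu) _ (P.comm_mem_R hv) t ht,
      P.comm_val (R.mul_mem hu hv) ht, P.comm_val hu ht, P.comm_val hv ht, e,
      P.ml _ (P.xR _ hu) _ (P.xR _ hv) t ht, P.ml _ hu _ hv t ht]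
    have h1 := P.ne0 hu ht
    have h2 := P.ne0 hv ht
    have h3 := P.ne0 (P.xR _ hu) ht
    have h4 := P.ne0 (P.xR _ hv) ht
    field_simp

theorem phi_surj (P : Pg R x c) : Function.Surjective P.phi := by
  intro q
  induction q using QuotientGroup.induction_on with
  | H g =>
    obtain ⟨hgR, v, hv, h1⟩ := g.2
    refine ⟨⟨v, hv⟩, ?_⟩
    show (QuotientGroup.mk ⟨x * v * x⁻¹ * v⁻¹, P.comm_mem_r2 hv⟩ :
      ↥P.r2 ⧸ (P.rad).subgroupOf P.r2) = QuotientGroup.mk g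
    rw [QuotientGroup.eq, Subgroup.mem_subgroupOf]
    simp only [Subgroup.coe_mul, Subgroup.coe_inv]
    refine ⟨R.mul_mem (R.inv_mem (P.comm_mem_R hv)) hgR, fun t ht => ?_⟩
    rw [P.ml _ (R.inv_mem (P.comm_mem_R hv)) _ hgR t ht, P.inv_l (P.comm_mem_R hv) ht,
      P.comm_val hv ht, h1 t ht]
    have h2 := P.ne0 hv ht
    have h3 := P.ne0 (P.xR _ hv) ht
    field_simp

theorem mem_ker_phi (P : Pg R x c) (u : ↥R) :
    u ∈ P.phi.ker ↔ x * (u : Γ) * x⁻¹ * (u : Γ)⁻¹ ∈ P.rad := by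
  rw [MonoidHom.mem_ker]
  show (QuotientGroup.mk ⟨x * (u : Γ) * x⁻¹ * (u : Γ)⁻¹, P.comm_mem_r2 u.2⟩ :
      ↥P.r2 ⧸ (P.rad).subgroupOf P.r2) = 1 ↔ _
  rw [QuotientGroup.eq_one_iff, Subgroup.mem_subgroupOf]

/-- The index formula `|R| = |R_x| · |[R, x] Rad : Rad|`. -/
theorem card_eq (P : Pg R x c) [Finite R] :
    Nat.card R = Nat.card {u : Γ // u ∈ R ∧ x * u * x⁻¹ * u⁻¹ ∈ P.rad}
      * (P.rad).relIndex P.r2 := by
  have h1 : P.phi.ker.index = (P.rad).relIndex P.r2 := by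
    rw [Subgroup.index_ker, MonoidHom.range_eq_top.mpr P.phi_surj, Subgroup.card_top]
    exact (Subgroup.index_eq_card _).symm
  have h2 : Nat.card P.phi.ker = Nat.card {u : Γ // u ∈ R ∧ x * u * x⁻¹ * u⁻¹ ∈ P.rad} := by
    apply Nat.card_congr
    exact
      { toFun := fun k => ⟨(k.1 : Γ), k.1.2, (P.mem_ker_phi k.1).mp k.2⟩
        invFun := fun s => ⟨⟨s.1, s.2.1⟩, (P.mem_ker_phi ⟨s.1, s.2.1⟩).mpr s.2.2⟩
        left_inv := fun k => rfl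
        right_inv := fun s => rfl }
  rw [← h2, ← h1]
  exact (Subgroup.card_mul_index _).symm

end Pg

end Cfsg.Agent.Lib.helper47.PQD
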