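import Mathlib
import Cfsg.Agent.Lib.helper66.GrB
import Cfsg.Agent.Lib.helper47.PQ_DA

/-!
# Representation-theoretic lemmas for the dichotomy `dich` (piece D of S4306)
-/

set_option autoImplicit false

namespace Cfsg.Agent.Lib.helper47.PQD

open Cfsg.Agent.Lib.helper66
open scoped commutatorElement

variable {Γ : Type*} [Group Γ] [Finite Γ] {F : Type*} [Field F]
  {W : Type*} [AddCommGroup W] [Module F W]

theorem rho_ne_zero (ρ : Γ →* Module.End F W) (g : Γ) (w : W) (hw : w ≠ 0) : ρ g w ≠ 0 := by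
  intro h
  apply hw
  have h1 := rho_inv_apply ρ g w
  rw [h, map_zero] at h1
  exact h1.symm

/-- The commutator pairing of a class-two subgroup acting by scalars on `M`. -/
theorem exists_pg (ρ : Γ →* Module.End F W) (R : Subgroup Γ)
    (hcl : ∀ u ∈ R, ∀ v ∈ R, ∀ t ∈ R, ⁅u, v⁆ * t = t * ⁅u, v⁆)
    (x : Γ) (hxR : x ∈ Subgroup.normalizer (R : Set Γ))
    (M : Submodule F W) (hM : M ≠ ⊥) (hMx : ∀ w ∈ M, ρ x w ∈ M)
    (hsc : ∀ u ∈ R, ∀ v ∈ R, ∃ c : F, ∀ w ∈ M, ρ ⁅u, v⁆ w = c • w) :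
    ∃ c : Γ → Γ → F, Pg R x c ∧ ∀ u ∈ R, ∀ v ∈ R, ∀ w ∈ M, ρ ⁅u, v⁆ w = c u v • w := by
  classical
  have h0 : ∀ u v : Γ, ∃ c : F, u ∈ R → v ∈ R → ∀ w ∈ M, ρ ⁅u, v⁆ w = c • w := by
    intro u v
    by_cases h : u ∈ R ∧ v ∈ R
    · obtain ⟨c, hc⟩ := hsc u h.1 v h.2
      exact ⟨c, fun _ _ => hc⟩
    · exact ⟨0, fun hu hv => absurd ⟨hu, hv⟩ h⟩
  choose c hc using h0
  obtain ⟨w0, hw0, hw00⟩ := (Submodule.ne_bot_iff _).mp hM
  have huniq : ∀ k1 k2 : F, k1 • w0 = k2 • w0 → k1 = k2 := by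
    intro k1 k2 h
    have h1 : (k1 - k2) • w0 = 0 := by rw [sub_smul, h, sub_self]
    rcases smul_eq_zero.mp h1 with h2 | h2
    · exact sub_eq_zero.mp h2
    · exact absurd h2 hw00
  refine ⟨c, ⟨?_, ?_, ?_, ?_, ?_⟩, fun u hu v hv => hc u v hu hv⟩
  · intro u hu u' hu' v hv
    have e : ⁅u * u', v⁆ = ⁅u', v⁆ * ⁅u, v⁆ := by
      have h1 := hcl u' hu' v hv u⁻¹ (R.inv_mem hu)
      have h2 : ⁅u * u', v⁆ = u * (⁅u', v⁆ * u⁻¹) * ⁅u, v⁆ := by
        simp only [commutatorElement_def]; group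
      rw [h2, h1]; group
    apply huniq
    rw [← hc (u * u') v (R.mul_mem hu hu') hv w0 hw0, e, rho_mul, hc u v hu hv w0 hw0, map_smul,
      hc u' v hu' hv w0 hw0, smul_smul]
  · intro u hu v hv v' hv'
    have e : ⁅u, v * v'⁆ = ⁅u, v⁆ * ⁅u, v'⁆ := by
      have h1 := hcl u hu v' hv' v⁻¹ (R.inv_mem hv)
      have h2 : ⁅u, v * v'⁆ = ⁅u, v⁆ * (v * (⁅u, v'⁆ * v⁻¹)) := by
        simp only [commutatorElement_def]; group
      rw [h2, h1]; group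
    apply huniq
    rw [← hc u (v * v') hu (R.mul_mem hv hv') w0 hw0, e, rho_mul, hc u v' hu hv' w0 hw0, map_smul,
      hc u v hu hv w0 hw0, smul_smul, mul_comm]
  · intro u hu v hv
    have e : ⁅v, u⁆ * ⁅u, v⁆ = 1 := by
      simp only [commutatorElement_def]; group
    apply huniq
    rw [one_smul, ← smul_smul, ← hc v u hv hu w0 hw0, ← map_smul, ← hc u v hu hv w0 hw0,
      ← rho_mul, e, map_one, Module.End.one_apply]
  · intro u hu v hv
    have hxu : x * u * x⁻¹ ∈ R := (Subgroup.mem_normalizer_iff.mp hxR u).mp hu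
    have hxv : x * v * x⁻¹ ∈ R := (Subgroup.mem_normalizer_iff.mp hxR v).mp hv
    have e : ⁅x * u * x⁻¹, x * v * x⁻¹⁆ = x * ⁅u, v⁆ * x⁻¹ := by
      simp only [commutatorElement_def]; group
    apply huniq
    rw [← hc _ _ hxu hxv w0 hw0, e, rho_mul, rho_mul,
      hc u v hu hv _ (inv_mem_of_mem ρ M x hMx w0 hw0), map_smul, rho_apply_inv]
  · intro u hu
    exact (Subgroup.mem_normalizer_iff.mp hxR u).mp hu

theorem pg_pow {R : Subgroup Γ} {x : Γ} {c : Γ → Γ → F} (P : Pg R x c) (r : ℕ)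
    (hR : IsPGroup r R) : ∀ u ∈ R, ∀ v ∈ R, ∃ k : ℕ, c u v ^ (r ^ k) = 1 := by
  intro u hu v hv
  obtain ⟨k, hk⟩ := pgroup_pow R r hR u hu
  exact ⟨k, by rw [← P.pow_l hu hv, hk, P.one_l hv]⟩

/-- The radical acts by scalars on a minimal `(R, x)`-invariant subspace, when `x` has no
nonzero fixed vector. -/
theorem rad_scalar [IsAlgClosed F] [FiniteDimensional F W] (ρ : Γ →* Module.End F W)
    (R : Subgroup Γ) (x : Γ) (c : Γ → Γ → F)
    (P : Pg R x c) (a : ℕ) (ha : a.Prime) (hxa : x ^ a = 1) (M : Submodule F W)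
    (hc : ∀ u ∈ R, ∀ v ∈ R, ∀ w ∈ M, ρ ⁅u, v⁆ w = c u v • w)
    (hfix : ∀ w ∈ M, ρ x w = w → w = 0)
    (U : Submodule F W) (hUM : U ≤ M) (hU0 : U ≠ ⊥)
    (hUR : ∀ u ∈ R, ∀ w ∈ U, ρ u w ∈ U) (hUx : ∀ w ∈ U, ρ x w ∈ U)
    (hUmin : ∀ U' : Submodule F W, U' ≤ U → U' ≠ ⊥ → (∀ u ∈ R, ∀ w ∈ U', ρ u w ∈ U') →
      (∀ w ∈ U', ρ x w ∈ U') → U' = U) :
    ∀ z ∈ P.rad, ∃ k : F, ∀ w ∈ U, ρ z w = k • w := by
  classical
  have hcomm : ∀ z ∈ P.rad, ∀ u ∈ R, ∀ w ∈ M, ρ (z * u) w = ρ (u * z) w := by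
    intro z hz u hu w hw
    have e : z * u = (u * z) * ⁅z⁻¹, u⁻¹⁆ := by simp only [commutatorElement_def]; group
    rw [e, rho_mul, hc z⁻¹ (R.inv_mem hz.1) u⁻¹ (R.inv_mem hu) w hw,
      (P.rad.inv_mem hz).2 u⁻¹ (R.inv_mem hu), one_smul]
  obtain ⟨θ, w0, hw0U, hw00, hθ⟩ := exists_joint_eigen' ρ U P.rad
    (fun z hz w hw => hUR z hz.1 w hw)
    (fun z hz z' hz' w hw => hcomm z hz z' hz'.1 w (hUM hw)) hU0
  have hwt : WtV ρ U P.rad θ w0 := ⟨hw0U, hw00, hθ⟩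
  have ha0 : 0 < a := ha.pos
  have hxN : x ∈ Subgroup.normalizer (P.rad : Set Γ) := P.rad_normalizer a ha0 hxa
  have hFx : Fx P.rad x θ := by
    by_contra hnF
    have hfree : ∀ b ∈ Subgroup.zpowers x, b ≠ 1 → ¬ Fx P.rad b θ := by
      intro b hb hb1 hFb
      apply hnF
      have hb' : b ∈ Submonoid.powers x :=
        (IsOfFinOrder.mem_powers_iff_mem_zpowers (isOfFinOrder_of_finite x)).mpr hb
      obtain ⟨j, rfl⟩ := (Submonoid.mem_powers_iff _ _).mp hb'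
      have hnd : ¬ a ∣ j := by
        rintro ⟨d, rfl⟩
        apply hb1
        rw [pow_mul, hxa, one_pow]
      have hcop : j.Coprime a := ((Nat.Prime.coprime_iff_not_dvd ha).mpr hnd).symm
      obtain ⟨m, hm⟩ := exists_pow_mul_eq x j a hxa hcop
      have h1 := Fx_pow P.rad θ (x ^ j) (Subgroup.zpowers_le.mpr hxN hb) hFb m
      rwa [← pow_mul, hm] at h1
    let _ : Fintype (Subgroup.zpowers x) := Fintype.ofFinite _
    have hne := orbit_sum_ne_zero ρ U P.rad (Subgroup.zpowers x) (Subgroup.zpowers_le.mpr hxN)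
      θ w0 hwt hfree
    apply hne
    apply hfix
    · exact hUM (orbit_sum_mem ρ U (Subgroup.zpowers x) (zpowers_mem_of_mem ρ U x hUx) w0 hw0U)
    · exact orbit_sum_fixed ρ (Subgroup.zpowers x) x (Subgroup.mem_zpowers x) w0
  let E : Submodule F W :=
    { carrier := {w | w ∈ U ∧ ∀ z ∈ P.rad, ρ z w = θ z • w}
      add_mem' := by
        rintro w w' ⟨h1, h2⟩ ⟨h1', h2'⟩
        exact ⟨U.add_mem h1 h1', fun z hz => by rw [map_add, h2 z hz, h2' z hz, smul_add]⟩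
      zero_mem' := ⟨U.zero_mem, fun z hz => by rw [map_zero, smul_zero]⟩
      smul_mem' := by
        rintro k w ⟨h1, h2⟩
        exact ⟨U.smul_mem k h1, fun z hz => by rw [map_smul, h2 z hz, smul_comm]⟩ }
  have hEU : E ≤ U := fun w hw => hw.1
  have hE0 : E ≠ ⊥ := by
    intro h
    have h1 : w0 ∈ E := ⟨hw0U, hθ⟩
    rw [h] at h1
    exact hw00 ((Submodule.mem_bot F).mp h1)
  have hER : ∀ u ∈ R, ∀ w ∈ E, ρ u w ∈ E := by
    rintro u hu w ⟨h1, h2⟩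
    refine ⟨hUR u hu w h1, fun z hz => ?_⟩
    rw [← rho_mul, hcomm z hz u hu w (hUM h1), rho_mul, h2 z hz, map_smul]
  have hEx : ∀ w ∈ E, ρ x w ∈ E := by
    rintro w ⟨h1, h2⟩
    refine ⟨hUx w h1, fun z hz => ?_⟩
    have e : z * x = x * (x⁻¹ * z * x) := by group
    rw [← rho_mul, e, rho_mul, h2 _ (conj_mem_of_normalizer' P.rad x hxN z hz), map_smul,
      hFx z hz]
  have hEeq := hUmin E hEU hE0 hER hEx
  intro z hz
  refine ⟨θ z, fun w hw => ?_⟩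
  have h1 : w ∈ E := by rw [hEeq]; exact hw
  exact h1.2 z hz

/-- If `x` centralizes `R` modulo the radical, and the radical acts by scalars on the invariant
subspace `U`, then the commutators `[x, u]` act trivially on `U`. -/
theorem triv_of_le (ρ : Γ →* Module.End F W) (R : Subgroup Γ) (x : Γ) (c : Γ → Γ → F)
    (P : Pg R x c) (a r : ℕ) (hxa : x ^ a = 1) (hcop : a.Coprime r) (hR : IsPGroup r R)
    (U : Submodule F W)
    (hUR : ∀ u ∈ R, ∀ w ∈ U, ρ u w ∈ U) (hUx : ∀ w ∈ U, ρ x w ∈ U)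
    (hscal : ∀ z ∈ P.rad, ∃ k : F, ∀ w ∈ U, ρ z w = k • w)
    (hle : ∀ u ∈ R, x * u * x⁻¹ * u⁻¹ ∈ P.rad) :
    ∀ u ∈ R, ∀ w ∈ U, ρ (x * u * x⁻¹ * u⁻¹) w = w := by
  intro u hu
  obtain ⟨l, hl⟩ := hscal _ (hle u hu)
  by_cases hU0 : U = ⊥
  · intro w hw
    rw [hU0] at hw
    rw [(Submodule.mem_bot F).mp hw, map_zero]
  obtain ⟨w1, hw1, hw10⟩ := (Submodule.ne_bot_iff _).mp hU0
  have hconj : ∀ w ∈ U, ρ (x * u * x⁻¹) w = l • ρ u w := by
    intro w hw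
    have e : x * u * x⁻¹ = (x * u * x⁻¹ * u⁻¹) * u := by group
    rw [e, rho_mul, hl _ (hUR u hu w hw)]
  have hpowc : ∀ i : ℕ, ∀ w ∈ U, ρ (x ^ i * u * (x ^ i)⁻¹) w = l ^ i • ρ u w := by
    intro i
    induction i with
    | zero => intro w _; simp
    | succ i ih =>
      intro w hw
      have e : x ^ (i + 1) * u * (x ^ (i + 1))⁻¹ = x * (x ^ i * u * (x ^ i)⁻¹) * x⁻¹ := by
        rw [pow_succ']; group
      have hw' : ρ x⁻¹ w ∈ U := inv_mem_of_mem ρ U x hUx w hw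
      rw [e, rho_mul, rho_mul, ih _ hw', map_smul, ← rho_mul, ← rho_mul, hconj w hw,
        smul_smul, pow_succ]
  have hla : l ^ a = 1 := by
    have h1 := hpowc a w1 hw1
    rw [hxa] at h1
    simp only [one_mul, inv_one, mul_one] at h1
    have h2 : (l ^ a - 1) • ρ u w1 = 0 := by rw [sub_smul, one_smul, ← h1, sub_self]
    rcases smul_eq_zero.mp h2 with h3 | h3
    · exact sub_eq_zero.mp h3
    · exact absurd h3 (rho_ne_zero ρ u w1 hw10)
  obtain ⟨k, hk⟩ := pgroup_pow R r hR _ (P.comm_mem_R hu)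
  have hlr : l ^ (r ^ k) = 1 := by
    have h1 : ρ ((x * u * x⁻¹ * u⁻¹) ^ (r ^ k)) w1 = l ^ (r ^ k) • w1 := by
      rw [map_pow]
      exact pow_apply_eigen _ l w1 (hl w1 hw1) _
    rw [hk, map_one, Module.End.one_apply] at h1
    have h2 : (l ^ (r ^ k) - 1) • w1 = 0 := by rw [sub_smul, one_smul, ← h1, sub_self]
    rcases smul_eq_zero.mp h2 with h3 | h3
    · exact sub_eq_zero.mp h3
    · exact absurd h3 hw10
  have hl1 : l = 1 := pow_coprime_one l a (r ^ k) hla hlr (Nat.Coprime.pow_right k hcop)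
  intro w hw
  rw [hl w hw, hl1, one_smul]

/-- If some commutator `[x, u]` acts nontrivially on `M`, then it does so on some minimal
`(R, x)`-invariant subspace. -/
theorem exists_bad_min [FiniteDimensional F W] (ρ : Γ →* Module.End F W) (R : Subgroup Γ)
    (r : ℕ) (hr : r.Prime)
    (hR : IsPGroup r R) (hrF : (r : F) ≠ 0) (x : Γ)
    (hxR : x ∈ Subgroup.normalizer (R : Set Γ))
    (M : Submodule F W) (hMR : ∀ u ∈ R, ∀ w ∈ M, ρ u w ∈ M) (hMx : ∀ w ∈ M, ρ x w ∈ M)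
    (hbad : ¬ ∀ u ∈ R, ∀ w ∈ M, ρ (x * u * x⁻¹ * u⁻¹) w = w) :
    ∃ U : Submodule F W, U ≤ M ∧ U ≠ ⊥ ∧ (∀ u ∈ R, ∀ w ∈ U, ρ u w ∈ U) ∧
      (∀ w ∈ U, ρ x w ∈ U) ∧
      (∀ U' : Submodule F W, U' ≤ U → U' ≠ ⊥ → (∀ u ∈ R, ∀ w ∈ U', ρ u w ∈ U') →
        (∀ w ∈ U', ρ x w ∈ U') → U' = U) ∧
      ¬ ∀ u ∈ R, ∀ w ∈ U, ρ (x * u * x⁻¹ * u⁻¹) w = w := by
  classical
  have : Fact r.Prime := ⟨hr⟩
  have hxc : ∀ u ∈ R, x * u * x⁻¹ ∈ R := fun u hu => (Subgroup.mem_normalizer_iff.mp hxR u).mp hu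
  obtain ⟨L, hLdef⟩ : ∃ L : Subgroup Γ, L = Subgroup.closure
      {g | ∃ v ∈ R, ∃ u ∈ R, g = v * (x * u * x⁻¹ * u⁻¹) * v⁻¹} := ⟨_, rfl⟩
  have hgen : ∀ v ∈ R, ∀ u ∈ R, v * (x * u * x⁻¹ * u⁻¹) * v⁻¹ ∈ L := by
    intro v hv u hu
    rw [hLdef]
    exact Subgroup.subset_closure ⟨v, hv, u, hu, rfl⟩
  have hLR : L ≤ R := by
    rw [hLdef, Subgroup.closure_le]
    rintro g ⟨v, hv, u, hu, rfl⟩
    exact R.mul_mem (R.mul_mem hv (R.mul_mem (hxc u hu) (R.inv_mem hu))) (R.inv_mem hv)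
  have hLconjR : ∀ v ∈ R, ∀ g ∈ L, v * g * v⁻¹ ∈ L := by
    intro v hv g hg
    rw [hLdef] at hg
    induction hg using Subgroup.closure_induction with
    | mem g hg =>
      obtain ⟨v', hv', u, hu, rfl⟩ := hg
      have e : v * (v' * (x * u * x⁻¹ * u⁻¹) * v'⁻¹) * v⁻¹
          = (v * v') * (x * u * x⁻¹ * u⁻¹) * (v * v')⁻¹ := by group
      rw [e]
      exact hgen _ (R.mul_mem hv hv') u hu
    | one => simpa using L.one_mem
    | mul g g' _ _ ih ih' =>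
      have e : v * (g * g') * v⁻¹ = (v * g * v⁻¹) * (v * g' * v⁻¹) := by group
      rw [e]
      exact L.mul_mem ih ih'
    | inv g _ ih =>
      have e : v * g⁻¹ * v⁻¹ = (v * g * v⁻¹)⁻¹ := by group
      rw [e]
      exact L.inv_mem ih
  have hLconjx : ∀ g ∈ L, x * g * x⁻¹ ∈ L := by
    intro g hg
    rw [hLdef] at hg
    induction hg using Subgroup.closure_induction with
    | mem g hg =>
      obtain ⟨v', hv', u, hu, rfl⟩ := hg
      have e : x * (v' * (x * u * x⁻¹ * u⁻¹) * v'⁻¹) * x⁻¹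
          = (x * v' * x⁻¹) * (x * (x * u * x⁻¹) * x⁻¹ * (x * u * x⁻¹)⁻¹) * (x * v' * x⁻¹)⁻¹ := by
        group
      rw [e]
      exact hgen _ (hxc v' hv') _ (hxc u hu)
    | one => simpa using L.one_mem
    | mul g g' _ _ ih ih' =>
      have e : x * (g * g') * x⁻¹ = (x * g * x⁻¹) * (x * g' * x⁻¹) := by group
      rw [e]
      exact L.mul_mem ih ih'
    | inv g _ ih =>
      have e : x * g⁻¹ * x⁻¹ = (x * g * x⁻¹)⁻¹ := by group
      rw [e]
      exact L.inv_mem ih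
  have hvN : ∀ v ∈ R, v ∈ Subgroup.normalizer (L : Set Γ) := by
    intro v hv
    rw [Subgroup.mem_normalizer_iff]
    intro g
    refine ⟨hLconjR v hv g, fun h => ?_⟩
    have h1 := hLconjR v⁻¹ (R.inv_mem hv) _ h
    have e : v⁻¹ * (v * g * v⁻¹) * v⁻¹⁻¹ = g := by group
    rwa [e] at h1
  have hxN : x ∈ Subgroup.normalizer (L : Set Γ) :=
    mem_normalizer_of_pow L x (orderOf x) (orderOf_pos x) (pow_orderOf_eq_one x) hLconjx
  let _ : Fintype L := Fintype.ofFinite _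
  have hTg : ∀ g ∈ L, ∀ w : W, ρ g (∑ b : L, ρ (b : Γ) w) = ∑ b : L, ρ (b : Γ) w :=
    fun g hg w => orbit_sum_fixed ρ L g hg w
  have hTconj : ∀ v ∈ Subgroup.normalizer (L : Set Γ), ∀ w : W,
      ∑ b : L, ρ (b : Γ) (ρ v w) = ρ v (∑ b : L, ρ (b : Γ) w) := by
    intro v hv w
    rw [map_sum]
    apply Fintype.sum_equiv (conjAut L v⁻¹ (inv_mem hv)).toEquiv
    intro b
    show ρ (b : Γ) (ρ v w) = ρ v (ρ (((conjAut L v⁻¹ (inv_mem hv)) b : L) : Γ) w)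
    rw [conjAut_apply, ← rho_mul, ← rho_mul]
    congr 2
    group
  have hcardF : ((Fintype.card L : ℕ) : F) ≠ 0 := by
    obtain ⟨k, hk⟩ := (IsPGroup.iff_card).mp (hR.to_le hLR)
    rw [← Nat.card_eq_fintype_card, hk, Nat.cast_pow]
    exact pow_ne_zero _ hrF
  let M1 : Submodule F W :=
    { carrier := {w | w ∈ M ∧ ∑ b : L, ρ (b : Γ) w = 0}
      add_mem' := by
        rintro w w' ⟨h1, h2⟩ ⟨h1', h2'⟩
        refine ⟨M.add_mem h1 h1', ?_⟩
        simp only [map_add, Finset.sum_add_distrib, h2, h2', add_zero]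
      zero_mem' := ⟨M.zero_mem, by simp⟩
      smul_mem' := by
        rintro k w ⟨h1, h2⟩
        refine ⟨M.smul_mem k h1, ?_⟩
        simp only [map_smul, ← Finset.smul_sum, h2, smul_zero] }
  have hM1M : M1 ≤ M := fun w hw => hw.1
  have hM1R : ∀ u ∈ R, ∀ w ∈ M1, ρ u w ∈ M1 := by
    rintro u hu w ⟨h1, h2⟩
    exact ⟨hMR u hu w h1, by rw [hTconj u (hvN u hu) w, h2, map_zero]⟩
  have hM1x : ∀ w ∈ M1, ρ x w ∈ M1 := by
    rintro w ⟨h1, h2⟩
    exact ⟨hMx w h1, by rw [hTconj x hxN w, h2, map_zero]⟩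
  have hM10 : M1 ≠ ⊥ := by
    intro h0
    apply hbad
    intro u hu w hw
    have hw' : (Fintype.card L : F) • w - ∑ b : L, ρ (b : Γ) w ∈ M1 := by
      refine ⟨M.sub_mem (M.smul_mem _ hw)
        (Submodule.sum_mem _ (fun b _ => hMR b (hLR b.2) w hw)), ?_⟩
      simp only [map_sub, map_smul, Finset.sum_sub_distrib, ← Finset.smul_sum]
      have h1 : ∑ b : L, ρ (b : Γ) (∑ b' : L, ρ (b' : Γ) w)
          = (Fintype.card L : F) • ∑ b' : L, ρ (b' : Γ) w := by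
        rw [Finset.sum_congr rfl (fun (b : L) _ => hTg b b.2 w), Finset.sum_const, Finset.card_univ,
          Nat.cast_smul_eq_nsmul]
      rw [h1, sub_self]
    rw [h0] at hw'
    have h2 : (Fintype.card L : F) • w = ∑ b : L, ρ (b : Γ) w :=
      sub_eq_zero.mp ((Submodule.mem_bot F).mp hw')
    have hgL : x * u * x⁻¹ * u⁻¹ ∈ L := by
      have h3 := hgen 1 R.one_mem u hu
      simpa using h3
    have h3 := hTg _ hgL w
    rw [← h2, map_smul] at h3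
    exact smul_right_injective W hcardF h3
  obtain ⟨U, hUM1, hU0, ⟨hUR, hUx⟩, hUmin⟩ := exists_min_submodule
    (fun U' : Submodule F W => (∀ u ∈ R, ∀ w ∈ U', ρ u w ∈ U') ∧ (∀ w ∈ U', ρ x w ∈ U')) M1 hM10
    ⟨hM1R, hM1x⟩
  refine ⟨U, hUM1.trans hM1M, hU0, hUR, hUx, fun U' h1 h2 h3 h4 => hUmin U' h1 h2 ⟨h3, h4⟩, ?_⟩
  intro hD
  have hLtriv : ∀ g ∈ L, ∀ w ∈ U, ρ g w = w := by
    intro g hg
    rw [hLdef] at hg
    induction hg using Subgroup.closure_induction with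
    | mem g hg =>
      obtain ⟨v, hv, u, hu, rfl⟩ := hg
      intro w hw
      rw [rho_mul, rho_mul, hD u hu _ (hUR v⁻¹ (R.inv_mem hv) w hw), rho_apply_inv]
    | one => intro w _; simp
    | mul g g' _ _ ih ih' =>
      intro w hw
      rw [rho_mul, ih' w hw, ih w hw]
    | inv g _ ih =>
      intro w hw
      have h1 := rho_inv_apply ρ g w
      rwa [ih w hw] at h1
  obtain ⟨w, hw, hw0⟩ := (Submodule.ne_bot_iff _).mp hU0
  have h1 : ∑ b : L, ρ (b : Γ) w = 0 := (hUM1 hw).2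
  rw [Finset.sum_congr rfl (fun (b : L) _ => hLtriv b b.2 w hw), Finset.sum_const, Finset.card_univ,
    ← Nat.cast_smul_eq_nsmul F] at h1
  rcases smul_eq_zero.mp h1 with h2 | h2
  · exact hcardF h2
  · exact hw0 h2

end Cfsg.Agent.Lib.helper47.PQD
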