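import Mathlib
import Cfsg.Agent.Lib.helper75.PQDefs
import Cfsg.Agent.Lib.helper66.GrB
import Cfsg.Agent.Lib.helper47.PQ_DA
import Cfsg.Agent.Lib.helper47.PQ_DB

/-!
# S4306 piece D: the dichotomy `dich`
-/

set_option autoImplicit false

namespace Cfsg.Agent.Lib.helper75.PQ

open Cfsg.Agent.Lib.helper66 (WtV Fx cw)
open scoped commutatorElement

variable {Γ : Type*} [Group Γ] [Finite Γ] {F : Type*} [Field F] [IsAlgClosed F]
  {W : Type*} [AddCommGroup W] [Module F W] [FiniteDimensional F W]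

/-- D (dichotomy): an `r`-group `R` of class two, an element `x` of prime order `a`
normalizing it, an invariant subspace `M` on which commutators of `R` act by scalars and `x`
has no nonzero fixed vector.  Then the commutators `[x, u]` act trivially on `M`, or `r = 2`,
`a` is a Fermat prime and the part of `R / Rad` moved by `x` has order `(a - 1)²`. -/
theorem dich (ρ : Γ →* Module.End F W) (R : Subgroup Γ) (r : ℕ) (hr : r.Prime)
    (hR : IsPGroup r R) (hrF : (r : F) ≠ 0)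
    (hcl : ∀ u ∈ R, ∀ v ∈ R, ∀ t ∈ R, ⁅u, v⁆ * t = t * ⁅u, v⁆)
    (x : Γ) (a : ℕ) (ha : a.Prime) (har : a ≠ r) (haF : (a : F) ≠ 0) (hxa : x ^ a = 1)
    (hxR : x ∈ Subgroup.normalizer (R : Set Γ))
    (M : Submodule F W) (hMR : ∀ u ∈ R, ∀ w ∈ M, ρ u w ∈ M) (hMx : ∀ w ∈ M, ρ x w ∈ M)
    (hsc : ∀ u ∈ R, ∀ v ∈ R, ∃ c : F, ∀ w ∈ M, ρ ⁅u, v⁆ w = c • w)
    (hfix : ∀ w ∈ M, ρ x w = w → w = 0) :
    (∀ u ∈ R, ∀ w ∈ M, ρ ⁅x, u⁆ w = w) ∨
    (r = 2 ∧ (∃ n : ℕ, a = 2 ^ n + 1) ∧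
      Nat.card R = Nat.card {u : Γ // u ∈ R ∧ ∀ v ∈ R, ∀ w ∈ M, ρ ⁅⁅x, u⁆, v⁆ w = w} *
        (a - 1) ^ 2) := by
  classical
  have : Fact r.Prime := ⟨hr⟩
  by_cases hD : ∀ u ∈ R, ∀ w ∈ M, ρ ⁅x, u⁆ w = w
  · exact Or.inl hD
  right
  have hM : M ≠ ⊥ := by
    rintro rfl
    apply hD
    intro u hu w hw
    rw [(Submodule.mem_bot F).mp hw, map_zero]
  obtain ⟨c, P, hc⟩ := Cfsg.Agent.Lib.helper47.PQD.exists_pg ρ R hcl x hxR M hM hMx hsc
  have hcop : a.Coprime r := (Nat.coprime_primes ha hr).mpr har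
  have hpow := Cfsg.Agent.Lib.helper47.PQD.pg_pow P r hR
  have hD' : ¬ ∀ u ∈ R, ∀ w ∈ M, ρ (x * u * x⁻¹ * u⁻¹) w = w := by
    intro h
    apply hD
    intro u hu w hw
    rw [commutatorElement_def]
    exact h u hu w hw
  obtain ⟨U, hUM, hU0, hUR, hUx, hUmin, hUbad⟩ :=
    Cfsg.Agent.Lib.helper47.PQD.exists_bad_min ρ R r hr hR hrF x hxR M hMR hMx hD'
  have hscal := Cfsg.Agent.Lib.helper47.PQD.rad_scalar ρ R x c P a ha hxa M hc hfix U hUM hU0
    hUR hUx hUmin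
  obtain ⟨Ub, hUbU, hUb0, ⟨hUbR, hUbx⟩, hUbmin⟩ := Cfsg.Agent.Lib.helper66.exists_min_submodule
    (fun U' : Submodule F W => (∀ u ∈ P.r2, ∀ w ∈ U', ρ u w ∈ U') ∧ (∀ w ∈ U', ρ x w ∈ U')) U hU0
    ⟨fun u hu w hw => hUR u hu.1 w hw, hUx⟩
  obtain ⟨k2, hk2⟩ := (IsPGroup.iff_card).mp (hR.to_le P.r2_le_R)
  have hR2card : (Nat.card P.r2 : F) ≠ 0 := by
    rw [hk2, Nat.cast_pow]
    exact pow_ne_zero _ hrF
  obtain ⟨w1, hw1, hw10⟩ := (Submodule.ne_bot_iff _).mp hUb0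
  have hmain := Cfsg.Agent.Lib.helper66.extraZ_sub ρ P.r2 P.rad x a ha.pos Ub hUb0 P.rad_le_r2
    (fun z hz => by
      obtain ⟨k, hk⟩ := hscal z hz
      exact ⟨k, fun w hw => hk w (hUbU hw)⟩)
    (fun u hu v hv => P.cl2 hu.1 hv.1)
    (by
      intro u hu hnu
      by_contra hall
      push Not at hall
      apply hnu
      apply P.nondeg a r hxa hcop hpow hu
      intro v hv
      have h1 := hall v hv w1 hw1
      have e : v * u = ⁅v, u⁆ * (u * v) := by simp only [commutatorElement_def]; group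
      have hm : ρ (u * v) w1 ∈ M := hMR _ (R.mul_mem hu.1 hv.1) _ (hUM (hUbU hw1))
      rw [e, Cfsg.Agent.Lib.helper66.rho_mul, hc v hv.1 u hu.1 _ hm] at h1
      have h2 : (c v u - 1) • ρ (u * v) w1 = 0 := by rw [sub_smul, one_smul, h1, sub_self]
      rcases smul_eq_zero.mp h2 with h3 | h3
      · exact sub_eq_zero.mp h3
      · exact absurd h3 (Cfsg.Agent.Lib.helper47.PQD.rho_ne_zero ρ _ w1 hw10))
    (P.r2_normalizer a ha.pos hxa) (P.rad_normalizer a ha.pos hxa) hxa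
    (P.fpf a r ha hxa hcop hpow)
    hR2card haF hUbR hUbx
    (fun U' h1 h2 h3 h4 => hUbmin U' h1 h2 ⟨h3, h4⟩)
  obtain ⟨hsq, -, hdim, -, -⟩ := hmain
  have hfixb : ∀ w ∈ Ub, ρ x w = w → w = 0 := fun w hw => hfix w (hUM (hUbU hw))
  by_cases hf1 : Module.finrank F Ub = 1
  · exfalso
    rw [hf1, one_pow] at hsq
    have hle : P.r2 ≤ P.rad := Subgroup.relIndex_eq_one.mp hsq.symm
    apply hUbad
    exact Cfsg.Agent.Lib.helper47.PQD.triv_of_le ρ R x c P a r hxa hcop hR U hUR hUx hscal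
      (fun u hu => hle (P.comm_mem_r2 hu))
  have hf2 : Module.finrank F Ub + 1 = a := (hdim hfixb).resolve_left hf1
  have hfr : Module.finrank F Ub = a - 1 := by omega
  rw [hfr] at hsq hf1
  have hdvd : (a - 1) ^ 2 ∣ Nat.card P.r2 := by
    rw [hsq]
    exact Subgroup.relIndex_dvd_card _ _
  rw [hk2] at hdvd
  have hdvd1 : (a - 1) ∣ r ^ k2 := Dvd.dvd.trans (dvd_pow_self _ two_ne_zero) hdvd
  obtain ⟨m, -, hm⟩ := (Nat.dvd_prime_pow hr).mp hdvd1
  have hm0 : m ≠ 0 := by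
    rintro rfl
    rw [pow_zero] at hm
    exact hf1 hm
  have ha2 : 2 ≤ a := ha.two_le
  have hr2 : r = 2 := by
    by_contra hne
    have h1 : Odd (r ^ m) := (hr.odd_of_ne_two hne).pow
    have h2 : Even a := by
      have h3 : a = r ^ m + 1 := by omega
      rw [h3]
      exact h1.add_one
    have h3 : a = 2 := (Nat.Prime.even_iff ha).mp h2
    have h4 : 1 < r ^ m := Nat.one_lt_pow hm0 hr.one_lt
    omega
  refine ⟨hr2, ⟨m, ?_⟩, ?_⟩
  · rw [hr2] at hm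
    omega
  · have h5 := P.card_eq
    rw [← hsq] at h5
    rw [h5]
    congr 1
    apply Nat.card_congr
    apply Equiv.subtypeEquivRight
    intro u
    apply and_congr_right
    intro hu
    have e : ⁅x, u⁆ = x * u * x⁻¹ * u⁻¹ := commutatorElement_def x u
    constructor
    · intro h v hv w hw
      rw [e, hc _ h.1 v hv w hw, h.2 v hv, one_smul]
    · intro h
      refine ⟨P.comm_mem_R hu, fun v hv => ?_⟩
      have hw1M : w1 ∈ M := hUM (hUbU hw1)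
      have h6 := h v hv w1 hw1M
      rw [e, hc _ (P.comm_mem_R hu) v hv w1 hw1M] at h6
      have h7 : (c (x * u * x⁻¹ * u⁻¹) v - 1) • w1 = 0 := by rw [sub_smul, one_smul, h6, sub_self]
      rcases smul_eq_zero.mp h7 with h8 | h8
      · exact sub_eq_zero.mp h8
      · exact absurd h8 hw10

end Cfsg.Agent.Lib.helper75.PQ
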