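import Mathlib
import Cfsg.Agent.Lib.helper17.HermForm
import Cfsg.Agent.Lib.helper17.Herm
import Cfsg.Agent.Lib.helper44.SUWDefs

/-!
# S2335, piece RANK1 (racer copy by helper47): a non-zero skew-Hermitian matrix all of whose
isotropic vectors lie in its kernel has the form `c • z z†`.
-/

set_option autoImplicit false

namespace Cfsg.Agent.Lib.helper44.SUW

open Matrix

/-- the sesquilinear form `u† Y x`. -/
def h47_sq {K : Type*} [Field K] (σ : K →+* K) {m : ℕ} (Y : Matrix (Fin m) (Fin m) K)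
    (u x : Fin m → K) : K :=
  (fun i => σ (u i)) ⬝ᵥ (Y *ᵥ x)

theorem h47_sq_self {K : Type*} [Field K] (σ : K →+* K) {m : ℕ} (Y : Matrix (Fin m) (Fin m) K)
    (v : Fin m → K) : h47_sq σ Y v v = hval σ Y v := by
  unfold h47_sq hval
  simp only [dotProduct, mulVec, Finset.mul_sum]
  refine Finset.sum_congr rfl (fun i _ => Finset.sum_congr rfl (fun j _ => ?_))
  ring

theorem h47_sq_add_right {K : Type*} [Field K] (σ : K →+* K) {m : ℕ}
    (Y : Matrix (Fin m) (Fin m) K) (u x x' : Fin m → K) :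
    h47_sq σ Y u (x + x') = h47_sq σ Y u x + h47_sq σ Y u x' := by
  unfold h47_sq
  rw [mulVec_add, dotProduct_add]

theorem h47_sq_smul_right {K : Type*} [Field K] (σ : K →+* K) {m : ℕ}
    (Y : Matrix (Fin m) (Fin m) K) (c : K) (u x : Fin m → K) :
    h47_sq σ Y u (c • x) = c * h47_sq σ Y u x := by
  unfold h47_sq
  rw [mulVec_smul, dotProduct_smul, smul_eq_mul]

theorem h47_sq_add_left {K : Type*} [Field K] (σ : K →+* K) {m : ℕ}
    (Y : Matrix (Fin m) (Fin m) K) (u u' x : Fin m → K) :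
    h47_sq σ Y (u + u') x = h47_sq σ Y u x + h47_sq σ Y u' x := by
  unfold h47_sq
  have h : (fun i => σ ((u + u') i)) = (fun i => σ (u i)) + (fun i => σ (u' i)) := by
    ext i
    simp
  rw [h, add_dotProduct]

theorem h47_sq_smul_left {K : Type*} [Field K] (σ : K →+* K) {m : ℕ}
    (Y : Matrix (Fin m) (Fin m) K) (c : K) (u x : Fin m → K) :
    h47_sq σ Y (c • u) x = σ c * h47_sq σ Y u x := by
  unfold h47_sq
  have h : (fun i => σ ((c • u) i)) = σ c • (fun i => σ (u i)) := by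
    ext i
    simp
  rw [h, smul_dotProduct, smul_eq_mul]

theorem h47_sq_conj {K : Type*} [Field K] (σ : K →+* K) (hσσ : ∀ x, σ (σ x) = x) {m : ℕ}
    (Y : Matrix (Fin m) (Fin m) K) (hY : Y ∈ skewH σ m) (u x : Fin m → K) :
    h47_sq σ Y x u = - σ (h47_sq σ Y u x) := by
  have hY' := mem_skewH.1 hY
  unfold h47_sq
  simp only [dotProduct, mulVec, map_sum, map_mul, hσσ, hY', Finset.mul_sum]
  rw [Finset.sum_comm, ← Finset.sum_neg_distrib]
  refine Finset.sum_congr rfl (fun i _ => ?_)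
  rw [← Finset.sum_neg_distrib]
  refine Finset.sum_congr rfl (fun j _ => ?_)
  ring

theorem h47_sq_of_mulVec_zero {K : Type*} [Field K] (σ : K →+* K) {m : ℕ}
    (Y : Matrix (Fin m) (Fin m) K) (u x : Fin m → K) (h : Y *ᵥ x = 0) :
    h47_sq σ Y u x = 0 := by
  unfold h47_sq
  rw [h, dotProduct_zero]

theorem h47_sq_single {K : Type*} [Field K] (σ : K →+* K) {m : ℕ}
    (Y : Matrix (Fin m) (Fin m) K) (u : Fin m → K) (j : Fin m) :
    h47_sq σ Y u (Pi.single j 1) = ∑ k, σ (u k) * Y k j := by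
  unfold h47_sq
  simp [dotProduct]

theorem h47_sigma_facts {K : Type*} [Field K] [Fintype K] {q : ℕ} (hK : Fintype.card K = q ^ 2)
    (σ : K →+* K) (hσ : ∀ x, σ x = x ^ q) :
    (∀ x, σ (σ x) = x) ∧ σ ≠ RingHom.id K := by
  refine ⟨fun x => by rw [hσ, hσ]; exact Cfsg.Agent.Lib.helper17.pow_q_pow_q hK x, ?_⟩
  intro hid
  have hq2 := Cfsg.Agent.Lib.helper17.two_le_of_card_eq_sq hK
  have hall : ∀ x : K, x ^ q = x := fun x => by rw [← hσ, hid]; rfl
  obtain ⟨g, hg⟩ := IsCyclic.exists_generator (α := Kˣ)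
  obtain ⟨N, hN⟩ : ∃ N, N = q ^ 2 := ⟨_, rfl⟩
  have hord : orderOf g = N - 1 := by
    rw [orderOf_eq_card_of_forall_mem_zpowers hg, Nat.card_units, Nat.card_eq_fintype_card,
      hK, hN]
  have hgq : g ^ q = g := Units.ext (by rw [Units.val_pow_eq_pow_val]; exact hall _)
  have hg1 : g ^ (q - 1) = 1 := by
    have h1 : g ^ (q - 1) * g = 1 * g := by
      rw [← pow_succ, Nat.sub_add_cancel (by omega), hgq, one_mul]
    exact mul_right_cancel h1
  have hdvd := orderOf_dvd_of_pow_eq_one hg1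
  rw [hord] at hdvd
  have hle := Nat.le_of_dvd (by omega) hdvd
  have h3 : 2 * q ≤ N := by
    rw [hN, sq]
    exact Nat.mul_le_mul_right q hq2
  omega

theorem h47_exists_aniso_core {K : Type*} [Field K] {m : ℕ}
    (σ : K →+* K) (hσσ : ∀ x, σ (σ x) = x) (hσid : σ ≠ RingHom.id K)
    (Y : Matrix (Fin m) (Fin m) K) (hY : Y ∈ skewH σ m) (hY0 : Y ≠ 0) :
    ∃ v : Fin m → K, hval σ Y v ≠ 0 := by
  by_contra hcon
  push Not at hcon
  have hself : ∀ v, h47_sq σ Y v v = 0 := fun v => by rw [h47_sq_self]; exact hcon v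
  have hsym : ∀ u x, σ (h47_sq σ Y u x) = h47_sq σ Y u x := by
    intro u x
    have h1 := hself (u + x)
    rw [h47_sq_add_left, h47_sq_add_right, h47_sq_add_right, hself u, hself x,
      h47_sq_conj σ hσσ Y hY u x] at h1
    linear_combination -h1
  obtain ⟨c, hc⟩ : ∃ c : K, σ c ≠ c := by
    by_contra hall
    push Not at hall
    exact hσid (RingHom.ext hall)
  have hzero : ∀ u x, h47_sq σ Y u x = 0 := by
    intro u x
    have h1 := hsym u (c • x)
    rw [h47_sq_smul_right, map_mul, hsym u x] at h1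
    have h2 : (σ c - c) * h47_sq σ Y u x = 0 := by linear_combination h1
    rcases mul_eq_zero.1 h2 with h | h
    · exact absurd (sub_eq_zero.1 h) hc
    · exact h
  apply hY0
  ext i j
  have h1 := hzero (Pi.single i 1) (Pi.single j 1)
  rw [h47_sq_single] at h1
  rw [Matrix.zero_apply, ← h1]
  rw [Finset.sum_eq_single i]
  · simp
  · intro k _ hki
    simp [hki]
  · intro h
    exact absurd (Finset.mem_univ i) h

theorem h47_rank_one_core {K : Type*} [Field K] [Finite K] {m : ℕ}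
    (σ : K →+* K) (hσσ : ∀ x, σ (σ x) = x) (hσid : σ ≠ RingHom.id K)
    (Y : Matrix (Fin m) (Fin m) K) (hY : Y ∈ skewH σ m)
    (hani : ∃ v : Fin m → K, hval σ Y v ≠ 0)
    (hiso : ∀ x : Fin m → K, hval σ Y x = 0 → Y *ᵥ x = 0) :
    ∃ (c : K) (z : Fin m → K), c ≠ 0 ∧ z ≠ 0 ∧ Y = c • Matrix.vecMulVec z (fun j => σ (z j)) := by
  obtain ⟨v, hv⟩ := hani
  obtain ⟨a, ha⟩ : ∃ a, a = hval σ Y v := ⟨_, rfl⟩
  have ha0 : a ≠ 0 := by rw [ha]; exact hv
  have hBvv : h47_sq σ Y v v = a := by rw [h47_sq_self, ha]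
  have hσa : σ a = -a := by
    have h := h47_sq_conj σ hσσ Y hY v v
    rw [hBvv] at h
    linear_combination h
  have key : ∀ x : Fin m → K, Y *ᵥ x = (a⁻¹ * h47_sq σ Y v x) • (Y *ᵥ v) := by
    intro x
    obtain ⟨w, hw⟩ : ∃ w, w = x - (a⁻¹ * h47_sq σ Y v x) • v := ⟨_, rfl⟩
    have hvw : h47_sq σ Y v w = 0 := by
      rw [hw, sub_eq_add_neg, h47_sq_add_right, ← neg_smul, h47_sq_smul_right, hBvv]
      field_simp
      ring
    have hYw : Y *ᵥ w = 0 := by
      by_contra hne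
      have hb : hval σ Y w ≠ 0 := fun h0 => hne (hiso w h0)
      obtain ⟨b, hbdef⟩ : ∃ b, b = hval σ Y w := ⟨_, rfl⟩
      have hb0 : b ≠ 0 := by rw [hbdef]; exact hb
      have hBww : h47_sq σ Y w w = b := by rw [h47_sq_self, hbdef]
      have hσb : σ b = -b := by
        have h := h47_sq_conj σ hσσ Y hY w w
        rw [hBww] at h
        linear_combination h
      have hwv : h47_sq σ Y w v = 0 := by
        rw [h47_sq_conj σ hσσ Y hY v w, hvw, map_zero, neg_zero]
      have hβ0 : -a / b ≠ 0 := div_ne_zero (neg_ne_zero.2 ha0) hb0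
      have hβσ : σ (-a / b) = -a / b := by
        rw [map_div₀, map_neg, hσa, hσb]
        field_simp
      obtain ⟨μ, hμ⟩ := Cfsg.Agent.Lib.helper17.norm_surj σ hσid hσσ (-a / b) hβ0 hβσ
      have hz : hval σ Y (v + μ • w) = 0 := by
        rw [← h47_sq_self]
        simp only [h47_sq_add_left, h47_sq_smul_left, h47_sq_add_right, h47_sq_smul_right,
          hBvv, hvw, hwv, hBww]
        have h5 : μ * σ μ * b = -a := by
          rw [hμ]
          field_simp
        linear_combination h5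
      have hYz : Y *ᵥ (v + μ • w) = 0 := hiso _ hz
      have h1 : h47_sq σ Y v (v + μ • w) = 0 := h47_sq_of_mulVec_zero σ Y v _ hYz
      rw [h47_sq_add_right, h47_sq_smul_right, hBvv, hvw, mul_zero, add_zero] at h1
      exact ha0 h1
    have hx : x = w + (a⁻¹ * h47_sq σ Y v x) • v := by
      rw [hw]
      exact (sub_add_cancel _ _).symm
    have hx' : Y *ᵥ x = Y *ᵥ (w + (a⁻¹ * h47_sq σ Y v x) • v) := congrArg (fun t => Y *ᵥ t) hx
    rw [hx', mulVec_add, mulVec_smul, hYw, zero_add]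
  have hy0 : Y *ᵥ v ≠ 0 := by
    intro h0
    have h1 := h47_sq_of_mulVec_zero σ Y v v h0
    rw [hBvv] at h1
    exact ha0 h1
  refine ⟨-a⁻¹, Y *ᵥ v, neg_ne_zero.2 (inv_ne_zero ha0), hy0, ?_⟩
  ext i j
  have h1 := congrFun (key (Pi.single j 1)) i
  have h2 : (Y *ᵥ Pi.single j 1) i = Y i j := by simp
  have h4 : σ ((Y *ᵥ v) j) = - ∑ k, σ (v k) * Y k j := by
    have hY' := mem_skewH.1 hY
    simp only [mulVec, dotProduct, map_sum, map_mul, hY']
    rw [← Finset.sum_neg_distrib]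
    refine Finset.sum_congr rfl (fun k _ => ?_)
    ring
  rw [h2, h47_sq_single, Pi.smul_apply, smul_eq_mul] at h1
  simp only [Matrix.smul_apply, Matrix.vecMulVec_apply, smul_eq_mul]
  rw [h4, h1]
  ring

/-- RANK1 (racer copy, verbatim statement) -/
theorem h47_rank_one {K : Type*} [Field K] [Fintype K] {q m : ℕ} (hK : Fintype.card K = q ^ 2)
    (σ : K →+* K) (hσ : ∀ x, σ x = x ^ q) (Y : Matrix (Fin m) (Fin m) K) (hY : Y ∈ skewH σ m)
    (hY0 : Y ≠ 0) (hiso : ∀ x : Fin m → K, hval σ Y x = 0 → Y *ᵥ x = 0) :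
    ∃ (c : K) (z : Fin m → K), c ≠ 0 ∧ z ≠ 0 ∧ Y = c • Matrix.vecMulVec z (fun j => σ (z j)) := by
  obtain ⟨hσσ, hσid⟩ := h47_sigma_facts hK σ hσ
  exact h47_rank_one_core σ hσσ hσid Y hY (h47_exists_aniso_core σ hσσ hσid Y hY hY0) hiso

end Cfsg.Agent.Lib.helper44.SUW
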