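import Mathlib
import Cfsg.Prelude.Def_FusionSystem
import Cfsg.Agent.Lib.helper88.GroupSat
import Cfsg.Agent.Lib.helper88.NormalSub
import Cfsg.Agent.Lib.helper89.FusionSat

set_option autoImplicit false
set_option linter.unusedSectionVars false
set_option linter.unusedVariables false

/-! A criterion for the fusion system of a finite group on a Sylow `p`-subgroup `S` to be
simple, in terms of weakly closed centric subgroups `R j` of `S` ("unipotent radicals") and
sets `H j` of elements normalising `S` ("Levi tori") lying in the normal closure of `S` in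
`N_G(R j)`. -/

namespace Cfsg.Agent.Lib.helper47.FusionLevi

open Cfsg Cfsg.FusionSystem Cfsg.Agent.Lib.helper88 Cfsg.Agent.Lib.helper89

variable {G : Type*} [Group G]

theorem conj_inv_mem [Finite G] (P : Subgroup G) (g : G) (h : ∀ x ∈ P, g * x * g⁻¹ ∈ P) :
    ∀ x ∈ P, g⁻¹ * x * g ∈ P := by
  have hle : P.map (MulAut.conj g).toMonoidHom ≤ P := by
    rintro _ ⟨x, hx, rfl⟩
    exact h x hx
  have hcard : Nat.card (P.map (MulAut.conj g).toMonoidHom) = Nat.card P :=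
    Subgroup.card_map_of_injective (MulAut.conj g).injective
  have heq : P.map (MulAut.conj g).toMonoidHom = P :=
    Subgroup.eq_of_le_of_card_ge hle (by rw [hcard])
  intro x hx
  rw [← heq] at hx
  obtain ⟨y, hy, rfl⟩ := hx
  show g⁻¹ * (g * y * g⁻¹) * g ∈ P
  have : g⁻¹ * (g * y * g⁻¹) * g = y := by group
  rw [this]
  exact hy

theorem conj_inv_mem' [Finite G] (P : Subgroup G) (g : G) (h : ∀ x ∈ P, g * x * g⁻¹ ∈ P) :
    ∀ x ∈ P, g⁻¹ * x * g⁻¹⁻¹ ∈ P := by
  intro x hx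
  rw [inv_inv]
  exact conj_inv_mem P g h x hx

/-- The elements of `G` normalising `P` whose conjugation on `P` is a map of `E`. -/
def autSub [Finite G] {S : Subgroup G} (E : FusionSystem S) (P : Subgroup G) (hP : P ≤ S) :
    Subgroup G where
  carrier := {g | (∀ x ∈ P, g * x * g⁻¹ ∈ P) ∧ conjHom P g ∈ E.Hom P}
  one_mem' := ⟨fun x hx => by simpa using hx, E.conj_mem hP S.one_mem⟩
  mul_mem' := by
    rintro a b ⟨ha1, ha2⟩ ⟨hb1, hb2⟩
    refine ⟨fun x hx => ?_, ?_⟩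
    · have := ha1 _ (hb1 x hx)
      have e : a * b * x * (a * b)⁻¹ = a * (b * x * b⁻¹) * a⁻¹ := by group
      rw [e]
      exact this
    · refine comp_mem_of_eq E hb2 ha2 (fun x => hb1 x x.2) (fun x => ?_)
      show a * b * x * (a * b)⁻¹ = a * (b * x * b⁻¹) * a⁻¹
      group
  inv_mem' := by
    rintro a ⟨ha1, ha2⟩
    have hinv := conj_inv_mem P a ha1
    refine ⟨conj_inv_mem' P a ha1, ?_⟩
    apply inv_mem_of_eq E ha2 (Q := P) (ψ := conjHom P a⁻¹)
    · intro x hx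
      refine ⟨⟨a⁻¹ * x * a, hinv x hx⟩, ?_⟩
      show a * (a⁻¹ * x * a) * a⁻¹ = x
      group
    · intro x hx
      show a⁻¹ * (a * x * a⁻¹) * a⁻¹⁻¹ = x
      group

theorem mem_autSub [Finite G] {S : Subgroup G} (E : FusionSystem S) (P : Subgroup G) (hP : P ≤ S)
    (g : G) : g ∈ autSub E P hP ↔ (∀ x ∈ P, g * x * g⁻¹ ∈ P) ∧ conjHom P g ∈ E.Hom P := Iff.rfl

/-- The hypotheses of the criterion. -/
structure LeviHyp (S : Subgroup G) {ι : Type*} (R : ι → Subgroup G) (H : ι → Set G) : Prop where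
  hne : S ≠ ⊥
  hsc : ∀ T : Subgroup G, T ≤ S → T ≠ ⊥ →
      (∀ x ∈ T, ∀ g : G, g * x * g⁻¹ ∈ S → g * x * g⁻¹ ∈ T) → T = S
  hR : ∀ j, R j ≤ S
  hwc : ∀ j (g : G), (∀ x ∈ R j, g * x * g⁻¹ ∈ S) → ∀ x ∈ R j, g * x * g⁻¹ ∈ R j
  hcent : ∀ j, ∀ c ∈ S, (∀ x ∈ R j, c * x * c⁻¹ = x) → c ∈ R j
  hH : ∀ j, ∀ h ∈ H j, ∀ x ∈ S, h * x * h⁻¹ ∈ S
  hW : ∀ j, ∀ h ∈ H j, h ∈ Subgroup.closure
      {y : G | ∃ g x : G, (∀ r ∈ R j, g * r * g⁻¹ ∈ R j) ∧ x ∈ S ∧ y = g * x * g⁻¹}
  hgen : ∀ M : Subgroup G, S ≤ M →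
      (∀ c : G, (∀ x ∈ S, c * x * c⁻¹ = x) → c ∈ M) → (∀ j, H j ⊆ M) →
      ∀ g : G, (∀ x ∈ S, g * x * g⁻¹ ∈ S) → g ∈ M

/-- **Criterion.** -/
theorem isSimple_of_leviHyp [Finite G] {p : ℕ} [Fact p.Prime] (S : Sylow p G)
    {ι : Type*} (R : ι → Subgroup G) (H : ι → Set G)
    (hyp : LeviHyp (S : Subgroup G) R H) :
    (groupFusionSystem (S : Subgroup G)).IsSimple p := by
  classical
  obtain ⟨hne, hsc, hR, hwc, hcent, hH, hW, hgen⟩ := hyp
  refine ⟨groupFusionSystem_saturated S, hne, ?_⟩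
  intro T E hE
  by_cases hT : T = ⊥
  · exact Or.inl hT
  right
  obtain ⟨⟨hEsat, hFsat, hsub, hstr, hinv, hfrat⟩, hext⟩ := hE
  have hTS : T = S := by
    apply hsc T hstr.1 hT
    intro x hx g hg
    have hR' : Subgroup.zpowers x ≤ T := by rw [Subgroup.zpowers_le]; exact hx
    have hφ : conjHom (Subgroup.zpowers x) g ∈
        (groupFusionSystem (S : Subgroup G)).Hom (Subgroup.zpowers x) := by
      apply conjHom_mem_groupFusionSystem (hR'.trans hstr.1)
      rintro y ⟨k, rfl⟩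
      have : g * x ^ k * g⁻¹ = (g * x * g⁻¹) ^ k := (conj_zpow).symm
      rw [this]
      exact (S : Subgroup G).zpow_mem hg k
    exact hstr.2 _ hR' _ hφ ⟨x, Subgroup.mem_zpowers _⟩
  subst hTS
  have hSp : IsPGroup p (S : Subgroup G) := S.isPGroup'
  have nSi : ∀ g : G, (∀ x ∈ (S : Subgroup G), g * x * g⁻¹ ∈ (S : Subgroup G)) →
      ∀ x ∈ (S : Subgroup G), g⁻¹ * x * g⁻¹⁻¹ ∈ (S : Subgroup G) :=
    fun g hg => conj_inv_mem' _ g hg
  have nR : ∀ j (g : G), (∀ x ∈ (S : Subgroup G), g * x * g⁻¹ ∈ (S : Subgroup G)) →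
      ∀ x ∈ R j, g * x * g⁻¹ ∈ R j := fun j g hg => hwc j g (fun x hx => hg x (hR j hx))
  -- the `R j` are centric
  have hcentric : ∀ j, (groupFusionSystem (S : Subgroup G)).IsCentric (R j) := by
    intro j
    refine ⟨hR j, ?_⟩
    rintro Q ⟨φ, hφ, rfl⟩
    have hinj := (groupFusionSystem (S : Subgroup G)).injective_of_mem hφ
    obtain ⟨-, hφS, g, hg⟩ := hφ
    have h1 : φ.range ≤ R j := by
      rintro _ ⟨x, rfl⟩
      rw [hg]
      exact hwc j g (fun y hy => by have := hφS ⟨y, hy⟩; rwa [hg] at this) x x.2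
    have h2 : φ.range = R j := by
      apply Subgroup.eq_of_le_of_card_ge h1
      rw [← Nat.card_congr (MonoidHom.ofInjective hinj).toEquiv]
    rw [h2]
    rintro c ⟨hcS, hcC⟩
    apply hcent j c hcS
    intro x hx
    have := hcC x hx
    rw [← this, mul_inv_cancel_right]
  -- the subgroups `W j` and `M`
  have hSW : ∀ j, (S : Subgroup G) ≤ autSub E (R j) (hR j) := by
    intro j s hs
    exact ⟨nR j s (fun x hx => (S : Subgroup G).mul_mem ((S : Subgroup G).mul_mem hs hx)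
      ((S : Subgroup G).inv_mem hs)), E.conj_mem (hR j) hs⟩
  have hbW : ∀ j (b : G), (∀ x ∈ (S : Subgroup G), b * x * b⁻¹ ∈ (S : Subgroup G)) →
      ∀ w ∈ autSub E (R j) (hR j), b * w * b⁻¹ ∈ autSub E (R j) (hR j) := by
    intro j b hb w hw
    have hbi := nSi b hb
    have hbR := nR j b hb
    have hbiR := nR j b⁻¹ hbi
    obtain ⟨α, hα⟩ := exists_aut_of_mem (groupFusionSystem (S : Subgroup G))
      (conjHom_mem_groupFusionSystem le_rfl b hb) (fun x => hb x x.2)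
    have hα' : ∀ x : (S : Subgroup G), ((α x : (S : Subgroup G)) : G) = b * x * b⁻¹ := hα
    have hαmem : α ∈ (groupFusionSystem (S : Subgroup G)).autGroup (S : Subgroup G) :=
      (mem_autGroup_groupFusionSystem le_rfl α).mpr ⟨b, hα'⟩
    obtain ⟨χ, hχ, hχe⟩ := hinv (R j) (hR j) (conjHom (R j) w) hw.2 α hαmem
    have he : ((R j).subgroupOf (S : Subgroup G)).map
        ((S : Subgroup G).subtype.comp α.toMonoidHom) = R j := by
      ext y
      constructor
      · rintro ⟨x, hx, rfl⟩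
        show ((α x : (S : Subgroup G)) : G) ∈ R j
        rw [hα']
        exact hbR _ hx
      · intro hy
        have hx : b⁻¹ * y * b⁻¹⁻¹ ∈ R j := hbiR y hy
        refine ⟨⟨b⁻¹ * y * b⁻¹⁻¹, hR j hx⟩, hx, ?_⟩
        show ((α _ : (S : Subgroup G)) : G) = y
        rw [hα']
        show b * (b⁻¹ * y * b⁻¹⁻¹) * b⁻¹ = y
        group
    refine ⟨fun x hx => ?_, ?_⟩
    · have h1 := hbR _ (hw.1 _ (hbiR x hx))
      have e : b * w * b⁻¹ * x * (b * w * b⁻¹)⁻¹ = b * (w * (b⁻¹ * x * b⁻¹⁻¹) * w⁻¹) * b⁻¹ := by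
        group
      rw [e]
      exact h1
    · have hχ' := restrict_mem E he.ge hχ
      have key : χ.comp (Subgroup.inclusion he.ge) = conjHom (R j) (b * w * b⁻¹) := by
        ext y
        have hx : b⁻¹ * (y : G) * b⁻¹⁻¹ ∈ R j := hbiR y y.2
        have hφx : conjHom (R j) w ⟨_, hx⟩ ∈ (S : Subgroup G) := (E.le_of_mem hw.2).2 _
        have hval : ((α ⟨b⁻¹ * (y : G) * b⁻¹⁻¹, hR j hx⟩ : (S : Subgroup G)) : G) = y := by
          rw [hα']
          show b * (b⁻¹ * (y : G) * b⁻¹⁻¹) * b⁻¹ = y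
          group
        have hαx : ((α ⟨b⁻¹ * (y : G) * b⁻¹⁻¹, hR j hx⟩ : (S : Subgroup G)) : G) ∈
            ((R j).subgroupOf (S : Subgroup G)).map
              ((S : Subgroup G).subtype.comp α.toMonoidHom) := by
          rw [hval, he]; exact y.2
        have h3 := hχe ⟨_, hx⟩ hφx hαx
        have h4 : (⟨((α ⟨b⁻¹ * (y : G) * b⁻¹⁻¹, hR j hx⟩ : (S : Subgroup G)) : G), hαx⟩ :
            ((R j).subgroupOf (S : Subgroup G)).map
              ((S : Subgroup G).subtype.comp α.toMonoidHom)) = Subgroup.inclusion he.ge y :=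
          Subtype.ext hval
        show χ (Subgroup.inclusion he.ge y) = b * w * b⁻¹ * y * (b * w * b⁻¹)⁻¹
        rw [← h4, h3, hα']
        show b * (w * (b⁻¹ * (y : G) * b⁻¹⁻¹) * w⁻¹) * b⁻¹ = _
        group
      rw [← key]
      exact hχ'
  have hfratW : ∀ j (g : G), (∀ r ∈ R j, g * r * g⁻¹ ∈ R j) →
      ∃ b : G, (∀ x ∈ (S : Subgroup G), b * x * b⁻¹ ∈ (S : Subgroup G)) ∧
        b⁻¹ * g ∈ autSub E (R j) (hR j) := by
    intro j g hg
    obtain ⟨α, hα, φ₀, hφ₀, h⟩ := hfrat (R j) (hR j) (conjHom (R j) g)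
      (conjHom_mem_groupFusionSystem (hR j) g (fun x hx => hR j (hg x hx)))
    rw [mem_autGroup_groupFusionSystem le_rfl] at hα
    obtain ⟨b, hb⟩ := hα
    have hbS : ∀ x ∈ (S : Subgroup G), b * x * b⁻¹ ∈ (S : Subgroup G) := by
      intro x hx
      rw [← hb ⟨x, hx⟩]
      exact (α ⟨x, hx⟩).2
    have hbiR := nR j b⁻¹ (nSi b hbS)
    have hφ₀S : ∀ x : R j, φ₀ x ∈ (S : Subgroup G) := (E.le_of_mem hφ₀).2
    have hφ₀e : ∀ x : R j, φ₀ x = b⁻¹ * g * x * (b⁻¹ * g)⁻¹ := by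
      intro x
      have h1 := h x (hφ₀S x)
      rw [hb] at h1
      have h2 : g * (x : G) * g⁻¹ = b * φ₀ x * b⁻¹ := h1
      have e : b⁻¹ * g * x * (b⁻¹ * g)⁻¹ = b⁻¹ * (g * (x : G) * g⁻¹) * b := by group
      rw [e, h2]
      group
    refine ⟨b, hbS, fun x hx => ?_, ?_⟩
    · have e : b⁻¹ * g * x * (b⁻¹ * g)⁻¹ = b⁻¹ * (g * x * g⁻¹) * b⁻¹⁻¹ := by group
      rw [e]
      exact hbiR _ (hg x hx)
    · have : conjHom (R j) (b⁻¹ * g) = φ₀ := by
        ext x
        exact (hφ₀e x).symm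
      rw [this]
      exact hφ₀
  have hclW : ∀ j, Subgroup.closure
      {y : G | ∃ g x : G, (∀ r ∈ R j, g * r * g⁻¹ ∈ R j) ∧ x ∈ (S : Subgroup G) ∧
        y = g * x * g⁻¹} ≤ autSub E (R j) (hR j) := by
    intro j
    rw [Subgroup.closure_le]
    rintro y ⟨g, x, hg, hx, rfl⟩
    obtain ⟨b, hb, hbw⟩ := hfratW j g hg
    have e : g * x * g⁻¹ = b * ((b⁻¹ * g) * x * (b⁻¹ * g)⁻¹) * b⁻¹ := by group
    rw [e]
    exact hbW j b hb _ (Subgroup.mul_mem _ (Subgroup.mul_mem _ hbw (hSW j hx))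
      (Subgroup.inv_mem _ hbw))
  have hSM : (S : Subgroup G) ≤ autSub E (S : Subgroup G) le_rfl := by
    intro s hs
    exact ⟨fun x hx => (S : Subgroup G).mul_mem ((S : Subgroup G).mul_mem hs hx)
      ((S : Subgroup G).inv_mem hs), E.conj_mem le_rfl hs⟩
  have hCM : ∀ c : G, (∀ x ∈ (S : Subgroup G), c * x * c⁻¹ = x) →
      c ∈ autSub E (S : Subgroup G) le_rfl := by
    intro c hc
    refine ⟨fun x hx => by rw [hc x hx]; exact hx, ?_⟩
    have : conjHom (S : Subgroup G) c = conjHom (S : Subgroup G) 1 := by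
      ext x
      show c * (x : G) * c⁻¹ = 1 * (x : G) * 1⁻¹
      rw [hc x x.2]
      group
    rw [this]
    exact E.conj_mem le_rfl (S : Subgroup G).one_mem
  have hHM : ∀ j, H j ⊆ autSub E (S : Subgroup G) le_rfl := by
    intro j h hh
    refine ⟨hH j h hh, ?_⟩
    have hw := hclW j (hW j h hh)
    have hφ : conjHom (S : Subgroup G) h ∈
        (groupFusionSystem (S : Subgroup G)).Hom (S : Subgroup G) :=
      conjHom_mem_groupFusionSystem le_rfl h (hH j h hh)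
    refine mem_hom_of_restrict_centric hSp E (groupFusionSystem (S : Subgroup G)) hEsat hFsat
      hsub hφ _ (R j) (hR j) rfl (hcentric j) ?_
    have : (conjHom (S : Subgroup G) h).comp (Subgroup.inclusion (hR j)) = conjHom (R j) h := by
      ext x
      rfl
    rw [this]
    exact hw.2
  have allM := hgen (autSub E (S : Subgroup G) le_rfl) hSM hCM hHM
  refine ⟨rfl, fun P => ?_⟩
  apply Set.Subset.antisymm (hsub P)
  intro φ hφ
  have hPS : P ≤ S := ((groupFusionSystem (S : Subgroup G)).le_of_mem hφ).1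
  obtain ⟨α, hα, φ₀, hφ₀, h⟩ := hfrat P hPS φ hφ
  rw [mem_autGroup_groupFusionSystem le_rfl] at hα
  obtain ⟨g, hg⟩ := hα
  have hgS : ∀ x ∈ (S : Subgroup G), g * x * g⁻¹ ∈ (S : Subgroup G) := by
    intro x hx
    rw [← hg ⟨x, hx⟩]
    exact (α ⟨x, hx⟩).2
  have hgM := allM g hgS
  have hφ₀S : ∀ x : P, φ₀ x ∈ (S : Subgroup G) := (E.le_of_mem hφ₀).2
  refine comp_mem_of_eq E hφ₀ hgM.2 hφ₀S (fun x => ?_)
  rw [h x (hφ₀S x), hg]
  rfl

/-- The hypotheses transfer along an automorphism of `G`. -/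
theorem LeviHyp.map {S : Subgroup G} {ι : Type*} {R : ι → Subgroup G} {H : ι → Set G}
    (hyp : LeviHyp S R H) (θ : G ≃* G) :
    LeviHyp (S.map θ.toMonoidHom) (fun j => (R j).map θ.toMonoidHom) (fun j => θ '' H j) := by
  obtain ⟨hne, hsc, hR, hwc, hcent, hH, hW, hgen⟩ := hyp
  have hmem : ∀ (K : Subgroup G) (x : G), x ∈ K.map θ.toMonoidHom ↔ θ.symm x ∈ K :=
    fun K x => Subgroup.mem_map_equiv
  have hconj : ∀ g x : G, θ.symm (g * x * g⁻¹) = θ.symm g * θ.symm x * (θ.symm g)⁻¹ := by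
    intro g x
    rw [map_mul, map_mul, map_inv]
  have hconj' : ∀ g x : G, θ (g * x * g⁻¹) = θ g * θ x * (θ g)⁻¹ := by
    intro g x
    rw [map_mul, map_mul, map_inv]
  refine ⟨?_, ?_, ?_, ?_, ?_, ?_, ?_, ?_⟩
  · intro h
    apply hne
    rw [eq_bot_iff] at h ⊢
    intro x hx
    have h1 : θ x ∈ S.map θ.toMonoidHom := ⟨x, hx, rfl⟩
    have h2 := h h1
    rw [Subgroup.mem_bot] at h2 ⊢
    exact θ.injective (h2.trans (map_one θ).symm)
  · intro T hT hT0 hcl
    have h1 : T.map θ.symm.toMonoidHom = S := by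
      apply hsc
      · rintro _ ⟨x, hx, rfl⟩
        exact (hmem S x).mp (hT hx)
      · intro h
        apply hT0
        rw [eq_bot_iff] at h ⊢
        intro x hx
        have h1 : θ.symm x ∈ T.map θ.symm.toMonoidHom := ⟨x, hx, rfl⟩
        have h2 := h h1
        rw [Subgroup.mem_bot] at h2 ⊢
        exact θ.symm.injective (h2.trans (map_one θ.symm).symm)
      · rintro _ ⟨x, hx, rfl⟩ g hg
        refine ⟨θ g * x * (θ g)⁻¹, ?_, ?_⟩
        · apply hcl x hx
          rw [hmem, hconj]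
          simpa using hg
        · show θ.symm (θ g * x * (θ g)⁻¹) = g * θ.symm x * g⁻¹
          rw [hconj]
          simp
    ext x
    rw [hmem, ← h1]
    constructor
    · intro hx
      exact ⟨x, hx, rfl⟩
    · rintro ⟨y, hy, hyx⟩
      have : y = x := θ.symm.injective hyx
      rw [← this]
      exact hy
  · intro j
    exact Subgroup.map_mono (hR j)
  · intro j g hg x hx
    rw [hmem] at hx ⊢
    rw [hconj]
    apply hwc j (θ.symm g) _ _ hx
    intro y hy
    have := hg (θ y) ⟨y, hy, rfl⟩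
    rw [hmem, hconj] at this
    simpa using this
  · intro j c hc hcc
    rw [hmem] at hc ⊢
    apply hcent j _ hc
    intro x hx
    have := hcc (θ x) ⟨x, hx, rfl⟩
    have h2 := congrArg θ.symm this
    rw [hconj] at h2
    simpa using h2
  · rintro j _ ⟨h, hh, rfl⟩ x hx
    rw [hmem] at hx ⊢
    rw [hconj]
    simpa using hH j h hh _ hx
  · rintro j _ ⟨h, hh, rfl⟩
    have h1 := hW j h hh
    have h2 : Subgroup.closure
        {y : G | ∃ g x : G, (∀ r ∈ R j, g * r * g⁻¹ ∈ R j) ∧ x ∈ S ∧ y = g * x * g⁻¹} ≤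
        (Subgroup.closure {y : G | ∃ g x : G,
          (∀ r ∈ (R j).map θ.toMonoidHom, g * r * g⁻¹ ∈ (R j).map θ.toMonoidHom) ∧
          x ∈ S.map θ.toMonoidHom ∧ y = g * x * g⁻¹}).comap θ.toMonoidHom := by
      rw [Subgroup.closure_le]
      rintro y ⟨g, x, hg, hx, rfl⟩
      apply Subgroup.subset_closure
      refine ⟨θ g, θ x, ?_, ⟨x, hx, rfl⟩, hconj' g x⟩
      rintro _ ⟨r, hr, rfl⟩
      refine ⟨g * r * g⁻¹, hg r hr, hconj' g r⟩
    exact h2 h1
  · intro M hSM hCM hHM g hg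
    have h1 : θ.symm g ∈ M.comap θ.toMonoidHom := by
      apply hgen (M.comap θ.toMonoidHom)
      · intro s hs
        exact hSM ⟨s, hs, rfl⟩
      · intro c hc
        apply hCM
        rintro _ ⟨x, hx, rfl⟩
        show θ c * θ x * (θ c)⁻¹ = θ x
        rw [← hconj', hc x hx]
      · intro j h hh
        exact hHM j ⟨h, hh, rfl⟩
      · intro x hx
        have := hg (θ x) ⟨x, hx, rfl⟩
        rw [hmem, hconj] at this
        simpa using this
    have h2 : θ (θ.symm g) ∈ M := h1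
    simpa using h2

/-- **Criterion**, for all Sylow subgroups at once: if the hypotheses hold for one Sylow
`p`-subgroup, the fusion system on every Sylow `p`-subgroup is simple. -/
theorem isSimple_of_leviHyp_sylow [Finite G] {p : ℕ} [Fact p.Prime] (S₀ : Sylow p G)
    {ι : Type*} (R : ι → Subgroup G) (H : ι → Set G)
    (hyp : LeviHyp (S₀ : Subgroup G) R H) (S : Sylow p G) :
    (groupFusionSystem (S : Subgroup G)).IsSimple p := by
  obtain ⟨g, hg⟩ := MulAction.exists_smul_eq G S₀ S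
  have h1 : (S : Subgroup G) = (S₀ : Subgroup G).map (MulAut.conj g).toMonoidHom := by
    rw [← hg, Sylow.coe_subgroup_smul]
    rfl
  have h2 := hyp.map (MulAut.conj g)
  rw [← h1] at h2
  exact isSimple_of_leviHyp S _ _ h2

end Cfsg.Agent.Lib.helper47.FusionLevi
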