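import Mathlib
import Cfsg.Agent.Lib.helper47.PSLnNorm
import Cfsg.Agent.Lib.helper38.PGroupNormal

/-!
Unipotent radicals of the point and hyperplane stabilisers of `SL_n(F)`: weak closure in the
unitriangular group, self-centralising property; `p`-elements lift uniquely from `PSL_n` to `SL_n`.
-/

set_option autoImplicit false

namespace Cfsg.Agent.Lib.helper47.PSLnFus

open Matrix Cfsg.Agent.Lib.helper47.PSLn

variable {n : ℕ} {F : Type*} [Field F]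

local notation "Tv" => Matrix.SpecialLinearGroup.transvection

/-- Two `p`-elements of `SL_n(F)` (`F` of characteristic `p`) with the same image in `PSL_n(F)`
are equal. -/
theorem eq_of_pr_eq_of_pow [NeZero n] (p : ℕ) [Fact p.Prime] [CharP F p]
    (x y : SpecialLinearGroup (Fin n) F) (a b : ℕ)
    (hx : x ^ (p ^ a) = 1) (hy : y ^ (p ^ b) = 1) (h : pr x = pr y) : x = y := by
  obtain ⟨c, -, hc⟩ := (pr_eq_iff x y).mp h
  have hx' : x ^ (p ^ (a + b)) = 1 := by rw [pow_add, pow_mul, hx, one_pow]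
  have hy' : y ^ (p ^ (a + b)) = 1 := by rw [pow_add, mul_comm, pow_mul, hy, one_pow]
  have h1 : (y ^ (p ^ (a + b))).1 = c ^ (p ^ (a + b)) • (x ^ (p ^ (a + b))).1 := by
    rw [Matrix.SpecialLinearGroup.coe_pow, Matrix.SpecialLinearGroup.coe_pow, hc, smul_pow]
  rw [hx', hy', coe_one'] at h1
  have h2 : c ^ (p ^ (a + b)) = 1 := by
    have := congrFun (congrFun h1 0) 0
    simpa using this.symm
  have h3 : c = 1 := by
    have h4 : (c - 1) ^ (p ^ (a + b)) = 0 := by rw [sub_pow_char_pow, h2, one_pow, sub_self]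
    exact sub_eq_zero.mp ((pow_eq_zero_iff (pow_ne_zero _ (Fact.out : p.Prime).ne_zero)).mp h4)
  apply Subtype.ext
  rw [hc, h3, one_smul]

theorem conj_pow_eq_one (s x : SpecialLinearGroup (Fin n) F) (m : ℕ) (hx : x ^ m = 1) :
    (s * x * s⁻¹) ^ m = 1 := by
  rw [conj_pow, hx, mul_one, mul_inv_cancel]

section fin

variable [Fintype F] {p f : ℕ} [Fact p.Prime]

theorem UT_pow (hF : Fintype.card F = p ^ f) (u : SpecialLinearGroup (Fin n) F)
    (hu : u ∈ UT n F) : ∃ a : ℕ, u ^ (p ^ a) = 1 := by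
  obtain ⟨a, ha⟩ := (isPGroup_UT (n := n) hF) ⟨u, hu⟩
  exact ⟨a, congrArg Subtype.val ha⟩

/-- A `p`-element of `SL_n` whose image lies in the image of `UT` lies in `UT`. -/
theorem mem_UT_of_pr_mem [NeZero n] [CharP F p] (hF : Fintype.card F = p ^ f)
    (x : SpecialLinearGroup (Fin n) F) (a : ℕ) (hx : x ^ (p ^ a) = 1)
    (h : pr x ∈ (UT n F).map pr) : x ∈ UT n F := by
  obtain ⟨u, hu, hux⟩ := h
  obtain ⟨b, hb⟩ := UT_pow hF u hu
  have := eq_of_pr_eq_of_pow p u x b a hb hx hux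
  rw [← this]
  exact hu

theorem pr_inj_UT [NeZero n] [CharP F p] (hF : Fintype.card F = p ^ f)
    (x y : SpecialLinearGroup (Fin n) F) (hx : x ∈ UT n F) (hy : y ∈ UT n F)
    (h : pr x = pr y) : x = y := by
  obtain ⟨a, ha⟩ := UT_pow hF x hx
  obtain ⟨b, hb⟩ := UT_pow hF y hy
  exact eq_of_pr_eq_of_pow p x y a b ha hb h

end fin

/-! ### Transvections with a given centre / axis -/

theorem tvM_mul_center (v φ ψ : Fin n → F) (h : φ ⬝ᵥ v = 0) :
    tvM v φ * tvM v ψ = tvM v (φ + ψ) := by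
  rw [tvM_mul, h, zero_smul, add_zero]
  unfold tvM
  rw [vecMulVec_add, add_assoc]

/-- Transvections with centre `v`. -/
def TC (v : Fin n → F) : Subgroup (SpecialLinearGroup (Fin n) F) where
  carrier := {s | ∃ φ : Fin n → F, φ ⬝ᵥ v = 0 ∧ s.1 = tvM v φ}
  mul_mem' := by
    rintro a b ⟨φ, hφ, ha⟩ ⟨ψ, hψ, hb⟩
    refine ⟨φ + ψ, by rw [add_dotProduct, hφ, hψ, add_zero], ?_⟩
    rw [coe_mul', ha, hb, tvM_mul_center _ _ _ hφ]
  one_mem' := ⟨0, zero_dotProduct _, by rw [tvM_zero_right]; rfl⟩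
  inv_mem' := by
    rintro a ⟨φ, hφ, ha⟩
    have hφ' : (-φ) ⬝ᵥ v = 0 := by rw [neg_dotProduct, hφ, neg_zero]
    refine ⟨-φ, hφ', ?_⟩
    have h1 : a * tv v (-φ) hφ' = 1 := by
      apply Subtype.ext
      rw [coe_mul', ha, tv_coe, tvM_mul_center _ _ _ hφ, add_neg_cancel, tvM_zero_right]
      rfl
    rw [inv_eq_of_mul_eq_one_right h1]
    rfl

/-- Transvections with axis `φ`. -/
def TA (φ : Fin n → F) : Subgroup (SpecialLinearGroup (Fin n) F) where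
  carrier := {s | ∃ v : Fin n → F, φ ⬝ᵥ v = 0 ∧ s.1 = tvM v φ}
  mul_mem' := by
    rintro a b ⟨v, hv, ha⟩ ⟨w, hw, hb⟩
    refine ⟨v + w, by rw [dotProduct_add, hv, hw, add_zero], ?_⟩
    rw [coe_mul', ha, hb, tvM_mul_same _ _ _ hw]
  one_mem' := ⟨0, dotProduct_zero _, by rw [tvM_zero_left]; rfl⟩
  inv_mem' := by
    rintro a ⟨v, hv, ha⟩
    have hv' : φ ⬝ᵥ (-v) = 0 := by rw [dotProduct_neg, hv, neg_zero]
    refine ⟨-v, hv', ?_⟩
    have h1 : a * tv (-v) φ hv' = 1 := by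
      apply Subtype.ext
      rw [coe_mul', ha, tv_coe, tvM_mul_neg _ _ hv]
      rfl
    rw [inv_eq_of_mul_eq_one_right h1]
    rfl

theorem conj_tvM_SL (s : SpecialLinearGroup (Fin n) F) (v φ : Fin n → F) :
    s.1 * tvM v φ * s⁻¹.1 = tvM (s.1 *ᵥ v) (φ ᵥ* s⁻¹.1) := by
  unfold tvM
  rw [Matrix.mul_add, Matrix.add_mul, Matrix.mul_one, mul_vecMulVec, vecMulVec_mul, coe_mul_inv']

theorem dot_conj_SL (s : SpecialLinearGroup (Fin n) F) (v φ : Fin n → F) :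
    (φ ᵥ* s⁻¹.1) ⬝ᵥ (s.1 *ᵥ v) = φ ⬝ᵥ v := by
  rw [← dotProduct_mulVec, mulVec_mulVec, coe_inv_mul', one_mulVec]

theorem vecMul_inv_cancel (s : SpecialLinearGroup (Fin n) F) (φ : Fin n → F) :
    (φ ᵥ* s.1) ᵥ* s⁻¹.1 = φ := by
  rw [vecMul_vecMul, coe_mul_inv', vecMul_one]

theorem mulVec_inv_cancel (s : SpecialLinearGroup (Fin n) F) (v : Fin n → F) :
    s.1 *ᵥ (s⁻¹.1 *ᵥ v) = v := by
  rw [mulVec_mulVec, coe_mul_inv', one_mulVec]

theorem inv_mulVec_cancel (s : SpecialLinearGroup (Fin n) F) (v : Fin n → F) :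
    s⁻¹.1 *ᵥ (s.1 *ᵥ v) = v := by
  rw [mulVec_mulVec, coe_inv_mul', one_mulVec]

theorem conj_mem_TC (s x : SpecialLinearGroup (Fin n) F) (v : Fin n → F) (hx : x ∈ TC v) :
    s * x * s⁻¹ ∈ TC (s.1 *ᵥ v) := by
  obtain ⟨φ, hφ, hx⟩ := hx
  refine ⟨φ ᵥ* s⁻¹.1, by rw [dot_conj_SL, hφ], ?_⟩
  rw [coe_mul', coe_mul', hx, conj_tvM_SL]

theorem conj_mem_TA (s x : SpecialLinearGroup (Fin n) F) (φ : Fin n → F) (hx : x ∈ TA φ) :
    s * x * s⁻¹ ∈ TA (φ ᵥ* s⁻¹.1) := by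
  obtain ⟨v, hv, hx⟩ := hx
  refine ⟨s.1 *ᵥ v, by rw [dot_conj_SL, hv], ?_⟩
  rw [coe_mul', coe_mul', hx, conj_tvM_SL]

theorem TC_smul_le (c : F) (v : Fin n → F) : TC (c • v) ≤ TC v := by
  rintro s ⟨φ, hφ, hs⟩
  refine ⟨c • φ, by rw [smul_dotProduct, ← dotProduct_smul, hφ], ?_⟩
  rw [hs]
  unfold tvM
  rw [smul_vecMulVec, vecMulVec_smul]

theorem TA_smul_le (c : F) (φ : Fin n → F) : TA (c • φ) ≤ TA φ := by
  rintro s ⟨v, hv, hs⟩
  refine ⟨c • v, by rw [dotProduct_smul, ← smul_dotProduct, hv], ?_⟩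
  rw [hs]
  unfold tvM
  rw [smul_vecMulVec, vecMulVec_smul]

section wc

variable [Finite F] (k : ℕ)

theorem TC_le_UT : TC (ev (0 : Fin (k + 2)) : Fin (k + 2) → F) ≤ UT (k + 2) F := by
  rintro s ⟨φ, hφ, hs⟩
  rw [dot_ev_apply] at hφ
  rw [mem_UT]
  constructor
  · intro i j hji
    have hi : i ≠ 0 := by
      rintro rfl
      exact absurd hji (Fin.not_lt_zero j)
    rw [hs]
    simp only [tvM, Matrix.add_apply, vecMulVec_apply, ev_apply]
    rw [Matrix.one_apply_ne (ne_of_gt hji), if_neg hi, zero_mul, add_zero]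
  · intro i
    rw [hs]
    simp only [tvM, Matrix.add_apply, vecMulVec_apply, ev_apply, Matrix.one_apply_eq]
    by_cases hi : i = 0
    · subst hi; rw [hφ, mul_zero, add_zero]
    · rw [if_neg hi, zero_mul, add_zero]

theorem TA_le_UT : TA (ev (Fin.last (k + 1)) : Fin (k + 2) → F) ≤ UT (k + 2) F := by
  rintro s ⟨v, hv, hs⟩
  rw [ev_dot_apply] at hv
  rw [mem_UT]
  constructor
  · intro i j hji
    have hj : j ≠ Fin.last (k + 1) := by
      rintro rfl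
      exact absurd hji (not_lt.mpr (Fin.le_last i))
    rw [hs]
    simp only [tvM, Matrix.add_apply, vecMulVec_apply, ev_apply]
    rw [Matrix.one_apply_ne (ne_of_gt hji), if_neg hj, mul_zero, add_zero]
  · intro i
    rw [hs]
    simp only [tvM, Matrix.add_apply, vecMulVec_apply, ev_apply, Matrix.one_apply_eq]
    by_cases hi : i = Fin.last (k + 1)
    · subst hi; rw [hv, zero_mul, add_zero]
    · rw [if_neg hi, mul_zero, add_zero]

/-- Weak closure of the point-stabiliser radical: if `s` conjugates it into `UT` then `s` fixes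
the point. -/
theorem mulVec_ev_zero_of_conj (s : SpecialLinearGroup (Fin (k + 2)) F)
    (h : ∀ x ∈ TC (ev (0 : Fin (k + 2)) : Fin (k + 2) → F), s * x * s⁻¹ ∈ UT (k + 2) F) :
    s.1 *ᵥ (ev 0 : Fin (k + 2) → F) = (s.1 0 0) • ev 0 := by
  have key : ∀ m : Fin (k + 2), m ≠ 0 → (s.1 *ᵥ (ev 0 : Fin (k + 2) → F)) m = 0 := by
    intro m hm
    by_contra hne
    obtain ⟨w, hw⟩ : ∃ w, w = s.1 *ᵥ (ev 0 : Fin (k + 2) → F) := ⟨_, rfl⟩
    rw [← hw] at hne
    obtain ⟨ψ, hψ⟩ : ∃ ψ : Fin (k + 2) → F, ψ = w m • ev 0 - w 0 • ev m := ⟨_, rfl⟩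
    have hψw : ψ ⬝ᵥ w = 0 := by
      rw [hψ, sub_dotProduct, smul_dotProduct, smul_dotProduct, ev_dot_apply, ev_dot_apply]
      simp only [smul_eq_mul]
      ring
    have hφ : (ψ ᵥ* s.1) ⬝ᵥ (ev 0 : Fin (k + 2) → F) = 0 := by
      rw [← dotProduct_mulVec, ← hw, hψw]
    have h1 := h (tv (ev 0) (ψ ᵥ* s.1) hφ) ⟨_, hφ, rfl⟩
    have h2 := h1.1 m 0 (Fin.pos_of_ne_zero hm)
    rw [coe_mul', coe_mul', tv_coe, conj_tvM_SL, vecMul_inv_cancel, ← hw] at h2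
    simp only [tvM, Matrix.add_apply, vecMulVec_apply] at h2
    rw [Matrix.one_apply_ne hm, zero_add, hψ] at h2
    simp only [Pi.sub_apply, Pi.smul_apply, ev_apply, smul_eq_mul] at h2
    rw [if_pos trivial, if_neg (Ne.symm hm), mul_one, mul_zero, sub_zero] at h2
    exact hne (mul_self_eq_zero.mp h2)
  ext i
  by_cases hi : i = 0
  · subst hi
    rw [mulVec_ev]
    simp [ev_apply]
  · rw [key i hi]
    simp [ev_apply, hi]

theorem conj_TC_of_conj (s : SpecialLinearGroup (Fin (k + 2)) F)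
    (h : ∀ x ∈ TC (ev (0 : Fin (k + 2)) : Fin (k + 2) → F), s * x * s⁻¹ ∈ UT (k + 2) F) :
    ∀ x ∈ TC (ev (0 : Fin (k + 2)) : Fin (k + 2) → F), s * x * s⁻¹ ∈ TC (ev (0 : Fin (k + 2)) : Fin (k + 2) → F) := by
  intro x hx
  have h1 := conj_mem_TC s x _ hx
  rw [mulVec_ev_zero_of_conj k s h] at h1
  exact TC_smul_le _ _ h1

/-- Weak closure of the hyperplane-stabiliser radical. -/
theorem ev_last_vecMul_of_conj (s : SpecialLinearGroup (Fin (k + 2)) F)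
    (h : ∀ x ∈ TA (ev (Fin.last (k + 1)) : Fin (k + 2) → F), s * x * s⁻¹ ∈ UT (k + 2) F) :
    (ev (Fin.last (k + 1)) : Fin (k + 2) → F) ᵥ* s⁻¹.1 =
      (s⁻¹.1 (Fin.last (k + 1)) (Fin.last (k + 1))) • ev (Fin.last (k + 1)) := by
  have key : ∀ m : Fin (k + 2), m ≠ Fin.last (k + 1) →
      ((ev (Fin.last (k + 1)) : Fin (k + 2) → F) ᵥ* s⁻¹.1) m = 0 := by
    intro m hm
    by_contra hne
    obtain ⟨ω, hω⟩ : ∃ ω, ω = (ev (Fin.last (k + 1)) : Fin (k + 2) → F) ᵥ* s⁻¹.1 := ⟨_, rfl⟩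
    rw [← hω] at hne
    obtain ⟨u, hu⟩ : ∃ u : Fin (k + 2) → F,
      u = ω m • ev (Fin.last (k + 1)) - ω (Fin.last (k + 1)) • ev m := ⟨_, rfl⟩
    have hωu : ω ⬝ᵥ u = 0 := by
      rw [hu, dotProduct_sub, dotProduct_smul, dotProduct_smul, dot_ev_apply, dot_ev_apply]
      simp only [smul_eq_mul]
      ring
    have hv : (ev (Fin.last (k + 1)) : Fin (k + 2) → F) ⬝ᵥ (s⁻¹.1 *ᵥ u) = 0 := by
      rw [dotProduct_mulVec, ← hω, hωu]
    have h1 := h (tv (s⁻¹.1 *ᵥ u) (ev (Fin.last (k + 1))) hv) ⟨_, hv, rfl⟩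
    have h2 := h1.1 (Fin.last (k + 1)) m (Fin.lt_last_iff_ne_last.mpr hm)
    rw [coe_mul', coe_mul', tv_coe, conj_tvM_SL, mulVec_inv_cancel, ← hω] at h2
    simp only [tvM, Matrix.add_apply, vecMulVec_apply] at h2
    rw [Matrix.one_apply_ne (Ne.symm hm), zero_add, hu] at h2
    simp only [Pi.sub_apply, Pi.smul_apply, ev_apply, smul_eq_mul] at h2
    rw [if_pos trivial, if_neg (Ne.symm hm), mul_one, mul_zero, sub_zero] at h2
    exact hne (mul_self_eq_zero.mp h2)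
  ext i
  by_cases hi : i = Fin.last (k + 1)
  · subst hi
    rw [ev_vecMul]
    simp [ev_apply]
  · rw [key i hi]
    simp [ev_apply, hi]

theorem conj_TA_of_conj (s : SpecialLinearGroup (Fin (k + 2)) F)
    (h : ∀ x ∈ TA (ev (Fin.last (k + 1)) : Fin (k + 2) → F), s * x * s⁻¹ ∈ UT (k + 2) F) :
    ∀ x ∈ TA (ev (Fin.last (k + 1)) : Fin (k + 2) → F),
      s * x * s⁻¹ ∈ TA (ev (Fin.last (k + 1)) : Fin (k + 2) → F) := by
  intro x hx
  have h1 := conj_mem_TA s x _ hx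
  rw [ev_last_vecMul_of_conj k s h] at h1
  exact TA_smul_le _ _ h1

end wc

end Cfsg.Agent.Lib.helper47.PSLnFus
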