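import Mathlib
import Cfsg.Agent.Lib.helper47.PSLnFusA

/-!
More on the unitriangular subgroup of `SL_n(F)`: centralisers of the point/hyperplane radicals,
generation by elementary transvections, conjugacy of elementary transvections, the normaliser is
upper triangular, and the elements `h_{ab}(t)` as products of transvections.
-/

set_option autoImplicit false

namespace Cfsg.Agent.Lib.helper47.PSLnFus

open Matrix Cfsg.Agent.Lib.helper47.PSLn

variable {n : ℕ} {F : Type*} [Field F]

local notation "Tv" => Matrix.SpecialLinearGroup.transvection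

theorem Tv_mul_neg {i j : Fin n} (hij : i ≠ j) (t : F) : Tv hij t * Tv hij (-t) = 1 := by
  apply Subtype.ext
  rw [coe_mul', coe_one']
  show Matrix.transvection i j t * Matrix.transvection i j (-t) = 1
  rw [Matrix.transvection_mul_transvection_same _ _ hij, add_neg_cancel, Matrix.transvection_zero]

theorem Tv_mem_UT [Finite F] {i j : Fin n} (hij : i < j) (c : F) :
    Tv (ne_of_lt hij) c ∈ UT n F := by
  rw [mem_UT]
  constructor
  · intro a b hba
    rw [Matrix.SpecialLinearGroup.transvection_coe, Matrix.add_apply,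
      Matrix.one_apply_ne (ne_of_gt hba), Matrix.single_apply, zero_add]
    rw [if_neg]
    rintro ⟨rfl, rfl⟩
    exact absurd hij (not_lt_of_gt hba)
  · intro a
    rw [Matrix.SpecialLinearGroup.transvection_coe, Matrix.add_apply, Matrix.one_apply_eq,
      Matrix.single_apply, if_neg, add_zero]
    rintro ⟨rfl, rfl⟩
    exact absurd hij (lt_irrefl _)

theorem Tv_mem_TC {j : Fin n} {i : Fin n} (hij : i ≠ j) (t : F) :
    Tv hij t ∈ TC (ev i : Fin n → F) := by
  refine ⟨t • ev j, by rw [smul_dotProduct, ev_dot hij, smul_zero], ?_⟩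
  rw [transvection_coe_eq]
  unfold tvM
  rw [smul_vecMulVec, vecMulVec_smul]

theorem Tv_mem_TA {j : Fin n} {i : Fin n} (hij : i ≠ j) (t : F) :
    Tv hij t ∈ TA (ev j : Fin n → F) :=
  ⟨t • ev i, by rw [dotProduct_smul, ev_dot hij, smul_zero], transvection_coe_eq hij t⟩

section cent

variable [Finite F] (k : ℕ)

/-- The point-stabiliser radical is self-centralising in `UT`. -/
theorem mem_TC_of_comm (u : SpecialLinearGroup (Fin (k + 2)) F) (hu : u ∈ UT (k + 2) F)
    (hc : ∀ x ∈ TC (ev (0 : Fin (k + 2)) : Fin (k + 2) → F), u * x = x * u) :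
    u ∈ TC (ev (0 : Fin (k + 2)) : Fin (k + 2) → F) := by
  have key : ∀ j : Fin (k + 2), j ≠ 0 → ∀ b, u.1 j b = (1 : Matrix (Fin (k + 2)) (Fin (k + 2)) F) j b := by
    intro j hj b
    have h1 := hc _ (Tv_mem_TC (Ne.symm hj) (1 : F))
    have h2 : u.1 * Matrix.single 0 j (1 : F) = Matrix.single 0 j (1 : F) * u.1 := by
      have h3 := congrArg Subtype.val h1
      rw [coe_mul', coe_mul', Matrix.SpecialLinearGroup.transvection_coe, Matrix.mul_add,
        Matrix.add_mul, Matrix.mul_one, Matrix.one_mul] at h3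
      exact add_left_cancel h3
    have h4 := congrFun (congrFun h2 0) b
    rw [Matrix.single_mul_apply_same, one_mul] at h4
    rw [← h4]
    by_cases hb : b = j
    · subst hb
      rw [Matrix.mul_single_apply_same, hu.2 0, mul_one, Matrix.one_apply_eq]
    · rw [Matrix.mul_single_apply_of_ne _ _ _ _ _ hb, Matrix.one_apply_ne (Ne.symm hb)]
  refine ⟨fun j => if j = 0 then 0 else u.1 0 j, by rw [dot_ev_apply, if_pos rfl], ?_⟩
  ext i j
  simp only [tvM, Matrix.add_apply, vecMulVec_apply, ev_apply]
  by_cases hi : i = 0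
  · subst hi
    by_cases hj : j = 0
    · subst hj; rw [hu.2 0]; simp
    · simp [hj, Ne.symm hj]
  · rw [key i hi j]; simp [hi]

/-- The hyperplane-stabiliser radical is self-centralising in `UT`. -/
theorem mem_TA_of_comm (u : SpecialLinearGroup (Fin (k + 2)) F) (hu : u ∈ UT (k + 2) F)
    (hc : ∀ x ∈ TA (ev (Fin.last (k + 1)) : Fin (k + 2) → F), u * x = x * u) :
    u ∈ TA (ev (Fin.last (k + 1)) : Fin (k + 2) → F) := by
  have key : ∀ i : Fin (k + 2), i ≠ Fin.last (k + 1) →
      ∀ a, u.1 a i = (1 : Matrix (Fin (k + 2)) (Fin (k + 2)) F) a i := by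
    intro i hi a
    have h1 := hc _ (Tv_mem_TA hi (1 : F))
    have h2 : u.1 * Matrix.single i (Fin.last (k + 1)) (1 : F) =
        Matrix.single i (Fin.last (k + 1)) (1 : F) * u.1 := by
      have h3 := congrArg Subtype.val h1
      rw [coe_mul', coe_mul', Matrix.SpecialLinearGroup.transvection_coe, Matrix.mul_add,
        Matrix.add_mul, Matrix.mul_one, Matrix.one_mul] at h3
      exact add_left_cancel h3
    have h4 := congrFun (congrFun h2 a) (Fin.last (k + 1))
    rw [Matrix.mul_single_apply_same, mul_one] at h4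
    rw [h4]
    by_cases ha : a = i
    · subst ha
      rw [Matrix.single_mul_apply_same, hu.2 _, mul_one, Matrix.one_apply_eq]
    · rw [Matrix.single_mul_apply_of_ne _ _ _ _ _ ha, Matrix.one_apply_ne ha]
  refine ⟨fun a => if a = Fin.last (k + 1) then 0 else u.1 a (Fin.last (k + 1)),
    by rw [ev_dot_apply, if_pos rfl], ?_⟩
  ext i j
  simp only [tvM, Matrix.add_apply, vecMulVec_apply, ev_apply]
  by_cases hj : j = Fin.last (k + 1)
  · subst hj
    by_cases hi : i = Fin.last (k + 1)
    · subst hi; rw [hu.2 _]; simp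
    · simp [hi]
  · rw [key j hj i]; simp [hj]

end cent

/-- The unitriangular group is generated by the elementary transvections it contains. -/
theorem UT_le_closure [Finite F] (u : SpecialLinearGroup (Fin n) F) (hu : u ∈ UT n F) :
    u ∈ Subgroup.closure {x : SpecialLinearGroup (Fin n) F |
      ∃ (i j : Fin n) (hij : i < j) (c : F), x = Tv (ne_of_lt hij) c} := by
  classical
  obtain ⟨N, hN⟩ : ∃ N : ℕ, N = (Finset.univ.filter
      (fun q : Fin n × Fin n => q.1 < q.2 ∧ u.1 q.1 q.2 ≠ 0)).card := ⟨_, rfl⟩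
  induction N using Nat.strong_induction_on generalizing u with
  | _ N ih =>
    by_cases hempty : Finset.univ.filter
        (fun q : Fin n × Fin n => q.1 < q.2 ∧ u.1 q.1 q.2 ≠ 0) = ∅
    · have h1 : u = 1 := by
        apply Subtype.ext
        ext i j
        rw [coe_one']
        rcases lt_trichotomy i j with h | h | h
        · rw [Matrix.one_apply_ne (ne_of_lt h)]
          by_contra hne
          have : (i, j) ∈ Finset.univ.filter
              (fun q : Fin n × Fin n => q.1 < q.2 ∧ u.1 q.1 q.2 ≠ 0) := by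
            rw [Finset.mem_filter]; exact ⟨Finset.mem_univ _, h, hne⟩
          rw [hempty] at this
          exact absurd this (Finset.notMem_empty _)
        · subst h; rw [Matrix.one_apply_eq]; exact hu.2 i
        · rw [Matrix.one_apply_ne (ne_of_gt h)]; exact hu.1 i j h
      rw [h1]; exact Subgroup.one_mem _
    · obtain ⟨q, hq, hmax⟩ := Finset.exists_max_image _ (fun q : Fin n × Fin n => q.1)
        (Finset.nonempty_iff_ne_empty.mpr hempty)
      obtain ⟨i, j⟩ := q
      rw [Finset.mem_filter] at hq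
      obtain ⟨-, hij, hne⟩ := hq
      simp only at hij hne hmax
      have hrow : ∀ b, u.1 j b = (1 : Matrix (Fin n) (Fin n) F) j b := by
        intro b
        rcases lt_trichotomy j b with h | h | h
        · rw [Matrix.one_apply_ne (ne_of_lt h)]
          by_contra hne'
          have h2 := hmax (j, b) (by rw [Finset.mem_filter]; exact ⟨Finset.mem_univ _, h, hne'⟩)
          exact absurd hij (not_lt.mpr h2)
        · subst h; rw [Matrix.one_apply_eq]; exact hu.2 j
        · rw [Matrix.one_apply_ne (ne_of_gt h)]; exact hu.1 j b h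
      obtain ⟨u', hu'⟩ : ∃ u', u' = Tv (ne_of_lt hij) (-(u.1 i j)) * u := ⟨_, rfl⟩
      have hu'U : u' ∈ UT n F := by rw [hu']; exact (UT n F).mul_mem (Tv_mem_UT hij _) hu
      have hent : ∀ a b, u'.1 a b = if a = i ∧ b = j then 0 else u.1 a b := by
        intro a b
        rw [hu', coe_mul', Matrix.SpecialLinearGroup.transvection_coe, Matrix.add_mul,
          Matrix.one_mul, Matrix.add_apply]
        by_cases ha : a = i
        · subst ha
          rw [Matrix.single_mul_apply_same, hrow b]
          by_cases hb : b = j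
          · subst hb; rw [if_pos ⟨rfl, rfl⟩, Matrix.one_apply_eq]; ring
          · rw [if_neg (fun h => hb h.2), Matrix.one_apply_ne (Ne.symm hb)]; ring
        · rw [Matrix.single_mul_apply_of_ne _ _ _ _ _ ha, add_zero, if_neg (fun h => ha h.1)]
      have hlt : (Finset.univ.filter
          (fun q : Fin n × Fin n => q.1 < q.2 ∧ u'.1 q.1 q.2 ≠ 0)).card < N := by
        rw [hN]
        apply Finset.card_lt_card
        rw [Finset.ssubset_iff_of_subset]
        · refine ⟨(i, j), by rw [Finset.mem_filter]; exact ⟨Finset.mem_univ _, hij, hne⟩, ?_⟩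
          rw [Finset.mem_filter]
          rintro ⟨-, -, h3⟩
          apply h3
          rw [hent, if_pos ⟨rfl, rfl⟩]
        · intro q hq
          rw [Finset.mem_filter] at hq ⊢
          refine ⟨Finset.mem_univ _, hq.2.1, ?_⟩
          have h4 := hq.2.2
          rw [hent] at h4
          by_cases h5 : q.1 = i ∧ q.2 = j
          · rw [if_pos h5] at h4; exact absurd rfl h4
          · rw [if_neg h5] at h4; exact h4
      have h5 := ih _ hlt u' hu'U rfl
      have h6 : u = Tv (ne_of_lt hij) (u.1 i j) * u' := by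
        rw [hu', ← mul_assoc, Tv_mul_neg, one_mul]
      rw [h6]
      exact Subgroup.mul_mem _ (Subgroup.subset_closure ⟨i, j, hij, _, rfl⟩) h5

/-! ### Conjugacy of elementary transvections in `SL_n`, `n ≥ 3` -/

theorem conjSL_perm_Tv (σ : Equiv.Perm (Fin n)) {a b : Fin n} (hab : a ≠ b)
    (h' : σ a ≠ σ b) (t : F) :
    conjSL (permGL σ) (Tv hab t) = Tv h' t := by
  apply Subtype.ext
  rw [conjSL_coe, transvection_coe_eq, transvection_coe_eq, conj_tvM, mulVec_smul,
    permGL_mulVec_ev, ev_vecMul_permGL_inv]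

theorem exists_conj_Tv (hn : 3 ≤ n) {a b i j : Fin n} (hab : a ≠ b) (hij : i ≠ j) (t c : F)
    (ht : t ≠ 0) (hc : c ≠ 0) :
    ∃ s : SpecialLinearGroup (Fin n) F, s * Tv hab t * s⁻¹ = Tv hij c := by
  classical
  obtain ⟨σ, rfl, rfl⟩ := exists_perm a b i j hab hij
  obtain ⟨m, hm1, hm2⟩ := exists_third hn (σ a) (σ b)
  obtain ⟨α, hα⟩ : ∃ α : Fˣ, (α : F) = c / t := ⟨Units.mk0 (c / t) (div_ne_zero hc ht), rfl⟩
  obtain ⟨δ, hδ⟩ : ∃ δ : Fˣ, (δ : F) = (permGL σ : GL (Fin n) F).1.det :=
    ⟨Matrix.GeneralLinearGroup.det (permGL σ), rfl⟩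
  obtain ⟨e, he⟩ : ∃ e : Fin n → Fˣ,
      e = fun x => (if x = σ a then α else 1) * (if x = m then α⁻¹ * δ⁻¹ else 1) := ⟨_, rfl⟩
  have hea : e (σ a) = α := by rw [he]; simp [Ne.symm hm1]
  have heb : e (σ b) = 1 := by rw [he]; simp [Ne.symm hm2, Ne.symm hij]
  have hprod : ∏ x, e x = α * (α⁻¹ * δ⁻¹) := by
    rw [he, Finset.prod_mul_distrib, Finset.prod_ite_eq', Finset.prod_ite_eq']
    simp
  have hdet : ((dg e * permGL σ : GL (Fin n) F).1).det = 1 := by
    show (Matrix.diagonal (fun i => (e i : F)) * (permGL σ : GL (Fin n) F).1).det = 1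
    rw [Matrix.det_mul, Matrix.det_diagonal, ← hδ, ← Units.coe_prod, hprod, ← Units.val_mul]
    simp
  obtain ⟨s, hs⟩ : ∃ s : SpecialLinearGroup (Fin n) F, s.1 = (dg e * permGL σ : GL (Fin n) F).1 :=
    ⟨⟨_, hdet⟩, rfl⟩
  refine ⟨s, ?_⟩
  have h1 : ∀ (s : SpecialLinearGroup (Fin n) F) (x : SpecialLinearGroup (Fin n) F),
      s * x * s⁻¹ = conjSL (Matrix.SpecialLinearGroup.toGL s) x := fun s x => rfl
  have h2 : Matrix.SpecialLinearGroup.toGL s = dg e * permGL σ := Units.ext hs
  rw [h1, h2]
  have h3 : conjSL (dg e * permGL σ) (Tv hab t) =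
      conjSL (dg e) (conjSL (permGL σ) (Tv hab t)) := by
    have := map_mul (conjSLHom (n := n) (F := F)) (dg e) (permGL σ)
    exact congrFun (congrArg DFunLike.coe this) _
  rw [h3, conjSL_perm_Tv σ hab hij, conjSL_dg_Tv, hea, heb, hα]
  congr 1
  simp
  field_simp

/-! ### The normaliser of the unitriangular group is upper triangular -/

theorem upper_of_conj [Finite F] (s : SpecialLinearGroup (Fin n) F)
    (h : ∀ u ∈ UT n F, s⁻¹ * u * s ∈ UT n F) : ∀ i j : Fin n, j < i → s.1 i j = 0 := by
  suffices H : ∀ (N : ℕ) (j : Fin n), j.val = N → ∀ i, j < i → s.1 i j = 0 from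
    fun i j hji => H j.val j rfl i hji
  intro N
  induction N using Nat.strong_induction_on with
  | _ N ih =>
    intro j hj i hji
    have hU := h _ (Tv_mem_UT hji (1 : F))
    obtain ⟨u', hu'⟩ : ∃ u', u' = s⁻¹ * Tv (ne_of_lt hji) (1 : F) * s := ⟨_, rfl⟩
    rw [← hu'] at hU
    have h1 : s * u' = Tv (ne_of_lt hji) (1 : F) * s := by rw [hu']; group
    have h2 := congrArg Subtype.val h1
    rw [coe_mul', coe_mul', Matrix.SpecialLinearGroup.transvection_coe, Matrix.add_mul,
      Matrix.one_mul] at h2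
    have h3 := congrFun (congrFun h2 j) j
    rw [Matrix.add_apply, Matrix.single_mul_apply_same, one_mul, Matrix.mul_apply,
      Finset.sum_eq_single j] at h3
    · rw [hU.2 j, mul_one] at h3
      exact (left_eq_add.mp h3)
    · intro m _ hmj
      rcases lt_or_gt_of_ne hmj with hlt | hgt
      · rw [ih m.val (by rw [← hj]; exact hlt) m rfl j hlt, zero_mul]
      · rw [hU.1 m j hgt, mul_zero]
    · intro habs; exact absurd (Finset.mem_univ j) habs

end Cfsg.Agent.Lib.helper47.PSLnFus
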