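import Mathlib
import Cfsg.Agent.Lib.helper47.PSLnFusB

/-!
The Weyl elements `w_{ab}(t)` and torus elements `h_{ab}(t)` of `SL_n(F)` as products of
elementary transvections.
-/

set_option autoImplicit false

namespace Cfsg.Agent.Lib.helper47.PSLnFus

open Matrix Cfsg.Agent.Lib.helper47.PSLn

variable {n : ℕ} {F : Type*} [Field F]

local notation "Tv" => Matrix.SpecialLinearGroup.transvection

/-- Stabiliser of a vector. -/
def FixV (v : Fin n → F) : Subgroup (SpecialLinearGroup (Fin n) F) where
  carrier := {s | s.1 *ᵥ v = v}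
  mul_mem' := by
    intro a b ha hb
    show (a * b).1 *ᵥ v = v
    rw [coe_mul', ← mulVec_mulVec, show b.1 *ᵥ v = v from hb, show a.1 *ᵥ v = v from ha]
  one_mem' := by
    show (1 : SpecialLinearGroup (Fin n) F).1 *ᵥ v = v
    rw [coe_one', one_mulVec]
  inv_mem' := by
    intro a ha
    show a⁻¹.1 *ᵥ v = v
    conv_lhs => rw [← show a.1 *ᵥ v = v from ha]
    rw [inv_mulVec_cancel]

/-- Stabiliser of a covector. -/
def FixR (φ : Fin n → F) : Subgroup (SpecialLinearGroup (Fin n) F) where
  carrier := {s | φ ᵥ* s.1 = φ}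
  mul_mem' := by
    intro a b ha hb
    show φ ᵥ* (a * b).1 = φ
    rw [coe_mul', ← vecMul_vecMul, show φ ᵥ* a.1 = φ from ha, show φ ᵥ* b.1 = φ from hb]
  one_mem' := by
    show φ ᵥ* (1 : SpecialLinearGroup (Fin n) F).1 = φ
    rw [coe_one', vecMul_one]
  inv_mem' := by
    intro a ha
    show φ ᵥ* a⁻¹.1 = φ
    conv_lhs => rw [← show φ ᵥ* a.1 = φ from ha]
    rw [vecMul_inv_cancel]

theorem Tv_mem_FixV {a b : Fin n} (hab : a ≠ b) (t : F) (c : Fin n) (hb : b ≠ c) :
    Tv hab t ∈ FixV (ev c : Fin n → F) := by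
  show (Tv hab t).1 *ᵥ ev c = ev c
  ext i
  rw [mulVec_ev, Matrix.SpecialLinearGroup.transvection_coe, Matrix.add_apply,
    Matrix.single_apply, if_neg (fun h => hb h.2), add_zero, ev_apply, Matrix.one_apply]

theorem Tv_mem_FixR {a b : Fin n} (hab : a ≠ b) (t : F) (c : Fin n) (ha : a ≠ c) :
    Tv hab t ∈ FixR (ev c : Fin n → F) := by
  show ev c ᵥ* (Tv hab t).1 = ev c
  ext j
  rw [ev_vecMul, Matrix.SpecialLinearGroup.transvection_coe, Matrix.add_apply,
    Matrix.single_apply, if_neg (fun h => ha h.1), add_zero, ev_apply, Matrix.one_apply]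
  simp only [eq_comm]

theorem conj_mem_TC_of_FixV (s x : SpecialLinearGroup (Fin n) F) (v : Fin n → F)
    (hs : s ∈ FixV v) (hx : x ∈ TC v) : s * x * s⁻¹ ∈ TC v := by
  have := conj_mem_TC s x v hx
  rwa [show s.1 *ᵥ v = v from hs] at this

theorem conj_mem_TA_of_FixR (s x : SpecialLinearGroup (Fin n) F) (φ : Fin n → F)
    (hs : s ∈ FixR φ) (hx : x ∈ TA φ) : s * x * s⁻¹ ∈ TA φ := by
  have := conj_mem_TA s x φ hx
  rwa [show φ ᵥ* s⁻¹.1 = φ from (FixR φ).inv_mem hs] at this

/-- The Weyl element `w_{ab}(t) = x_{ab}(t) x_{ba}(-t⁻¹) x_{ab}(t)`. -/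
def wE {a b : Fin n} (hab : a ≠ b) (t : F) : SpecialLinearGroup (Fin n) F :=
  Tv hab t * Tv hab.symm (-t⁻¹) * Tv hab t

/-- The torus element `h_{ab}(t) = w_{ab}(t) w_{ab}(1)⁻¹`. -/
def hE {a b : Fin n} (hab : a ≠ b) (t : F) : SpecialLinearGroup (Fin n) F :=
  wE hab t * (wE hab 1)⁻¹

theorem single_mul_ne {i j k l : Fin n} (h : j ≠ k) (x y : F) :
    Matrix.single i j x * Matrix.single k l y = (0 : Matrix (Fin n) (Fin n) F) :=
  Matrix.single_mul_single_of_ne x i j k h y

theorem wE_coe {a b : Fin n} (hab : a ≠ b) (t : F) (ht : t ≠ 0) :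
    (wE hab t).1 = 1 - Matrix.single a a 1 - Matrix.single b b 1 + Matrix.single a b t
      + Matrix.single b a (-t⁻¹) := by
  unfold wE
  rw [coe_mul', coe_mul', Matrix.SpecialLinearGroup.transvection_coe,
    Matrix.SpecialLinearGroup.transvection_coe]
  simp only [Matrix.add_mul, Matrix.mul_add, Matrix.one_mul, Matrix.mul_one,
    Matrix.single_mul_single_same, single_mul_ne hab, single_mul_ne hab.symm]
  ext i j
  simp only [Matrix.add_apply, Matrix.sub_apply, Matrix.single_apply, Matrix.one_apply,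
    Matrix.zero_apply]
  by_cases h1 : a = i
  · subst h1
    by_cases h3 : a = j
    · subst h3
      simp [hab, hab.symm, ht]
    · by_cases h4 : b = j
      · subst h4
        simp [hab, hab.symm, ht]
      · simp [hab, hab.symm, h3, h4]
  · by_cases h2 : b = i
    · subst h2
      by_cases h3 : a = j
      · subst h3
        simp [hab, hab.symm]
      · by_cases h4 : b = j
        · subst h4
          simp [hab, hab.symm, ht]
        · simp [hab, hab.symm, h3, h4]
    · simp [h1, h2]

theorem hE_coe {a b : Fin n} (hab : a ≠ b) (t : F) (ht : t ≠ 0) :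
    (hE hab t).1 = Matrix.diagonal (fun i => if i = a then t else if i = b then t⁻¹ else 1) := by
  have h1 : hE hab t * wE hab 1 = wE hab t := by unfold hE; group
  have h2 : (wE hab t).1 =
      Matrix.diagonal (fun i => if i = a then t else if i = b then t⁻¹ else 1) *
        (wE hab 1).1 := by
    rw [wE_coe hab t ht, wE_coe hab 1 one_ne_zero]
    ext i j
    rw [Matrix.diagonal_mul]
    simp only [Matrix.add_apply, Matrix.sub_apply, Matrix.single_apply, Matrix.one_apply]
    by_cases h1 : a = i
    · subst h1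
      by_cases h3 : a = j
      · subst h3
        simp [hab, hab.symm, ht]
      · by_cases h4 : b = j
        · subst h4
          simp [hab, hab.symm, ht]
        · simp [hab, hab.symm, h3, h4]
    · by_cases h2 : b = i
      · subst h2
        by_cases h3 : a = j
        · subst h3
          simp [hab, hab.symm]
        · by_cases h4 : b = j
          · subst h4
            simp [hab, hab.symm, ht]
          · simp [hab, hab.symm, h3, h4]
      · simp [h1, h2, Ne.symm h1, Ne.symm h2]
  have h3 := congrArg Subtype.val h1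
  rw [coe_mul', h2] at h3
  calc (hE hab t).1 = (hE hab t).1 * ((wE hab 1).1 * (wE hab 1)⁻¹.1) := by
        rw [coe_mul_inv', Matrix.mul_one]
    _ = Matrix.diagonal (fun i => if i = a then t else if i = b then t⁻¹ else 1) *
        (wE hab 1).1 * (wE hab 1)⁻¹.1 := by rw [← Matrix.mul_assoc, h3]
    _ = _ := by rw [Matrix.mul_assoc, coe_mul_inv', Matrix.mul_one]

theorem wE_conj {a b : Fin n} (hab : a ≠ b) (c : F) :
    wE hab 1 * Tv hab c * (wE hab 1)⁻¹ = Tv hab.symm (-c) := by
  suffices h : wE hab 1 * Tv hab c = Tv hab.symm (-c) * wE hab 1 by rw [h]; group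
  apply Subtype.ext
  rw [coe_mul', coe_mul', wE_coe hab 1 one_ne_zero, Matrix.SpecialLinearGroup.transvection_coe,
    Matrix.SpecialLinearGroup.transvection_coe]
  simp only [Matrix.add_mul, Matrix.mul_add, Matrix.sub_mul, Matrix.mul_sub, Matrix.one_mul,
    Matrix.mul_one, Matrix.single_mul_single_same, single_mul_ne hab, single_mul_ne hab.symm]
  ext i j
  simp only [Matrix.add_apply, Matrix.sub_apply, Matrix.single_apply, Matrix.one_apply,
    Matrix.zero_apply]
  by_cases h1 : a = i
  · subst h1
    by_cases h3 : a = j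
    · subst h3
      simp [hab, hab.symm]
    · by_cases h4 : b = j
      · subst h4
        simp [hab, hab.symm]
      · simp [hab, hab.symm, h3, h4]
  · by_cases h2 : b = i
    · subst h2
      by_cases h3 : a = j
      · subst h3
        simp [hab, hab.symm]
      · by_cases h4 : b = j
        · subst h4
          simp [hab, hab.symm]
        · simp [hab, hab.symm, h3, h4]
    · simp [h1, h2]

theorem hE_d_ne_zero {a b : Fin n} (t : F) (ht : t ≠ 0) (i : Fin n) :
    (if i = a then t else if i = b then t⁻¹ else 1) ≠ 0 := by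
  split_ifs
  · exact ht
  · exact inv_ne_zero ht
  · exact one_ne_zero

/-- `h_{ab}(t)` normalises the unitriangular group. -/
theorem hE_conj_UT [Finite F] {a b : Fin n} (hab : a ≠ b) (t : F) (ht : t ≠ 0)
    (u : SpecialLinearGroup (Fin n) F) (hu : u ∈ UT n F) :
    hE hab t * u * (hE hab t)⁻¹ ∈ UT n F := by
  obtain ⟨y, hy⟩ : ∃ y, y = hE hab t * u * (hE hab t)⁻¹ := ⟨_, rfl⟩
  rw [← hy]
  have h1 : y * hE hab t = hE hab t * u := by rw [hy]; group
  have h2 := congrArg Subtype.val h1
  rw [coe_mul', coe_mul', hE_coe hab t ht] at h2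
  have h3 : ∀ i j, y.1 i j * (if j = a then t else if j = b then t⁻¹ else 1) =
      (if i = a then t else if i = b then t⁻¹ else 1) * u.1 i j := by
    intro i j
    have := congrFun (congrFun h2 i) j
    rwa [Matrix.mul_diagonal, Matrix.diagonal_mul] at this
  rw [mem_UT]
  constructor
  · intro i j hji
    have := h3 i j
    rw [hu.1 i j hji, mul_zero] at this
    rcases mul_eq_zero.mp this with h | h
    · exact h
    · exact absurd h (hE_d_ne_zero t ht j)
  · intro i
    have := h3 i i
    rw [hu.2 i, mul_one] at this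
    exact mul_right_cancel₀ (hE_d_ne_zero t ht i) (this.trans (one_mul _).symm)

theorem hE_mul_apply {a b : Fin n} (hab : a ≠ b) (t : F) (ht : t ≠ 0)
    (s : SpecialLinearGroup (Fin n) F) (i j : Fin n) :
    (hE hab t * s).1 i j = (if i = a then t else if i = b then t⁻¹ else 1) * s.1 i j := by
  rw [coe_mul', hE_coe hab t ht, Matrix.diagonal_mul]

end Cfsg.Agent.Lib.helper47.PSLnFus
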