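import Mathlib
import Cfsg.Agent.Lib.helper47.PSLnFusC
import Cfsg.Agent.Lib.helper47.FusionLevi

/-!
The `p`-fusion system of `PSL_n(F)` (`n ≥ 3`, `F` finite of characteristic `p`) is simple:
verification of the hypotheses `LeviHyp` for the image of the unitriangular group, with the
unipotent radicals of the point and hyperplane stabilisers.
-/

set_option autoImplicit false

namespace Cfsg.Agent.Lib.helper47.PSLnFus

open Matrix Cfsg.Agent.Lib.helper47.PSLn Cfsg.Agent.Lib.helper47.FusionLevi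

local notation "Tv" => Matrix.SpecialLinearGroup.transvection

/-- A nontrivial subgroup of a `p`-group `S`, normalised by `S`, meets the centre of `S`. -/
theorem exists_ZS_of_closed {G : Type*} [Group G] [Finite G] {p : ℕ} [Fact p.Prime]
    (S T : Subgroup G) (hS : IsPGroup p S) (hTS : T ≤ S) (hT : T ≠ ⊥)
    (hn : ∀ x ∈ T, ∀ g ∈ S, g * x * g⁻¹ ∈ T) : ∃ z ∈ T, z ≠ 1 ∧ z ∈ ZS S := by
  haveI : (T.subgroupOf S).Normal := ⟨fun x hx g => by
    rw [Subgroup.mem_subgroupOf] at hx ⊢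
    exact hn _ hx g.1 g.2⟩
  have hne : T.subgroupOf S ≠ ⊥ := by
    intro h
    apply hT
    rw [Subgroup.subgroupOf_eq_bot] at h
    have := disjoint_iff.mp h
    rwa [inf_eq_left.mpr hTS] at this
  obtain ⟨z, hz, hz1, hzc⟩ :=
    Cfsg.Agent.Lib.helper38.exists_central_of_normal_ne_bot hS (T.subgroupOf S) hne
  refine ⟨z.1, Subgroup.mem_subgroupOf.mp hz, fun h => hz1 (Subtype.ext h), ?_⟩
  rw [mem_ZS]
  refine ⟨z.2, fun y hy => ?_⟩
  have h2 := congrArg Subtype.val (hzc ⟨y, hy⟩)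
  exact mul_inv_eq_iff_eq_mul.mp h2

variable {F : Type*} [Field F] [Fintype F] {p f : ℕ} [Fact p.Prime] (k : ℕ)

/-- The radical of the point stabiliser, in `PSL`. -/
def R0 : Subgroup (ProjectiveSpecialLinearGroup (Fin (k + 2)) F) :=
  (TC (ev (0 : Fin (k + 2)) : Fin (k + 2) → F)).map pr

/-- The radical of the hyperplane stabiliser, in `PSL`. -/
def R1 : Subgroup (ProjectiveSpecialLinearGroup (Fin (k + 2)) F) :=
  (TA (ev (Fin.last (k + 1)) : Fin (k + 2) → F)).map pr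

/-- Torus elements of the Levi factor of the point stabiliser. -/
def H0 : Set (ProjectiveSpecialLinearGroup (Fin (k + 2)) F) :=
  {y | ∃ (a b : Fin (k + 2)) (hab : a ≠ b) (t : F), a ≠ 0 ∧ b ≠ 0 ∧ t ≠ 0 ∧ y = pr (hE hab t)}

/-- Torus elements of the Levi factor of the hyperplane stabiliser. -/
def H1 : Set (ProjectiveSpecialLinearGroup (Fin (k + 2)) F) :=
  {y | ∃ (a b : Fin (k + 2)) (hab : a ≠ b) (t : F),
    a ≠ Fin.last (k + 1) ∧ b ≠ Fin.last (k + 1) ∧ t ≠ 0 ∧ y = pr (hE hab t)}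

theorem Ub_ne_bot : (UT (k + 2) F).map (pr (n := k + 2) (F := F)) ≠ ⊥ := by
  intro h
  have h0l : (0 : Fin (k + 2)) < Fin.last (k + 1) := Fin.lt_last_iff_ne_last.mpr (zero_ne_last k)
  have h1 : pr (Tv (ne_of_lt h0l) (1 : F)) ∈ (UT (k + 2) F).map (pr (n := k + 2) (F := F)) :=
    ⟨_, Tv_mem_UT h0l 1, rfl⟩
  rw [h, Subgroup.mem_bot] at h1
  have h2 : pr (Tv (ne_of_lt h0l) (1 : F)) = pr (Tv (ne_of_lt h0l) (0 : F)) := by
    rw [h1, Matrix.SpecialLinearGroup.transvection_coeff_zero, map_one]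
  exact one_ne_zero (pr_Tv_inj _ _ _ h2)

theorem hsc_psl [CharP F p] (hF : Fintype.card F = p ^ f) (hk : 1 ≤ k)
    (T : Subgroup (ProjectiveSpecialLinearGroup (Fin (k + 2)) F))
    (hTle : T ≤ (UT (k + 2) F).map pr) (hT : T ≠ ⊥)
    (hcl : ∀ x ∈ T, ∀ g : ProjectiveSpecialLinearGroup (Fin (k + 2)) F,
      g * x * g⁻¹ ∈ (UT (k + 2) F).map pr → g * x * g⁻¹ ∈ T) :
    T = (UT (k + 2) F).map pr := by
  haveI : Finite (SpecialLinearGroup (Fin (k + 2)) F) :=
    Finite.of_injective (fun g => g.1) Subtype.val_injective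
  haveI : Finite (ProjectiveSpecialLinearGroup (Fin (k + 2)) F) :=
    Finite.of_surjective _ pr_surj
  have hP : IsPGroup p ((UT (k + 2) F).map (pr (n := k + 2) (F := F))) := (isPGroup_UT hF).map pr
  obtain ⟨z, hzT, hz1, hzZ⟩ := exists_ZS_of_closed _ T hP hTle hT
    (fun x hx g hg => hcl x hx g (Subgroup.mul_mem _ (Subgroup.mul_mem _ hg (hTle hx))
      (Subgroup.inv_mem _ hg)))
  rw [ZS_Ubar] at hzZ
  obtain ⟨x, hx, rfl⟩ := hzZ
  obtain ⟨t₀, rfl⟩ := (mem_X_iff _ x).mp hx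
  have ht₀ : t₀ ≠ 0 := by
    rintro rfl
    apply hz1
    rw [Matrix.SpecialLinearGroup.transvection_coeff_zero, map_one]
  have hall : ∀ (i j : Fin (k + 2)) (hij : i < j) (c : F), pr (Tv (ne_of_lt hij) c) ∈ T := by
    intro i j hij c
    by_cases hc : c = 0
    · subst hc
      rw [Matrix.SpecialLinearGroup.transvection_coeff_zero, map_one]
      exact T.one_mem
    · obtain ⟨s, hs⟩ := exists_conj_Tv (by omega : 3 ≤ k + 2) (zero_ne_last k) (ne_of_lt hij)
        t₀ c ht₀ hc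
      have := hcl _ hzT (pr s) (by
        rw [← map_inv, ← map_mul, ← map_mul, hs]
        exact ⟨_, Tv_mem_UT hij c, rfl⟩)
      rwa [← map_inv, ← map_mul, ← map_mul, hs] at this
  apply le_antisymm hTle
  rintro _ ⟨u, hu, rfl⟩
  have h1 := UT_le_closure u hu
  have h2 : Subgroup.closure {x : SpecialLinearGroup (Fin (k + 2)) F |
      ∃ (i j : Fin (k + 2)) (hij : i < j) (c : F), x = Tv (ne_of_lt hij) c} ≤ T.comap pr := by
    rw [Subgroup.closure_le]
    rintro _ ⟨i, j, hij, c, rfl⟩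
    exact hall i j hij c
  exact h2 h1

theorem hwc0 [CharP F p] (hF : Fintype.card F = p ^ f)
    (g : ProjectiveSpecialLinearGroup (Fin (k + 2)) F)
    (h : ∀ x ∈ R0 (F := F) k, g * x * g⁻¹ ∈ (UT (k + 2) F).map pr) :
    ∀ x ∈ R0 (F := F) k, g * x * g⁻¹ ∈ R0 (F := F) k := by
  obtain ⟨s, rfl⟩ := pr_surj g
  have h' : ∀ x ∈ TC (ev (0 : Fin (k + 2)) : Fin (k + 2) → F), s * x * s⁻¹ ∈ UT (k + 2) F := by
    intro x hx
    obtain ⟨a, ha⟩ := UT_pow hF x (TC_le_UT k hx)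
    apply mem_UT_of_pr_mem hF _ a (conj_pow_eq_one s x _ ha)
    have := h (pr x) ⟨x, hx, rfl⟩
    rwa [← map_inv, ← map_mul, ← map_mul] at this
  rintro _ ⟨x, hx, rfl⟩
  rw [← map_inv, ← map_mul, ← map_mul]
  exact ⟨_, conj_TC_of_conj k s h' x hx, rfl⟩

theorem hwc1 [CharP F p] (hF : Fintype.card F = p ^ f)
    (g : ProjectiveSpecialLinearGroup (Fin (k + 2)) F)
    (h : ∀ x ∈ R1 (F := F) k, g * x * g⁻¹ ∈ (UT (k + 2) F).map pr) :
    ∀ x ∈ R1 (F := F) k, g * x * g⁻¹ ∈ R1 (F := F) k := by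
  obtain ⟨s, rfl⟩ := pr_surj g
  have h' : ∀ x ∈ TA (ev (Fin.last (k + 1)) : Fin (k + 2) → F),
      s * x * s⁻¹ ∈ UT (k + 2) F := by
    intro x hx
    obtain ⟨a, ha⟩ := UT_pow hF x (TA_le_UT k hx)
    apply mem_UT_of_pr_mem hF _ a (conj_pow_eq_one s x _ ha)
    have := h (pr x) ⟨x, hx, rfl⟩
    rwa [← map_inv, ← map_mul, ← map_mul] at this
  rintro _ ⟨x, hx, rfl⟩
  rw [← map_inv, ← map_mul, ← map_mul]
  exact ⟨_, conj_TA_of_conj k s h' x hx, rfl⟩

theorem hcent0 [CharP F p] (hF : Fintype.card F = p ^ f)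
    (c : ProjectiveSpecialLinearGroup (Fin (k + 2)) F) (hc : c ∈ (UT (k + 2) F).map pr)
    (h : ∀ x ∈ R0 (F := F) k, c * x * c⁻¹ = x) : c ∈ R0 (F := F) k := by
  obtain ⟨u, hu, rfl⟩ := hc
  refine ⟨u, mem_TC_of_comm k u hu (fun x hx => ?_), rfl⟩
  have h1 := h (pr x) ⟨x, hx, rfl⟩
  rw [← map_inv, ← map_mul, ← map_mul] at h1
  have h2 := pr_inj_UT hF _ _ ((UT _ F).mul_mem ((UT _ F).mul_mem hu (TC_le_UT k hx))
    ((UT _ F).inv_mem hu)) (TC_le_UT k hx) h1
  exact mul_inv_eq_iff_eq_mul.mp h2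

theorem hcent1 [CharP F p] (hF : Fintype.card F = p ^ f)
    (c : ProjectiveSpecialLinearGroup (Fin (k + 2)) F) (hc : c ∈ (UT (k + 2) F).map pr)
    (h : ∀ x ∈ R1 (F := F) k, c * x * c⁻¹ = x) : c ∈ R1 (F := F) k := by
  obtain ⟨u, hu, rfl⟩ := hc
  refine ⟨u, mem_TA_of_comm k u hu (fun x hx => ?_), rfl⟩
  have h1 := h (pr x) ⟨x, hx, rfl⟩
  rw [← map_inv, ← map_mul, ← map_mul] at h1
  have h2 := pr_inj_UT hF _ _ ((UT _ F).mul_mem ((UT _ F).mul_mem hu (TA_le_UT k hx))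
    ((UT _ F).inv_mem hu)) (TA_le_UT k hx) h1
  exact mul_inv_eq_iff_eq_mul.mp h2

theorem hH_psl {a b : Fin (k + 2)} (hab : a ≠ b) (t : F) (ht : t ≠ 0)
    (x : ProjectiveSpecialLinearGroup (Fin (k + 2)) F) (hx : x ∈ (UT (k + 2) F).map pr) :
    pr (hE hab t) * x * (pr (hE hab t))⁻¹ ∈ (UT (k + 2) F).map pr := by
  obtain ⟨u, hu, rfl⟩ := hx
  rw [← map_inv, ← map_mul, ← map_mul]
  exact ⟨_, hE_conj_UT hab t ht u hu, rfl⟩

/-- Elementary transvections lie in the normal closure of `UT` in the normaliser of `R`. -/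
theorem Tv_mem_closure (R : Subgroup (ProjectiveSpecialLinearGroup (Fin (k + 2)) F))
    {a b : Fin (k + 2)} (hab : a ≠ b)
    (h1 : ∀ r ∈ R, pr (wE hab (1 : F)) * r * (pr (wE hab (1 : F)))⁻¹ ∈ R)
    (h2 : ∀ r ∈ R, pr (wE hab.symm (1 : F)) * r * (pr (wE hab.symm (1 : F)))⁻¹ ∈ R) (c : F) :
    pr (Tv hab c) ∈ Subgroup.closure
      {y : ProjectiveSpecialLinearGroup (Fin (k + 2)) F | ∃ g x : ProjectiveSpecialLinearGroup (Fin (k + 2)) F,
        (∀ r ∈ R, g * r * g⁻¹ ∈ R) ∧ x ∈ (UT (k + 2) F).map pr ∧ y = g * x * g⁻¹} := by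
  apply Subgroup.subset_closure
  rcases lt_or_gt_of_ne hab with hlt | hgt
  · refine ⟨1, pr (Tv hab c), fun r hr => by simpa using hr, ⟨_, Tv_mem_UT hlt c, rfl⟩, by simp⟩
  · refine ⟨pr (wE hab.symm (1 : F)), pr (Tv hab.symm (-c)), h2, ⟨_, Tv_mem_UT hgt (-c), rfl⟩, ?_⟩
    rw [← map_inv, ← map_mul, ← map_mul, wE_conj, neg_neg]

theorem hE_mem_closure (R : Subgroup (ProjectiveSpecialLinearGroup (Fin (k + 2)) F))
    {a b : Fin (k + 2)} (hab : a ≠ b)
    (h1 : ∀ r ∈ R, pr (wE hab (1 : F)) * r * (pr (wE hab (1 : F)))⁻¹ ∈ R)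
    (h2 : ∀ r ∈ R, pr (wE hab.symm (1 : F)) * r * (pr (wE hab.symm (1 : F)))⁻¹ ∈ R) (t : F) :
    pr (hE hab t) ∈ Subgroup.closure
      {y : ProjectiveSpecialLinearGroup (Fin (k + 2)) F | ∃ g x : ProjectiveSpecialLinearGroup (Fin (k + 2)) F,
        (∀ r ∈ R, g * r * g⁻¹ ∈ R) ∧ x ∈ (UT (k + 2) F).map pr ∧ y = g * x * g⁻¹} := by
  have hA := Tv_mem_closure k R hab h1 h2
  have hB := Tv_mem_closure k R hab.symm h2 h1
  have hw : ∀ t : F, pr (wE hab t) ∈ Subgroup.closure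
      {y : ProjectiveSpecialLinearGroup (Fin (k + 2)) F | ∃ g x : ProjectiveSpecialLinearGroup (Fin (k + 2)) F,
        (∀ r ∈ R, g * r * g⁻¹ ∈ R) ∧ x ∈ (UT (k + 2) F).map pr ∧ y = g * x * g⁻¹} := by
    intro t
    unfold wE
    rw [map_mul, map_mul]
    exact Subgroup.mul_mem _ (Subgroup.mul_mem _ (hA t) (hB _)) (hA t)
  unfold hE
  rw [map_mul, map_inv]
  exact Subgroup.mul_mem _ (hw t) (Subgroup.inv_mem _ (hw 1))

theorem wE_mem_FixV {a b : Fin (k + 2)} (hab : a ≠ b) (t : F) (c : Fin (k + 2)) (ha : a ≠ c)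
    (hb : b ≠ c) : wE hab t ∈ FixV (ev c : Fin (k + 2) → F) := by
  unfold wE
  exact Subgroup.mul_mem _ (Subgroup.mul_mem _ (Tv_mem_FixV hab t c hb)
    (Tv_mem_FixV hab.symm _ c ha)) (Tv_mem_FixV hab t c hb)

theorem wE_mem_FixR {a b : Fin (k + 2)} (hab : a ≠ b) (t : F) (c : Fin (k + 2)) (ha : a ≠ c)
    (hb : b ≠ c) : wE hab t ∈ FixR (ev c : Fin (k + 2) → F) := by
  unfold wE
  exact Subgroup.mul_mem _ (Subgroup.mul_mem _ (Tv_mem_FixR hab t c ha)
    (Tv_mem_FixR hab.symm _ c hb)) (Tv_mem_FixR hab t c ha)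

theorem norm_R0 (s : SpecialLinearGroup (Fin (k + 2)) F)
    (hs : s ∈ FixV (ev (0 : Fin (k + 2)) : Fin (k + 2) → F)) :
    ∀ r ∈ R0 (F := F) k, pr s * r * (pr s)⁻¹ ∈ R0 (F := F) k := by
  rintro _ ⟨x, hx, rfl⟩
  rw [← map_inv, ← map_mul, ← map_mul]
  exact ⟨_, conj_mem_TC_of_FixV s x _ hs hx, rfl⟩

theorem norm_R1 (s : SpecialLinearGroup (Fin (k + 2)) F)
    (hs : s ∈ FixR (ev (Fin.last (k + 1)) : Fin (k + 2) → F)) :
    ∀ r ∈ R1 (F := F) k, pr s * r * (pr s)⁻¹ ∈ R1 (F := F) k := by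
  rintro _ ⟨x, hx, rfl⟩
  rw [← map_inv, ← map_mul, ← map_mul]
  exact ⟨_, conj_mem_TA_of_FixR s x _ hs hx, rfl⟩

theorem hW0 (h : ProjectiveSpecialLinearGroup (Fin (k + 2)) F) (hh : h ∈ H0 (F := F) k) :
    h ∈ Subgroup.closure
      {y : ProjectiveSpecialLinearGroup (Fin (k + 2)) F | ∃ g x : ProjectiveSpecialLinearGroup (Fin (k + 2)) F,
        (∀ r ∈ R0 (F := F) k, g * r * g⁻¹ ∈ R0 (F := F) k) ∧ x ∈ (UT (k + 2) F).map pr ∧
          y = g * x * g⁻¹} := by
  obtain ⟨a, b, hab, t, ha, hb, -, rfl⟩ := hh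
  exact hE_mem_closure k _ hab (norm_R0 k _ (wE_mem_FixV k hab 1 0 ha hb))
    (norm_R0 k _ (wE_mem_FixV k hab.symm 1 0 hb ha)) t

theorem hW1 (h : ProjectiveSpecialLinearGroup (Fin (k + 2)) F) (hh : h ∈ H1 (F := F) k) :
    h ∈ Subgroup.closure
      {y : ProjectiveSpecialLinearGroup (Fin (k + 2)) F | ∃ g x : ProjectiveSpecialLinearGroup (Fin (k + 2)) F,
        (∀ r ∈ R1 (F := F) k, g * r * g⁻¹ ∈ R1 (F := F) k) ∧ x ∈ (UT (k + 2) F).map pr ∧
          y = g * x * g⁻¹} := by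
  obtain ⟨a, b, hab, t, ha, hb, -, rfl⟩ := hh
  exact hE_mem_closure k _ hab (norm_R1 k _ (wE_mem_FixR k hab 1 _ ha hb))
    (norm_R1 k _ (wE_mem_FixR k hab.symm 1 _ hb ha)) t

theorem det_upper (s : SpecialLinearGroup (Fin (k + 2)) F)
    (hup : ∀ i j : Fin (k + 2), j < i → s.1 i j = 0) : ∏ i, s.1 i i = 1 := by
  have h1 : s.1.BlockTriangular id := fun i j hij => hup i j hij
  rw [← Matrix.det_of_upperTriangular h1]
  exact s.2

/-- Upper triangular matrices of determinant one lie in any subgroup containing `UT` and the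
torus elements `h_{ab}(t)` of the two Levi factors. -/
theorem mem_of_upper (hk : 1 ≤ k) (M : Subgroup (ProjectiveSpecialLinearGroup (Fin (k + 2)) F))
    (hU : (UT (k + 2) F).map pr ≤ M) (hH0 : H0 (F := F) k ⊆ M) (hH1 : H1 (F := F) k ⊆ M) :
    ∀ (d m : ℕ), m + d = k + 1 → ∀ s : SpecialLinearGroup (Fin (k + 2)) F,
      (∀ i j : Fin (k + 2), j < i → s.1 i j = 0) →
      (∀ i : Fin (k + 2), i.val < m → s.1 i i = 1) → pr s ∈ M := by
  intro d
  induction d with
  | zero =>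
    intro m hm s hup hdiag
    apply hU
    refine ⟨s, ⟨hup, ?_⟩, rfl⟩
    have hdet := det_upper k s hup
    rw [Fin.prod_univ_castSucc] at hdet
    have h1 : ∏ i : Fin (k + 1), s.1 (Fin.castSucc i) (Fin.castSucc i) = 1 := by
      apply Finset.prod_eq_one
      intro i _
      apply hdiag
      have := i.2
      simp only [Fin.val_castSucc]
      omega
    rw [h1, one_mul] at hdet
    intro i
    by_cases hi : i = Fin.last (k + 1)
    · rw [hi]; exact hdet
    · apply hdiag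
      have := Fin.lt_last_iff_ne_last.mpr hi
      have h2 : i.val < k + 1 := this
      omega
  | succ d ih =>
    intro m hm s hup hdiag
    obtain ⟨a, ha⟩ : ∃ a : Fin (k + 2), a.val = m := ⟨⟨m, by omega⟩, rfl⟩
    obtain ⟨b, hb⟩ : ∃ b : Fin (k + 2), b.val = m + 1 := ⟨⟨m + 1, by omega⟩, rfl⟩
    have hab : a ≠ b := by
      intro h
      rw [h] at ha
      omega
    have hsa : s.1 a a ≠ 0 := by
      have hdet := det_upper k s hup
      intro h0
      have : ∏ i, s.1 i i = 0 := Finset.prod_eq_zero (Finset.mem_univ a) h0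
      rw [this] at hdet
      exact zero_ne_one hdet
    have ht : (s.1 a a)⁻¹ ≠ 0 := inv_ne_zero hsa
    have hmem : pr (hE hab (s.1 a a)⁻¹) ∈ M := by
      by_cases hm0 : m = 0
      · apply hH1
        refine ⟨a, b, hab, _, ?_, ?_, ht, rfl⟩
        · intro h
          have := congrArg Fin.val h
          rw [ha, Fin.val_last] at this
          omega
        · intro h
          have := congrArg Fin.val h
          rw [hb, Fin.val_last] at this
          omega
      · apply hH0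
        refine ⟨a, b, hab, _, ?_, ?_, ht, rfl⟩
        · intro h
          have := congrArg Fin.val h
          rw [ha] at this
          simp at this
          omega
        · intro h
          have := congrArg Fin.val h
          rw [hb] at this
          simp at this
    have h2 := ih (m + 1) (by omega) (hE hab (s.1 a a)⁻¹ * s)
      (by
        intro i j hji
        rw [hE_mul_apply hab _ ht, hup i j hji, mul_zero])
      (by
        intro i hi
        rw [hE_mul_apply hab _ ht]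
        by_cases hia : i = a
        · rw [if_pos hia, hia, inv_mul_cancel₀ hsa]
        · have hib : i ≠ b := by
            intro h
            rw [h, hb] at hi
            omega
          rw [if_neg hia, if_neg hib, one_mul]
          apply hdiag
          have : i.val ≠ m := fun h => hia (Fin.ext (h.trans ha.symm))
          omega)
    rw [map_mul] at h2
    have h3 : pr s = (pr (hE hab (s.1 a a)⁻¹))⁻¹ * (pr (hE hab (s.1 a a)⁻¹) * pr s) := by group
    rw [h3]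
    exact Subgroup.mul_mem _ (Subgroup.inv_mem _ hmem) h2

theorem hgen_psl [CharP F p] (hF : Fintype.card F = p ^ f) (hk : 1 ≤ k)
    (M : Subgroup (ProjectiveSpecialLinearGroup (Fin (k + 2)) F))
    (hU : (UT (k + 2) F).map pr ≤ M) (hH0 : H0 (F := F) k ⊆ M) (hH1 : H1 (F := F) k ⊆ M)
    (g : ProjectiveSpecialLinearGroup (Fin (k + 2)) F)
    (hg : ∀ x ∈ (UT (k + 2) F).map pr, g * x * g⁻¹ ∈ (UT (k + 2) F).map pr) : g ∈ M := by
  haveI : Finite (SpecialLinearGroup (Fin (k + 2)) F) :=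
    Finite.of_injective (fun g => g.1) Subtype.val_injective
  haveI : Finite (ProjectiveSpecialLinearGroup (Fin (k + 2)) F) :=
    Finite.of_surjective _ pr_surj
  obtain ⟨s, rfl⟩ := pr_surj g
  have h1 := conj_inv_mem _ (pr s) hg
  have h2 : ∀ u ∈ UT (k + 2) F, s⁻¹ * u * s ∈ UT (k + 2) F := by
    intro u hu
    obtain ⟨a, ha⟩ := UT_pow hF u hu
    apply mem_UT_of_pr_mem hF _ a (by
      have := conj_pow_eq_one s⁻¹ u _ ha
      rwa [inv_inv] at this)
    have := h1 (pr u) ⟨u, hu, rfl⟩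
    rwa [← map_inv, ← map_mul, ← map_mul] at this
  exact mem_of_upper k hk M hU hH0 hH1 (k + 1) 0 (by omega) s (upper_of_conj s h2)
    (fun i hi => absurd hi (Nat.not_lt_zero _))

/-- The hypotheses of the Levi criterion hold for `PSL_n(F)`, `n ≥ 3`. -/
theorem leviHyp_psl [CharP F p] (hF : Fintype.card F = p ^ f) (hk : 1 ≤ k) :
    LeviHyp ((UT (k + 2) F).map (pr (n := k + 2) (F := F)))
      (fun j : Bool => cond j (R1 (F := F) k) (R0 (F := F) k))
      (fun j : Bool => cond j (H1 (F := F) k) (H0 (F := F) k)) where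
  hne := Ub_ne_bot k
  hsc := hsc_psl k hF hk
  hR := by
    intro j
    cases j
    · exact Subgroup.map_mono (TC_le_UT k)
    · exact Subgroup.map_mono (TA_le_UT k)
  hwc := by
    intro j
    cases j
    · exact hwc0 k hF
    · exact hwc1 k hF
  hcent := by
    intro j
    cases j
    · exact hcent0 k hF
    · exact hcent1 k hF
  hH := by
    intro j
    cases j
    · rintro _ ⟨a, b, hab, t, -, -, ht, rfl⟩ x hx
      exact hH_psl k hab t ht x hx
    · rintro _ ⟨a, b, hab, t, -, -, ht, rfl⟩ x hx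
      exact hH_psl k hab t ht x hx
  hW := by
    intro j
    cases j
    · exact hW0 k
    · exact hW1 k
  hgen := by
    intro M hU _ hH g hg
    exact hgen_psl k hF hk M hU (hH false) (hH true) g hg

/-- **The `p`-fusion system of `PSL_n(F)`, `n ≥ 3`, `F` finite of characteristic `p`, is simple.** -/
theorem psl_fusion_simple {K : Type*} [Field K] [Fintype K] (p : ℕ) [Fact p.Prime] [CharP K p]
    (n : ℕ) (hn : 3 ≤ n) (S : Sylow p (Matrix.ProjectiveSpecialLinearGroup (Fin n) K)) :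
    (Cfsg.groupFusionSystem (S : Subgroup (Matrix.ProjectiveSpecialLinearGroup (Fin n) K))).IsSimple p := by
  obtain ⟨f, -, hF⟩ := FiniteField.card K p
  obtain ⟨k, rfl⟩ : ∃ k, n = k + 2 := ⟨n - 2, by omega⟩
  haveI : Finite (SpecialLinearGroup (Fin (k + 2)) K) :=
    Finite.of_injective (fun g => g.1) Subtype.val_injective
  haveI : Finite (ProjectiveSpecialLinearGroup (Fin (k + 2)) K) :=
    Finite.of_surjective _ pr_surj
  have hP : IsPGroup p ((UT (k + 2) K).map (pr (n := k + 2) (F := K))) := (isPGroup_UT hF).map pr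
  have hI : ¬ p ∣ ((UT (k + 2) K).map (pr (n := k + 2) (F := K))).index := fun h =>
    index_UT hF (by omega) (h.trans (Subgroup.index_map_dvd _ pr_surj))
  exact isSimple_of_leviHyp_sylow (hP.toSylow hI) _ _ (leviHyp_psl k hF (by omega)) S

end Cfsg.Agent.Lib.helper47.PSLnFus
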