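import Mathlib
import Cfsg.Agent.Lib.helper47.PSLnFusD
import Cfsg.Agent.Lib.helper47.FusionLevi

/-!
The special unitary group for the antidiagonal Hermitian form on `K^n` (model `UG n σ`, a subgroup
of `SL_n(K)`): adjoint `sharp`, block shapes `PBm`/`RBm` (parabolic / unipotent radical shapes for a
weight function on the indices), diagonal elements, permutation matrices.
-/

set_option autoImplicit false

namespace Cfsg.Agent.Lib.helper47.UFus

open Matrix Cfsg.Agent.Lib.helper47.PSLn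

variable {n : ℕ} {K : Type*} [Field K]

/-- The adjoint for the antidiagonal form: `sharp A = J (A^σ)ᵀ J`. -/
def sharp (σ : K →+* K) (A : Matrix (Fin n) (Fin n) K) : Matrix (Fin n) (Fin n) K :=
  Matrix.of fun a b => σ (A (Fin.rev b) (Fin.rev a))

theorem sharp_apply (σ : K →+* K) (A : Matrix (Fin n) (Fin n) K) (a b : Fin n) :
    sharp σ A a b = σ (A (Fin.rev b) (Fin.rev a)) := rfl

theorem sharp_mul (σ : K →+* K) (A B : Matrix (Fin n) (Fin n) K) :
    sharp σ (A * B) = sharp σ B * sharp σ A := by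
  ext a b
  rw [sharp_apply, Matrix.mul_apply, Matrix.mul_apply, map_sum,
    ← Equiv.sum_comp Fin.revPerm (fun c => σ (A (Fin.rev b) c * B c (Fin.rev a)))]
  refine Finset.sum_congr rfl (fun c _ => ?_)
  simp only [Fin.revPerm_apply, map_mul, sharp_apply]
  exact mul_comm _ _

theorem sharp_one (σ : K →+* K) : sharp σ (1 : Matrix (Fin n) (Fin n) K) = 1 := by
  ext a b
  rw [sharp_apply, Matrix.one_apply, Matrix.one_apply]
  by_cases h : a = b
  · subst h; simp
  · rw [if_neg h, if_neg (fun h' => h (Fin.rev_injective h').symm), map_zero]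

theorem sharp_add (σ : K →+* K) (A B : Matrix (Fin n) (Fin n) K) :
    sharp σ (A + B) = sharp σ A + sharp σ B := by
  ext a b; simp [sharp_apply]

theorem sharp_sub (σ : K →+* K) (A B : Matrix (Fin n) (Fin n) K) :
    sharp σ (A - B) = sharp σ A - sharp σ B := by
  ext a b; simp [sharp_apply]

theorem sharp_smul (σ : K →+* K) (c : K) (A : Matrix (Fin n) (Fin n) K) :
    sharp σ (c • A) = σ c • sharp σ A := by
  ext a b; simp [sharp_apply]

theorem sharp_sharp (σ : K →+* K) (hσ2 : ∀ x, σ (σ x) = x) (A : Matrix (Fin n) (Fin n) K) :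
    sharp σ (sharp σ A) = A := by
  ext a b; simp [sharp_apply, hσ2]

theorem sharp_det (σ : K →+* K) (A : Matrix (Fin n) (Fin n) K) : (sharp σ A).det = σ A.det := by
  have h : sharp σ A = ((σ.mapMatrix A)ᵀ).submatrix Fin.revPerm Fin.revPerm := by
    ext a b; rfl
  rw [h, Matrix.det_submatrix_equiv_self, Matrix.det_transpose, ← RingHom.map_det]

theorem sharp_diagonal (σ : K →+* K) (d : Fin n → K) :
    sharp σ (Matrix.diagonal d) = Matrix.diagonal (fun a => σ (d (Fin.rev a))) := by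
  ext a b
  rw [sharp_apply, Matrix.diagonal_apply, Matrix.diagonal_apply]
  by_cases h : a = b
  · subst h; simp
  · rw [if_neg h, if_neg (fun h' => h (Fin.rev_injective h').symm), map_zero]

/-- The special unitary group of the antidiagonal form. -/
def UG (n : ℕ) {K : Type*} [Field K] (σ : K →+* K) : Subgroup (SpecialLinearGroup (Fin n) K) where
  carrier := {A | sharp σ A.1 * A.1 = 1}
  mul_mem' := by
    intro A B hA hB
    show sharp σ (A * B).1 * (A * B).1 = 1
    have hA' : sharp σ A.1 * A.1 = 1 := hA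
    have hB' : sharp σ B.1 * B.1 = 1 := hB
    rw [coe_mul', sharp_mul, Matrix.mul_assoc, ← Matrix.mul_assoc (sharp σ A.1), hA', Matrix.one_mul,
      hB']
  one_mem' := by
    show sharp σ (1 : SpecialLinearGroup (Fin n) K).1 * (1 : SpecialLinearGroup (Fin n) K).1 = 1
    rw [coe_one', sharp_one, Matrix.one_mul]
  inv_mem' := by
    intro A hA
    have hA' : sharp σ A.1 * A.1 = 1 := hA
    show sharp σ A⁻¹.1 * A⁻¹.1 = 1
    have h2 : sharp σ A⁻¹.1 * sharp σ A.1 = 1 := by rw [← sharp_mul, coe_mul_inv', sharp_one]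
    have h3 : sharp σ A⁻¹.1 = A.1 := by
      calc sharp σ A⁻¹.1 = sharp σ A⁻¹.1 * (sharp σ A.1 * A.1) := by rw [hA', Matrix.mul_one]
        _ = A.1 := by rw [← Matrix.mul_assoc, h2, Matrix.one_mul]
    rw [h3, coe_mul_inv']

variable {σ : K →+* K}

theorem mem_UG (A : SpecialLinearGroup (Fin n) K) : A ∈ UG n σ ↔ sharp σ A.1 * A.1 = 1 := Iff.rfl

theorem UG_inv_coe (A : SpecialLinearGroup (Fin n) K) (hA : A ∈ UG n σ) : A⁻¹.1 = sharp σ A.1 := by
  have h0 : sharp σ A.1 * A.1 = 1 := hA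
  have h1 : A.1 * sharp σ A.1 = 1 := mul_eq_one_comm.mp h0
  calc A⁻¹.1 = A⁻¹.1 * (A.1 * sharp σ A.1) := by rw [h1, Matrix.mul_one]
    _ = sharp σ A.1 := by rw [← Matrix.mul_assoc, coe_inv_mul', Matrix.one_mul]

theorem UG_inv_apply (A : SpecialLinearGroup (Fin n) K) (hA : A ∈ UG n σ) (a b : Fin n) :
    A⁻¹.1 a b = σ (A.1 (Fin.rev b) (Fin.rev a)) := by
  rw [UG_inv_coe A hA]; rfl

/-- Row relations. -/
theorem UG_row (A : SpecialLinearGroup (Fin n) K) (hA : A ∈ UG n σ) (a b : Fin n) :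
    ∑ c, A.1 a c * σ (A.1 (Fin.rev b) (Fin.rev c)) = if a = b then 1 else 0 := by
  have h1 := congrFun (congrFun (coe_mul_inv' A) a) b
  rw [Matrix.mul_apply, Matrix.one_apply] at h1
  rw [← h1]
  exact Finset.sum_congr rfl (fun c _ => by rw [UG_inv_apply A hA])

/-- Column relations. -/
theorem UG_col (A : SpecialLinearGroup (Fin n) K) (hA : A ∈ UG n σ) (a b : Fin n) :
    ∑ c, σ (A.1 (Fin.rev c) (Fin.rev a)) * A.1 c b = if a = b then 1 else 0 := by
  have h1 := congrFun (congrFun (coe_inv_mul' A) a) b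
  rw [Matrix.mul_apply, Matrix.one_apply] at h1
  rw [← h1]
  exact Finset.sum_congr rfl (fun c _ => by rw [UG_inv_apply A hA])

/-! ### Shapes -/

/-- Block upper triangular for the weight `b`. -/
def PBm (b : Fin n → ℕ) (M : Matrix (Fin n) (Fin n) K) : Prop := ∀ k i, b i < b k → M k i = 0

/-- Block upper unitriangular for the weight `b`. -/
def RBm (b : Fin n → ℕ) (M : Matrix (Fin n) (Fin n) K) : Prop :=
  ∀ k i, b i ≤ b k → M k i = (1 : Matrix (Fin n) (Fin n) K) k i

theorem PBm.one (b : Fin n → ℕ) : PBm b (1 : Matrix (Fin n) (Fin n) K) := fun k i h =>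
  Matrix.one_apply_ne (by rintro rfl; exact lt_irrefl _ h)

theorem PBm.mul {b : Fin n → ℕ} {M N : Matrix (Fin n) (Fin n) K} (hM : PBm b M) (hN : PBm b N) :
    PBm b (M * N) := by
  intro k i h
  rw [Matrix.mul_apply]
  apply Finset.sum_eq_zero
  intro c _
  by_cases hc : b c < b k
  · rw [hM k c hc, zero_mul]
  · rw [hN c i (lt_of_lt_of_le h (not_lt.mp hc)), mul_zero]

theorem RBm.pbm {b : Fin n → ℕ} {M : Matrix (Fin n) (Fin n) K} (hM : RBm b M) : PBm b M := by
  intro k i h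
  rw [hM k i h.le]
  exact Matrix.one_apply_ne (by rintro rfl; exact lt_irrefl _ h)

theorem RBm.one (b : Fin n → ℕ) : RBm b (1 : Matrix (Fin n) (Fin n) K) := fun _ _ _ => rfl

theorem RBm.mul {b : Fin n → ℕ} {M N : Matrix (Fin n) (Fin n) K} (hM : RBm b M) (hN : RBm b N) :
    RBm b (M * N) := by
  intro k i h
  rw [Matrix.mul_apply, Finset.sum_eq_single k]
  · rw [hM k k le_rfl, Matrix.one_apply_eq, one_mul, hN k i h]
  · intro c _ hck
    by_cases hc : b c ≤ b k
    · rw [hM k c hc, Matrix.one_apply_ne (Ne.symm hck), zero_mul]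
    · rw [hN c i (le_trans h (not_le.mp hc).le), Matrix.one_apply_ne, mul_zero]
      rintro rfl; exact hc h
  · intro h; exact absurd (Finset.mem_univ k) h

theorem RBm.conj {b : Fin n → ℕ} {s s' g : Matrix (Fin n) (Fin n) K} (hs : PBm b s)
    (hs' : PBm b s') (hss' : s * s' = 1) (hg : RBm b g) : RBm b (s * g * s') := by
  have e : s * g * s' = 1 + s * (g - 1) * s' := by
    rw [Matrix.mul_sub, Matrix.sub_mul, Matrix.mul_one, hss']; abel
  intro k i h
  rw [e, Matrix.add_apply, Matrix.mul_apply]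
  have h0 : ∑ c, (s * (g - 1)) k c * s' c i = 0 := by
    apply Finset.sum_eq_zero
    intro c _
    rw [Matrix.mul_apply, Finset.sum_mul]
    apply Finset.sum_eq_zero
    intro a _
    by_cases h1 : b a < b k
    · rw [hs k a h1, zero_mul, zero_mul]
    · by_cases h2 : b c ≤ b a
      · rw [Matrix.sub_apply, hg a c h2, sub_self, mul_zero, zero_mul]
      · rw [hs' c i (lt_of_le_of_lt (le_trans h (not_lt.mp h1)) (not_le.mp h2)), mul_zero]
  rw [h0, add_zero]

theorem finite_sl [Finite K] : Finite (SpecialLinearGroup (Fin n) K) :=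
  Finite.of_injective (fun g => g.1) Subtype.val_injective

theorem sl_inv_eq_pow [Finite K] (x : SpecialLinearGroup (Fin n) K) : x⁻¹ = x ^ (orderOf x - 1) := by
  have := finite_sl (n := n) (K := K)
  apply inv_eq_of_mul_eq_one_right
  rw [← pow_succ', Nat.sub_add_cancel (orderOf_pos x), pow_orderOf_eq_one]

theorem PBm_pow {b : Fin n → ℕ} (x : SpecialLinearGroup (Fin n) K) (hx : PBm b x.1) (m : ℕ) :
    PBm b (x ^ m).1 := by
  induction m with
  | zero => rw [pow_zero, coe_one']; exact PBm.one b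
  | succ m ih => rw [pow_succ, coe_mul']; exact ih.mul hx

theorem RBm_pow {b : Fin n → ℕ} (x : SpecialLinearGroup (Fin n) K) (hx : RBm b x.1) (m : ℕ) :
    RBm b (x ^ m).1 := by
  induction m with
  | zero => rw [pow_zero, coe_one']; exact RBm.one b
  | succ m ih => rw [pow_succ, coe_mul']; exact ih.mul hx

/-- The parabolic-shape subgroup of `SL_n(K)`. -/
def PBs (K : Type*) [Field K] [Finite K] (b : Fin n → ℕ) :
    Subgroup (SpecialLinearGroup (Fin n) K) where
  carrier := {s | PBm b s.1}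
  mul_mem' := fun {a c} ha hc => by
    show PBm b (a * c).1
    rw [coe_mul']; exact PBm.mul ha hc
  one_mem' := PBm.one b
  inv_mem' := by
    intro x hx
    show PBm b x⁻¹.1
    rw [sl_inv_eq_pow x]
    exact PBm_pow x hx _

/-- The radical-shape subgroup of `SL_n(K)`. -/
def RBs (K : Type*) [Field K] [Finite K] (b : Fin n → ℕ) :
    Subgroup (SpecialLinearGroup (Fin n) K) where
  carrier := {s | RBm b s.1}
  mul_mem' := fun {a c} ha hc => by
    show RBm b (a * c).1
    rw [coe_mul']; exact RBm.mul ha hc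
  one_mem' := RBm.one b
  inv_mem' := by
    intro x hx
    show RBm b x⁻¹.1
    rw [sl_inv_eq_pow x]
    exact RBm_pow x hx _

section fin

variable [Finite K]

theorem mem_PBs (b : Fin n → ℕ) (s : SpecialLinearGroup (Fin n) K) : s ∈ PBs K b ↔ PBm b s.1 :=
  Iff.rfl

theorem mem_RBs (b : Fin n → ℕ) (s : SpecialLinearGroup (Fin n) K) : s ∈ RBs K b ↔ RBm b s.1 :=
  Iff.rfl

theorem RBs_conj (b : Fin n → ℕ) (s g : SpecialLinearGroup (Fin n) K) (hs : s ∈ PBs K b)
    (hg : g ∈ RBs K b) : s * g * s⁻¹ ∈ RBs K b := by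
  show RBm b (s * g * s⁻¹).1
  rw [coe_mul', coe_mul']
  exact RBm.conj hs ((PBs K b).inv_mem hs) (coe_mul_inv' s) hg

theorem RBs_le_UT (b : Fin n → ℕ) (hb : Monotone b) : RBs K b ≤ UT n K := by
  intro s hs
  rw [mem_UT]
  refine ⟨fun i j hji => ?_, fun i => ?_⟩
  · rw [hs i j (hb hji.le)]
    exact Matrix.one_apply_ne (ne_of_gt hji)
  · rw [hs i i le_rfl, Matrix.one_apply_eq]

theorem mem_UT_iff (s : SpecialLinearGroup (Fin n) K) :
    s ∈ UT n K ↔ RBm (fun i : Fin n => i.val) s.1 := by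
  rw [mem_UT]
  constructor
  · rintro ⟨h1, h2⟩ k i hik
    have hik' : i.val ≤ k.val := hik
    rcases eq_or_lt_of_le hik' with h | h
    · have : i = k := Fin.ext h
      subst this
      rw [h2, Matrix.one_apply_eq]
    · have hlt : i < k := h
      rw [h1 k i hlt, Matrix.one_apply_ne (ne_of_gt hlt)]
  · intro h
    refine ⟨fun i j hji => ?_, fun i => ?_⟩
    · rw [h i j (le_of_lt hji)]
      exact Matrix.one_apply_ne (ne_of_gt hji)
    · rw [h i i le_rfl, Matrix.one_apply_eq]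

end fin

/-! ### Diagonal elements -/

theorem diag_ne_zero (s : SpecialLinearGroup (Fin n) K) (d : Fin n → K)
    (h : s.1 = Matrix.diagonal d) (a : Fin n) : d a ≠ 0 := by
  intro h0
  have h1 := s.2
  rw [h, Matrix.det_diagonal, Finset.prod_eq_zero (Finset.mem_univ a) h0] at h1
  exact zero_ne_one h1

theorem diag_inv (s : SpecialLinearGroup (Fin n) K) (d : Fin n → K)
    (h : s.1 = Matrix.diagonal d) : s⁻¹.1 = Matrix.diagonal (fun a => (d a)⁻¹) := by
  have h1 : s.1 * Matrix.diagonal (fun a => (d a)⁻¹) = 1 := by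
    rw [h, Matrix.diagonal_mul_diagonal]
    have : (fun i => d i * (d i)⁻¹) = fun _ => (1 : K) := by
      funext i; exact mul_inv_cancel₀ (diag_ne_zero s d h i)
    rw [this, Matrix.diagonal_one]
  calc s⁻¹.1 = s⁻¹.1 * (s.1 * Matrix.diagonal (fun a => (d a)⁻¹)) := by rw [h1, Matrix.mul_one]
    _ = _ := by rw [← Matrix.mul_assoc, coe_inv_mul', Matrix.one_mul]

theorem diag_conj_apply (s x : SpecialLinearGroup (Fin n) K) (d : Fin n → K)
    (h : s.1 = Matrix.diagonal d) (a b : Fin n) :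
    (s * x * s⁻¹).1 a b = d a * x.1 a b * (d b)⁻¹ := by
  rw [coe_mul', coe_mul', diag_inv s d h, h, Matrix.mul_diagonal, Matrix.diagonal_mul]

theorem diag_mem_UG (s : SpecialLinearGroup (Fin n) K) (d : Fin n → K)
    (h : s.1 = Matrix.diagonal d) (hd : ∀ a, σ (d (Fin.rev a)) * d a = 1) : s ∈ UG n σ := by
  rw [mem_UG, h, sharp_diagonal, Matrix.diagonal_mul_diagonal]
  have : (fun i => σ (d (Fin.rev i)) * d i) = fun _ => (1 : K) := funext hd
  rw [this, Matrix.diagonal_one]

theorem diag_conj_UT [Finite K] (s x : SpecialLinearGroup (Fin n) K) (d : Fin n → K)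
    (h : s.1 = Matrix.diagonal d) (hx : x ∈ UT n K) : s * x * s⁻¹ ∈ UT n K := by
  rw [mem_UT] at hx ⊢
  refine ⟨fun i j hji => ?_, fun i => ?_⟩
  · rw [diag_conj_apply s x d h, hx.1 i j hji, mul_zero, zero_mul]
  · rw [diag_conj_apply s x d h, hx.2 i, mul_one, mul_inv_cancel₀ (diag_ne_zero s d h i)]

/-! ### Permutation matrices -/

/-- The permutation matrix of `π`. -/
def Wm (K : Type*) [Field K] (π : Equiv.Perm (Fin n)) : Matrix (Fin n) (Fin n) K :=
  (1 : Matrix (Fin n) (Fin n) K).submatrix π id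

theorem Wm_apply (π : Equiv.Perm (Fin n)) (a b : Fin n) :
    Wm K π a b = if π a = b then 1 else 0 := by
  unfold Wm
  rw [Matrix.submatrix_apply, Matrix.one_apply]; rfl

theorem Wm_mul_apply (π : Equiv.Perm (Fin n)) (A : Matrix (Fin n) (Fin n) K) (a b : Fin n) :
    (Wm K π * A) a b = A (π a) b := by
  rw [Matrix.mul_apply, Finset.sum_eq_single (π a)]
  · rw [Wm_apply, if_pos rfl, one_mul]
  · intro c _ hc
    rw [Wm_apply, if_neg (Ne.symm hc), zero_mul]
  · intro h; exact absurd (Finset.mem_univ _) h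

theorem mul_Wm_apply (π : Equiv.Perm (Fin n)) (A : Matrix (Fin n) (Fin n) K) (a b : Fin n) :
    (A * Wm K π) a b = A a (π.symm b) := by
  rw [Matrix.mul_apply, Finset.sum_eq_single (π.symm b)]
  · rw [Wm_apply, if_pos (π.apply_symm_apply b), mul_one]
  · intro c _ hc
    rw [Wm_apply, if_neg, mul_zero]
    intro h
    exact hc (by rw [← h, π.symm_apply_apply])
  · intro h; exact absurd (Finset.mem_univ _) h

theorem det_Wm (π : Equiv.Perm (Fin n)) : (Wm K π).det = ((Equiv.Perm.sign π : ℤˣ) : ℤ) := by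
  unfold Wm
  rw [Matrix.det_permute, Matrix.det_one, mul_one]

theorem Wm_mul_Wm (π : Equiv.Perm (Fin n)) (hπ : ∀ a, π (π a) = a) : Wm K π * Wm K π = 1 := by
  ext a b
  rw [Wm_mul_apply, Wm_apply, hπ, Matrix.one_apply]

theorem sharp_Wm (π : Equiv.Perm (Fin n)) (hπ : ∀ a, π (π a) = a)
    (hrev : ∀ a, π (Fin.rev a) = Fin.rev (π a)) : sharp σ (Wm K π) = Wm K π := by
  ext a b
  rw [sharp_apply, Wm_apply, Wm_apply, hrev]
  by_cases h : π a = b
  · rw [if_pos h, if_pos (by rw [← h, hπ]), map_one]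
  · rw [if_neg h, if_neg, map_zero]
    intro h'
    apply h
    have := Fin.rev_injective h'
    rw [← this, hπ]

/-- The permutation matrix as an element of `SL_n(K)`, for an even permutation. -/
def WS (K : Type*) [Field K] (π : Equiv.Perm (Fin n)) (hs : Equiv.Perm.sign π = 1) :
    SpecialLinearGroup (Fin n) K :=
  ⟨Wm K π, by rw [det_Wm, hs]; simp⟩

theorem WS_coe (π : Equiv.Perm (Fin n)) (hs : Equiv.Perm.sign π = 1) : (WS K π hs).1 = Wm K π := rfl

theorem WS_mem_UG (π : Equiv.Perm (Fin n)) (hs : Equiv.Perm.sign π = 1) (hπ : ∀ a, π (π a) = a)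
    (hrev : ∀ a, π (Fin.rev a) = Fin.rev (π a)) : WS K π hs ∈ UG n σ := by
  rw [mem_UG, WS_coe, sharp_Wm π hπ hrev, Wm_mul_Wm π hπ]

theorem WS_inv_coe (π : Equiv.Perm (Fin n)) (hs : Equiv.Perm.sign π = 1) (hπ : ∀ a, π (π a) = a) :
    (WS K π hs)⁻¹.1 = Wm K π := by
  calc (WS K π hs)⁻¹.1 = (WS K π hs)⁻¹.1 * (Wm K π * Wm K π) := by
        rw [Wm_mul_Wm π hπ, Matrix.mul_one]
    _ = Wm K π := by
        rw [← Matrix.mul_assoc, ← WS_coe π hs, coe_inv_mul', Matrix.one_mul]

theorem WS_conj_apply (π : Equiv.Perm (Fin n)) (hs : Equiv.Perm.sign π = 1)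
    (hπ : ∀ a, π (π a) = a) (x : SpecialLinearGroup (Fin n) K) (a b : Fin n) :
    (WS K π hs * x * (WS K π hs)⁻¹).1 a b = x.1 (π a) (π b) := by
  have e : π.symm b = π b := by rw [Equiv.symm_apply_eq, hπ]
  rw [coe_mul', coe_mul', WS_inv_coe π hs hπ, WS_coe, mul_Wm_apply, Wm_mul_apply, e]

/-- The double transposition `(a c)(a' c')`. -/
def dsw (a c : Fin n) : Equiv.Perm (Fin n) :=
  Equiv.swap a c * Equiv.swap (Fin.rev a) (Fin.rev c)

theorem dsw_comm (a c : Fin n) (h1 : a ≠ c) (h2 : a ≠ Fin.rev a) (h3 : a ≠ Fin.rev c)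
    (h4 : c ≠ Fin.rev c) :
    Equiv.swap a c * Equiv.swap (Fin.rev a) (Fin.rev c) =
      Equiv.swap (Fin.rev a) (Fin.rev c) * Equiv.swap a c := by
  apply Equiv.Perm.Disjoint.commute
  apply Equiv.Perm.disjoint_swap_swap
  have h5 : c ≠ Fin.rev a := fun h => h3 (by rw [h, Fin.rev_rev])
  have h6 : Fin.rev a ≠ Fin.rev c := fun h => h1 (Fin.rev_injective h)
  simp [h1, h2, h3, h4, h5, h6]

theorem dsw_sign (a c : Fin n) (h1 : a ≠ c) : Equiv.Perm.sign (dsw a c) = 1 := by
  unfold dsw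
  rw [map_mul, Equiv.Perm.sign_swap h1,
    Equiv.Perm.sign_swap (fun h => h1 (Fin.rev_injective h))]
  rfl

theorem dsw_invol (a c : Fin n) (h1 : a ≠ c) (h2 : a ≠ Fin.rev a) (h3 : a ≠ Fin.rev c)
    (h4 : c ≠ Fin.rev c) (x : Fin n) : dsw a c (dsw a c x) = x := by
  have h : dsw a c * dsw a c = 1 := by
    unfold dsw
    calc Equiv.swap a c * Equiv.swap (Fin.rev a) (Fin.rev c) *
          (Equiv.swap a c * Equiv.swap (Fin.rev a) (Fin.rev c))
        = Equiv.swap a c * (Equiv.swap (Fin.rev a) (Fin.rev c) * Equiv.swap a c) *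
          Equiv.swap (Fin.rev a) (Fin.rev c) := by group
      _ = Equiv.swap a c * (Equiv.swap a c * Equiv.swap (Fin.rev a) (Fin.rev c)) *
          Equiv.swap (Fin.rev a) (Fin.rev c) := by rw [dsw_comm a c h1 h2 h3 h4]
      _ = (Equiv.swap a c * Equiv.swap a c) *
          (Equiv.swap (Fin.rev a) (Fin.rev c) * Equiv.swap (Fin.rev a) (Fin.rev c)) := by group
      _ = 1 := by rw [Equiv.swap_mul_self, Equiv.swap_mul_self, one_mul]
  have := congrArg (fun f : Equiv.Perm (Fin n) => f x) h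
  simpa using this

theorem dsw_rev (a c : Fin n) (h1 : a ≠ c) (h2 : a ≠ Fin.rev a) (h3 : a ≠ Fin.rev c)
    (h4 : c ≠ Fin.rev c) (x : Fin n) : dsw a c (Fin.rev x) = Fin.rev (dsw a c x) := by
  have e1 : Equiv.swap (Fin.rev a) (Fin.rev c) = Fin.revPerm * Equiv.swap a c * Fin.revPerm⁻¹ := by
    rw [← Equiv.swap_apply_apply]; rfl
  have e2 : Equiv.swap a c = Fin.revPerm * Equiv.swap (Fin.rev a) (Fin.rev c) * Fin.revPerm⁻¹ := by
    rw [← Equiv.swap_apply_apply]
    simp [Fin.revPerm_apply]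
  have h : dsw a c * Fin.revPerm = Fin.revPerm * dsw a c := by
    unfold dsw
    calc Equiv.swap a c * Equiv.swap (Fin.rev a) (Fin.rev c) * Fin.revPerm
        = Equiv.swap (Fin.rev a) (Fin.rev c) * Equiv.swap a c * Fin.revPerm := by
          rw [dsw_comm a c h1 h2 h3 h4]
      _ = (Fin.revPerm * Equiv.swap a c * Fin.revPerm⁻¹) *
          (Fin.revPerm * Equiv.swap (Fin.rev a) (Fin.rev c) * Fin.revPerm⁻¹) * Fin.revPerm := by
          rw [← e1, ← e2]
      _ = Fin.revPerm * (Equiv.swap a c * Equiv.swap (Fin.rev a) (Fin.rev c)) := by group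
  have := congrArg (fun f : Equiv.Perm (Fin n) => f x) h
  simpa [Fin.revPerm_apply] using this

theorem dsw_apply_left (a c : Fin n) (h2 : a ≠ Fin.rev a) (h3 : a ≠ Fin.rev c) :
    dsw a c a = c := by
  unfold dsw
  rw [Equiv.Perm.mul_apply, Equiv.swap_apply_of_ne_of_ne h2 h3, Equiv.swap_apply_left]

theorem dsw_apply_right (a c : Fin n) (h3 : a ≠ Fin.rev c) (h4 : c ≠ Fin.rev c) :
    dsw a c c = a := by
  unfold dsw
  have h5 : c ≠ Fin.rev a := fun h => h3 (by rw [h, Fin.rev_rev])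
  rw [Equiv.Perm.mul_apply, Equiv.swap_apply_of_ne_of_ne h5 h4, Equiv.swap_apply_right]

theorem dsw_apply_of_ne (a c x : Fin n) (h1 : x ≠ a) (h2 : x ≠ c) (h3 : x ≠ Fin.rev a)
    (h4 : x ≠ Fin.rev c) : dsw a c x = x := by
  unfold dsw
  rw [Equiv.Perm.mul_apply, Equiv.swap_apply_of_ne_of_ne h3 h4, Equiv.swap_apply_of_ne_of_ne h1 h2]

end Cfsg.Agent.Lib.helper47.UFus
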