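import Mathlib
import Cfsg.Agent.Lib.helper47.FusionLevi

/-!
The hypotheses of the simplicity criterion pass to a quotient by a central subgroup without
torsion of the relevant exponent.
-/

set_option autoImplicit false

namespace Cfsg.Agent.Lib.helper47.FusionLevi

open Cfsg

theorem LeviHyp.mapQuot {G G' : Type*} [Group G] [Group G'] (π : G →* G')
    (hπ : Function.Surjective π) {S : Subgroup G} {ι : Type*} {R : ι → Subgroup G}
    {H : ι → Set G} (hyp : LeviHyp S R H)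
    (hc : ∀ z, π z = 1 → ∀ g, g * z = z * g)
    (N : ℕ) (hN : ∀ x ∈ S, x ^ N = 1) (hk : ∀ z, π z = 1 → z ^ N = 1 → z = 1) :
    LeviHyp (S.map π) (fun j => (R j).map π) (fun j => π '' H j) := by
  obtain ⟨hne, hsc, hR, hwc, hcent, hH, hW, hgen⟩ := hyp
  have hSk : ∀ z ∈ S, π z = 1 → z = 1 := fun z hz h => hk z h (hN z hz)
  have hconj : ∀ g x : G, π (g * x * g⁻¹) = π g * π x * (π g)⁻¹ := by
    intro g x
    rw [map_mul, map_mul, map_inv]
  have hlift : ∀ x ∈ S, ∀ g : G, π (g * x * g⁻¹) ∈ S.map π → g * x * g⁻¹ ∈ S := by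
    intro x hx g hgx
    obtain ⟨s, hs, hsx⟩ := hgx
    have hz : π (s⁻¹ * (g * x * g⁻¹)) = 1 := by
      rw [map_mul, map_inv, hsx, inv_mul_cancel]
    have hzN : (s⁻¹ * (g * x * g⁻¹)) ^ N = 1 := by
      have hcomm : Commute s (s⁻¹ * (g * x * g⁻¹)) := hc _ hz s
      have h1 : (s * (s⁻¹ * (g * x * g⁻¹))) ^ N = s ^ N * (s⁻¹ * (g * x * g⁻¹)) ^ N :=
        hcomm.mul_pow N
      have h2 : s * (s⁻¹ * (g * x * g⁻¹)) = g * x * g⁻¹ := by group
      rw [h2, hN s hs, one_mul] at h1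
      rw [← h1, conj_pow, hN x hx]
      group
    have hz1 := hk _ hz hzN
    have h3 : g * x * g⁻¹ = s := by
      have h4 : s * (s⁻¹ * (g * x * g⁻¹)) = s * 1 := by rw [hz1]
      rw [mul_one] at h4
      rw [← h4]
      group
    rw [h3]
    exact hs
  refine ⟨?_, ?_, ?_, ?_, ?_, ?_, ?_, ?_⟩
  · intro h
    apply hne
    rw [eq_bot_iff]
    intro x hx
    rw [Subgroup.mem_bot]
    apply hSk x hx
    have h1 : π x ∈ S.map π := ⟨x, hx, rfl⟩
    rw [h] at h1
    exact Subgroup.mem_bot.mp h1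
  · intro T hT hT0 hcl
    have h1 : T.comap π ⊓ S = S := by
      apply hsc
      · exact inf_le_right
      · intro hbot
        apply hT0
        rw [eq_bot_iff]
        intro t ht
        obtain ⟨s, hs, rfl⟩ := hT ht
        have h2 : s ∈ T.comap π ⊓ S := ⟨ht, hs⟩
        rw [hbot, Subgroup.mem_bot] at h2
        rw [h2, map_one]
        exact Subgroup.mem_bot.mpr rfl
      · rintro x ⟨hxT, hxS⟩ g hg
        refine ⟨?_, hg⟩
        show π (g * x * g⁻¹) ∈ T
        rw [hconj]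
        apply hcl (π x) hxT (π g)
        rw [← hconj]
        exact ⟨_, hg, rfl⟩
    apply le_antisymm hT
    rintro _ ⟨s, hs, rfl⟩
    rw [← h1] at hs
    exact hs.1
  · intro j
    exact Subgroup.map_mono (hR j)
  · intro j g' hg' x' hx'
    obtain ⟨g, rfl⟩ := hπ g'
    obtain ⟨x, hx, rfl⟩ := hx'
    have hnorm : ∀ y ∈ R j, g * y * g⁻¹ ∈ S := fun y hy =>
      hlift y (hR j hy) g (by
        have := hg' (π y) ⟨y, hy, rfl⟩
        rwa [← hconj] at this)
    exact ⟨g * x * g⁻¹, hwc j g hnorm x hx, hconj g x⟩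
  · intro j c' hc' hcc
    obtain ⟨c, hcS, rfl⟩ := hc'
    refine ⟨c, hcent j c hcS ?_, rfl⟩
    intro x hx
    have h1 := hcc (π x) ⟨x, hx, rfl⟩
    have h2 : π (c * x * c⁻¹ * x⁻¹) = 1 := by
      rw [map_mul, hconj, map_inv, h1, mul_inv_cancel]
    have h3 : c * x * c⁻¹ * x⁻¹ ∈ S :=
      S.mul_mem (S.mul_mem (S.mul_mem hcS (hR j hx)) (S.inv_mem hcS)) (S.inv_mem (hR j hx))
    exact mul_inv_eq_one.mp (hSk _ h3 h2)
  · rintro j _ ⟨h, hh, rfl⟩ _ ⟨x, hx, rfl⟩
    exact ⟨h * x * h⁻¹, hH j h hh x hx, hconj h x⟩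
  · rintro j _ ⟨h, hh, rfl⟩
    have h1 := hW j h hh
    have h2 : Subgroup.closure
        {y : G | ∃ g x : G, (∀ r ∈ R j, g * r * g⁻¹ ∈ R j) ∧ x ∈ S ∧ y = g * x * g⁻¹} ≤
        (Subgroup.closure {y : G' | ∃ g x : G',
          (∀ r ∈ (R j).map π, g * r * g⁻¹ ∈ (R j).map π) ∧
          x ∈ S.map π ∧ y = g * x * g⁻¹}).comap π := by
      rw [Subgroup.closure_le]
      rintro y ⟨g, x, hg, hx, rfl⟩
      apply Subgroup.subset_closure
      refine ⟨π g, π x, ?_, ⟨x, hx, rfl⟩, hconj g x⟩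
      rintro _ ⟨r, hr, rfl⟩
      exact ⟨g * r * g⁻¹, hg r hr, hconj g r⟩
    exact h2 h1
  · intro M hSM hCM hHM g' hg'
    obtain ⟨g, rfl⟩ := hπ g'
    have h1 : g ∈ M.comap π := by
      apply hgen (M.comap π)
      · intro s hs
        exact hSM ⟨s, hs, rfl⟩
      · intro c hc'
        apply hCM
        rintro _ ⟨x, hx, rfl⟩
        rw [← hconj, hc' x hx]
      · intro j h hh
        exact hHM j ⟨h, hh, rfl⟩
      · intro x hx
        apply hlift x hx g
        have := hg' (π x) ⟨x, hx, rfl⟩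
        rwa [← hconj] at this
    exact h1

end Cfsg.Agent.Lib.helper47.FusionLevi
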