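import Mathlib
import Cfsg.Agent.Lib.helper47.UFusA

/-!
The unitary "Heisenberg" elements `q_a(v, t) : x ↦ x + (v·x) e_a − x_{a'} w + t x_{a'} e_a`
(`w = σ(v ∘ rev)`, `a' = rev a`) of the antidiagonal unitary group.
-/

set_option autoImplicit false

namespace Cfsg.Agent.Lib.helper47.UFus

open Matrix Cfsg.Agent.Lib.helper47.PSLn

variable {n : ℕ} {K : Type*} [Field K]

/-- The vector `σ(v ∘ rev)`. -/
def wv (σ : K →+* K) (v : Fin n → K) : Fin n → K := fun k => σ (v (Fin.rev k))

theorem wv_apply (σ : K →+* K) (v : Fin n → K) (k : Fin n) : wv σ v k = σ (v (Fin.rev k)) := rfl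

theorem wv_ev (σ : K →+* K) (a : Fin n) : wv σ (ev a : Fin n → K) = ev (Fin.rev a) := by
  funext k
  rw [wv_apply, ev_apply, ev_apply]
  by_cases h : k = Fin.rev a
  · rw [if_pos h, if_pos (by rw [h, Fin.rev_rev]), map_one]
  · rw [if_neg h, if_neg, map_zero]
    intro h'
    exact h (by rw [← h', Fin.rev_rev])

theorem wv_wv (σ : K →+* K) (hσ2 : ∀ x, σ (σ x) = x) (v : Fin n → K) : wv σ (wv σ v) = v := by
  funext k
  rw [wv_apply, wv_apply, hσ2, Fin.rev_rev]

theorem sharp_vecMulVec (σ : K →+* K) (x y : Fin n → K) :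
    sharp σ (vecMulVec x y) = vecMulVec (wv σ y) (wv σ x) := by
  ext a b
  rw [sharp_apply, vecMulVec_apply, vecMulVec_apply, map_mul, wv_apply, wv_apply, mul_comm]

/-- The matrix of `q_a(v, t)`. -/
def qM (σ : K →+* K) (a : Fin n) (v : Fin n → K) (t : K) : Matrix (Fin n) (Fin n) K :=
  1 + vecMulVec (ev a) v - vecMulVec (wv σ v) (ev (Fin.rev a)) +
    t • vecMulVec (ev a) (ev (Fin.rev a))

variable {σ : K →+* K}

theorem qM_apply (a : Fin n) (v : Fin n → K) (t : K) (k l : Fin n) :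
    qM σ a v t k l = (1 : Matrix (Fin n) (Fin n) K) k l + (if k = a then v l else 0) -
      (if l = Fin.rev a then σ (v (Fin.rev k)) else 0) +
      (if k = a ∧ l = Fin.rev a then t else 0) := by
  unfold qM
  rw [Matrix.add_apply, Matrix.sub_apply, Matrix.add_apply, Matrix.smul_apply, vecMulVec_apply,
    vecMulVec_apply, vecMulVec_apply, ev_apply, ev_apply, wv_apply]
  by_cases hk : k = a <;> by_cases hl : l = Fin.rev a <;> simp [hk, hl]

section rel

variable (a : Fin n) (ha : a ≠ Fin.rev a) (v : Fin n → K) (hva : v a = 0)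

include ha in
theorem rel_G (x y : Fin n → K) :
    vecMulVec x (ev (Fin.rev a) : Fin n → K) * vecMulVec (ev a : Fin n → K) y = 0 := by
  rw [vecMulVec_mul_vecMulVec, ev_dot ha, zero_smul]
  ext i j; simp [vecMulVec_apply]

include hva in
theorem rel_E (x y : Fin n → K) :
    vecMulVec x v * vecMulVec (ev a : Fin n → K) y = 0 := by
  rw [vecMulVec_mul_vecMulVec, dot_ev_apply, hva, zero_smul]
  ext i j; simp [vecMulVec_apply]

include hva in
theorem rel_F (x y : Fin n → K) :
    vecMulVec x (ev (Fin.rev a) : Fin n → K) * vecMulVec (wv σ v) y = 0 := by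
  rw [vecMulVec_mul_vecMulVec, ev_dot_apply, wv_apply, Fin.rev_rev, hva, map_zero, zero_smul]
  ext i j; simp [vecMulVec_apply]

theorem rel_EF (x y : Fin n → K) :
    vecMulVec x v * vecMulVec (wv σ v) y = (v ⬝ᵥ wv σ v) • vecMulVec x y := by
  rw [vecMulVec_mul_vecMulVec]
  ext i j; simp [vecMulVec_apply]; ring

include ha hva in
theorem sharp_qM_mul (hσ2 : ∀ x, σ (σ x) = x) (t : K) :
    sharp σ (qM σ a v t) * qM σ a v t =
      1 + (t + σ t + v ⬝ᵥ wv σ v) • vecMulVec (ev a : Fin n → K) (ev (Fin.rev a)) := by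
  have hs : sharp σ (qM σ a v t) = 1 + vecMulVec (wv σ v) (ev (Fin.rev a)) - vecMulVec (ev a) v +
      σ t • vecMulVec (ev a : Fin n → K) (ev (Fin.rev a)) := by
    unfold qM
    rw [sharp_add, sharp_sub, sharp_add, sharp_one, sharp_smul, sharp_vecMulVec, sharp_vecMulVec,
      sharp_vecMulVec, wv_ev, wv_ev, wv_wv σ hσ2, Fin.rev_rev]
  rw [hs]
  unfold qM
  simp only [add_mul, mul_add, sub_mul, mul_sub, one_mul, mul_one, smul_mul_assoc, mul_smul_comm,
    rel_G a ha, rel_E a v hva, rel_F a v hva, rel_EF v, smul_zero, sub_zero, add_zero, zero_sub,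
    zero_add]
  module

include ha hva in
theorem qM_eq_prod (t : K) :
    qM σ a v t = tvM (ev a) v * tvM (-(wv σ v)) (ev (Fin.rev a)) *
      tvM ((t + v ⬝ᵥ wv σ v) • (ev a : Fin n → K)) (ev (Fin.rev a)) := by
  unfold qM tvM
  simp only [add_mul, mul_add, one_mul, mul_one, neg_vecMulVec, smul_vecMulVec, mul_neg, neg_mul,
    smul_mul_assoc, mul_smul_comm, rel_G a ha, rel_E a v hva, rel_EF v, smul_zero, neg_zero,
    add_zero]
  module

include ha hva in
theorem det_qM (t : K) : (qM σ a v t).det = 1 := by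
  rw [qM_eq_prod a ha v hva, Matrix.det_mul, Matrix.det_mul, det_tvM, det_tvM, det_tvM,
    dot_ev_apply, hva, ev_dot_apply, dotProduct_smul, ev_dot ha]
  simp [wv_apply, hva]

end rel

/-- `q_a(v, t)` as an element of `SL_n(K)`. -/
def qS (σ : K →+* K) (a : Fin n) (v : Fin n → K) (t : K) (ha : a ≠ Fin.rev a) (hva : v a = 0) :
    SpecialLinearGroup (Fin n) K :=
  ⟨qM σ a v t, det_qM a ha v hva t⟩

theorem qS_coe (a : Fin n) (v : Fin n → K) (t : K) (ha : a ≠ Fin.rev a) (hva : v a = 0) :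
    (qS σ a v t ha hva).1 = qM σ a v t := rfl

theorem qS_mem_UG (hσ2 : ∀ x, σ (σ x) = x) (a : Fin n) (v : Fin n → K) (t : K)
    (ha : a ≠ Fin.rev a) (hva : v a = 0)
    (hval : t + σ t + ∑ k, v k * σ (v (Fin.rev k)) = 0) : qS σ a v t ha hva ∈ UG n σ := by
  rw [mem_UG, qS_coe, sharp_qM_mul a ha v hva hσ2]
  have : v ⬝ᵥ wv σ v = ∑ k, v k * σ (v (Fin.rev k)) := rfl
  rw [this, hval, zero_smul, add_zero]

theorem qM_mul_apply (a : Fin n) (v : Fin n → K) (t : K) (M : Matrix (Fin n) (Fin n) K)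
    (k l : Fin n) :
    (qM σ a v t * M) k l = M k l + (if k = a then ∑ c, v c * M c l else 0) -
      σ (v (Fin.rev k)) * M (Fin.rev a) l + (if k = a then t * M (Fin.rev a) l else 0) := by
  have h1 : ∀ x y : Fin n → K, (vecMulVec x y * M) k l = x k * ∑ c, y c * M c l := by
    intro x y
    rw [Matrix.mul_apply, Finset.mul_sum]
    exact Finset.sum_congr rfl (fun c _ => by rw [vecMulVec_apply, mul_assoc])
  unfold qM
  rw [Matrix.add_mul, Matrix.sub_mul, Matrix.add_mul, Matrix.one_mul, Matrix.smul_mul,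
    Matrix.add_apply, Matrix.sub_apply, Matrix.add_apply, Matrix.smul_apply, h1, h1, h1]
  have h2 : ∑ c, (ev (Fin.rev a) : Fin n → K) c * M c l = M (Fin.rev a) l := by
    rw [Finset.sum_eq_single (Fin.rev a)]
    · rw [ev_apply, if_pos rfl, one_mul]
    · intro c _ hc
      rw [ev_apply, if_neg hc, zero_mul]
    · intro h; exact absurd (Finset.mem_univ _) h
  rw [h2, ev_apply, wv_apply]
  by_cases hk : k = a <;> simp [hk]

theorem mul_qM_apply (a : Fin n) (v : Fin n → K) (t : K) (M : Matrix (Fin n) (Fin n) K)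
    (k l : Fin n) :
    (M * qM σ a v t) k l = M k l + M k a * v l -
      (if l = Fin.rev a then ∑ c, M k c * σ (v (Fin.rev c)) else 0) +
      (if l = Fin.rev a then t * M k a else 0) := by
  have h1 : ∀ x y : Fin n → K, (M * vecMulVec x y) k l = (∑ c, M k c * x c) * y l := by
    intro x y
    rw [Matrix.mul_apply, Finset.sum_mul]
    exact Finset.sum_congr rfl (fun c _ => by rw [vecMulVec_apply, mul_assoc])
  unfold qM
  rw [Matrix.mul_add, Matrix.mul_sub, Matrix.mul_add, Matrix.mul_one, Matrix.mul_smul,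
    Matrix.add_apply, Matrix.sub_apply, Matrix.add_apply, Matrix.smul_apply, h1, h1, h1]
  have h2 : ∑ c, M k c * (ev a : Fin n → K) c = M k a := by
    rw [Finset.sum_eq_single a]
    · rw [ev_apply, if_pos rfl, mul_one]
    · intro c _ hc
      rw [ev_apply, if_neg hc, mul_zero]
    · intro h; exact absurd (Finset.mem_univ _) h
  rw [h2, ev_apply]
  have h3 : ∑ c, M k c * wv σ v c = ∑ c, M k c * σ (v (Fin.rev c)) := rfl
  rw [h3]
  by_cases hl : l = Fin.rev a <;> simp [hl] <;> ring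

/-! ### Shapes of `q_a(v, t)` -/

/-- The weight function of the stabiliser of the isotropic line `⟨e_a⟩`. -/
def bQ (a : Fin n) : Fin n → ℕ := fun x => if x = a then 0 else if x = Fin.rev a then 2 else 1

theorem bQ_self (a : Fin n) : bQ a a = 0 := by unfold bQ; rw [if_pos rfl]

theorem bQ_rev (a : Fin n) (ha : a ≠ Fin.rev a) : bQ a (Fin.rev a) = 2 := by
  unfold bQ; rw [if_neg (Ne.symm ha), if_pos rfl]

theorem one_le_bQ (a x : Fin n) (hx : x ≠ a) : 1 ≤ bQ a x := by
  unfold bQ; rw [if_neg hx]; split_ifs <;> omega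

theorem bQ_le_one (a x : Fin n) (hx : x ≠ Fin.rev a) : bQ a x ≤ 1 := by
  unfold bQ; rw [if_neg hx]; split_ifs <;> omega

theorem bQ_mid (a x : Fin n) (hx : x ≠ a) (hx' : x ≠ Fin.rev a) : bQ a x = 1 := by
  unfold bQ; rw [if_neg hx, if_neg hx']

theorem qM_rbm (a : Fin n) (ha : a ≠ Fin.rev a) (v : Fin n → K) (hva : v a = 0) (t : K) :
    RBm (bQ a) (qM σ a v t) := by
  intro k l h
  rw [qM_apply]
  have h1 : (if k = a then v l else 0) = 0 := by
    split_ifs with hk
    · have hl : l = a := by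
        by_contra hne
        have := one_le_bQ a l hne
        rw [hk, bQ_self] at h
        omega
      rw [hl, hva]
    · rfl
  have h2 : (if l = Fin.rev a then σ (v (Fin.rev k)) else 0) = 0 := by
    split_ifs with hl
    · have hk2 : k = Fin.rev a := by
        by_contra hne
        have := bQ_le_one a k hne
        rw [hl, bQ_rev a ha] at h
        omega
      rw [hk2, Fin.rev_rev, hva, map_zero]
    · rfl
  have h3 : (if k = a ∧ l = Fin.rev a then t else 0) = 0 := by
    rw [if_neg]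
    rintro ⟨hk, hl⟩
    rw [hk, hl, bQ_self, bQ_rev a ha] at h
    omega
  rw [h1, h2, h3]; ring

theorem qM_ut (a : Fin n) (ha : a < Fin.rev a) (v : Fin n → K) (hv : ∀ l, l ≤ a → v l = 0)
    (t : K) : RBm (fun i : Fin n => i.val) (qM σ a v t) := by
  intro k l h
  have hlk : l ≤ k := h
  rw [qM_apply]
  have h1 : (if k = a then v l else 0) = 0 := by
    split_ifs with hk
    · exact hv l (hk ▸ hlk)
    · rfl
  have h2 : (if l = Fin.rev a then σ (v (Fin.rev k)) else 0) = 0 := by
    split_ifs with hl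
    · rw [hv, map_zero]
      rw [hl] at hlk
      have := Fin.rev_le_rev.mpr hlk
      rwa [Fin.rev_rev] at this
    · rfl
  have h3 : (if k = a ∧ l = Fin.rev a then t else 0) = 0 := by
    rw [if_neg]
    rintro ⟨hk, hl⟩
    rw [hk, hl] at hlk
    exact absurd ha (not_lt.mpr hlk)
  rw [h1, h2, h3]; ring

theorem sum_single_valid (σ : K →+* K) (c : Fin n) (x : K) :
    ∑ k, (Pi.single c x : Fin n → K) k * σ ((Pi.single c x : Fin n → K) (Fin.rev k)) =
      if c = Fin.rev c then x * σ x else 0 := by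
  rw [Finset.sum_eq_single c]
  · rw [Pi.single_eq_same]
    by_cases h : c = Fin.rev c
    · rw [if_pos h, ← h, Pi.single_eq_same]
    · rw [if_neg h, Pi.single_eq_of_ne (Ne.symm h), map_zero, mul_zero]
  · intro k _ hk
    rw [Pi.single_eq_of_ne hk, zero_mul]
  · intro h; exact absurd (Finset.mem_univ _) h

theorem exists_valid_single (hσ2 : ∀ x, σ (σ x) = x)
    (htr : ∀ γ : K, σ γ = γ → ∃ t, t + σ t = γ) (c : Fin n) (x : K) :
    ∃ t : K, t + σ t +
      ∑ k, (Pi.single c x : Fin n → K) k * σ ((Pi.single c x : Fin n → K) (Fin.rev k)) = 0 := by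
  rw [sum_single_valid]
  by_cases h : c = Fin.rev c
  · rw [if_pos h]
    obtain ⟨t, ht⟩ := htr (-(x * σ x)) (by rw [map_neg, map_mul, hσ2, mul_comm])
    exact ⟨t, by rw [ht]; ring⟩
  · rw [if_neg h]
    exact ⟨0, by simp⟩

end Cfsg.Agent.Lib.helper47.UFus
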