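import Mathlib
import Cfsg.Agent.Lib.helper47.UFusB

/-!
The unitriangular subgroup `U = UG ⊓ UT` of the antidiagonal unitary group: its normaliser is
upper triangular, it is a Sylow `p`-subgroup; centralisers in `U` and weak closure of the two
radicals (point stabiliser `bQ a`, Siegel `bS`).
-/

set_option autoImplicit false

namespace Cfsg.Agent.Lib.helper47.UFus

open Matrix Cfsg.Agent.Lib.helper47.PSLn

variable {n : ℕ} {K : Type*} [Field K] {σ : K →+* K}

/-- The field facts used about the involution `σ`. -/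
structure FF (σ : K →+* K) : Prop where
  inv : ∀ x, σ (σ x) = x
  tr : ∀ γ : K, σ γ = γ → ∃ t, t + σ t = γ
  nm : ∀ β : K, σ β = β → ∃ c, c * σ c = β
  ne : ∃ a : K, σ a ≠ a

theorem FF.eps (hF : FF σ) : ∃ ε : K, ε ≠ 0 ∧ ε + σ ε = 0 := by
  obtain ⟨a, ha⟩ := hF.ne
  refine ⟨a - σ a, sub_ne_zero.mpr (Ne.symm ha), ?_⟩
  rw [map_sub, hF.inv]; ring

theorem sig_inj (σ : K →+* K) {x : K} (h : σ x = 0) : x = 0 := by
  rwa [map_eq_zero] at h

theorem exists_valid_single' (hF : FF σ) (c : Fin n) (x : K) :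
    ∃ t : K, (c ≠ Fin.rev c → t = 0) ∧ t + σ t +
      ∑ k, (Pi.single c x : Fin n → K) k * σ ((Pi.single c x : Fin n → K) (Fin.rev k)) = 0 := by
  rw [sum_single_valid]
  by_cases h : c = Fin.rev c
  · rw [if_pos h]
    obtain ⟨t, ht⟩ := hF.tr (-(x * σ x)) (by rw [map_neg, map_mul, hF.inv, mul_comm])
    exact ⟨t, fun h' => absurd h h', by rw [ht]; ring⟩
  · rw [if_neg h]
    exact ⟨0, fun _ => rfl, by simp⟩

theorem sum_single_mul (k : Fin n) (f : Fin n → K) :
    ∑ x, (Pi.single k (1 : K) : Fin n → K) x * f x = f k := by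
  rw [Finset.sum_eq_single k]
  · rw [Pi.single_eq_same, one_mul]
  · intro b _ hb; rw [Pi.single_eq_of_ne hb, zero_mul]
  · intro h; exact absurd (Finset.mem_univ _) h

/-- A criterion for a matrix to be upper triangular. -/
theorem upper_of_conj_row (P : Matrix (Fin n) (Fin n) K)
    (h : ∀ i j : Fin n, j < i → ∃ V u : Matrix (Fin n) (Fin n) K,
      (∀ a b, b < a → V a b = 0) ∧ (∀ a, V a a = 1) ∧ P * V = u * P ∧ u j j = 1 ∧ u j i ≠ 0 ∧
        ∀ k, k ≠ j → k < i → u j k = 0) :
    ∀ i j : Fin n, j < i → P i j = 0 := by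
  suffices H : ∀ (N : ℕ) (j : Fin n), j.val = N → ∀ (D : ℕ) (i : Fin n), n - i.val = D →
      j < i → P i j = 0 from fun i j hji => H j.val j rfl (n - i.val) i rfl hji
  intro N
  induction N using Nat.strong_induction_on with
  | _ N ihN =>
    intro j hj D
    induction D using Nat.strong_induction_on with
    | _ D ihD =>
      intro i hi hji
      obtain ⟨V, u, hV1, hV2, hV3, hu1, hu2, hu3⟩ := h i j hji
      have h3 := congrFun (congrFun hV3 j) j
      rw [Matrix.mul_apply, Matrix.mul_apply] at h3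
      have hL : ∑ k, P j k * V k j = P j j := by
        rw [Finset.sum_eq_single j]
        · rw [hV2, mul_one]
        · intro k _ hkj
          rcases lt_or_gt_of_ne hkj with hlt | hgt
          · rw [ihN k.val (by rw [← hj]; exact hlt) k rfl (n - j.val) j rfl hlt, zero_mul]
          · rw [hV1 k j hgt, mul_zero]
        · intro habs; exact absurd (Finset.mem_univ j) habs
      have hR : ∑ k, u j k * P k j = u j j * P j j + u j i * P i j := by
        apply Finset.sum_eq_add j i (ne_of_lt hji)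
        · rintro k - ⟨hkj, hki⟩
          rcases lt_or_gt_of_ne hki with hlt | hgt
          · rw [hu3 k hkj hlt, zero_mul]
          · have hk := k.isLt
            have hgt' : i.val < k.val := hgt
            rw [ihD (n - k.val) (by omega) k rfl (lt_trans hji hgt), mul_zero]
        · intro habs; exact absurd (Finset.mem_univ j) habs
        · intro habs; exact absurd (Finset.mem_univ i) habs
      rw [hL, hR, hu1, one_mul] at h3
      have h4 : u j i * P i j = 0 := by linear_combination -h3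
      exact (mul_eq_zero.mp h4).resolve_left hu2

/-- Elements of `U` with a prescribed row. -/
theorem exists_row_elt [Finite K] (hF : FF σ) (i j : Fin n) (hji : j < i) :
    ∃ u ∈ UG n σ ⊓ UT n K, u.1 j j = 1 ∧ u.1 j i ≠ 0 ∧ ∀ k, k ≠ j → k < i → u.1 j k = 0 := by
  obtain ⟨ε, hε0, hε⟩ := hF.eps
  by_cases hj : j < Fin.rev j
  · have ha : j ≠ Fin.rev j := ne_of_lt hj
    by_cases hi : i = Fin.rev j
    · refine ⟨qS σ j 0 ε ha rfl, ⟨qS_mem_UG hF.inv j 0 ε ha rfl (by simp [hε]),
        (mem_UT_iff _).mpr (qM_ut j hj 0 (fun _ _ => rfl) ε)⟩, ?_, ?_, ?_⟩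
      · rw [qS_coe, qM_apply]; simp [ha]
      · rw [qS_coe, qM_apply, hi]; simp [ha, hε0]
      · intro k hk hki
        rw [qS_coe, qM_apply]
        have hkr : k ≠ Fin.rev j := by rw [← hi]; exact ne_of_lt hki
        simp [hkr, Ne.symm hk]
    · obtain ⟨t, ht0, ht⟩ := exists_valid_single' hF i (1 : K)
      have hva : (Pi.single i (1 : K) : Fin n → K) j = 0 := Pi.single_eq_of_ne (ne_of_lt hji) _
      refine ⟨qS σ j (Pi.single i 1) t ha hva, ⟨qS_mem_UG hF.inv _ _ _ ha hva ht,
        (mem_UT_iff _).mpr (qM_ut j hj _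
          (fun l hl => Pi.single_eq_of_ne (ne_of_lt (lt_of_le_of_lt hl hji)) _) t)⟩, ?_, ?_, ?_⟩
      · rw [qS_coe, qM_apply]; simp [ha, hva]
      · rw [qS_coe, qM_apply]; simp [hi, ne_of_lt hji]
      · intro k hk hki
        rw [qS_coe, qM_apply]
        have hk1 : (Pi.single i (1 : K) : Fin n → K) k = 0 := Pi.single_eq_of_ne (ne_of_lt hki) _
        have hk2 : (Pi.single i (1 : K) : Fin n → K) (Fin.rev j) = 0 :=
          Pi.single_eq_of_ne (Ne.symm hi) _
        have hk3 : (if j = j ∧ k = Fin.rev j then t else 0) = 0 := by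
          by_cases hii : i = Fin.rev i
          · rw [if_neg]
            rintro ⟨-, hkj⟩
            rw [hkj] at hki
            have h5 := Fin.rev_lt_rev.mpr hki
            rw [Fin.rev_rev, ← hii] at h5
            exact absurd hji (not_lt.mpr h5.le)
          · rw [ht0 hii]; simp
        rw [hk3, hk1, hk2, map_zero, Matrix.one_apply_ne (Ne.symm hk)]
        simp
  · have hj' : Fin.rev j ≤ j := not_lt.mp hj
    have h1 : Fin.rev i < Fin.rev j := Fin.rev_lt_rev.mpr hji
    have hlt : Fin.rev i < Fin.rev (Fin.rev i) := by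
      rw [Fin.rev_rev]; exact lt_of_lt_of_le h1 (le_trans hj' hji.le)
    have ha : Fin.rev i ≠ Fin.rev (Fin.rev i) := ne_of_lt hlt
    obtain ⟨t, -, ht⟩ := exists_valid_single' hF (Fin.rev j) (1 : K)
    have hva : (Pi.single (Fin.rev j) (1 : K) : Fin n → K) (Fin.rev i) = 0 :=
      Pi.single_eq_of_ne (ne_of_lt h1) _
    have hjr : j ≠ Fin.rev i := ne_of_gt (lt_of_lt_of_le h1 hj')
    refine ⟨qS σ (Fin.rev i) (Pi.single (Fin.rev j) 1) t ha hva,
      ⟨qS_mem_UG hF.inv _ _ _ ha hva ht, (mem_UT_iff _).mpr (qM_ut _ hlt _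
        (fun l hl => Pi.single_eq_of_ne (ne_of_lt (lt_of_le_of_lt hl h1)) _) t)⟩, ?_, ?_, ?_⟩
    · rw [qS_coe, qM_apply]; simp [hjr, ne_of_lt hji]
    · rw [qS_coe, qM_apply]; simp [hjr, ne_of_lt hji]
    · intro k hk hki
      rw [qS_coe, qM_apply]
      simp [hjr, Ne.symm hk, ne_of_lt hki]

/-- The normaliser of `U` is upper triangular. -/
theorem norm_U_upper [Finite K] (hF : FF σ) (s : SpecialLinearGroup (Fin n) K)
    (h : ∀ x ∈ UG n σ ⊓ UT n K, s * x * s⁻¹ ∈ UG n σ ⊓ UT n K) :
    ∀ i j : Fin n, j < i → s.1 i j = 0 := by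
  have := finite_sl (n := n) (K := K)
  apply upper_of_conj_row
  intro i j hji
  obtain ⟨u, hu, hu1, hu2, hu3⟩ := exists_row_elt hF i j hji
  have h1 := Cfsg.Agent.Lib.helper47.FusionLevi.conj_inv_mem (UG n σ ⊓ UT n K) s h u hu
  refine ⟨(s⁻¹ * u * s).1, u.1, ((mem_UT _).mp h1.2).1, ((mem_UT _).mp h1.2).2, ?_, hu1, hu2, hu3⟩
  have e : s * (s⁻¹ * u * s) = u * s := by group
  exact congrArg Subtype.val e

theorem upper_diag_mul (M N : Matrix (Fin n) (Fin n) K) (hM : ∀ i j, j < i → M i j = 0)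
    (hN : ∀ i j, j < i → N i j = 0) (i : Fin n) : (M * N) i i = M i i * N i i := by
  rw [Matrix.mul_apply]
  apply Finset.sum_eq_single i
  · intro k _ hk
    rcases lt_or_gt_of_ne hk with h | h
    · rw [hM i k h, zero_mul]
    · rw [hN k i h, mul_zero]
  · intro h; exact absurd (Finset.mem_univ i) h

theorem upper_mul (M N : Matrix (Fin n) (Fin n) K) (hM : ∀ i j, j < i → M i j = 0)
    (hN : ∀ i j, j < i → N i j = 0) : ∀ i j, j < i → (M * N) i j = 0 := by
  intro i j hji
  rw [Matrix.mul_apply]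
  apply Finset.sum_eq_zero
  intro k _
  by_cases hk : k < i
  · rw [hM i k hk, zero_mul]
  · rw [hN k j (lt_of_lt_of_le hji (not_lt.mp hk)), mul_zero]

theorem upper_pow (s : SpecialLinearGroup (Fin n) K) (hs : ∀ i j, j < i → s.1 i j = 0) (m : ℕ) :
    (∀ i j, j < i → (s ^ m).1 i j = 0) ∧ ∀ i, (s ^ m).1 i i = (s.1 i i) ^ m := by
  induction m with
  | zero =>
    refine ⟨fun i j hji => ?_, fun i => ?_⟩
    · rw [pow_zero, coe_one', Matrix.one_apply_ne (ne_of_gt hji)]
    · rw [pow_zero, pow_zero, coe_one', Matrix.one_apply_eq]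
  | succ m ih =>
    refine ⟨fun i j hji => ?_, fun i => ?_⟩
    · rw [pow_succ, coe_mul']; exact upper_mul _ _ ih.1 hs i j hji
    · rw [pow_succ, coe_mul', upper_diag_mul _ _ ih.1 hs, ih.2, pow_succ]

/-- A `p`-element normalising `U` lies in `UT`. -/
theorem mem_UT_of_norm_of_pow [Finite K] {p : ℕ} [Fact p.Prime] [CharP K p] (hF : FF σ)
    (s : SpecialLinearGroup (Fin n) K)
    (h : ∀ x ∈ UG n σ ⊓ UT n K, s * x * s⁻¹ ∈ UG n σ ⊓ UT n K) (k : ℕ)
    (hk : s ^ (p ^ k) = 1) : s ∈ UT n K := by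
  have hup := norm_U_upper hF s h
  rw [mem_UT]
  refine ⟨hup, fun i => ?_⟩
  have h1 := (upper_pow s hup (p ^ k)).2 i
  rw [hk, coe_one', Matrix.one_apply_eq] at h1
  have h4 : (s.1 i i - 1) ^ (p ^ k) = 0 := by
    rw [sub_pow_char_pow, ← h1, one_pow, sub_self]
  exact sub_eq_zero.mp ((pow_eq_zero_iff (pow_ne_zero _ (Fact.out : p.Prime).ne_zero)).mp h4)

theorem finite_UG [Finite K] : Finite (UG n σ) :=
  Finite.of_injective (fun g : UG n σ => g.1.1) (fun _ _ h => Subtype.ext (Subtype.ext h))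

theorem isPGroup_Us [Fintype K] {p f : ℕ} [Fact p.Prime] (hK : Fintype.card K = p ^ f) :
    IsPGroup p ((UT n K).subgroupOf (UG n σ)) := by
  intro x
  obtain ⟨k, hk⟩ := isPGroup_UT (n := n) hK ⟨x.1.1, Subgroup.mem_subgroupOf.mp x.2⟩
  refine ⟨k, ?_⟩
  apply Subtype.ext
  apply Subtype.ext
  have := congrArg Subtype.val hk
  simpa using this

/-- `U` as a Sylow `p`-subgroup of the unitary group. -/
def sylU [Fintype K] {p f : ℕ} [Fact p.Prime] [CharP K p] (hF : FF σ)
    (hK : Fintype.card K = p ^ f) : Sylow p (UG n σ) where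
  toSubgroup := (UT n K).subgroupOf (UG n σ)
  isPGroup' := isPGroup_Us hK
  is_maximal' := by
    intro Q hQ hUQ
    by_contra hne
    have hH : ((UT n K).subgroupOf (UG n σ)).subgroupOf Q ≠ ⊤ := by
      intro h
      rw [Subgroup.subgroupOf_eq_top] at h
      exact hne (le_antisymm h hUQ)
    have := finite_UG (n := n) (σ := σ)
    have : Group.IsNilpotent Q := hQ.isNilpotent
    have h1 := Group.normalizerCondition_of_isNilpotent _ (lt_top_iff_ne_top.mpr hH)
    obtain ⟨g, hg, hgn⟩ := SetLike.exists_of_lt h1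
    rw [Subgroup.mem_normalizer_iff] at hg
    have h2 : ∀ x ∈ UG n σ ⊓ UT n K, g.1.1 * x * g.1.1⁻¹ ∈ UG n σ ⊓ UT n K := by
      intro x hx
      refine ⟨(UG n σ).mul_mem ((UG n σ).mul_mem g.1.2 hx.1) ((UG n σ).inv_mem g.1.2), ?_⟩
      have hxU : (⟨x, hx.1⟩ : UG n σ) ∈ (UT n K).subgroupOf (UG n σ) :=
        Subgroup.mem_subgroupOf.mpr hx.2
      have h3 := (hg ⟨⟨x, hx.1⟩, hUQ hxU⟩).mp (Subgroup.mem_subgroupOf.mpr hxU)
      have h4 := Subgroup.mem_subgroupOf.mp (Subgroup.mem_subgroupOf.mp h3)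
      exact h4
    obtain ⟨k, hk⟩ := hQ g
    have hk' : g.1.1 ^ (p ^ k) = 1 := by
      have := congrArg (fun y : Q => y.1.1) hk
      simpa using this
    exact hgn (Subgroup.mem_subgroupOf.mpr
      (Subgroup.mem_subgroupOf.mpr (mem_UT_of_norm_of_pow hF g.1.1 h2 k hk')))

theorem sylU_coe [Fintype K] {p f : ℕ} [Fact p.Prime] [CharP K p] (hF : FF σ)
    (hK : Fintype.card K = p ^ f) :
    ((sylU (n := n) hF hK : Sylow p (UG n σ)) : Subgroup (UG n σ)) =
      (UT n K).subgroupOf (UG n σ) := rfl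

/-! ### Centralisers -/

theorem rev_max (a : Fin n) (hmin : ∀ x : Fin n, a ≤ x) (x : Fin n) : x ≤ Fin.rev a := by
  have := Fin.rev_le_rev.mpr (hmin (Fin.rev x))
  rwa [Fin.rev_rev] at this

/-- The centraliser in `U` of the radical of the point stabiliser lies in it. -/
theorem hcent_Q [Finite K] (hF : FF σ) (a : Fin n) (hmin : ∀ x : Fin n, a ≤ x)
    (ha : a ≠ Fin.rev a) (c : SpecialLinearGroup (Fin n) K) (hc : c ∈ UT n K)
    (hcomm : ∀ x ∈ UG n σ, RBm (bQ a) x.1 → c * x = x * c) : RBm (bQ a) c.1 := by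
  intro k l h
  by_cases hlk : l ≤ k
  · exact (mem_UT_iff c).mp hc k l hlk
  · have hkl : k < l := not_le.mp hlk
    have hka : k ≠ a := by
      rintro rfl
      have := one_le_bQ k l (ne_of_gt hkl)
      rw [bQ_self] at h; omega
    have hlr : l ≠ Fin.rev a := by
      rintro rfl
      have := bQ_le_one a k (ne_of_lt hkl)
      rw [bQ_rev a ha] at h; omega
    obtain ⟨t, -, ht⟩ := exists_valid_single' hF k (1 : K)
    have hva : (Pi.single k (1 : K) : Fin n → K) a = 0 := Pi.single_eq_of_ne (Ne.symm hka) _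
    have hx := hcomm (qS σ a (Pi.single k 1) t ha hva) (qS_mem_UG hF.inv _ _ _ ha hva ht)
      (qM_rbm a ha _ hva t)
    have h1 := congrFun (congrFun (congrArg Subtype.val hx) a) l
    rw [coe_mul', coe_mul', qS_coe, mul_qM_apply, qM_mul_apply] at h1
    have hUT := (mem_UT c).mp hc
    have e1 : c.1 a a = 1 := hUT.2 a
    have e2 : c.1 (Fin.rev a) l = 0 := hUT.1 _ _ (lt_of_le_of_ne (rev_max a hmin l) hlr)
    rw [if_neg hlr, if_neg hlr, if_pos rfl, if_pos rfl, e1, e2, sum_single_mul,
      Pi.single_eq_of_ne (ne_of_gt hkl)] at h1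
    have h2 : c.1 k l = 0 := by linear_combination (-1 : K) * h1
    rw [h2, Matrix.one_apply_ne (ne_of_lt hkl)]

/-- The Siegel weight. -/
def bS : Fin n → ℕ := fun x => if x < Fin.rev x then 0 else if x = Fin.rev x then 1 else 2

theorem bS_first (x : Fin n) (h : x < Fin.rev x) : bS x = 0 := by unfold bS; rw [if_pos h]

theorem bS_mid (x : Fin n) (h : x = Fin.rev x) : bS x = 1 := by
  unfold bS; rw [if_neg (by rw [← h]; exact lt_irrefl _), if_pos h]

theorem bS_third (x : Fin n) (h : Fin.rev x < x) : bS x = 2 := by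
  unfold bS; rw [if_neg (not_lt.mpr h.le), if_neg (ne_of_gt h)]

theorem bS_mono : Monotone (bS (n := n)) := by
  intro x y hxy
  have hxy' : x.val ≤ y.val := hxy
  have hx := x.isLt
  have hy := y.isLt
  unfold bS
  simp only [Fin.lt_def, Fin.ext_iff, Fin.val_rev]
  split_ifs <;> omega

theorem bS_eq_zero (x : Fin n) (h : bS x = 0) : x < Fin.rev x := by
  rcases lt_trichotomy x (Fin.rev x) with h1 | h1 | h1
  · exact h1
  · rw [bS_mid x h1] at h; omega
  · rw [bS_third x h1] at h; omega

theorem bS_eq_two (x : Fin n) (h : bS x = 2) : Fin.rev x < x := by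
  rcases lt_trichotomy x (Fin.rev x) with h1 | h1 | h1
  · rw [bS_first x h1] at h; omega
  · rw [bS_mid x h1] at h; omega
  · exact h1

theorem bS_le_two (x : Fin n) : bS x ≤ 2 := by
  unfold bS; split_ifs <;> omega

/-- The centraliser in `U` of the Siegel radical lies in it. -/
theorem hcent_S [Finite K] (hF : FF σ) (c : SpecialLinearGroup (Fin n) K) (hc : c ∈ UT n K)
    (hcomm : ∀ x ∈ UG n σ, RBm bS x.1 → c * x = x * c) : RBm bS c.1 := by
  obtain ⟨ε, hε0, hε⟩ := hF.eps
  have hx : ∀ i : Fin n, ∀ hi : i < Fin.rev i, ∀ k l : Fin n,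
      (c.1 * qM σ i 0 ε) k l = (qM σ i 0 ε * c.1) k l := by
    intro i hi k l
    have ha : i ≠ Fin.rev i := ne_of_lt hi
    have h1 := hcomm (qS σ i 0 ε ha rfl) (qS_mem_UG hF.inv i 0 ε ha rfl (by simp [hε])) (by
      rw [qS_coe]
      intro k l hkl
      by_cases hlk : l ≤ k
      · exact qM_ut i hi 0 (fun _ _ => rfl) ε k l hlk
      · rw [qM_apply, Matrix.one_apply_ne (ne_of_lt (not_le.mp hlk))]
        have : ¬ (k = i ∧ l = Fin.rev i) := by
          rintro ⟨rfl, rfl⟩
          rw [bS_first k hi, bS_third (Fin.rev k) (by rw [Fin.rev_rev]; exact hi)] at hkl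
          omega
        simp [this])
    exact congrFun (congrFun (congrArg Subtype.val h1) k) l
  intro k l h
  by_cases hlk : l ≤ k
  · exact (mem_UT_iff c).mp hc k l hlk
  · have hkl : k < l := not_le.mp hlk
    rw [Matrix.one_apply_ne (ne_of_lt hkl)]
    by_cases hl : l < Fin.rev l
    · have h1 := hx l hl k (Fin.rev l)
      rw [mul_qM_apply, qM_mul_apply] at h1
      simp only [Pi.zero_apply, map_zero, mul_zero, zero_mul, Finset.sum_const_zero, if_true,
        if_neg (ne_of_lt hkl), add_zero, sub_zero] at h1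
      have h2 : ε * c.1 k l = 0 := by linear_combination h1
      exact (mul_eq_zero.mp h2).resolve_left hε0
    · have hl3 : Fin.rev l < l := by
        rcases lt_or_eq_of_le (not_lt.mp hl) with h' | h'
        · exact h'
        · exfalso
          rw [bS_mid l h'.symm] at h
          have hk1 : k < Fin.rev k := by
            have := Fin.rev_lt_rev.mpr hkl
            rw [h'] at this
            exact lt_trans hkl this
          rw [bS_first k hk1] at h
          omega
      have hk3 : Fin.rev k < k := by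
        rw [bS_third l hl3] at h
        exact bS_eq_two k (le_antisymm (bS_le_two k) h)
      have hi : Fin.rev k < Fin.rev (Fin.rev k) := by rw [Fin.rev_rev]; exact hk3
      have h1 := hx (Fin.rev k) hi (Fin.rev k) l
      rw [mul_qM_apply, qM_mul_apply, Fin.rev_rev] at h1
      simp only [Pi.zero_apply, map_zero, mul_zero, zero_mul, Finset.sum_const_zero, if_true,
        if_neg (ne_of_gt hkl), add_zero, sub_zero] at h1
      have h2 : ε * c.1 k l = 0 := by linear_combination -h1
      exact (mul_eq_zero.mp h2).resolve_left hε0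

/-! ### Weak closure -/

/-- If `s` conjugates the radical of the point stabiliser into `U`, it stabilises the point. -/
theorem hwc_Q [Finite K] (hF : FF σ) (a : Fin n) (hmin : ∀ x : Fin n, a ≤ x)
    (ha : a ≠ Fin.rev a) (j₀ : Fin n) (hj₀ : j₀ ≠ a) (hj₀' : j₀ ≠ Fin.rev a)
    (s : SpecialLinearGroup (Fin n) K) (hs : s ∈ UG n σ)
    (h : ∀ x ∈ UG n σ, RBm (bQ a) x.1 → s * x * s⁻¹ ∈ UT n K) : PBm (bQ a) s.1 := by
  have hcol : ∀ x ∈ UG n σ, RBm (bQ a) x.1 → ∀ k, (x.1 * s⁻¹.1) k a = s⁻¹.1 k a := by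
    intro x hx hxr k
    have hy := h x hx hxr
    have e : x * s⁻¹ = s⁻¹ * (s * x * s⁻¹) := by group
    have e' := congrFun (congrFun (congrArg Subtype.val e) k) a
    rw [coe_mul', coe_mul'] at e'
    rw [e', Matrix.mul_apply, Finset.sum_eq_single a]
    · rw [((mem_UT _).mp hy).2 a, mul_one]
    · intro c _ hca
      rw [((mem_UT _).mp hy).1 c a (lt_of_le_of_ne (hmin c) (Ne.symm hca)), mul_zero]
    · intro h; exact absurd (Finset.mem_univ _) h
  have hc1 : ∀ j : Fin n, j ≠ a → j ≠ Fin.rev a →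
      s⁻¹.1 (Fin.rev a) a = 0 ∧ s⁻¹.1 j a = 0 := by
    intro j hja hjr
    obtain ⟨t, -, ht⟩ := exists_valid_single' hF j (1 : K)
    have hva : (Pi.single j (1 : K) : Fin n → K) a = 0 := Pi.single_eq_of_ne (Ne.symm hja) _
    have hx := hcol (qS σ a (Pi.single j 1) t ha hva) (qS_mem_UG hF.inv _ _ _ ha hva ht)
      (qM_rbm a ha _ hva t)
    have h1 := hx (Fin.rev j)
    have h2 := hx a
    rw [qS_coe, qM_mul_apply] at h1 h2
    have hrj : Fin.rev j ≠ a := fun h' => hjr (by rw [← h', Fin.rev_rev])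
    rw [if_neg hrj, if_neg hrj, Fin.rev_rev, Pi.single_eq_same, map_one] at h1
    have hA : s⁻¹.1 (Fin.rev a) a = 0 := by linear_combination (-1 : K) * h1
    rw [if_pos rfl, if_pos rfl, sum_single_mul, hA] at h2
    exact ⟨hA, by linear_combination h2⟩
  have hrow : ∀ l, l ≠ Fin.rev a → s.1 (Fin.rev a) l = 0 := by
    intro l hl
    have hca : Fin.rev l ≠ a := fun h' => hl (by rw [← h', Fin.rev_rev])
    have h0 : s⁻¹.1 (Fin.rev l) a = 0 := by
      by_cases hcr : Fin.rev l = Fin.rev a
      · rw [hcr]; exact (hc1 j₀ hj₀ hj₀').1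
      · exact (hc1 (Fin.rev l) hca hcr).2
    rw [UG_inv_apply s hs, Fin.rev_rev] at h0
    exact sig_inj σ h0
  have hL : s ∈ PBs K (fun x : Fin n => if x = Fin.rev a then 1 else 0) := by
    intro k i hik
    have hk : k = Fin.rev a := by
      by_contra hne
      simp only [if_neg hne] at hik
      omega
    have hi : i ≠ Fin.rev a := by
      rintro rfl
      simp only [hk, if_true] at hik
      omega
    rw [hk]; exact hrow i hi
  have hL' := (PBs K (fun x : Fin n => if x = Fin.rev a then 1 else 0)).inv_mem hL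
  have hcolm : ∀ k, k ≠ a → s.1 k a = 0 := by
    intro k hk
    have hkr : Fin.rev k ≠ Fin.rev a := fun h' => hk (Fin.rev_injective h')
    have h0 : s⁻¹.1 (Fin.rev a) (Fin.rev k) = 0 := by
      apply hL'
      simp only [if_neg hkr, if_true]
      omega
    rw [UG_inv_apply s hs, Fin.rev_rev, Fin.rev_rev] at h0
    exact sig_inj σ h0
  intro k i hik
  by_cases hia : i = a
  · rw [hia]
    apply hcolm
    rintro rfl
    rw [hia] at hik
    exact lt_irrefl _ hik
  · have hk : k = Fin.rev a := by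
      by_contra hne
      have h1 := bQ_le_one a k hne
      have h2 := one_le_bQ a i hia
      omega
    have hi : i ≠ Fin.rev a := by
      rintro rfl
      rw [hk] at hik
      exact lt_irrefl _ hik
    rw [hk]; exact hrow i hi

/-- If `s` conjugates the Siegel radical into `U`, it lies in the Siegel parabolic. -/
theorem hwc_S [Finite K] (hF : FF σ) (s : SpecialLinearGroup (Fin n) K) (hs : s ∈ UG n σ)
    (h : ∀ x ∈ UG n σ, RBm bS x.1 → s * x * s⁻¹ ∈ UT n K) : PBm bS s.1 := by
  obtain ⟨ε, hε0, hε⟩ := hF.eps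
  -- third-block rows
  have h1 : ∀ i k : Fin n, i < Fin.rev i → Fin.rev k < k → s.1 k i = 0 := by
    intro i k hi hk
    have ha : i ≠ Fin.rev i := ne_of_lt hi
    have hy := h (qS σ i 0 ε ha rfl) (qS_mem_UG hF.inv i 0 ε ha rfl (by simp [hε])) (by
      rw [qS_coe]
      intro k l hkl
      by_cases hlk : l ≤ k
      · exact qM_ut i hi 0 (fun _ _ => rfl) ε k l hlk
      · rw [qM_apply, Matrix.one_apply_ne (ne_of_lt (not_le.mp hlk))]
        have : ¬ (k = i ∧ l = Fin.rev i) := by
          rintro ⟨rfl, rfl⟩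
          rw [bS_first k hi, bS_third (Fin.rev k) (by rw [Fin.rev_rev]; exact hi)] at hkl
          omega
        simp [this])
    have hy0 := ((mem_UT _).mp hy).1 k (Fin.rev k) hk
    rw [coe_mul', Matrix.mul_apply] at hy0
    have e1 : ∀ c, (s * qS σ i 0 ε ha rfl).1 k c =
        s.1 k c + (if c = Fin.rev i then ε * s.1 k i else 0) := by
      intro c
      rw [coe_mul', qS_coe, mul_qM_apply]
      simp
    have e2 : ∑ c, (s * qS σ i 0 ε ha rfl).1 k c * s⁻¹.1 c (Fin.rev k) =
        (s.1 * s⁻¹.1) k (Fin.rev k) + ε * s.1 k i * s⁻¹.1 (Fin.rev i) (Fin.rev k) := by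
      have e3 : ∑ c, (if c = Fin.rev i then ε * s.1 k i else 0) * s⁻¹.1 c (Fin.rev k) =
          ε * s.1 k i * s⁻¹.1 (Fin.rev i) (Fin.rev k) := by
        rw [Finset.sum_eq_single (Fin.rev i)]
        · rw [if_pos rfl]
        · intro c _ hc; rw [if_neg hc, zero_mul]
        · intro h'; exact absurd (Finset.mem_univ _) h'
      rw [Matrix.mul_apply, ← e3, ← Finset.sum_add_distrib]
      apply Finset.sum_congr rfl
      intro c _
      rw [e1, add_mul]
    rw [e2, coe_mul_inv', Matrix.one_apply_ne (ne_of_gt hk), UG_inv_apply s hs, Fin.rev_rev,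
      Fin.rev_rev, zero_add] at hy0
    have h3 : s.1 k i * σ (s.1 k i) = 0 := by
      have : ε * (s.1 k i * σ (s.1 k i)) = 0 := by linear_combination hy0
      exact (mul_eq_zero.mp this).resolve_left hε0
    rcases mul_eq_zero.mp h3 with h4 | h4
    · exact h4
    · exact sig_inj σ h4
  -- the middle row
  have h2 : ∀ i k : Fin n, i < Fin.rev i → k = Fin.rev k → s.1 k i = 0 := by
    intro i k hi hk
    have hc := UG_col s hs (Fin.rev i) i
    rw [if_neg (ne_of_gt hi), Finset.sum_eq_single k] at hc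
    · rw [Fin.rev_rev, ← hk] at hc
      rcases mul_eq_zero.mp hc with h4 | h4
      · exact sig_inj σ h4
      · exact h4
    · intro c _ hck
      rcases lt_trichotomy c (Fin.rev c) with hlt | heq | hgt
      · rw [Fin.rev_rev, h1 i (Fin.rev c) hi (by rw [Fin.rev_rev]; exact hlt), map_zero, zero_mul]
      · exfalso
        apply hck
        apply Fin.ext
        have e1 := congrArg Fin.val heq
        have e2 := congrArg Fin.val hk
        rw [Fin.val_rev] at e1 e2
        have := c.isLt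
        have := k.isLt
        omega
      · rw [h1 i c hi hgt, mul_zero]
    · intro h'; exact absurd (Finset.mem_univ _) h'
  have h12 : ∀ i k : Fin n, i < Fin.rev i → ¬ (k < Fin.rev k) → s.1 k i = 0 := by
    intro i k hi hk
    rcases lt_or_eq_of_le (not_lt.mp hk) with h' | h'
    · exact h1 i k hi h'
    · exact h2 i k hi h'.symm
  have hL : s ∈ PBs K (fun x : Fin n => if x < Fin.rev x then 0 else 1) := by
    intro k i hik
    have hi : i < Fin.rev i := by
      by_contra hne
      simp only [if_neg hne] at hik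
      split_ifs at hik <;> omega
    have hk : ¬ (k < Fin.rev k) := by
      intro hk
      simp only [if_pos hk] at hik
      omega
    exact h12 i k hi hk
  have hL' := (PBs K (fun x : Fin n => if x < Fin.rev x then 0 else 1)).inv_mem hL
  -- rows of the third block
  have h3 : ∀ a b : Fin n, Fin.rev a < a → ¬ (Fin.rev b < b) → s.1 a b = 0 := by
    intro a b ha hb
    have h0 : s⁻¹.1 (Fin.rev b) (Fin.rev a) = 0 := by
      apply hL'
      have e1 : Fin.rev a < Fin.rev (Fin.rev a) := by rw [Fin.rev_rev]; exact ha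
      have e2 : ¬ (Fin.rev b < Fin.rev (Fin.rev b)) := by
        rw [Fin.rev_rev]
        intro h'
        exact hb (Fin.rev_lt_rev.mp (by rw [Fin.rev_rev]; exact h'))
      simp only [if_pos e1, if_neg e2]
      omega
    rw [UG_inv_apply s hs, Fin.rev_rev, Fin.rev_rev] at h0
    exact sig_inj σ h0
  intro k i hik
  by_cases hi : i < Fin.rev i
  · apply h12 i k hi
    intro hk
    rw [bS_first i hi, bS_first k hk] at hik
    exact lt_irrefl _ hik
  · have hk : Fin.rev k < k := by
      apply bS_eq_two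
      have h5 : bS i ≠ 0 := fun h' => hi (bS_eq_zero i h')
      have := bS_le_two k
      omega
    apply h3 k i hk
    intro hi3
    rw [bS_third i hi3, bS_third k hk] at hik
    exact lt_irrefl _ hik

end Cfsg.Agent.Lib.helper47.UFus
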