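import Mathlib
import Cfsg.Agent.Lib.helper47.UFusC

/-!
Strong closure in `U`, part 1: torus elements `hU`, the centre of `U`, long root elements.
-/

set_option autoImplicit false

namespace Cfsg.Agent.Lib.helper47.UFus

open Matrix Cfsg.Agent.Lib.helper47.PSLn Cfsg.Agent.Lib.helper47.PSLnFus

variable {n : ℕ} {K : Type*} [Field K] {σ : K →+* K}

theorem qM_zero (a : Fin n) : qM σ a 0 0 = 1 := by
  ext k l; rw [qM_apply]; simp

theorem sum_single_mul' (k : Fin n) (c : K) (f : Fin n → K) :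
    ∑ x, (Pi.single k c : Fin n → K) x * f x = c * f k := by
  rw [Finset.sum_eq_single k]
  · rw [Pi.single_eq_same]
  · intro b _ hb; rw [Pi.single_eq_of_ne hb, zero_mul]
  · intro h; exact absurd (Finset.mem_univ _) h

theorem bQ_mono (a : Fin n) (hmin : ∀ x : Fin n, a ≤ x) (ha : a ≠ Fin.rev a) :
    Monotone (bQ a) := by
  intro x y hxy
  by_cases hx : x = a
  · rw [hx, bQ_self]; exact Nat.zero_le _
  · by_cases hy : y = Fin.rev a
    · rw [hy, bQ_rev a ha]
      by_cases hx' : x = Fin.rev a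
      · rw [hx', bQ_rev a ha]
      · exact le_trans (bQ_le_one a x hx') (by norm_num)
    · have hx' : x ≠ Fin.rev a := fun h => hy (le_antisymm (rev_max a hmin y) (h ▸ hxy))
      have hya : y ≠ a := fun h => hx (le_antisymm (h ▸ hxy) (hmin x))
      rw [bQ_mid a x hx hx', bQ_mid a y hya hy]

/-- Row `a` is additive on the radical of the point stabiliser. -/
theorem rbQ_mul_row (a : Fin n) (g g' : Matrix (Fin n) (Fin n) K) (hg : RBm (bQ a) g)
    (hg' : RBm (bQ a) g') (l : Fin n) (hla : l ≠ a) (hlr : l ≠ Fin.rev a) :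
    (g * g') a l = g' a l + g a l := by
  rw [Matrix.mul_apply, Finset.sum_eq_add a l (Ne.symm hla)]
  · rw [hg a a le_rfl, Matrix.one_apply_eq, one_mul, hg' l l le_rfl, Matrix.one_apply_eq, mul_one]
  · rintro c - ⟨hca, hcl⟩
    rw [hg' c l (by rw [bQ_mid a l hla hlr]; exact one_le_bQ a c hca), Matrix.one_apply_ne hcl,
      mul_zero]
  · intro h; exact absurd (Finset.mem_univ _) h
  · intro h; exact absurd (Finset.mem_univ _) h

/-- An element of the radical of the point stabiliser with trivial row is a long root element. -/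
theorem eq_long_of_row_zero (a : Fin n) (ha : a ≠ Fin.rev a)
    (z : SpecialLinearGroup (Fin n) K) (hz : z ∈ UG n σ) (hzr : RBm (bQ a) z.1)
    (h0 : ∀ l, l ≠ a → l ≠ Fin.rev a → z.1 a l = 0) :
    z = qS σ a 0 (z.1 a (Fin.rev a)) ha rfl ∧ z.1 a (Fin.rev a) + σ (z.1 a (Fin.rev a)) = 0 := by
  have hcol : ∀ k, k ≠ a → k ≠ Fin.rev a → z.1 k (Fin.rev a) = 0 := by
    intro k hka hkr
    have h1 := UG_row z hz k (Fin.rev a)
    rw [if_neg hkr, Finset.sum_eq_add k (Fin.rev a) hkr] at h1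
    · rw [Fin.rev_rev] at h1
      rw [hzr k k le_rfl, Matrix.one_apply_eq, hzr a a le_rfl, Matrix.one_apply_eq, map_one,
        h0 (Fin.rev k) (fun h => hkr (by rw [← h, Fin.rev_rev]))
          (fun h => hka (Fin.rev_injective h)), map_zero] at h1
      linear_combination h1
    · rintro c - ⟨hck, hcr⟩
      rw [hzr k c (by rw [bQ_mid a k hka hkr]; exact bQ_le_one a c hcr),
        Matrix.one_apply_ne (Ne.symm hck), zero_mul]
    · intro h; exact absurd (Finset.mem_univ _) h
    · intro h; exact absurd (Finset.mem_univ _) h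
  have heq : z = qS σ a 0 (z.1 a (Fin.rev a)) ha rfl := by
    apply Subtype.ext
    ext k l
    rw [qS_coe, qM_apply]
    simp only [Pi.zero_apply, map_zero, ite_self, add_zero, sub_zero]
    by_cases hk : k = a
    · subst hk
      by_cases hl : l = Fin.rev k
      · subst hl; rw [if_pos ⟨rfl, rfl⟩, Matrix.one_apply_ne ha, zero_add]
      · rw [if_neg (fun h => hl h.2), add_zero]
        by_cases hlk : l = k
        · subst hlk; exact hzr l l le_rfl
        · rw [h0 l hlk hl, Matrix.one_apply_ne (Ne.symm hlk)]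
    · rw [if_neg (fun h => hk h.1), add_zero]
      by_cases hl : l = Fin.rev a
      · subst hl
        by_cases hkr : k = Fin.rev a
        · rw [hkr]; exact hzr _ _ le_rfl
        · rw [hcol k hk hkr, Matrix.one_apply_ne hkr]
      · exact hzr k l (le_trans (bQ_le_one a l hl) (one_le_bQ a k hk))
  refine ⟨heq, ?_⟩
  have h1 := UG_row z hz a (Fin.rev a)
  rw [if_neg ha, Finset.sum_eq_add a (Fin.rev a) ha] at h1
  · rw [Fin.rev_rev] at h1
    rw [hzr a a le_rfl, Matrix.one_apply_eq, map_one] at h1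
    linear_combination h1
  · rintro c - ⟨hca, hcr⟩
    rw [h0 c hca hcr, zero_mul]
  · intro h; exact absurd (Finset.mem_univ _) h
  · intro h; exact absurd (Finset.mem_univ _) h

/-- The centre of `U` consists of long root elements. -/
theorem center_long [Finite K] (hF : FF σ) (a : Fin n) (hmin : ∀ x : Fin n, a ≤ x)
    (ha : a ≠ Fin.rev a) (z : SpecialLinearGroup (Fin n) K) (hz : z ∈ UG n σ ⊓ UT n K)
    (hzc : ∀ y ∈ UG n σ ⊓ UT n K, y * z = z * y) :
    z = qS σ a 0 (z.1 a (Fin.rev a)) ha rfl ∧ z.1 a (Fin.rev a) + σ (z.1 a (Fin.rev a)) = 0 := by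
  have hmono := bQ_mono a hmin ha
  have hzr : RBm (bQ a) z.1 := hcent_Q hF a hmin ha z hz.2
    (fun x hx hxr => (hzc x ⟨hx, RBs_le_UT (bQ a) hmono hxr⟩).symm)
  apply eq_long_of_row_zero a ha z hz.1 hzr
  intro j hja hjr
  obtain ⟨ω, hω⟩ := hF.ne
  have hUT := (mem_UT z).mp hz.2
  have key : ∀ c₀ : K, c₀ * z.1 (Fin.rev j) (Fin.rev a) = - (z.1 a j * σ c₀) := by
    intro c₀
    obtain ⟨t, -, ht⟩ := exists_valid_single' hF (Fin.rev j) c₀
    have har : a ≠ Fin.rev j := fun h => hjr (by rw [h, Fin.rev_rev])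
    have hva : (Pi.single (Fin.rev j) c₀ : Fin n → K) a = 0 := Pi.single_eq_of_ne har _
    have hx := hzc (qS σ a (Pi.single (Fin.rev j) c₀) t ha hva)
      ⟨qS_mem_UG hF.inv _ _ _ ha hva ht, RBs_le_UT (bQ a) hmono (qM_rbm a ha _ hva t)⟩
    have h1 := congrFun (congrFun (congrArg Subtype.val hx) a) (Fin.rev a)
    rw [coe_mul', coe_mul', qS_coe, qM_mul_apply, mul_qM_apply] at h1
    have e1 : ∑ c, z.1 a c * σ ((Pi.single (Fin.rev j) c₀ : Fin n → K) (Fin.rev c)) =
        z.1 a j * σ c₀ := by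
      rw [Finset.sum_eq_single j]
      · rw [Pi.single_eq_same]
      · intro c _ hc
        rw [Pi.single_eq_of_ne (fun h => hc (Fin.rev_injective h)), map_zero, mul_zero]
      · intro h; exact absurd (Finset.mem_univ _) h
    have e2 : (Pi.single (Fin.rev j) c₀ : Fin n → K) (Fin.rev a) = 0 :=
      Pi.single_eq_of_ne (fun h => hja (Fin.rev_injective h).symm) _
    rw [if_pos rfl, if_pos rfl, if_pos rfl, if_pos rfl, sum_single_mul', e1, e2, map_zero, hUT.2 a,
      hUT.2 (Fin.rev a)] at h1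
    linear_combination h1
  have k1 := key 1
  have k2 := key ω
  rw [map_one] at k1
  have h3 : z.1 a j * (σ ω - ω) = 0 := by linear_combination k2 - ω * k1
  exact (mul_eq_zero.mp h3).resolve_right (sub_ne_zero.mpr hω)

/-! ### Torus elements -/

/-- The torus element `diag(t at i, t⁻¹ at j, σ t at j', (σ t)⁻¹ at i')`. -/
def hU (σ : K →+* K) (i j : Fin n) (hij : i ≠ j) (t : K) : SpecialLinearGroup (Fin n) K :=
  hE hij t * hE (a := Fin.rev j) (b := Fin.rev i) (fun h => hij (Fin.rev_injective h).symm) (σ t)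

/-- The diagonal of `hU`. -/
def dU (σ : K →+* K) (i j : Fin n) (t : K) : Fin n → K := fun x =>
  (if x = i then t else if x = j then t⁻¹ else 1) *
    (if x = Fin.rev j then σ t else if x = Fin.rev i then (σ t)⁻¹ else 1)

theorem hU_coe (i j : Fin n) (hij : i ≠ j) (t : K) (ht : t ≠ 0) :
    (hU σ i j hij t).1 = Matrix.diagonal (dU σ i j t) := by
  unfold hU
  rw [coe_mul', hE_coe hij t ht, hE_coe _ (σ t) (by rwa [Ne, map_eq_zero]),
    Matrix.diagonal_mul_diagonal]
  rfl

section dU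

variable (i j : Fin n) (hij : i ≠ j) (h2 : i ≠ Fin.rev i) (h3 : i ≠ Fin.rev j)
  (h4 : j ≠ Fin.rev j) (t : K)

include h2 h3 in
theorem dU_i : dU σ i j t i = t := by
  unfold dU
  rw [if_pos rfl, if_neg h3, if_neg h2, mul_one]

include hij h3 h4 in
theorem dU_j : dU σ i j t j = t⁻¹ := by
  unfold dU
  have h5 : j ≠ Fin.rev i := fun h => h3 (by rw [h, Fin.rev_rev])
  rw [if_neg (Ne.symm hij), if_pos rfl, if_neg h4, if_neg h5, mul_one]

include h3 h4 in
theorem dU_rj : dU σ i j t (Fin.rev j) = σ t := by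
  unfold dU
  rw [if_neg (Ne.symm h3), if_neg (Ne.symm h4), if_pos rfl, one_mul]

include hij h2 h3 in
theorem dU_ri : dU σ i j t (Fin.rev i) = (σ t)⁻¹ := by
  unfold dU
  have h5 : j ≠ Fin.rev i := fun h => h3 (by rw [h, Fin.rev_rev])
  rw [if_neg (Ne.symm h2), if_neg (Ne.symm h5), if_neg (fun h => hij (Fin.rev_injective h)),
    if_pos rfl, one_mul]

theorem dU_other (x : Fin n) (hx1 : x ≠ i) (hx2 : x ≠ j) (hx3 : x ≠ Fin.rev j)
    (hx4 : x ≠ Fin.rev i) : dU σ i j t x = 1 := by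
  unfold dU
  rw [if_neg hx1, if_neg hx2, if_neg hx3, if_neg hx4, mul_one]

include hij h2 h3 h4 in
theorem hU_mem_UG (hσ2 : ∀ x, σ (σ x) = x) (ht : t ≠ 0) : hU σ i j hij t ∈ UG n σ := by
  apply diag_mem_UG _ _ (hU_coe i j hij t ht)
  intro x
  have hst : σ t ≠ 0 := by rwa [Ne, map_eq_zero]
  by_cases h1 : x = i
  · rw [h1, dU_ri i j hij h2 h3, dU_i i j h2 h3, map_inv₀, hσ2, inv_mul_cancel₀ ht]
  · by_cases h1' : x = j
    · rw [h1', dU_rj i j h3 h4, dU_j i j hij h3 h4, hσ2, mul_inv_cancel₀ ht]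
    · by_cases h1'' : x = Fin.rev j
      · rw [h1'', Fin.rev_rev, dU_rj i j h3 h4, dU_j i j hij h3 h4, map_inv₀,
          inv_mul_cancel₀ hst]
      · by_cases h1''' : x = Fin.rev i
        · rw [h1''', Fin.rev_rev, dU_ri i j hij h2 h3, dU_i i j h2 h3, mul_inv_cancel₀ hst]
        · rw [dU_other i j t x h1 h1' h1'' h1''',
            dU_other i j t (Fin.rev x) (fun h => h1''' (by rw [← h, Fin.rev_rev]))
              (fun h => h1'' (by rw [← h, Fin.rev_rev])) (fun h => h1' (Fin.rev_injective h))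
              (fun h => h1 (Fin.rev_injective h)), map_one, mul_one]

end dU

/-- Conjugating a long root element by a diagonal element. -/
theorem diag_conj_long (s : SpecialLinearGroup (Fin n) K) (D : Fin n → K)
    (h : s.1 = Matrix.diagonal D) (a : Fin n) (ha : a ≠ Fin.rev a) (t : K) :
    s * qS σ a 0 t ha rfl * s⁻¹ = qS σ a 0 (D a * t * (D (Fin.rev a))⁻¹) ha rfl := by
  apply Subtype.ext
  ext k l
  rw [diag_conj_apply s _ D h, qS_coe, qS_coe, qM_apply, qM_apply]
  simp only [Pi.zero_apply, map_zero, ite_self, add_zero, sub_zero]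
  by_cases hkl : k = a ∧ l = Fin.rev a
  · obtain ⟨rfl, rfl⟩ := hkl
    rw [if_pos ⟨rfl, rfl⟩, if_pos ⟨rfl, rfl⟩, Matrix.one_apply_ne ha]; ring
  · rw [if_neg hkl, if_neg hkl, add_zero]
    by_cases h1 : k = l
    · subst h1; rw [Matrix.one_apply_eq, mul_one, mul_inv_cancel₀ (diag_ne_zero s D h k)]
    · rw [Matrix.one_apply_ne h1, mul_zero, zero_mul]

/-- Conjugating a long root element by a double transposition. -/
theorem WS_conj_long (a k : Fin n) (h1 : a ≠ k) (h2 : a ≠ Fin.rev a) (h3 : a ≠ Fin.rev k)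
    (h4 : k ≠ Fin.rev k) (t : K) :
    WS K (dsw a k) (dsw_sign a k h1) * qS σ a 0 t h2 rfl * (WS K (dsw a k) (dsw_sign a k h1))⁻¹ =
      qS σ k 0 t h4 rfl := by
  have hπ := dsw_invol a k h1 h2 h3 h4
  apply Subtype.ext
  ext x y
  rw [WS_conj_apply _ _ hπ, qS_coe, qS_coe, qM_apply, qM_apply]
  simp only [Pi.zero_apply, map_zero, ite_self, add_zero, sub_zero]
  have e1 : (1 : Matrix (Fin n) (Fin n) K) (dsw a k x) (dsw a k y) =
      (1 : Matrix (Fin n) (Fin n) K) x y := by
    rw [Matrix.one_apply, Matrix.one_apply]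
    simp only [(dsw a k).injective.eq_iff]
  have e2 : (dsw a k x = a ∧ dsw a k y = Fin.rev a) ↔ (x = k ∧ y = Fin.rev k) := by
    constructor
    · rintro ⟨hx, hy⟩
      constructor
      · rw [← hπ x, hx, dsw_apply_left a k h2 h3]
      · rw [← hπ y, hy, dsw_rev a k h1 h2 h3 h4, dsw_apply_left a k h2 h3]
    · rintro ⟨rfl, rfl⟩
      constructor
      · exact dsw_apply_right a x h3 h4
      · rw [dsw_rev a x h1 h2 h3 h4, dsw_apply_right a x h3 h4]
  rw [e1]
  simp only [e2]

theorem qS_long_one (a : Fin n) (ha : a ≠ Fin.rev a) : qS σ a 0 0 ha rfl = 1 := by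
  apply Subtype.ext
  rw [qS_coe, qM_zero]; rfl

theorem qS_long_mul (a : Fin n) (ha : a ≠ Fin.rev a) (t t' : K) :
    qS σ a 0 t ha rfl * qS σ a 0 t' ha rfl = qS σ a 0 (t + t') ha rfl := by
  apply Subtype.ext
  ext k l
  rw [coe_mul', qS_coe, qS_coe, qS_coe, qM_mul_apply, qM_apply, qM_apply, qM_apply]
  simp only [Pi.zero_apply, map_zero, ite_self, add_zero, sub_zero, zero_mul,
    Finset.sum_const_zero]
  by_cases hk : k = a
  · subst hk
    by_cases hl : l = Fin.rev k
    · subst hl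
      simp [Ne.symm ha]
      try ring
    · simp [hl, Ne.symm hl]
  · simp [hk]

theorem qS_long_inv (a : Fin n) (ha : a ≠ Fin.rev a) (t : K) :
    (qS σ a 0 t ha rfl)⁻¹ = qS σ a 0 (-t) ha rfl := by
  apply inv_eq_of_mul_eq_one_right
  rw [qS_long_mul, add_neg_cancel, qS_long_one]

end Cfsg.Agent.Lib.helper47.UFus
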