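import Mathlib
import Cfsg.Agent.Lib.helper47.UFusD

/-!
Strong closure in `U`, part 2: a non-trivial subgroup of `U = UG ⊓ UT` closed under fusion is `U`.
-/

set_option autoImplicit false

namespace Cfsg.Agent.Lib.helper47.UFus

open Matrix Cfsg.Agent.Lib.helper47.PSLn Cfsg.Agent.Lib.helper47.PSLnFus

variable {n : ℕ} {K : Type*} [Field K] {σ : K →+* K}

/-- The standing hypotheses for strong closure. -/
structure SCHyp [Finite K] (σ : K →+* K) (a a1 : Fin n)
    (T : Subgroup (SpecialLinearGroup (Fin n) K)) : Prop where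
  hF : FF σ
  hmin : ∀ x : Fin n, a ≤ x
  h01 : a < a1
  h11 : a1 < Fin.rev a1
  hTU : T ≤ UG n σ ⊓ UT n K
  hcl : ∀ x ∈ T, ∀ g ∈ UG n σ, g * x * g⁻¹ ∈ UT n K → g * x * g⁻¹ ∈ T

theorem idx_facts {a a1 : Fin n} (h01 : a < a1) (h11 : a1 < Fin.rev a1) :
    a < Fin.rev a ∧ a ≠ a1 ∧ a ≠ Fin.rev a ∧ a ≠ Fin.rev a1 ∧ a1 ≠ Fin.rev a1 ∧
      a1 ≠ Fin.rev a ∧ Fin.rev a1 ≠ Fin.rev a := by
  have h1 : Fin.rev a1 < Fin.rev a := Fin.rev_lt_rev.mpr h01
  have h2 : a < Fin.rev a := lt_trans h01 (lt_trans h11 h1)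
  exact ⟨h2, ne_of_lt h01, ne_of_lt h2, ne_of_lt (lt_trans h01 h11), ne_of_lt h11,
    ne_of_lt (lt_trans h11 h1), ne_of_lt h1⟩

theorem qM_row (a : Fin n) (v : Fin n → K) (t : K) (l : Fin n) (hla : l ≠ a)
    (hlr : l ≠ Fin.rev a) : qM σ a v t a l = v l := by
  rw [qM_apply, Matrix.one_apply_ne (Ne.symm hla), if_pos rfl, if_neg hlr,
    if_neg (fun h => hlr h.2)]
  ring

theorem qM_pbm (a e : Fin n) (ha : a ≠ Fin.rev a) (he : e ≠ Fin.rev a) (v : Fin n → K)
    (hva : v a = 0) (t : K) : PBm (bQ a) (qM σ e v t) := by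
  intro k i hik
  have hki : k ≠ i := by rintro rfl; exact lt_irrefl _ hik
  rw [qM_apply, Matrix.one_apply_ne hki]
  have hrea : Fin.rev e ≠ a := fun h => he (by rw [← h, Fin.rev_rev])
  have h1 : (if k = e then v i else 0) = 0 := by
    split_ifs with hk
    · by_cases hea : e = a
      · rw [hk, hea, bQ_self] at hik; omega
      · have hi : i = a := by
          by_contra hne
          have := one_le_bQ a i hne
          rw [hk, bQ_mid a e hea he] at hik
          omega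
        rw [hi, hva]
    · rfl
  have h2 : (if i = Fin.rev e then σ (v (Fin.rev k)) else 0) = 0 := by
    split_ifs with hi
    · by_cases hea : e = a
      · rw [hi, hea, bQ_rev a ha] at hik
        have := bQ_le_one a k
        by_cases hk : k = Fin.rev a
        · rw [hk, bQ_rev a ha] at hik; omega
        · have := this hk; omega
      · have hk : k = Fin.rev a := by
          by_contra hne
          have := bQ_le_one a k hne
          rw [hi, bQ_mid a (Fin.rev e) hrea (fun h => hea (Fin.rev_injective h))] at hik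
          omega
        rw [hk, Fin.rev_rev, hva, map_zero]
    · rfl
  have h3 : (if k = e ∧ i = Fin.rev e then t else 0) = 0 := by
    rw [if_neg]
    rintro ⟨hk, hi⟩
    by_cases hea : e = a
    · rw [hk, hi, hea, bQ_self, bQ_rev a ha] at hik; omega
    · rw [hk, hi, bQ_mid a e hea he,
        bQ_mid a (Fin.rev e) hrea (fun h => hea (Fin.rev_injective h))] at hik
      omega
  rw [h1, h2, h3]; ring

/-- Long root elements at the first index lie in `T`. -/
theorem long_mem [Fintype K] {p f : ℕ} [Fact p.Prime] (hK : Fintype.card K = p ^ f)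
    {a a1 : Fin n} {T : Subgroup (SpecialLinearGroup (Fin n) K)} (H : SCHyp σ a a1 T)
    (hT : T ≠ ⊥) (ha : a ≠ Fin.rev a) (t : K) (ht : t + σ t = 0) : qS σ a 0 t ha rfl ∈ T := by
  have := finite_sl (n := n) (K := K)
  have hP : IsPGroup p (UG n σ ⊓ UT n K : Subgroup (SpecialLinearGroup (Fin n) K)) :=
    (isPGroup_UT hK).to_le inf_le_right
  obtain ⟨z, hzT, hz1, hzZ⟩ := exists_ZS_of_closed (UG n σ ⊓ UT n K) T hP H.hTU hT
    (fun x hx g hg => H.hcl x hx g hg.1
      ((UT n K).mul_mem ((UT n K).mul_mem hg.2 (H.hTU hx).2) ((UT n K).inv_mem hg.2)))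
  rw [mem_ZS] at hzZ
  obtain ⟨hzU, hzc⟩ := hzZ
  obtain ⟨hzeq, hzv⟩ := center_long H.hF a H.hmin ha z hzU hzc
  obtain ⟨t₀, ht₀⟩ : ∃ t₀, t₀ = z.1 a (Fin.rev a) := ⟨_, rfl⟩
  rw [← ht₀] at hzeq hzv
  have ht₀0 : t₀ ≠ 0 := by
    intro h0
    apply hz1
    rw [hzeq, h0]
    exact qS_long_one a ha
  by_cases ht0 : t = 0
  · rw [ht0, qS_long_one]; exact T.one_mem
  have hfix : σ (t / t₀) = t / t₀ := by
    have e1 : σ t = -t := by linear_combination ht
    have e2 : σ t₀ = -t₀ := by linear_combination hzv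
    rw [map_div₀, e1, e2, neg_div_neg_eq]
  obtain ⟨d, hd⟩ := H.hF.nm (t / t₀) hfix
  have hd0 : d ≠ 0 := by
    rintro rfl
    rw [zero_mul] at hd
    exact div_ne_zero ht0 ht₀0 hd.symm
  obtain ⟨i0, i1, i2, i3, i4, i5, i6⟩ := idx_facts H.h01 H.h11
  have hh := hU_mem_UG a a1 i1 i2 i3 i4 d H.hF.inv hd0
  have hconj := diag_conj_long (σ := σ) (hU σ a a1 i1 d) (dU σ a a1 d) (hU_coe a a1 i1 d hd0) a ha t₀
  rw [dU_i a a1 i2 i3 d, dU_ri a a1 i1 i2 i3 d, inv_inv] at hconj
  have e3 : d * t₀ * σ d = t := by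
    have : d * σ d * t₀ = t := by rw [hd]; field_simp
    linear_combination this
  rw [e3] at hconj
  rw [← hconj]
  have hzT' : qS σ a 0 t₀ ha rfl ∈ T := by rw [← hzeq]; exact hzT
  apply H.hcl _ hzT' _ hh
  rw [hconj]
  exact (mem_UT_iff _).mpr (qM_ut a i0 0 (fun _ _ => rfl) t)

/-- Long root elements at the second index lie in `T`. -/
theorem long1_mem [Finite K] {a a1 : Fin n} {T : Subgroup (SpecialLinearGroup (Fin n) K)}
    (H : SCHyp σ a a1 T) (ha : a ≠ Fin.rev a) (ha1 : a1 ≠ Fin.rev a1)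
    (hlong : ∀ t : K, t + σ t = 0 → qS σ a 0 t ha rfl ∈ T) (t : K) (ht : t + σ t = 0) :
    qS σ a1 0 t ha1 rfl ∈ T := by
  obtain ⟨i0, i1, i2, i3, i4, i5, i6⟩ := idx_facts H.h01 H.h11
  have hw := WS_mem_UG (σ := σ) (K := K) (dsw a a1) (dsw_sign a a1 i1) (dsw_invol a a1 i1 i2 i3 i4)
    (dsw_rev a a1 i1 i2 i3 i4)
  have hc := WS_conj_long (σ := σ) a a1 i1 ha i3 ha1 t
  rw [← hc]
  apply H.hcl _ (hlong t ht) _ hw
  rw [hc]
  exact (mem_UT_iff _).mpr (qM_ut a1 H.h11 0 (fun _ _ => rfl) t)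

/-- The rows (at index `a`) of the elements of `T` in the radical of the point stabiliser. -/
def InV (a : Fin n) (T : Subgroup (SpecialLinearGroup (Fin n) K)) (v : Fin n → K) : Prop :=
  v a = 0 ∧ v (Fin.rev a) = 0 ∧
    ∃ g ∈ T, RBm (bQ a) g.1 ∧ ∀ l, l ≠ a → l ≠ Fin.rev a → g.1 a l = v l

theorem InV.zero (a : Fin n) (T : Subgroup (SpecialLinearGroup (Fin n) K)) :
    InV a T (0 : Fin n → K) :=
  ⟨rfl, rfl, 1, T.one_mem, RBm.one _, fun l hla _ => Matrix.one_apply_ne (Ne.symm hla)⟩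

theorem InV.add {a : Fin n} {T : Subgroup (SpecialLinearGroup (Fin n) K)} {v v' : Fin n → K}
    (h : InV a T v) (h' : InV a T v') : InV a T (v + v') := by
  obtain ⟨h1, h2, g, hgT, hgR, hrow⟩ := h
  obtain ⟨h1', h2', g', hgT', hgR', hrow'⟩ := h'
  refine ⟨by rw [Pi.add_apply, h1, h1', add_zero], by rw [Pi.add_apply, h2, h2', add_zero],
    g * g', T.mul_mem hgT hgT', by rw [coe_mul']; exact hgR.mul hgR', ?_⟩
  intro l hla hlr
  rw [coe_mul', rbQ_mul_row a _ _ hgR hgR' l hla hlr, hrow l hla hlr, hrow' l hla hlr,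
    Pi.add_apply, add_comm]

theorem InV.neg [Finite K] {a : Fin n} {T : Subgroup (SpecialLinearGroup (Fin n) K)}
    {v : Fin n → K} (h : InV a T v) : InV a T (-v) := by
  obtain ⟨h1, h2, g, hgT, hgR, hrow⟩ := h
  have hinv : RBm (bQ a) g⁻¹.1 := (RBs K (bQ a)).inv_mem hgR
  refine ⟨by rw [Pi.neg_apply, h1, neg_zero], by rw [Pi.neg_apply, h2, neg_zero],
    g⁻¹, T.inv_mem hgT, hinv, ?_⟩
  intro l hla hlr
  have e1 := rbQ_mul_row a _ _ hgR hinv l hla hlr
  rw [coe_mul_inv', Matrix.one_apply_ne (Ne.symm hla)] at e1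
  rw [Pi.neg_apply, ← hrow l hla hlr]
  linear_combination (-1 : K) * e1

theorem InV.sub [Finite K] {a : Fin n} {T : Subgroup (SpecialLinearGroup (Fin n) K)}
    {v v' : Fin n → K} (h : InV a T v) (h' : InV a T v') : InV a T (v - v') := by
  rw [sub_eq_add_neg]; exact h.add h'.neg

section main

variable [Finite K] {a a1 : Fin n} {T : Subgroup (SpecialLinearGroup (Fin n) K)}

/-- The first row in `T`: from a commutator. -/
theorem inV_b1 (H : SCHyp σ a a1 T) (ha : a ≠ Fin.rev a) (ha1 : a1 ≠ Fin.rev a1)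
    (hlong1 : ∀ t : K, t + σ t = 0 → qS σ a1 0 t ha1 rfl ∈ T) (b : K) :
    InV a T (Pi.single (Fin.rev a1) b) := by
  obtain ⟨i0, i1, i2, i3, i4, i5, i6⟩ := idx_facts H.h01 H.h11
  obtain ⟨ε, hε0, hε⟩ := H.hF.eps
  obtain ⟨c, hc⟩ : ∃ c : K, ε * c = b := ⟨b / ε, by field_simp⟩
  have hmono := bQ_mono a H.hmin ha
  have hva : (Pi.single a1 c : Fin n → K) a = 0 := Pi.single_eq_of_ne i1 _
  have hval : (0 : K) + σ 0 + ∑ k, (Pi.single a1 c : Fin n → K) k *
      σ ((Pi.single a1 c : Fin n → K) (Fin.rev k)) = 0 := by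
    rw [sum_single_valid, if_neg i4]; simp
  obtain ⟨g₀, hg₀⟩ : ∃ g₀, g₀ = qS σ a (Pi.single a1 c) 0 ha hva := ⟨_, rfl⟩
  have hg₀U : g₀ ∈ UG n σ := by rw [hg₀]; exact qS_mem_UG H.hF.inv _ _ _ ha hva hval
  have hg₀R : RBm (bQ a) g₀.1 := by rw [hg₀]; exact qM_rbm a ha _ hva 0
  have hg₀T : g₀ ∈ UT n K := RBs_le_UT (bQ a) hmono hg₀R
  obtain ⟨x1, hx1⟩ : ∃ x1, x1 = qS σ a1 0 ε ha1 rfl := ⟨_, rfl⟩
  have hx1T : x1 ∈ T := by rw [hx1]; exact hlong1 ε hε
  have hx1U := H.hTU hx1T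
  have hx1P : x1 ∈ PBs K (bQ a) := by
    rw [hx1]; exact qM_pbm a a1 ha i5 0 rfl ε
  have hx1P' : x1⁻¹ ∈ PBs K (bQ a) := (PBs K (bQ a)).inv_mem hx1P
  have hA : RBm (bQ a) (x1⁻¹ * g₀ * x1⁻¹⁻¹).1 := RBs_conj (bQ a) x1⁻¹ g₀ hx1P' hg₀R
  have hg₀inv : RBm (bQ a) g₀⁻¹.1 := (RBs K (bQ a)).inv_mem hg₀R
  have hyT : x1⁻¹ * g₀ * x1⁻¹⁻¹ * g₀⁻¹ ∈ T := by
    have e : x1⁻¹ * g₀ * x1⁻¹⁻¹ * g₀⁻¹ = x1⁻¹ * (g₀ * x1 * g₀⁻¹) := by group
    rw [e]
    exact T.mul_mem (T.inv_mem hx1T) (H.hcl x1 hx1T g₀ hg₀U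
      ((UT n K).mul_mem ((UT n K).mul_mem hg₀T hx1U.2) ((UT n K).inv_mem hg₀T)))
  refine ⟨Pi.single_eq_of_ne i3 _, Pi.single_eq_of_ne (Ne.symm i6) _,
    x1⁻¹ * g₀ * x1⁻¹⁻¹ * g₀⁻¹, hyT, ?_, ?_⟩
  · have : (x1⁻¹ * g₀ * x1⁻¹⁻¹ * g₀⁻¹).1 = (x1⁻¹ * g₀ * x1⁻¹⁻¹).1 * g₀⁻¹.1 := rfl
    rw [this]; exact hA.mul hg₀inv
  · intro l hla hlr
    have e0 : (x1⁻¹ * g₀ * x1⁻¹⁻¹ * g₀⁻¹).1 = (x1⁻¹ * g₀ * x1⁻¹⁻¹).1 * g₀⁻¹.1 := rfl
    rw [e0, rbQ_mul_row a _ _ hA hg₀inv l hla hlr]
    have e1 := rbQ_mul_row a _ _ hg₀R hg₀inv l hla hlr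
    rw [coe_mul_inv', Matrix.one_apply_ne (Ne.symm hla)] at e1
    have e2 : g₀.1 a l = (Pi.single a1 c : Fin n → K) l := by
      rw [hg₀, qS_coe, qM_row a _ _ l hla hlr]
    have e3 : (x1⁻¹ * g₀ * x1⁻¹⁻¹).1 a l =
        g₀.1 a l + (if l = Fin.rev a1 then ε * g₀.1 a a1 else 0) := by
      rw [inv_inv, coe_mul', coe_mul', hx1, qS_long_inv, qS_coe, qS_coe, Matrix.mul_assoc,
        qM_mul_apply, mul_qM_apply]
      simp [i1]
    have e4 : g₀.1 a a1 = c := by
      rw [hg₀, qS_coe, qM_row a _ _ a1 (Ne.symm i1) i5, Pi.single_eq_same]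
    rw [e3, e4, hc]
    by_cases hl : l = Fin.rev a1
    · subst hl
      rw [if_pos rfl, Pi.single_eq_same]
      linear_combination (-1 : K) * e1
    · rw [if_neg hl, Pi.single_eq_of_ne hl]
      linear_combination (-1 : K) * e1

/-- Closure of the rows under the point stabiliser. -/
theorem inV_conj (H : SCHyp σ a a1 T) (ha : a ≠ Fin.rev a) (v : Fin n → K) (hv : InV a T v)
    (s : SpecialLinearGroup (Fin n) K) (hs : s ∈ UG n σ) (hsP : s ∈ PBs K (bQ a))
    (v' : Fin n → K) (hv'a : v' a = 0) (hv'r : v' (Fin.rev a) = 0)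
    (hv' : ∀ l, l ≠ a → l ≠ Fin.rev a → v' l = s.1 a a * ∑ c, v c * s⁻¹.1 c l) :
    InV a T v' := by
  obtain ⟨hva, hvr, g, hgT, hgR, hrow⟩ := hv
  have hmono := bQ_mono a H.hmin ha
  have hR : RBm (bQ a) (s * g * s⁻¹).1 := RBs_conj (bQ a) s g hsP hgR
  have hmem : s * g * s⁻¹ ∈ T := H.hcl g hgT s hs (RBs_le_UT (bQ a) hmono hR)
  have hsP' : PBm (bQ a) s⁻¹.1 := (PBs K (bQ a)).inv_mem hsP
  refine ⟨hv'a, hv'r, s * g * s⁻¹, hmem, hR, ?_⟩
  intro l hla hlr
  rw [hv' l hla hlr, coe_mul', Matrix.mul_apply]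
  have claim : ∀ c, (s * g).1 a c * s⁻¹.1 c l = (s.1 a a * v c + s.1 a c) * s⁻¹.1 c l := by
    intro c
    by_cases hcr : c = Fin.rev a
    · have h0 : s⁻¹.1 c l = 0 := by
        apply hsP'
        rw [hcr, bQ_rev a ha]
        have := bQ_le_one a l hlr
        omega
      rw [h0, mul_zero, mul_zero]
    · congr 1
      rw [coe_mul', Matrix.mul_apply]
      by_cases hca : c = a
      · rw [hca, hva, mul_zero, zero_add, Finset.sum_eq_single a]
        · rw [hgR a a le_rfl, Matrix.one_apply_eq, mul_one]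
        · intro x _ hx
          rw [hgR x a (by rw [bQ_self]; exact Nat.zero_le _), Matrix.one_apply_ne hx, mul_zero]
        · intro h; exact absurd (Finset.mem_univ _) h
      · rw [Finset.sum_eq_add a c (Ne.symm hca)]
        · rw [hrow c hca hcr, hgR c c le_rfl, Matrix.one_apply_eq, mul_one]
        · rintro x - ⟨hxa, hxc⟩
          rw [hgR x c (by rw [bQ_mid a c hca hcr]; exact one_le_bQ a x hxa),
            Matrix.one_apply_ne hxc, mul_zero]
        · intro h; exact absurd (Finset.mem_univ _) h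
        · intro h; exact absurd (Finset.mem_univ _) h
  rw [Finset.sum_congr rfl (fun c _ => claim c)]
  have e1 : ∑ c, (s.1 a a * v c + s.1 a c) * s⁻¹.1 c l =
      s.1 a a * ∑ c, v c * s⁻¹.1 c l + ∑ c, s.1 a c * s⁻¹.1 c l := by
    rw [Finset.mul_sum, ← Finset.sum_add_distrib]
    exact Finset.sum_congr rfl (fun c _ => by ring)
  have e2 : ∑ c, s.1 a c * s⁻¹.1 c l = 0 := by
    have := congrFun (congrFun (coe_mul_inv' s) a) l
    rw [Matrix.mul_apply, Matrix.one_apply_ne (Ne.symm hla)] at this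
    exact this
  rw [e1, e2, add_zero]

/-- All single rows lie in `T`. -/
theorem inV_single (H : SCHyp σ a a1 T) (ha : a ≠ Fin.rev a)
    (hb1 : ∀ b : K, InV a T (Pi.single (Fin.rev a1) b)) (j : Fin n) (hja : j ≠ a)
    (hjr : j ≠ Fin.rev a) (c : K) : InV a T (Pi.single j c) := by
  obtain ⟨i0, i1, i2, i3, i4, i5, i6⟩ := idx_facts H.h01 H.h11
  obtain ⟨ε, hε0, hε⟩ := H.hF.eps
  have hr1 : Fin.rev a1 ≠ Fin.rev (Fin.rev a1) := by rw [Fin.rev_rev]; exact Ne.symm i4
  -- the case `j = a1`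
  have hcase1 : ∀ c' : K, InV a T (Pi.single a1 c') := by
    intro c'
    obtain ⟨b, hb⟩ : ∃ b : K, b * ε = c' := ⟨c' / ε, by field_simp⟩
    have hLU : qS σ (Fin.rev a1) 0 ε hr1 rfl ∈ UG n σ :=
      qS_mem_UG H.hF.inv _ 0 ε hr1 rfl (by simp [hε])
    have hLP : qS σ (Fin.rev a1) 0 ε hr1 rfl ∈ PBs K (bQ a) :=
      qM_pbm a (Fin.rev a1) ha i6 0 rfl ε
    have h1 := inV_conj H ha _ (hb1 b) (qS σ (Fin.rev a1) 0 ε hr1 rfl)⁻¹
      ((UG n σ).inv_mem hLU) ((PBs K (bQ a)).inv_mem hLP)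
      (Pi.single (Fin.rev a1) b + Pi.single a1 c')
      (by rw [Pi.add_apply, Pi.single_eq_of_ne i3, Pi.single_eq_of_ne i1, add_zero])
      (by rw [Pi.add_apply, Pi.single_eq_of_ne (Ne.symm i6), Pi.single_eq_of_ne (Ne.symm i5),
        add_zero])
      (by
        intro l hla hlr
        rw [inv_inv, UG_inv_apply _ hLU, sum_single_mul', qS_coe, qM_apply, qM_apply]
        simp only [Pi.zero_apply, map_zero, ite_self, add_zero, sub_zero, Fin.rev_rev,
          Pi.add_apply]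
        rw [Matrix.one_apply_eq, if_neg (fun h => i6 h.1.symm), add_zero, map_one, one_mul]
        by_cases hl1 : l = a1
        · rw [hl1, Pi.single_eq_same, Pi.single_eq_of_ne i4, Matrix.one_apply_ne (Ne.symm i4),
            if_pos ⟨trivial, rfl⟩, ← hb]
          ring
        · rw [Pi.single_eq_of_ne hl1, if_neg (fun h : True ∧ l = a1 => hl1 h.2)]
          by_cases hl2 : l = Fin.rev a1
          · rw [hl2, Pi.single_eq_same, Matrix.one_apply_eq]; ring
          · rw [Pi.single_eq_of_ne hl2, Matrix.one_apply_ne (Ne.symm hl2)]; ring)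
    have h2 := h1.sub (hb1 b)
    rwa [add_sub_cancel_left] at h2
  by_cases hj1 : j = a1
  · rw [hj1]; exact hcase1 c
  by_cases hj2 : j = Fin.rev a1
  · rw [hj2]; exact hb1 c
  obtain ⟨t, -, ht⟩ := exists_valid_single' H.hF j c
  have hva : (Pi.single j c : Fin n → K) (Fin.rev a1) = 0 := Pi.single_eq_of_ne (Ne.symm hj2) _
  have hLU : qS σ (Fin.rev a1) (Pi.single j c) t hr1 hva ∈ UG n σ :=
    qS_mem_UG H.hF.inv _ _ t hr1 hva ht
  have hLP : qS σ (Fin.rev a1) (Pi.single j c) t hr1 hva ∈ PBs K (bQ a) :=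
    qM_pbm a (Fin.rev a1) ha i6 _ (Pi.single_eq_of_ne (Ne.symm hja) _) t
  have h1 := inV_conj H ha _ (hb1 1) (qS σ (Fin.rev a1) (Pi.single j c) t hr1 hva)⁻¹
    ((UG n σ).inv_mem hLU) ((PBs K (bQ a)).inv_mem hLP)
    (Pi.single (Fin.rev a1) 1 + Pi.single j c + Pi.single a1 t)
    (by rw [Pi.add_apply, Pi.add_apply, Pi.single_eq_of_ne i3,
      Pi.single_eq_of_ne (Ne.symm hja), Pi.single_eq_of_ne i1]; ring)
    (by rw [Pi.add_apply, Pi.add_apply, Pi.single_eq_of_ne (Ne.symm i6),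
      Pi.single_eq_of_ne (Ne.symm hjr), Pi.single_eq_of_ne (Ne.symm i5)]; ring)
    (by
      intro l hla hlr
      rw [inv_inv, UG_inv_apply _ hLU, sum_single_mul', qS_coe, qM_apply, qM_apply]
      simp only [Fin.rev_rev, Pi.add_apply]
      rw [Matrix.one_apply_eq, if_neg (Ne.symm i6), if_neg (fun h => i5 h.symm),
        if_neg (fun h => i6 h.1.symm), Pi.single_eq_of_ne (Ne.symm hj1), map_zero]
      have e1 : σ (1 + 0 - 0 + 0) = 1 := by simp
      rw [e1, if_pos trivial, one_mul, one_mul]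
      by_cases hl1 : l = a1
      · rw [hl1, Pi.single_eq_same, Pi.single_eq_of_ne i4, Pi.single_eq_of_ne (Ne.symm hj1),
          Matrix.one_apply_ne (Ne.symm i4), if_pos (⟨trivial, rfl⟩ : True ∧ a1 = a1)]
        simp
      · rw [Pi.single_eq_of_ne hl1, if_neg (fun h : True ∧ l = a1 => hl1 h.2)]
        by_cases hl2 : l = Fin.rev a1
        · rw [hl2, Pi.single_eq_same, Matrix.one_apply_eq, Pi.single_eq_of_ne (Ne.symm hj2)]
          simp
        · rw [Pi.single_eq_of_ne hl2, Matrix.one_apply_ne (Ne.symm hl2)]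
          simp)
  have h2 := (h1.sub (hb1 1)).sub (hcase1 t)
  have e : Pi.single (Fin.rev a1) (1 : K) + Pi.single j c + Pi.single a1 t -
      Pi.single (Fin.rev a1) (1 : K) - Pi.single a1 t = (Pi.single j c : Fin n → K) := by abel
  rwa [e] at h2

/-- The radical of the point stabiliser lies in `T`. -/
theorem Q_le (H : SCHyp σ a a1 T) (ha : a ≠ Fin.rev a)
    (hlong : ∀ t : K, t + σ t = 0 → qS σ a 0 t ha rfl ∈ T)
    (hsing : ∀ j, j ≠ a → j ≠ Fin.rev a → ∀ c : K, InV a T (Pi.single j c))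
    (g : SpecialLinearGroup (Fin n) K) (hg : g ∈ UG n σ) (hgR : RBm (bQ a) g.1) : g ∈ T := by
  have hv : InV a T (fun l => if l = a ∨ l = Fin.rev a then 0 else g.1 a l) := by
    have e : (fun l => if l = a ∨ l = Fin.rev a then 0 else g.1 a l) =
        ∑ j, Pi.single j (if j = a ∨ j = Fin.rev a then 0 else g.1 a j) :=
      (Finset.univ_sum_single _).symm
    rw [e]
    apply Finset.sum_induction _ (InV a T) (fun x y hx hy => hx.add hy) (InV.zero a T)
    intro j _
    by_cases hj : j = a ∨ j = Fin.rev a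
    · rw [if_pos hj, Pi.single_zero]; exact InV.zero a T
    · rw [if_neg hj]
      exact hsing j (fun h => hj (Or.inl h)) (fun h => hj (Or.inr h)) _
  obtain ⟨-, -, g', hg'T, hg'R, hrow⟩ := hv
  have hg'U := (H.hTU hg'T).1
  have hzU : g * g'⁻¹ ∈ UG n σ := (UG n σ).mul_mem hg ((UG n σ).inv_mem hg'U)
  have hg'inv : RBm (bQ a) g'⁻¹.1 := (RBs K (bQ a)).inv_mem hg'R
  have hzR : RBm (bQ a) (g * g'⁻¹).1 := by rw [coe_mul']; exact hgR.mul hg'inv
  have h0 : ∀ l, l ≠ a → l ≠ Fin.rev a → (g * g'⁻¹).1 a l = 0 := by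
    intro l hla hlr
    rw [coe_mul', rbQ_mul_row a _ _ hgR hg'inv l hla hlr]
    have e1 := rbQ_mul_row a _ _ hg'R hg'inv l hla hlr
    rw [coe_mul_inv', Matrix.one_apply_ne (Ne.symm hla)] at e1
    have e2 := hrow l hla hlr
    simp only [if_neg (not_or.mpr ⟨hla, hlr⟩)] at e2
    linear_combination (-1 : K) * e1 - e2
  obtain ⟨hz, hzv⟩ := eq_long_of_row_zero a ha _ hzU hzR h0
  have hzT := hlong _ hzv
  rw [← hz] at hzT
  have e : g = (g * g'⁻¹) * g' := by group
  rw [e]; exact T.mul_mem hzT hg'T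

/-- The row groups at all first-block indices lie in `T`. -/
theorem Qk_le (H : SCHyp σ a a1 T) (ha : a ≠ Fin.rev a)
    (hQ : ∀ g ∈ UG n σ, RBm (bQ a) g.1 → g ∈ T) (k : Fin n) (hk : k < Fin.rev k)
    (g : SpecialLinearGroup (Fin n) K) (hgU : g ∈ UG n σ) (hgT : g ∈ UT n K)
    (hgR : RBm (bQ k) g.1) : g ∈ T := by
  by_cases hka : k = a
  · subst hka; exact hQ g hgU hgR
  · have h1 : a ≠ k := Ne.symm hka
    have h3 : a ≠ Fin.rev k := ne_of_lt (lt_of_le_of_lt (H.hmin k) hk)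
    have h4 : k ≠ Fin.rev k := ne_of_lt hk
    have hπ := dsw_invol a k h1 ha h3 h4
    have hrev := dsw_rev a k h1 ha h3 h4
    have hw : WS K (dsw a k) (dsw_sign a k h1) ∈ UG n σ := WS_mem_UG _ _ hπ hrev
    obtain ⟨w, hwdef⟩ : ∃ w, w = WS K (dsw a k) (dsw_sign a k h1) := ⟨_, rfl⟩
    rw [← hwdef] at hw
    have hR : RBm (bQ a) (w * g * w⁻¹).1 := by
      intro x y hxy
      rw [hwdef, WS_conj_apply _ _ hπ]
      have e : ∀ u, bQ k (dsw a k u) = bQ a u := by
        intro u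
        unfold bQ
        have e1 : dsw a k u = k ↔ u = a :=
          ⟨fun h => by rw [← hπ u, h, dsw_apply_right a k h3 h4],
            fun h => by rw [h, dsw_apply_left a k ha h3]⟩
        have e2 : dsw a k u = Fin.rev k ↔ u = Fin.rev a :=
          ⟨fun h => by rw [← hπ u, h, hrev, dsw_apply_right a k h3 h4],
            fun h => by rw [h, hrev, dsw_apply_left a k ha h3]⟩
        simp only [e1, e2]
      rw [hgR _ _ (by rw [e, e]; exact hxy), Matrix.one_apply, Matrix.one_apply]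
      simp only [(dsw a k).injective.eq_iff]
    have h5 := hQ _ ((UG n σ).mul_mem ((UG n σ).mul_mem hw hgU) ((UG n σ).inv_mem hw)) hR
    have e : w⁻¹ * (w * g * w⁻¹) * w⁻¹⁻¹ = g := by group
    have h6 := H.hcl _ h5 w⁻¹ ((UG n σ).inv_mem hw) (by rw [e]; exact hgT)
    rwa [e] at h6

/-- Row-by-row decomposition of `U`. -/
theorem chain (H : SCHyp σ a a1 T)
    (hQk : ∀ k : Fin n, k < Fin.rev k → ∀ g : SpecialLinearGroup (Fin n) K, g ∈ UG n σ →
      g ∈ UT n K → RBm (bQ k) g.1 → g ∈ T) :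
    ∀ (d k : ℕ), k + d = n → ∀ u ∈ UG n σ ⊓ UT n K,
      (∀ x : Fin n, x.val < k → ∀ l, u.1 x l = (1 : Matrix (Fin n) (Fin n) K) x l) → u ∈ T := by
  intro d
  induction d with
  | zero =>
    intro k hk u hu hrows
    have : u = 1 := by
      apply Subtype.ext
      ext x l
      exact hrows x (by have := x.isLt; omega) l
    rw [this]; exact T.one_mem
  | succ d ih =>
    intro k hk u hu hrows
    have hkn : k < n := by omega
    obtain ⟨kk, hkk⟩ : ∃ kk : Fin n, kk.val = k := ⟨⟨k, hkn⟩, rfl⟩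
    have hUT := (mem_UT u).mp hu.2
    have hinv : ∀ x : Fin n, x.val < k → ∀ l,
        u⁻¹.1 x l = (1 : Matrix (Fin n) (Fin n) K) x l := by
      intro x hx l
      have h1 := congrFun (congrFun (coe_mul_inv' u) x) l
      rw [Matrix.mul_apply] at h1
      rw [← h1, Finset.sum_eq_single x]
      · rw [hrows x hx x, Matrix.one_apply_eq, one_mul]
      · intro c _ hc; rw [hrows x hx c, Matrix.one_apply_ne (Ne.symm hc), zero_mul]
      · intro h; exact absurd (Finset.mem_univ _) h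
    have hcol : ∀ r c : Fin n, (Fin.rev c).val < k →
        u.1 r c = (1 : Matrix (Fin n) (Fin n) K) r c := by
      intro r c hc
      have h1 := hinv (Fin.rev c) hc (Fin.rev r)
      rw [UG_inv_apply u hu.1, Fin.rev_rev, Fin.rev_rev] at h1
      have h2 := congrArg σ h1
      rw [H.hF.inv] at h2
      rw [h2, Matrix.one_apply, Matrix.one_apply]
      by_cases hrc : r = c
      · subst hrc; simp
      · rw [if_neg hrc, if_neg (fun h => hrc (Fin.rev_injective h).symm), map_zero]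
    by_cases hlt : kk < Fin.rev kk
    · have hne : kk ≠ Fin.rev kk := ne_of_lt hlt
      obtain ⟨v, hvdef⟩ : ∃ v : Fin n → K,
          v = fun l => if kk < l ∧ l < Fin.rev kk then u.1 kk l else 0 := ⟨_, rfl⟩
      have hv0 : ∀ l, ¬ (kk < l ∧ l < Fin.rev kk) → v l = 0 := by
        intro l hl; simp only [hvdef, if_neg hl]
      have hv1 : ∀ l, kk < l → l < Fin.rev kk → v l = u.1 kk l := by
        intro l h1 h2; simp only [hvdef, if_pos (And.intro h1 h2)]
      have hvk : v kk = 0 := hv0 kk (fun h => lt_irrefl _ h.1)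
      have hvr : v (Fin.rev kk) = 0 := hv0 _ (fun h => lt_irrefl _ h.2)
      obtain ⟨t, ht⟩ : ∃ t, t = u.1 kk (Fin.rev kk) := ⟨_, rfl⟩
      have hrow : ∀ l, u.1 kk l = (1 : Matrix (Fin n) (Fin n) K) kk l + v l +
          (if l = Fin.rev kk then t else 0) := by
        intro l
        rcases lt_trichotomy l kk with h1 | h1 | h1
        · rw [hUT.1 kk l h1, Matrix.one_apply_ne (ne_of_gt h1), hv0 l (fun h => lt_asymm h1 h.1),
            if_neg (fun h => by rw [h] at h1; exact lt_asymm h1 hlt)]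
          ring
        · rw [h1, hUT.2 kk, Matrix.one_apply_eq, hvk, if_neg hne]; ring
        · rcases lt_trichotomy l (Fin.rev kk) with h2 | h2 | h2
          · rw [hv1 l h1 h2, Matrix.one_apply_ne (ne_of_lt h1), if_neg (ne_of_lt h2)]; ring
          · rw [h2, hvr, if_pos rfl, Matrix.one_apply_ne hne, ht]; ring
          · rw [hcol kk l (by
                have h3 := Fin.rev_lt_rev.mpr h2
                rw [Fin.rev_rev] at h3
                have h4 : (Fin.rev l).val < kk.val := h3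
                omega), hv0 l (fun h => lt_asymm h2 h.2), if_neg (ne_of_gt h2)]
            ring
      have hval : t + σ t + ∑ c, v c * σ (v (Fin.rev c)) = 0 := by
        have h1 := UG_row u hu.1 kk (Fin.rev kk)
        rw [if_neg hne] at h1
        rw [← h1]
        have e : ∀ c, u.1 kk c * σ (u.1 (Fin.rev (Fin.rev kk)) (Fin.rev c)) =
            v c * σ (v (Fin.rev c)) + (if c = kk then σ t else 0) +
              (if c = Fin.rev kk then t else 0) := by
          intro c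
          rw [Fin.rev_rev, hrow c, hrow (Fin.rev c)]
          by_cases hc1 : c = kk
          · rw [hc1]
            simp [hvk, hvr, hne, Ne.symm hne]
          · by_cases hc2 : c = Fin.rev kk
            · rw [hc2, Fin.rev_rev]
              simp [hvk, hvr, hne, Ne.symm hne]
            · have hc3 : Fin.rev c ≠ kk := fun h => hc2 (by rw [← h, Fin.rev_rev])
              have hc4 : Fin.rev c ≠ Fin.rev kk := fun h => hc1 (Fin.rev_injective h)
              simp [hc1, hc2, hc3, hc4, Ne.symm hc1, Ne.symm hc3]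
        rw [Finset.sum_congr rfl (fun c _ => e c), Finset.sum_add_distrib,
          Finset.sum_add_distrib, Finset.sum_ite_eq', Finset.sum_ite_eq']
        simp only [Finset.mem_univ, if_true]
        ring
      obtain ⟨q, hq⟩ : ∃ q, q = qS σ kk v t hne hvk := ⟨_, rfl⟩
      have hqU : q ∈ UG n σ := by rw [hq]; exact qS_mem_UG H.hF.inv kk v t hne hvk hval
      have hqT : q ∈ UT n K := by
        rw [hq]
        exact (mem_UT_iff _).mpr (qM_ut kk hlt v
          (fun l hl => hv0 l (fun h => absurd h.1 (not_lt.mpr hl))) t)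
      have hqR : RBm (bQ kk) q.1 := by rw [hq]; exact qM_rbm kk hne v hvk t
      have hqmem : q ∈ T := hQk kk hlt q hqU hqT hqR
      have hagree : ∀ x : Fin n, x.val < k + 1 → ∀ l, u.1 x l = q.1 x l := by
        intro x hx l
        rw [hq, qS_coe, qM_apply]
        by_cases hxk : x.val < k
        · rw [hrows x hxk l]
          have hxkk : x < kk := by
            show x.val < kk.val
            omega
          have h1 : v (Fin.rev x) = 0 :=
            hv0 _ (fun h => absurd (Fin.rev_lt_rev.mp h.2) (not_lt.mpr hxkk.le))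
          rw [if_neg (ne_of_lt hxkk), h1, map_zero,
            if_neg (fun h : x = kk ∧ l = Fin.rev kk => (ne_of_lt hxkk) h.1)]
          simp
        · have hxkk : x = kk := Fin.ext (by omega)
          rw [hxkk, hrow l, if_pos rfl, hvr, map_zero]
          by_cases hl : l = Fin.rev kk
          · simp [hl]
          · simp [hl]
      have hu' : u * q⁻¹ ∈ UG n σ ⊓ UT n K :=
        ⟨(UG n σ).mul_mem hu.1 ((UG n σ).inv_mem hqU), (UT n K).mul_mem hu.2 ((UT n K).inv_mem hqT)⟩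
      have h' := ih (k + 1) (by omega) (u * q⁻¹) hu' (by
        intro x hx l
        rw [coe_mul', Matrix.mul_apply, Finset.sum_congr rfl (fun c _ => by rw [hagree x hx c])]
        have h7 := congrFun (congrFun (coe_mul_inv' q) x) l
        rw [Matrix.mul_apply] at h7
        exact h7)
      have e : u = u * q⁻¹ * q := by group
      rw [e]; exact T.mul_mem h' hqmem
    · apply ih (k + 1) (by omega) u hu
      intro x hx l
      by_cases hxk : x.val < k
      · exact hrows x hxk l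
      · have hxkk : x = kk := Fin.ext (by omega)
        rw [hxkk]
        by_cases hl : l ≤ kk
        · exact (mem_UT_iff u).mp hu.2 kk l hl
        · apply hcol
          have h1 : Fin.rev l < Fin.rev kk := Fin.rev_lt_rev.mpr (not_le.mp hl)
          have h2 : Fin.rev kk ≤ kk := not_lt.mp hlt
          have h3 : (Fin.rev l).val < kk.val := lt_of_lt_of_le h1 h2
          omega

end main

/-- **Strong closure.** -/
theorem hsc_U [Fintype K] {p f : ℕ} [Fact p.Prime] (hK : Fintype.card K = p ^ f)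
    {a a1 : Fin n} {T : Subgroup (SpecialLinearGroup (Fin n) K)} (H : SCHyp σ a a1 T)
    (hT : T ≠ ⊥) : T = UG n σ ⊓ UT n K := by
  apply le_antisymm H.hTU
  intro u hu
  obtain ⟨i0, i1, i2, i3, i4, i5, i6⟩ := idx_facts H.h01 H.h11
  have hlong := long_mem hK H hT i2
  have hlong1 := long1_mem H i2 i4 hlong
  have hb1 := inV_b1 H i2 i4 hlong1
  have hsing := inV_single H i2 hb1
  have hQ := Q_le H i2 hlong hsing
  have hQk := fun k hk g hgU hgT hgR => Qk_le H i2 hQ k hk g hgU hgT hgR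
  exact chain H hQk n 0 (by omega) u hu (fun x hx => absurd hx (Nat.not_lt_zero _))

end Cfsg.Agent.Lib.helper47.UFus
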