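import Mathlib
import Cfsg.Agent.Lib.helper47.UFusE

/-!
Embedding small unitary groups into `UG n σ` along an injective map of indices compatible
with `Fin.rev`.
-/

set_option autoImplicit false

namespace Cfsg.Agent.Lib.helper47.UFus

open Matrix Cfsg.Agent.Lib.helper47.PSLn

variable {n k : ℕ} {K : Type*} [Field K]

/-- The selection matrix of a map of indices. -/
def Esel (K : Type*) [Field K] (ι : Fin k → Fin n) : Matrix (Fin k) (Fin n) K :=
  fun x y => if ι x = y then 1 else 0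

theorem Esel_mul_transpose {ι : Fin k → Fin n} (hι : Function.Injective ι) :
    Esel K ι * (Esel K ι)ᵀ = 1 := by
  ext x y
  rw [Matrix.mul_apply, Matrix.one_apply]
  simp only [Esel, Matrix.transpose_apply]
  rw [Finset.sum_eq_single (ι x)]
  · rw [if_pos rfl, one_mul]
    by_cases hxy : x = y
    · rw [if_pos hxy, if_pos (by rw [hxy])]
    · rw [if_neg hxy, if_neg (fun h => hxy (hι h).symm)]
  · intro b _ hb
    rw [if_neg (Ne.symm hb), zero_mul]
  · intro h; exact absurd (Finset.mem_univ _) h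

/-- The embedding of matrices. -/
def emb (ι : Fin k → Fin n) (M : Matrix (Fin k) (Fin k) K) : Matrix (Fin n) (Fin n) K :=
  1 + (Esel K ι)ᵀ * (M - 1) * Esel K ι

theorem emb_one (ι : Fin k → Fin n) : emb ι (1 : Matrix (Fin k) (Fin k) K) = 1 := by
  unfold emb
  rw [sub_self, Matrix.mul_zero, Matrix.zero_mul, add_zero]

theorem emb_mul {ι : Fin k → Fin n} (hι : Function.Injective ι) (M N : Matrix (Fin k) (Fin k) K) :
    emb ι M * emb ι N = emb ι (M * N) := by
  unfold emb
  have h := Esel_mul_transpose (K := K) hι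
  have e : (Esel K ι)ᵀ * (M - 1) * Esel K ι * ((Esel K ι)ᵀ * (N - 1) * Esel K ι) =
      (Esel K ι)ᵀ * ((M - 1) * (N - 1)) * Esel K ι := by
    calc (Esel K ι)ᵀ * (M - 1) * Esel K ι * ((Esel K ι)ᵀ * (N - 1) * Esel K ι)
        = (Esel K ι)ᵀ * (M - 1) * (Esel K ι * (Esel K ι)ᵀ) * (N - 1) * Esel K ι := by
          simp only [Matrix.mul_assoc]
      _ = (Esel K ι)ᵀ * ((M - 1) * (N - 1)) * Esel K ι := by
          rw [h, Matrix.mul_one]; simp only [Matrix.mul_assoc]
  rw [Matrix.add_mul, Matrix.mul_add, Matrix.mul_add, Matrix.one_mul, Matrix.one_mul,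
    Matrix.mul_one, e]
  have e2 : M * N - 1 = (M - 1) + (N - 1) + (M - 1) * (N - 1) := by noncomm_ring
  rw [e2, Matrix.mul_add, Matrix.mul_add, Matrix.add_mul, Matrix.add_mul]
  abel

theorem det_emb {ι : Fin k → Fin n} (hι : Function.Injective ι) (M : Matrix (Fin k) (Fin k) K) :
    (emb ι M).det = M.det := by
  unfold emb
  rw [Matrix.det_one_add_mul_comm, ← Matrix.mul_assoc]
  have : Esel K ι * (Esel K ι)ᵀ * (M - 1) = M - 1 := by
    rw [Esel_mul_transpose hι, Matrix.one_mul]
  rw [this, add_sub_cancel]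

theorem emb_apply_aux (ι : Fin k → Fin n) (A : Matrix (Fin k) (Fin k) K) (a b : Fin n) :
    ((Esel K ι)ᵀ * A * Esel K ι) a b =
      ∑ y, ∑ x, if ι x = a ∧ ι y = b then A x y else 0 := by
  rw [Matrix.mul_apply]
  apply Finset.sum_congr rfl
  intro y _
  rw [Matrix.mul_apply, Finset.sum_mul]
  apply Finset.sum_congr rfl
  intro x _
  simp only [Esel, Matrix.transpose_apply]
  by_cases h1 : ι x = a
  · by_cases h2 : ι y = b
    · rw [if_pos h1, if_pos h2, if_pos ⟨h1, h2⟩]; ring
    · rw [if_neg h2, if_neg (fun h : ι x = a ∧ ι y = b => h2 h.2)]; ring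
  · rw [if_neg h1, if_neg (fun h : ι x = a ∧ ι y = b => h1 h.1)]; ring

theorem emb_apply {ι : Fin k → Fin n} (hι : Function.Injective ι) (M : Matrix (Fin k) (Fin k) K)
    (x y : Fin k) : emb ι M (ι x) (ι y) = M x y := by
  unfold emb
  rw [Matrix.add_apply, emb_apply_aux, Finset.sum_eq_single y]
  · rw [Finset.sum_eq_single x]
    · rw [if_pos ⟨rfl, rfl⟩, Matrix.sub_apply, Matrix.one_apply, Matrix.one_apply]
      by_cases hxy : x = y
      · rw [if_pos hxy, if_pos (by rw [hxy])]; ring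
      · rw [if_neg hxy, if_neg (fun h => hxy (hι h))]; ring
    · intro c _ hc
      rw [if_neg (fun h : ι c = ι x ∧ ι y = ι y => hc (hι h.1))]
    · intro h; exact absurd (Finset.mem_univ _) h
  · intro c _ hc
    apply Finset.sum_eq_zero
    intro d _
    rw [if_neg (fun h : ι d = ι x ∧ ι c = ι y => hc (hι h.2))]
  · intro h; exact absurd (Finset.mem_univ _) h

theorem emb_apply_left (ι : Fin k → Fin n) (M : Matrix (Fin k) (Fin k) K) (a b : Fin n)
    (ha : ∀ x, ι x ≠ a) : emb ι M a b = (1 : Matrix (Fin n) (Fin n) K) a b := by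
  unfold emb
  rw [Matrix.add_apply, emb_apply_aux]
  have : (∑ y, ∑ x, if ι x = a ∧ ι y = b then (M - 1) x y else 0) = 0 := by
    apply Finset.sum_eq_zero
    intro y _
    apply Finset.sum_eq_zero
    intro x _
    rw [if_neg (fun h : ι x = a ∧ ι y = b => ha x h.1)]
  rw [this, add_zero]

theorem emb_apply_right (ι : Fin k → Fin n) (M : Matrix (Fin k) (Fin k) K) (a b : Fin n)
    (hb : ∀ y, ι y ≠ b) : emb ι M a b = (1 : Matrix (Fin n) (Fin n) K) a b := by
  unfold emb
  rw [Matrix.add_apply, emb_apply_aux]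
  have : (∑ y, ∑ x, if ι x = a ∧ ι y = b then (M - 1) x y else 0) = 0 := by
    apply Finset.sum_eq_zero
    intro y _
    apply Finset.sum_eq_zero
    intro x _
    rw [if_neg (fun h : ι x = a ∧ ι y = b => hb y h.2)]
  rw [this, add_zero]

/-- Entrywise properties of an embedded matrix. -/
theorem emb_prop {ι : Fin k → Fin n} (hι : Function.Injective ι) (M : Matrix (Fin k) (Fin k) K)
    (P : Fin n → Fin n → K → Prop)
    (h1 : ∀ a b, P a b ((1 : Matrix (Fin n) (Fin n) K) a b))
    (h2 : ∀ x y, P (ι x) (ι y) (M x y)) (a b : Fin n) : P a b (emb ι M a b) := by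
  by_cases ha : ∃ x, ι x = a
  · by_cases hb : ∃ y, ι y = b
    · obtain ⟨x, rfl⟩ := ha
      obtain ⟨y, rfl⟩ := hb
      rw [emb_apply hι]
      exact h2 x y
    · rw [emb_apply_right ι M a b (fun y hy => hb ⟨y, hy⟩)]
      exact h1 a b
  · rw [emb_apply_left ι M a b (fun x hx => ha ⟨x, hx⟩)]
    exact h1 a b

theorem one_apply_inj {ι : Fin k → Fin n} (hι : Function.Injective ι) (x y : Fin k) :
    (1 : Matrix (Fin n) (Fin n) K) (ι x) (ι y) = (1 : Matrix (Fin k) (Fin k) K) x y := by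
  rw [Matrix.one_apply, Matrix.one_apply]
  by_cases hxy : x = y
  · rw [if_pos hxy, if_pos (by rw [hxy])]
  · rw [if_neg hxy, if_neg (fun h => hxy (hι h))]

theorem sharp_emb {σ : K →+* K} {ι : Fin k → Fin n} (hι : Function.Injective ι)
    (hrev : ∀ x, ι (Fin.rev x) = Fin.rev (ι x)) (M : Matrix (Fin k) (Fin k) K) :
    sharp σ (emb ι M) = emb ι (sharp σ M) := by
  ext a b
  rw [sharp_apply]
  by_cases ha : ∃ x, ι x = a
  · by_cases hb : ∃ y, ι y = b
    · obtain ⟨x, rfl⟩ := ha
      obtain ⟨y, rfl⟩ := hb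
      rw [emb_apply hι, ← hrev, ← hrev, emb_apply hι, sharp_apply]
    · rw [emb_apply_right ι _ a b (fun y hy => hb ⟨y, hy⟩),
        emb_apply_left ι M _ _ (fun y hy => hb ⟨Fin.rev y, by rw [hrev, hy, Fin.rev_rev]⟩)]
      rw [Matrix.one_apply, Matrix.one_apply]
      by_cases hab : a = b
      · rw [if_pos hab, if_pos (by rw [hab]), map_one]
      · rw [if_neg hab, if_neg (fun h => hab (Fin.rev_injective h).symm), map_zero]
  · rw [emb_apply_left ι _ a b (fun x hx => ha ⟨x, hx⟩),
      emb_apply_right ι M _ _ (fun x hx => ha ⟨Fin.rev x, by rw [hrev, hx, Fin.rev_rev]⟩)]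
    rw [Matrix.one_apply, Matrix.one_apply]
    by_cases hab : a = b
    · rw [if_pos hab, if_pos (by rw [hab]), map_one]
    · rw [if_neg hab, if_neg (fun h => hab (Fin.rev_injective h).symm), map_zero]

theorem emb_diagonal {ι : Fin k → Fin n} (hι : Function.Injective ι) (d : Fin k → K) :
    emb ι (Matrix.diagonal d) = Matrix.diagonal (Function.extend ι d 1) := by
  ext a b
  by_cases ha : ∃ x, ι x = a
  · by_cases hb : ∃ y, ι y = b
    · obtain ⟨x, rfl⟩ := ha
      obtain ⟨y, rfl⟩ := hb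
      rw [emb_apply hι, Matrix.diagonal_apply, Matrix.diagonal_apply]
      by_cases hxy : x = y
      · rw [if_pos hxy, if_pos (by rw [hxy]), hι.extend_apply]
      · rw [if_neg hxy, if_neg (fun h => hxy (hι h))]
    · rw [emb_apply_right ι _ a b (fun y hy => hb ⟨y, hy⟩), Matrix.one_apply,
        Matrix.diagonal_apply]
      by_cases hab : a = b
      · exact absurd (hab ▸ ha) hb
      · rw [if_neg hab, if_neg hab]
  · rw [emb_apply_left ι _ a b (fun x hx => ha ⟨x, hx⟩), Matrix.one_apply,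
      Matrix.diagonal_apply]
    by_cases hab : a = b
    · rw [if_pos hab, if_pos hab, Function.extend_apply' _ _ _ ha, Pi.one_apply]
    · rw [if_neg hab, if_neg hab]

theorem emb_pbm {ι : Fin k → Fin n} (hι : Function.Injective ι) (M : Matrix (Fin k) (Fin k) K)
    (b : Fin n → ℕ) (h : ∀ x y, b (ι y) < b (ι x) → M x y = 0) : PBm b (emb ι M) := by
  intro a c
  apply emb_prop hι M (fun a c v => b c < b a → v = 0)
  · intro a c hac
    exact Matrix.one_apply_ne (fun h => by rw [h] at hac; exact lt_irrefl _ hac)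
  · intro x y; exact h x y

theorem emb_rbm {ι : Fin k → Fin n} (hι : Function.Injective ι) (M : Matrix (Fin k) (Fin k) K)
    (b : Fin n → ℕ) (h : ∀ x y, b (ι y) ≤ b (ι x) → M x y = (1 : Matrix (Fin k) (Fin k) K) x y) :
    RBm b (emb ι M) := by
  intro a c
  apply emb_prop hι M (fun a c v => b c ≤ b a → v = (1 : Matrix (Fin n) (Fin n) K) a c)
  · intro a c _; rfl
  · intro x y hxy; rw [h x y hxy, one_apply_inj hι]

/-- The embedding of groups. -/
def embH (σ : K →+* K) (ι : Fin k → Fin n) (hι : Function.Injective ι)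
    (hrev : ∀ x, ι (Fin.rev x) = Fin.rev (ι x)) : ↥(UG k σ) →* ↥(UG n σ) where
  toFun g := ⟨⟨emb ι g.1.1, by rw [det_emb hι]; exact g.1.2⟩, by
    refine (mem_UG _).mpr ?_
    show sharp σ (emb ι g.1.1) * emb ι g.1.1 = 1
    rw [sharp_emb hι hrev, emb_mul hι, (mem_UG g.1).mp g.2, emb_one]⟩
  map_one' := by
    apply Subtype.ext; apply Subtype.ext
    exact emb_one ι
  map_mul' g g' := by
    apply Subtype.ext; apply Subtype.ext
    exact (emb_mul hι g.1.1 g'.1.1).symm

theorem embH_coe {σ : K →+* K} (ι : Fin k → Fin n) (hι : Function.Injective ι)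
    (hrev : ∀ x, ι (Fin.rev x) = Fin.rev (ι x)) (g : ↥(UG k σ)) :
    (embH σ ι hι hrev g).1.1 = emb ι g.1.1 := rfl

end Cfsg.Agent.Lib.helper47.UFus
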