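import Mathlib
import Cfsg.Agent.Lib.helper47.UFusF

/-!
Small unitary groups (degrees 2, 3, 4): root elements, Weyl elements, tori and the relations
among them.
-/

set_option autoImplicit false

namespace Cfsg.Agent.Lib.helper47.UFus

open Matrix Cfsg.Agent.Lib.helper47.PSLn

variable {K : Type*} [Field K] {σ : K →+* K}

/-- Constructor for elements of the unitary group. -/
def mkU (σ : K →+* K) {k : ℕ} (M : Matrix (Fin k) (Fin k) K) (hd : M.det = 1)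
    (hu : sharp σ M * M = 1) : ↥(UG k σ) := ⟨⟨M, hd⟩, (mem_UG _).mpr hu⟩

theorem mkU_coe {k : ℕ} (M : Matrix (Fin k) (Fin k) K) (hd : M.det = 1)
    (hu : sharp σ M * M = 1) : (mkU σ M hd hu).1.1 = M := rfl

theorem UG_ext {k : ℕ} {g g' : ↥(UG k σ)} (h : g.1.1 = g'.1.1) : g = g' :=
  Subtype.ext (Subtype.ext h)

theorem UG_mul_coe {k : ℕ} (g g' : ↥(UG k σ)) : (g * g').1.1 = g.1.1 * g'.1.1 := rfl

theorem UG_one_coe {k : ℕ} : ((1 : ↥(UG k σ))).1.1 = 1 := rfl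


/-! ### 2 × 2 -/

def X2m (t : K) : Matrix (Fin 2) (Fin 2) K := !![1, t; 0, 1]
def Y2m (t : K) : Matrix (Fin 2) (Fin 2) K := !![1, 0; t, 1]
def W2m (e : K) : Matrix (Fin 2) (Fin 2) K := !![0, e; -e⁻¹, 0]
def D2m (μ : K) : Matrix (Fin 2) (Fin 2) K := Matrix.diagonal ![μ, μ⁻¹]

theorem X2m_ut (t : K) (x y : Fin 2) (h : y ≤ x) :
    X2m t x y = (1 : Matrix (Fin 2) (Fin 2) K) x y := by
  revert h
  fin_cases x <;> fin_cases y <;> simp [X2m]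

theorem X2m_det (t : K) : (X2m t).det = 1 := by simp [X2m, Matrix.det_fin_two]
theorem Y2m_det (t : K) : (Y2m t).det = 1 := by simp [Y2m, Matrix.det_fin_two]
theorem W2m_det (e : K) (he : e ≠ 0) : (W2m e).det = 1 := by
  simp [W2m, Matrix.det_fin_two, he]
theorem D2m_det (μ : K) (hμ : μ ≠ 0) : (D2m μ).det = 1 := by
  simp [D2m, Matrix.det_fin_two, hμ]

theorem X2m_unit (t : K) (ht : t + σ t = 0) : sharp σ (X2m t) * X2m t = 1 := by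
  ext i j
  fin_cases i <;> fin_cases j <;>
    simp [X2m, sharp_apply, Matrix.mul_apply, Fin.sum_univ_two, Fin.rev]
  exact ht

theorem Y2m_unit (t : K) (ht : t + σ t = 0) : sharp σ (Y2m t) * Y2m t = 1 := by
  ext i j
  fin_cases i <;> fin_cases j <;>
    simp [Y2m, sharp_apply, Matrix.mul_apply, Fin.sum_univ_two, Fin.rev]
  linear_combination ht

theorem W2m_unit (e : K) (he0 : e ≠ 0) (he : e + σ e = 0) : sharp σ (W2m e) * W2m e = 1 := by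
  have hσe : σ e = -e := by linear_combination he
  ext i j
  fin_cases i <;> fin_cases j <;>
    simp [W2m, sharp_apply, Matrix.mul_apply, Fin.sum_univ_two, Fin.rev, hσe, he0]

theorem D2m_unit (μ : K) (hμ0 : μ ≠ 0) (hμ : σ μ = μ) : sharp σ (D2m μ) * D2m μ = 1 := by
  ext i j
  fin_cases i <;> fin_cases j <;>
    simp [D2m, sharp_apply, Matrix.mul_apply, Fin.sum_univ_two, Fin.rev, hμ, hμ0]

theorem rel2_a (t e : K) (he : e ≠ 0) : Y2m t * W2m e = W2m e * X2m (-t * e ^ 2) := by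
  ext i j
  fin_cases i <;> fin_cases j <;>
    simp [Y2m, X2m, W2m, Matrix.mul_apply, Fin.sum_univ_two]
  field_simp

theorem rel2_b (μ e : K) (hμ : μ ≠ 0) (he : e ≠ 0) :
    D2m μ * (X2m e * Y2m (-e⁻¹) * X2m e) = X2m (μ * e) * Y2m (-(μ * e)⁻¹) * X2m (μ * e) := by
  ext i j
  fin_cases i <;> fin_cases j <;>
    simp [Y2m, X2m, D2m, Matrix.mul_apply, Fin.sum_univ_two, hμ, he]
  all_goals first | (field_simp; ring) | field_simp | ring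

/-! ### 3 × 3 -/

def X3m (σ : K →+* K) (a s : K) : Matrix (Fin 3) (Fin 3) K := !![1, a, s; 0, 1, -σ a; 0, 0, 1]
def Y3m (σ : K →+* K) (c t : K) : Matrix (Fin 3) (Fin 3) K := !![1, 0, 0; c, 1, 0; t, -σ c, 1]
def N3m (K : Type*) [Field K] : Matrix (Fin 3) (Fin 3) K := !![0, 0, 1; 0, -1, 0; 1, 0, 0]
def D3m (σ : K →+* K) (μ : K) : Matrix (Fin 3) (Fin 3) K :=
  Matrix.diagonal ![μ, σ μ / μ, (σ μ)⁻¹]

theorem X3m_ut (a s : K) (x y : Fin 3) (h : y ≤ x) :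
    X3m σ a s x y = (1 : Matrix (Fin 3) (Fin 3) K) x y := by
  revert h
  fin_cases x <;> fin_cases y <;> simp [X3m]

theorem X3m_det (a s : K) : (X3m σ a s).det = 1 := by simp [X3m, Matrix.det_fin_three]
theorem Y3m_det (c t : K) : (Y3m σ c t).det = 1 := by simp [Y3m, Matrix.det_fin_three]
theorem N3m_det : (N3m K).det = 1 := by simp [N3m, Matrix.det_fin_three]
theorem D3m_det (μ : K) (hμ : μ ≠ 0) : (D3m σ μ).det = 1 := by
  have : σ μ ≠ 0 := fun h => hμ (sig_inj σ h)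
  simp [D3m, Matrix.det_diagonal, Fin.prod_univ_three]
  field_simp

theorem X3m_unit (hσ2 : ∀ x, σ (σ x) = x) (a s : K) (h : s + σ s + a * σ a = 0) :
    sharp σ (X3m σ a s) * X3m σ a s = 1 := by
  ext i j
  fin_cases i <;> fin_cases j <;>
    simp [X3m, sharp_apply, Matrix.mul_apply, Fin.sum_univ_three, Fin.rev, hσ2]
  linear_combination h

theorem Y3m_unit (hσ2 : ∀ x, σ (σ x) = x) (c t : K) (h : t + σ t + c * σ c = 0) :
    sharp σ (Y3m σ c t) * Y3m σ c t = 1 := by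
  ext i j
  fin_cases i <;> fin_cases j <;>
    simp [Y3m, sharp_apply, Matrix.mul_apply, Fin.sum_univ_three, Fin.rev, hσ2]
  linear_combination h

theorem N3m_unit : sharp σ (N3m K) * N3m K = 1 := by
  ext i j
  fin_cases i <;> fin_cases j <;>
    simp [N3m, sharp_apply, Matrix.mul_apply, Fin.sum_univ_three, Fin.rev]

theorem D3m_unit (hσ2 : ∀ x, σ (σ x) = x) (μ : K) (hμ : μ ≠ 0) :
    sharp σ (D3m σ μ) * D3m σ μ = 1 := by
  have : σ μ ≠ 0 := fun h => hμ (sig_inj σ h)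
  ext i j
  fin_cases i <;> fin_cases j <;>
    simp [D3m, sharp_apply, Matrix.mul_apply, Fin.sum_univ_three, Fin.rev, hσ2, hμ, this]

theorem rel3_d (hσ2 : ∀ x, σ (σ x) = x) (a s : K) :
    Y3m σ (σ a) s * N3m K = N3m K * X3m σ a s := by
  ext i j
  fin_cases i <;> fin_cases j <;>
    simp [Y3m, X3m, N3m, Matrix.mul_apply, Fin.sum_univ_three, hσ2]

def N3a (σ : K →+* K) (α : K) : Matrix (Fin 3) (Fin 3) K :=
  !![0, 0, α; 0, -(σ α / α), 0; (σ α)⁻¹, 0, 0]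

theorem D3m_mul_N3m (α : K) : D3m σ α * N3m K = N3a σ α := by
  ext i j
  fin_cases i <;> fin_cases j <;>
    simp [D3m, N3m, N3a, Matrix.mul_apply, Fin.sum_univ_three]

theorem rel3_c (hσ2 : ∀ x, σ (σ x) = x) (a s : K) (hs : s ≠ 0) (h : s + σ s + a * σ a = 0) :
    X3m σ a s * (D3m σ (σ s) * N3m K) * X3m σ (a * s / σ s) s =
      Y3m σ (-σ a / s) (1 / s) := by
  have hs' : σ s ≠ 0 := fun h => hs (sig_inj σ h)
  rw [D3m_mul_N3m]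
  ext i j
  fin_cases i <;> fin_cases j <;>
    simp [Y3m, X3m, N3a, Matrix.mul_apply, Fin.sum_univ_three, hσ2, hs, hs']
  all_goals (try field_simp)
  all_goals first | ring1 | linear_combination h | linear_combination -h



def X4m (σ : K →+* K) (c : K) : Matrix (Fin 4) (Fin 4) K :=
  !![1, c, 0, 0; 0, 1, 0, 0; 0, 0, 1, -σ c; 0, 0, 0, 1]
def Y4m (σ : K →+* K) (c : K) : Matrix (Fin 4) (Fin 4) K :=
  !![1, 0, 0, 0; c, 1, 0, 0; 0, 0, 1, 0; 0, 0, -σ c, 1]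
def P4m (K : Type*) [Field K] : Matrix (Fin 4) (Fin 4) K :=
  !![0, 1, 0, 0; 1, 0, 0, 0; 0, 0, 0, 1; 0, 0, 1, 0]
def D4m (σ : K →+* K) (t : K) : Matrix (Fin 4) (Fin 4) K :=
  Matrix.diagonal ![t, t⁻¹, σ t, (σ t)⁻¹]

theorem X4m_ut (c : K) (x y : Fin 4) (h : y ≤ x) : X4m σ c x y = (1 : Matrix (Fin 4) (Fin 4) K) x y := by
  revert h
  fin_cases x <;> fin_cases y <;> simp [X4m]

theorem X4m_det (c : K) : (X4m σ c).det = 1 := by
  rw [Matrix.det_of_isUpperTriangular]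
  · simp [X4m, Fin.prod_univ_four]
  · intro i j hij
    revert hij
    fin_cases i <;> fin_cases j <;> simp [X4m]

theorem Y4m_det (c : K) : (Y4m σ c).det = 1 := by
  simp [Y4m, Matrix.det_succ_row_zero, Fin.sum_univ_succ, Fin.succAbove]

theorem P4m_det : (P4m K).det = 1 := by
  simp [P4m, Matrix.det_succ_row_zero, Fin.sum_univ_succ, Fin.succAbove]

theorem D4m_det (t : K) (ht : t ≠ 0) : (D4m σ t).det = 1 := by
  have : σ t ≠ 0 := fun h => ht (sig_inj σ h)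
  simp [D4m, Matrix.det_diagonal, Fin.prod_univ_four]
  field_simp

theorem X4m_unit (hσ2 : ∀ x, σ (σ x) = x) (c : K) : sharp σ (X4m σ c) * X4m σ c = 1 := by
  ext i j
  fin_cases i <;> fin_cases j <;>
    simp [X4m, sharp_apply, Matrix.mul_apply, Fin.sum_univ_four, Fin.rev, hσ2]

theorem Y4m_unit (hσ2 : ∀ x, σ (σ x) = x) (c : K) : sharp σ (Y4m σ c) * Y4m σ c = 1 := by
  ext i j
  fin_cases i <;> fin_cases j <;>
    simp [Y4m, sharp_apply, Matrix.mul_apply, Fin.sum_univ_four, Fin.rev, hσ2]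

theorem P4m_unit : sharp σ (P4m K) * P4m K = 1 := by
  ext i j
  fin_cases i <;> fin_cases j <;>
    simp [P4m, sharp_apply, Matrix.mul_apply, Fin.sum_univ_four, Fin.rev]

theorem D4m_unit (hσ2 : ∀ x, σ (σ x) = x) (t : K) (ht : t ≠ 0) :
    sharp σ (D4m σ t) * D4m σ t = 1 := by
  have : σ t ≠ 0 := fun h => ht (sig_inj σ h)
  ext i j
  fin_cases i <;> fin_cases j <;>
    simp [D4m, sharp_apply, Matrix.mul_apply, Fin.sum_univ_four, Fin.rev, hσ2, ht, this]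

theorem rel4_e (c : K) : Y4m σ c * P4m K = P4m K * X4m σ c := by
  ext i j
  fin_cases i <;> fin_cases j <;>
    simp [Y4m, X4m, P4m, Matrix.mul_apply, Fin.sum_univ_four]

theorem rel4_f (t : K) (ht : t ≠ 0) :
    X4m σ t * Y4m σ (-t⁻¹) * X4m σ t = D4m σ t * (X4m σ 1 * Y4m σ (-1) * X4m σ 1) := by
  have : σ t ≠ 0 := fun h => ht (sig_inj σ h)
  ext i j
  fin_cases i <;> fin_cases j <;>
    simp [Y4m, X4m, D4m, Matrix.mul_apply, Fin.sum_univ_four, ht, this]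


/-! ### Group elements -/

section grp2

variable (σ)

def x2 (t : K) (ht : t + σ t = 0) : ↥(UG 2 σ) := mkU σ (X2m t) (X2m_det t) (X2m_unit t ht)
def y2 (t : K) (ht : t + σ t = 0) : ↥(UG 2 σ) := mkU σ (Y2m t) (Y2m_det t) (Y2m_unit t ht)
def w2 (e : K) (he0 : e ≠ 0) (he : e + σ e = 0) : ↥(UG 2 σ) :=
  mkU σ (W2m e) (W2m_det e he0) (W2m_unit e he0 he)
def d2 (μ : K) (hμ0 : μ ≠ 0) (hμ : σ μ = μ) : ↥(UG 2 σ) :=
  mkU σ (D2m μ) (D2m_det μ hμ0) (D2m_unit μ hμ0 hμ)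

variable {σ}

theorem y2_eq (t : K) (ht : t + σ t = 0) (e : K) (he0 : e ≠ 0) (he : e + σ e = 0) :
    ∃ (t' : K) (ht' : t' + σ t' = 0),
      y2 σ t ht = w2 σ e he0 he * x2 σ t' ht' * (w2 σ e he0 he)⁻¹ := by
  have hσe : σ e = -e := by linear_combination he
  refine ⟨-t * e ^ 2, ?_, ?_⟩
  · rw [map_mul, map_neg, map_pow, hσe]
    linear_combination (-e ^ 2) * ht
  · rw [eq_mul_inv_iff_mul_eq]
    apply UG_ext
    exact rel2_a t e he0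

theorem inv_tr {u : K} (hu0 : u ≠ 0) (hu : u + σ u = 0) : -u⁻¹ + σ (-u⁻¹) = 0 := by
  have hσu : σ u = -u := by linear_combination hu
  rw [map_neg, map_inv₀, hσu]
  field_simp
  ring

theorem d2_mem (C : Subgroup ↥(UG 2 σ)) (hx : ∀ t ht, x2 σ t ht ∈ C) (hy : ∀ t ht, y2 σ t ht ∈ C)
    (e : K) (he0 : e ≠ 0) (he : e + σ e = 0) (μ : K) (hμ0 : μ ≠ 0) (hμ : σ μ = μ) :
    d2 σ μ hμ0 hμ ∈ C := by
  have h1 : μ * e + σ (μ * e) = 0 := by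
    rw [map_mul, hμ]; linear_combination μ * he
  have h10 : μ * e ≠ 0 := mul_ne_zero hμ0 he0
  have key : d2 σ μ hμ0 hμ * (x2 σ e he * y2 σ (-e⁻¹) (inv_tr he0 he) * x2 σ e he) =
      x2 σ (μ * e) h1 * y2 σ (-(μ * e)⁻¹) (inv_tr h10 h1) * x2 σ (μ * e) h1 := by
    apply UG_ext
    exact rel2_b μ e hμ0 he0
  rw [← eq_mul_inv_iff_mul_eq] at key
  rw [key]
  exact C.mul_mem (C.mul_mem (C.mul_mem (hx _ _) (hy _ _)) (hx _ _))
    (C.inv_mem (C.mul_mem (C.mul_mem (hx _ _) (hy _ _)) (hx _ _)))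

end grp2

section grp3

variable (σ)

def x3 (hσ2 : ∀ x, σ (σ x) = x) (a s : K) (h : s + σ s + a * σ a = 0) : ↥(UG 3 σ) :=
  mkU σ (X3m σ a s) (X3m_det a s) (X3m_unit hσ2 a s h)
def y3 (hσ2 : ∀ x, σ (σ x) = x) (c t : K) (h : t + σ t + c * σ c = 0) : ↥(UG 3 σ) :=
  mkU σ (Y3m σ c t) (Y3m_det c t) (Y3m_unit hσ2 c t h)
def n3 : ↥(UG 3 σ) := mkU σ (N3m K) N3m_det N3m_unit
def d3 (hσ2 : ∀ x, σ (σ x) = x) (μ : K) (hμ : μ ≠ 0) : ↥(UG 3 σ) :=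
  mkU σ (D3m σ μ) (D3m_det μ hμ) (D3m_unit hσ2 μ hμ)

variable {σ}

theorem y3_eq (hσ2 : ∀ x, σ (σ x) = x) (c t : K) (h : t + σ t + c * σ c = 0) :
    ∃ (a : K) (h' : t + σ t + a * σ a = 0),
      y3 σ hσ2 c t h = n3 σ * x3 σ hσ2 a t h' * (n3 σ)⁻¹ := by
  refine ⟨σ c, ?_, ?_⟩
  · rw [hσ2]; linear_combination h
  · rw [eq_mul_inv_iff_mul_eq]
    apply UG_ext
    have := rel3_d hσ2 (σ c) t
    rw [hσ2] at this
    exact this

theorem d3_one (hσ2 : ∀ x, σ (σ x) = x) : d3 σ hσ2 1 one_ne_zero = 1 := by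
  apply UG_ext
  show D3m σ 1 = 1
  ext i j
  fin_cases i <;> fin_cases j <;> simp [D3m]

theorem d3_congr (hσ2 : ∀ x, σ (σ x) = x) (μ μ' : K) (h : μ = μ') (hμ : μ ≠ 0) (hμ' : μ' ≠ 0) :
    d3 σ hσ2 μ hμ = d3 σ hσ2 μ' hμ' := by
  subst h; rfl

theorem x3_aux (hσ2 : ∀ x, σ (σ x) = x) (a s : K) (hs : s ≠ 0) (h : s + σ s + a * σ a = 0) :
    s + σ s + (a * s / σ s) * σ (a * s / σ s) = 0 := by
  have hs' : σ s ≠ 0 := fun h => hs (sig_inj σ h)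
  rw [map_div₀, map_mul, hσ2]
  have e1 : a * s / σ s * (σ a * σ s / s) = a * σ a := by field_simp
  rw [e1]; exact h

theorem y3_aux (hσ2 : ∀ x, σ (σ x) = x) (a s : K) (hs : s ≠ 0) (h : s + σ s + a * σ a = 0) :
    1 / s + σ (1 / s) + (-σ a / s) * σ (-σ a / s) = 0 := by
  have hs' : σ s ≠ 0 := fun h => hs (sig_inj σ h)
  rw [map_div₀, map_div₀, map_neg, hσ2, map_one]
  have e : 1 / s + 1 / σ s + -σ a / s * (-a / σ s) = (s + σ s + a * σ a) / (s * σ s) := by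
    field_simp; ring
  rw [e, h, zero_div]

theorem d3n_mem (hσ2 : ∀ x, σ (σ x) = x) (hnm : ∀ β : K, σ β = β → ∃ c, c * σ c = β)
    (C : Subgroup ↥(UG 3 σ)) (hx : ∀ a s h, x3 σ hσ2 a s h ∈ C)
    (hy : ∀ c t h, y3 σ hσ2 c t h ∈ C) (α : K) (hα : α ≠ 0) :
    d3 σ hσ2 α hα * n3 σ ∈ C := by
  have hs0 : σ α ≠ 0 := fun h => hα (sig_inj σ h)
  obtain ⟨a, ha⟩ := hnm (-(σ α + α)) (by rw [map_neg, map_add, hσ2]; ring)
  have h : σ α + σ (σ α) + a * σ a = 0 := by rw [hσ2, ha]; ring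
  have h2 : σ α + σ (σ α) + (a * σ α / σ (σ α)) * σ (a * σ α / σ (σ α)) = 0 :=
    x3_aux hσ2 a (σ α) hs0 h
  have h3 : 1 / σ α + σ (1 / σ α) + (-σ a / σ α) * σ (-σ a / σ α) = 0 :=
    y3_aux hσ2 a (σ α) hs0 h
  have key : x3 σ hσ2 a (σ α) h * (d3 σ hσ2 (σ (σ α)) (by rw [hσ2]; exact hα) * n3 σ) *
      x3 σ hσ2 (a * σ α / σ (σ α)) (σ α) h2 = y3 σ hσ2 (-σ a / σ α) (1 / σ α) h3 := by
    apply UG_ext
    exact rel3_c hσ2 a (σ α) hs0 h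
  have e : d3 σ hσ2 α hα = d3 σ hσ2 (σ (σ α)) (by rw [hσ2]; exact hα) :=
    d3_congr hσ2 _ _ (hσ2 α).symm _ _
  rw [e]
  have key2 : d3 σ hσ2 (σ (σ α)) (by rw [hσ2]; exact hα) * n3 σ =
      (x3 σ hσ2 a (σ α) h)⁻¹ * y3 σ hσ2 (-σ a / σ α) (1 / σ α) h3 *
        (x3 σ hσ2 (a * σ α / σ (σ α)) (σ α) h2)⁻¹ := by
    rw [← key]; group
  rw [key2]
  exact C.mul_mem (C.mul_mem (C.inv_mem (hx _ _ _)) (hy _ _ _)) (C.inv_mem (hx _ _ _))

theorem d3_mem (hσ2 : ∀ x, σ (σ x) = x) (hnm : ∀ β : K, σ β = β → ∃ c, c * σ c = β)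
    (C : Subgroup ↥(UG 3 σ)) (hx : ∀ a s h, x3 σ hσ2 a s h ∈ C)
    (hy : ∀ c t h, y3 σ hσ2 c t h ∈ C) (μ : K) (hμ : μ ≠ 0) :
    d3 σ hσ2 μ hμ ∈ C := by
  have h1 := d3n_mem hσ2 hnm C hx hy 1 one_ne_zero
  rw [d3_one, one_mul] at h1
  have h2 := d3n_mem hσ2 hnm C hx hy μ hμ
  have e : d3 σ hσ2 μ hμ = d3 σ hσ2 μ hμ * n3 σ * (n3 σ)⁻¹ := by group
  rw [e]
  exact C.mul_mem h2 (C.inv_mem h1)

end grp3

section grp4

variable (σ)

def x4 (hσ2 : ∀ x, σ (σ x) = x) (c : K) : ↥(UG 4 σ) :=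
  mkU σ (X4m σ c) (X4m_det c) (X4m_unit hσ2 c)
def y4 (hσ2 : ∀ x, σ (σ x) = x) (c : K) : ↥(UG 4 σ) :=
  mkU σ (Y4m σ c) (Y4m_det c) (Y4m_unit hσ2 c)
def p4 : ↥(UG 4 σ) := mkU σ (P4m K) P4m_det P4m_unit
def d4 (hσ2 : ∀ x, σ (σ x) = x) (t : K) (ht : t ≠ 0) : ↥(UG 4 σ) :=
  mkU σ (D4m σ t) (D4m_det t ht) (D4m_unit hσ2 t ht)

variable {σ}

theorem y4_eq (hσ2 : ∀ x, σ (σ x) = x) (c : K) :
    y4 σ hσ2 c = p4 σ * x4 σ hσ2 c * (p4 σ)⁻¹ := by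
  rw [eq_mul_inv_iff_mul_eq]
  apply UG_ext
  exact rel4_e c

theorem d4_mem (hσ2 : ∀ x, σ (σ x) = x) (C : Subgroup ↥(UG 4 σ))
    (hx : ∀ c, x4 σ hσ2 c ∈ C) (hy : ∀ c, y4 σ hσ2 c ∈ C) (t : K) (ht : t ≠ 0) :
    d4 σ hσ2 t ht ∈ C := by
  have key : x4 σ hσ2 t * y4 σ hσ2 (-t⁻¹) * x4 σ hσ2 t =
      d4 σ hσ2 t ht * (x4 σ hσ2 1 * y4 σ hσ2 (-1) * x4 σ hσ2 1) := by
    apply UG_ext
    exact rel4_f t ht
  have key2 : d4 σ hσ2 t ht = x4 σ hσ2 t * y4 σ hσ2 (-t⁻¹) * x4 σ hσ2 t *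
      (x4 σ hσ2 1 * y4 σ hσ2 (-1) * x4 σ hσ2 1)⁻¹ := by
    rw [key]; group
  rw [key2]
  exact C.mul_mem (C.mul_mem (C.mul_mem (hx _) (hy _)) (hx _))
    (C.inv_mem (C.mul_mem (C.mul_mem (hx _) (hy _)) (hx _)))

end grp4

end Cfsg.Agent.Lib.helper47.UFus
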