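import Mathlib
import Cfsg.Agent.Lib.helper47.UFusG
import Cfsg.Agent.Lib.helper47.FusionLevi

/-!
The hypotheses of the simplicity criterion for the unitary group `UG n σ`: tori and generation.
-/

set_option autoImplicit false

namespace Cfsg.Agent.Lib.helper47.UFus

open Matrix Cfsg.Agent.Lib.helper47.PSLn

variable {n : ℕ} {K : Type*} [Field K] {σ : K →+* K}

/-! ### Index maps -/

def i2 (a1 : Fin n) : Fin 2 → Fin n := ![a1, Fin.rev a1]
def i3 (a1 m : Fin n) : Fin 3 → Fin n := ![a1, m, Fin.rev a1]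
def i4 (i j : Fin n) : Fin 4 → Fin n := ![i, j, Fin.rev j, Fin.rev i]

theorem i2_mono (a1 : Fin n) (h : a1 < Fin.rev a1) : StrictMono (i2 a1) := by
  intro x y hxy
  revert hxy
  fin_cases x <;> fin_cases y <;> simp [i2]
  assumption

theorem i2_rev (a1 : Fin n) (x : Fin 2) : i2 a1 (Fin.rev x) = Fin.rev (i2 a1 x) := by
  fin_cases x
  · show i2 a1 1 = Fin.rev (i2 a1 0)
    simp [i2]
  · show i2 a1 0 = Fin.rev (i2 a1 1)
    simp [i2]

theorem i3_mono (a1 m : Fin n) (h1 : a1 < m) (h2 : m < Fin.rev a1) : StrictMono (i3 a1 m) := by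
  have h3 := lt_trans h1 h2
  intro x y hxy
  revert hxy
  fin_cases x <;> fin_cases y <;> simp [i3] <;> assumption

theorem i3_rev (a1 m : Fin n) (hm : m = Fin.rev m) (x : Fin 3) :
    i3 a1 m (Fin.rev x) = Fin.rev (i3 a1 m x) := by
  fin_cases x
  · show i3 a1 m 2 = Fin.rev (i3 a1 m 0)
    simp [i3]
  · show i3 a1 m 1 = Fin.rev (i3 a1 m 1)
    simp [i3]; exact hm
  · show i3 a1 m 0 = Fin.rev (i3 a1 m 2)
    simp [i3]

theorem i4_mono (i j : Fin n) (h1 : i < j) (h2 : j < Fin.rev j) : StrictMono (i4 i j) := by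
  have h3 : Fin.rev j < Fin.rev i := Fin.rev_lt_rev.mpr h1
  have h4 := lt_trans h1 h2
  have h5 := lt_trans h2 h3
  have h6 := lt_trans h1 h5
  intro x y hxy
  revert hxy
  fin_cases x <;> fin_cases y <;> simp [i4] <;> assumption

theorem i4_rev (i j : Fin n) (x : Fin 4) : i4 i j (Fin.rev x) = Fin.rev (i4 i j x) := by
  fin_cases x
  · show i4 i j 3 = Fin.rev (i4 i j 0)
    simp [i4]
  · show i4 i j 2 = Fin.rev (i4 i j 1)
    simp [i4]
  · show i4 i j 1 = Fin.rev (i4 i j 2)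
    simp [i4]
  · show i4 i j 0 = Fin.rev (i4 i j 3)
    simp [i4]

/-! ### General lemmas -/

theorem emb_ut {k : ℕ} {ι : Fin k → Fin n} (hι : StrictMono ι) (M : Matrix (Fin k) (Fin k) K)
    (h : ∀ x y, y ≤ x → M x y = (1 : Matrix (Fin k) (Fin k) K) x y) :
    RBm (fun i : Fin n => i.val) (emb ι M) :=
  emb_rbm hι.injective M _ (fun x y hxy => h x y (hι.le_iff_le.mp hxy))

theorem UG_conj_coe (g r : ↥(UG n σ)) : (g * r * g⁻¹).1 = g.1 * r.1 * g.1⁻¹ := rfl

theorem norm_of_pbs [Finite K] (b : Fin n → ℕ) (g : ↥(UG n σ)) (hg : g.1 ∈ PBs K b) :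
    ∀ r ∈ (RBs K b).subgroupOf (UG n σ), g * r * g⁻¹ ∈ (RBs K b).subgroupOf (UG n σ) := by
  intro r hr
  rw [Subgroup.mem_subgroupOf] at hr ⊢
  exact RBs_conj b g.1 r.1 hg hr

/-- Diagonal entries of an upper triangular unitary matrix. -/
theorem upper_unit_diag (g : SpecialLinearGroup (Fin n) K) (hg : g ∈ UG n σ)
    (hup : ∀ i j : Fin n, j < i → g.1 i j = 0) (a : Fin n) :
    σ (g.1 (Fin.rev a) (Fin.rev a)) * g.1 a a = 1 := by
  have h := UG_col g hg a a
  rw [if_pos rfl, Finset.sum_eq_single a] at h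
  · exact h
  · intro c _ hca
    rcases lt_or_gt_of_ne hca with hlt | hgt
    · rw [hup (Fin.rev c) (Fin.rev a) (Fin.rev_lt_rev.mpr hlt), map_zero, zero_mul]
    · rw [hup c a hgt, mul_zero]
  · intro h'; exact absurd (Finset.mem_univ _) h'

/-- Diagonal entries of a diagonal unitary matrix. -/
theorem diag_unit (g : SpecialLinearGroup (Fin n) K) (hg : g ∈ UG n σ) (d : Fin n → K)
    (hd : g.1 = Matrix.diagonal d) (a : Fin n) : σ (d (Fin.rev a)) * d a = 1 := by
  have h := upper_unit_diag g hg (fun i j hij => by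
    rw [hd, Matrix.diagonal_apply_ne _ (ne_of_gt hij)]) a
  rw [hd, Matrix.diagonal_apply_eq, Matrix.diagonal_apply_eq] at h
  exact h

/-! ### The tori -/

/-- The torus elements of the Siegel Levi subgroup. -/
def HSset (hσ2 : ∀ x, σ (σ x) = x) : Set ↥(UG n σ) :=
  {h | ∃ (i j : Fin n) (hij : i < j) (hj : j < Fin.rev j) (t : K) (ht : t ≠ 0),
    h = embH σ (i4 i j) (i4_mono i j hij hj).injective (i4_rev i j) (d4 σ hσ2 t ht)}

/-- The torus elements of the point stabiliser. -/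
def HQset (σ : K →+* K) (a1 : Fin n) : Set ↥(UG n σ) :=
  {h | ∃ d : Fin n → K, h.1.1 = Matrix.diagonal d ∧
    ∀ i, i ≠ a1 → i ≠ Fin.rev a1 → i ≠ Fin.rev i → d i = 1}

theorem embH_d4_coe (hσ2 : ∀ x, σ (σ x) = x) (i j : Fin n) (hij : i < j) (hj : j < Fin.rev j)
    (t : K) (ht : t ≠ 0) :
    (embH σ (i4 i j) (i4_mono i j hij hj).injective (i4_rev i j) (d4 σ hσ2 t ht)).1.1 =
      Matrix.diagonal (Function.extend (i4 i j) ![t, t⁻¹, σ t, (σ t)⁻¹] 1) := by
  rw [embH_coe]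
  show emb (i4 i j) (D4m σ t) = _
  unfold D4m
  exact emb_diagonal (i4_mono i j hij hj).injective _

theorem exists_torus_S (hσ2 : ∀ x, σ (σ x) = x) (a1 : Fin n) (h11 : a1 < Fin.rev a1)
    (i : Fin n) (hi1 : i < Fin.rev i) (hi2 : i ≠ a1) (t : K) (ht : t ≠ 0) :
    ∃ h ∈ HSset (n := n) hσ2, ∃ D : Fin n → K, h.1.1 = Matrix.diagonal D ∧ D i = t ∧
      ∀ x, x ≠ i → x ≠ a1 → x ≠ Fin.rev i → x ≠ Fin.rev a1 → D x = 1 := by
  rcases lt_or_gt_of_ne hi2 with hlt | hgt
  · have hι := (i4_mono i a1 hlt h11).injective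
    refine ⟨_, ⟨i, a1, hlt, h11, t, ht, rfl⟩, _, embH_d4_coe hσ2 i a1 hlt h11 t ht, ?_, ?_⟩
    · show Function.extend (i4 i a1) ![t, t⁻¹, σ t, (σ t)⁻¹] 1 (i4 i a1 0) = t
      rw [hι.extend_apply]
      rfl
    · intro x hx1 hx2 hx3 hx4
      rw [Function.extend_apply']
      · rfl
      · rintro ⟨y, rfl⟩
        fin_cases y
        · exact hx1 rfl
        · exact hx2 rfl
        · exact hx4 rfl
        · exact hx3 rfl
  · have hι := (i4_mono a1 i hgt hi1).injective
    have ht' : t⁻¹ ≠ 0 := inv_ne_zero ht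
    refine ⟨_, ⟨a1, i, hgt, hi1, t⁻¹, ht', rfl⟩, _, embH_d4_coe hσ2 a1 i hgt hi1 t⁻¹ ht', ?_, ?_⟩
    · show Function.extend (i4 a1 i) ![t⁻¹, t⁻¹⁻¹, σ t⁻¹, (σ t⁻¹)⁻¹] 1 (i4 a1 i 1) = t
      rw [hι.extend_apply]
      show t⁻¹⁻¹ = t
      rw [inv_inv]
    · intro x hx1 hx2 hx3 hx4
      rw [Function.extend_apply']
      · rfl
      · rintro ⟨y, rfl⟩
        fin_cases y
        · exact hx2 rfl
        · exact hx1 rfl
        · exact hx3 rfl
        · exact hx4 rfl

theorem UG_inv_mul_coe (h g : ↥(UG n σ)) : (h⁻¹ * g).1.1 = (h.1)⁻¹.1 * g.1.1 := rfl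

/-! ### Generation of the normaliser -/

section gen

variable [Finite K]

theorem hgen_claim (hF : FF σ) (a1 : Fin n) (h11 : a1 < Fin.rev a1) (M : Subgroup ↥(UG n σ))
    (hS : (UT n K).subgroupOf (UG n σ) ≤ M) (hHS : HSset hF.inv ⊆ (M : Set ↥(UG n σ)))
    (hHQ : HQset σ a1 ⊆ (M : Set ↥(UG n σ))) (s : Finset (Fin n)) :
    ∀ g : ↥(UG n σ), (∀ i j : Fin n, j < i → g.1.1 i j = 0) →
      (∀ i, i < Fin.rev i → i ≠ a1 → g.1.1 i i ≠ 1 → i ∈ s) → g ∈ M := by
  induction s using Finset.induction_on with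
  | empty =>
    intro g hup hsupp
    have hd1 : ∀ i, i < Fin.rev i → i ≠ a1 → g.1.1 i i = 1 := fun i h1 h2 => by
      by_contra h
      exact absurd (hsupp i h1 h2 h) (Finset.notMem_empty _)
    obtain ⟨d, hd⟩ : ∃ d : Fin n → K, d = fun i => g.1.1 i i := ⟨_, rfl⟩
    have hdu : ∀ x, σ (d (Fin.rev x)) * d x = 1 := fun x => by
      rw [hd]; exact upper_unit_diag g.1 g.2 hup x
    have hdet : (Matrix.diagonal d).det = 1 := by
      rw [Matrix.det_diagonal, hd]
      have h1 : g.1.1.det = ∏ i, g.1.1 i i :=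
        Matrix.det_of_isUpperTriangular (fun i j hij => hup i j hij)
      rw [← h1]
      exact g.1.2
    obtain ⟨h, hh⟩ : ∃ h : ↥(UG n σ), h.1.1 = Matrix.diagonal d :=
      ⟨⟨⟨Matrix.diagonal d, hdet⟩, diag_mem_UG _ d rfl hdu⟩, rfl⟩
    have hhQ : h ∈ HQset σ a1 := by
      refine ⟨d, hh, fun i hi1 hi2 hi3 => ?_⟩
      rcases lt_or_gt_of_ne hi3 with hlt | hgt
      · rw [hd]; exact hd1 i hlt hi1
      · have h1 : g.1.1 (Fin.rev i) (Fin.rev i) = 1 :=
          hd1 (Fin.rev i) (by rw [Fin.rev_rev]; exact hgt)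
            (fun h => hi2 (by rw [← h, Fin.rev_rev]))
        have h2 := hdu i
        have h3 : d (Fin.rev i) = 1 := by rw [hd]; exact h1
        rw [h3, map_one, one_mul] at h2
        exact h2
    have hg' : h⁻¹ * g ∈ (UT n K).subgroupOf (UG n σ) := by
      rw [Subgroup.mem_subgroupOf]
      refine (mem_UT_iff _).mpr ?_
      intro k i hik
      show ((h.1)⁻¹.1 * g.1.1) k i = _
      rw [diag_inv h.1 d hh, Matrix.diagonal_mul]
      rcases lt_or_eq_of_le hik with hlt | heq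
      · rw [hup k i (Fin.lt_def.mpr hlt), mul_zero, Matrix.one_apply_ne (fun h => by
          rw [h] at hlt; exact lt_irrefl _ hlt)]
      · have hki : i = k := Fin.ext heq
        rw [hki, Matrix.one_apply_eq]
        have : g.1.1 k k = d k := by rw [hd]
        rw [this]
        exact inv_mul_cancel₀ (diag_ne_zero h.1 d hh k)
    have e : g = h * (h⁻¹ * g) := by group
    rw [e]
    exact M.mul_mem (hHQ hhQ) (hS hg')
  | insert i s his ih =>
    intro g hup hsupp
    by_cases hi : i < Fin.rev i ∧ i ≠ a1 ∧ g.1.1 i i ≠ 1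
    · obtain ⟨hi1, hi2, hi3⟩ := hi
      have ht0 : g.1.1 i i ≠ 0 := by
        intro h0
        have := upper_unit_diag g.1 g.2 hup i
        rw [h0, mul_zero] at this
        exact zero_ne_one this
      obtain ⟨h, hhH, D, hD, hDi, hDo⟩ := exists_torus_S hF.inv a1 h11 i hi1 hi2 (g.1.1 i i) ht0
      have hg' : h⁻¹ * g ∈ M := by
        apply ih
        · intro k l hlk
          rw [UG_inv_mul_coe, diag_inv h.1 D hD, Matrix.diagonal_mul, hup k l hlk, mul_zero]
        · intro x hx1 hx2 hx3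
          have e : (h⁻¹ * g).1.1 x x = (D x)⁻¹ * g.1.1 x x := by
            rw [UG_inv_mul_coe, diag_inv h.1 D hD, Matrix.diagonal_mul]
          rw [e] at hx3
          by_cases hxi : x = i
          · exfalso
            apply hx3
            rw [hxi, hDi]
            exact inv_mul_cancel₀ ht0
          · have hx5 : x ≠ Fin.rev i := by
              intro h
              rw [h, Fin.rev_rev] at hx1
              exact lt_asymm hx1 hi1
            have hx6 : x ≠ Fin.rev a1 := by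
              intro h
              rw [h, Fin.rev_rev] at hx1
              exact lt_asymm hx1 h11
            have hDx : D x = 1 := hDo x hxi hx2 hx5 hx6
            rw [hDx, inv_one, one_mul] at hx3
            exact (Finset.mem_insert.mp (hsupp x hx1 hx2 hx3)).resolve_left hxi
      have e : g = h * (h⁻¹ * g) := by group
      rw [e]
      exact M.mul_mem (hHS hhH) hg'
    · apply ih g hup
      intro x hx1 hx2 hx3
      rcases Finset.mem_insert.mp (hsupp x hx1 hx2 hx3) with rfl | h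
      · exact absurd ⟨hx1, hx2, hx3⟩ hi
      · exact h

theorem hgen_U (hF : FF σ) (a1 : Fin n) (h11 : a1 < Fin.rev a1) (M : Subgroup ↥(UG n σ))
    (hS : (UT n K).subgroupOf (UG n σ) ≤ M) (hHS : HSset hF.inv ⊆ (M : Set ↥(UG n σ)))
    (hHQ : HQset σ a1 ⊆ (M : Set ↥(UG n σ))) (g : ↥(UG n σ))
    (hg : ∀ x ∈ (UT n K).subgroupOf (UG n σ), g * x * g⁻¹ ∈ (UT n K).subgroupOf (UG n σ)) :
    g ∈ M := by
  have hup := norm_U_upper hF g.1 (fun x hx => by
    have := hg ⟨x, hx.1⟩ (Subgroup.mem_subgroupOf.mpr hx.2)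
    exact ⟨(UG n σ).mul_mem ((UG n σ).mul_mem g.2 hx.1) ((UG n σ).inv_mem g.2),
      Subgroup.mem_subgroupOf.mp this⟩)
  exact hgen_claim hF a1 h11 M hS hHS hHQ Finset.univ g hup (fun i _ _ _ => Finset.mem_univ i)

end gen

end Cfsg.Agent.Lib.helper47.UFus
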