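import Mathlib
import Cfsg.Agent.Lib.helper47.UFusH

/-!
The hypotheses of the simplicity criterion for the unitary group `UG n σ`: the tori lie in the
normal closures of `U` in the parabolic subgroups.
-/

set_option autoImplicit false

namespace Cfsg.Agent.Lib.helper47.UFus

open Matrix Cfsg.Agent.Lib.helper47.PSLn

variable {n : ℕ} {K : Type*} [Field K] {σ : K →+* K} [Finite K]

theorem hW_S (hσ2 : ∀ x, σ (σ x) = x) (h : ↥(UG n σ)) (hh : h ∈ HSset (n := n) hσ2) :
    h ∈ Subgroup.closure {y : ↥(UG n σ) | ∃ g x : ↥(UG n σ),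
      (∀ r ∈ (RBs K bS).subgroupOf (UG n σ), g * r * g⁻¹ ∈ (RBs K bS).subgroupOf (UG n σ)) ∧
      x ∈ (UT n K).subgroupOf (UG n σ) ∧ y = g * x * g⁻¹} := by
  obtain ⟨i, j, hij, hj, t, ht, rfl⟩ := hh
  have hmono := i4_mono i j hij hj
  obtain ⟨f, hf⟩ : ∃ f, f = embH σ (i4 i j) hmono.injective (i4_rev i j) := ⟨_, rfl⟩
  rw [← hf]
  have hx : ∀ c, f (x4 σ hσ2 c) ∈ (UT n K).subgroupOf (UG n σ) := by
    intro c
    rw [Subgroup.mem_subgroupOf, hf]
    exact (mem_UT_iff _).mpr (emb_ut hmono _ (X4m_ut c))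
  have hp : ∀ r ∈ (RBs K bS).subgroupOf (UG n σ),
      f (p4 σ) * r * (f (p4 σ))⁻¹ ∈ (RBs K bS).subgroupOf (UG n σ) := by
    apply norm_of_pbs
    rw [hf]
    refine (mem_PBs _ _).mpr ?_
    show PBm bS (emb (i4 i j) (P4m K))
    apply emb_pbm hmono.injective
    have hri : Fin.rev j < Fin.rev i := Fin.rev_lt_rev.mpr hij
    have b0 : bS (i4 i j 0) = 0 := bS_first i (lt_trans hij (lt_trans hj hri))
    have b1 : bS (i4 i j 1) = 0 := bS_first j hj
    have b2 : bS (i4 i j 2) = 2 := bS_third (Fin.rev j) (by rw [Fin.rev_rev]; exact hj)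
    have b3 : bS (i4 i j 3) = 2 :=
      bS_third (Fin.rev i) (by rw [Fin.rev_rev]; exact lt_trans hij (lt_trans hj hri))
    intro x y hxy
    revert hxy
    fin_cases x <;> fin_cases y <;> simp [P4m, b0, b1, b2, b3]
  refine d4_mem hσ2 ((Subgroup.closure _).comap f) ?_ ?_ t ht
  · intro c
    exact Subgroup.subset_closure ⟨1, f (x4 σ hσ2 c), fun r hr => by simpa using hr, hx c,
      by simp⟩
  · intro c
    apply Subgroup.subset_closure
    refine ⟨f (p4 σ), f (x4 σ hσ2 c), hp, hx c, ?_⟩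
    rw [y4_eq, map_mul, map_mul, map_inv]

theorem bQ_range {k : ℕ} (a a1 : Fin n) (h01 : a < a1) (h11 : a1 < Fin.rev a1)
    (ι : Fin k → Fin n) (hlo : ∀ x, a1 ≤ ι x) (hhi : ∀ x, ι x ≤ Fin.rev a1)
    (M : Matrix (Fin k) (Fin k) K) (x y : Fin k) (hxy : bQ a (ι y) < bQ a (ι x)) : M x y = 0 := by
  exfalso
  have hr : Fin.rev a1 < Fin.rev a := Fin.rev_lt_rev.mpr h01
  have e : ∀ z, bQ a (ι z) = 1 := fun z =>
    bQ_mid a (ι z) (ne_of_gt (lt_of_lt_of_le h01 (hlo z))) (ne_of_lt (lt_of_le_of_lt (hhi z) hr))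
  rw [e, e] at hxy
  exact lt_irrefl _ hxy

theorem hW_Q (hF : FF σ) (a a1 : Fin n) (h01 : a < a1) (h11 : a1 < Fin.rev a1)
    (h : ↥(UG n σ)) (hh : h ∈ HQset σ a1) :
    h ∈ Subgroup.closure {y : ↥(UG n σ) | ∃ g x : ↥(UG n σ),
      (∀ r ∈ (RBs K (bQ a)).subgroupOf (UG n σ),
        g * r * g⁻¹ ∈ (RBs K (bQ a)).subgroupOf (UG n σ)) ∧
      x ∈ (UT n K).subgroupOf (UG n σ) ∧ y = g * x * g⁻¹} := by
  obtain ⟨d, hd, hd1⟩ := hh
  have hσ2 := hF.inv
  have hdu := diag_unit h.1 h.2 d hd
  have hμ0 : d a1 ≠ 0 := diag_ne_zero h.1 d hd a1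
  have hσμ0 : σ (d a1) ≠ 0 := fun h0 => hμ0 (sig_inj σ h0)
  have hra : d (Fin.rev a1) = (σ (d a1))⁻¹ := by
    have := hdu (Fin.rev a1)
    rw [Fin.rev_rev] at this
    exact eq_inv_of_mul_eq_one_right this
  have hdet : ∏ i, d i = 1 := by
    have := h.1.2
    rw [hd, Matrix.det_diagonal] at this
    exact this
  by_cases hodd : ∃ m : Fin n, m = Fin.rev m
  · obtain ⟨m, hm⟩ := hodd
    have hm1 : a1 < m := by
      by_contra hcon
      have hcon' : m ≤ a1 := not_lt.mp hcon
      have h1 : Fin.rev a1 ≤ Fin.rev m := Fin.rev_le_rev.mpr hcon'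
      rw [← hm] at h1
      exact absurd (lt_of_le_of_lt (le_trans h1 hcon') h11) (lt_irrefl _)
    have hm2 : m < Fin.rev a1 := by
      rw [hm]; exact Fin.rev_lt_rev.mpr hm1
    have huniq : ∀ x : Fin n, x = Fin.rev x → x = m := by
      intro x hx
      have e1 := congrArg Fin.val hx
      have e2 := congrArg Fin.val hm
      rw [Fin.val_rev] at e1 e2
      have := x.isLt
      have := m.isLt
      exact Fin.ext (by omega)
    have hprod : ∏ i, d i = d a1 * (d m * d (Fin.rev a1)) := by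
      rw [← Finset.prod_subset (Finset.subset_univ ({a1, m, Fin.rev a1} : Finset (Fin n)))]
      · rw [Finset.prod_insert, Finset.prod_pair (ne_of_lt hm2)]
        simp only [Finset.mem_insert, Finset.mem_singleton, not_or]
        exact ⟨ne_of_lt hm1, ne_of_lt h11⟩
      · intro x _ hx
        simp only [Finset.mem_insert, Finset.mem_singleton, not_or] at hx
        exact hd1 x hx.1 hx.2.2 (fun h => hx.2.1 (huniq x h))
    have hdm : d m = σ (d a1) / d a1 := by
      rw [eq_div_iff hμ0]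
      calc d m * d a1 = (d a1 * (d m * (σ (d a1))⁻¹)) * σ (d a1) := by field_simp
        _ = σ (d a1) := by rw [← hra, ← hprod, hdet, one_mul]
    have hmono := i3_mono a1 m hm1 hm2
    obtain ⟨f, hf⟩ : ∃ f, f = embH σ (i3 a1 m) hmono.injective (i3_rev a1 m hm) := ⟨_, rfl⟩
    have hheq : h = f (d3 σ hσ2 (d a1) hμ0) := by
      apply UG_ext
      rw [hd, hf, embH_coe]
      show _ = emb (i3 a1 m) (D3m σ (d a1))
      unfold D3m
      rw [emb_diagonal hmono.injective]
      congr 1
      funext x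
      by_cases hx1 : x = a1
      · rw [hx1]
        show d a1 = Function.extend (i3 a1 m) ![d a1, σ (d a1) / d a1, (σ (d a1))⁻¹] 1 (i3 a1 m 0)
        rw [hmono.injective.extend_apply]
        rfl
      by_cases hx2 : x = m
      · rw [hx2]
        show d m = Function.extend (i3 a1 m) ![d a1, σ (d a1) / d a1, (σ (d a1))⁻¹] 1 (i3 a1 m 1)
        rw [hmono.injective.extend_apply]
        exact hdm
      by_cases hx3 : x = Fin.rev a1
      · rw [hx3]
        show d (Fin.rev a1) =
          Function.extend (i3 a1 m) ![d a1, σ (d a1) / d a1, (σ (d a1))⁻¹] 1 (i3 a1 m 2)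
        rw [hmono.injective.extend_apply]
        exact hra
      · rw [Function.extend_apply', hd1 x hx1 hx3 (fun h => hx2 (huniq x h))]
        · rfl
        · rintro ⟨y, rfl⟩
          fin_cases y
          · exact hx1 rfl
          · exact hx2 rfl
          · exact hx3 rfl
    rw [hheq]
    have hx : ∀ a' s h', f (x3 σ hσ2 a' s h') ∈ (UT n K).subgroupOf (UG n σ) := by
      intro a' s h'
      rw [Subgroup.mem_subgroupOf, hf]
      exact (mem_UT_iff _).mpr (emb_ut hmono _ (X3m_ut a' s))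
    have hp : ∀ r ∈ (RBs K (bQ a)).subgroupOf (UG n σ),
        f (n3 σ) * r * (f (n3 σ))⁻¹ ∈ (RBs K (bQ a)).subgroupOf (UG n σ) := by
      apply norm_of_pbs
      rw [hf]
      refine (mem_PBs _ _).mpr ?_
      show PBm (bQ a) (emb (i3 a1 m) (N3m K))
      apply emb_pbm hmono.injective
      apply bQ_range a a1 h01 h11
      · intro x
        have : i3 a1 m 0 ≤ i3 a1 m x := hmono.monotone (Fin.zero_le x)
        exact this
      · intro x
        have : i3 a1 m x ≤ i3 a1 m 2 := hmono.monotone (Fin.le_last x)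
        exact this
    refine d3_mem hσ2 hF.nm ((Subgroup.closure _).comap f) ?_ ?_ (d a1) hμ0
    · intro a' s h'
      exact Subgroup.subset_closure ⟨1, f (x3 σ hσ2 a' s h'), fun r hr => by simpa using hr,
        hx a' s h', by simp⟩
    · intro c t h'
      apply Subgroup.subset_closure
      obtain ⟨a', h'', e⟩ := y3_eq hσ2 c t h'
      refine ⟨f (n3 σ), f (x3 σ hσ2 a' t h''), hp, hx a' t h'', ?_⟩
      rw [e, map_mul, map_mul, map_inv]
  · have hev : ∀ m : Fin n, m ≠ Fin.rev m := fun m hm => hodd ⟨m, hm⟩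
    have hprod : ∏ i, d i = d a1 * d (Fin.rev a1) :=
      Finset.prod_eq_mul a1 (Fin.rev a1) (ne_of_lt h11)
        (fun c _ hc => hd1 c hc.1 hc.2 (hev c))
        (fun h' => absurd (Finset.mem_univ _) h') (fun h' => absurd (Finset.mem_univ _) h')
    have hμ : σ (d a1) = d a1 := by
      rw [hdet, hra] at hprod
      exact ((mul_inv_eq_one₀ hσμ0).mp hprod.symm).symm
    have hmono := i2_mono a1 h11
    obtain ⟨f, hf⟩ : ∃ f, f = embH σ (i2 a1) hmono.injective (i2_rev a1) := ⟨_, rfl⟩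
    have hheq : h = f (d2 σ (d a1) hμ0 hμ) := by
      apply UG_ext
      rw [hd, hf, embH_coe]
      show _ = emb (i2 a1) (D2m (d a1))
      unfold D2m
      rw [emb_diagonal hmono.injective]
      congr 1
      funext x
      by_cases hx1 : x = a1
      · rw [hx1]
        show d a1 = Function.extend (i2 a1) ![d a1, (d a1)⁻¹] 1 (i2 a1 0)
        rw [hmono.injective.extend_apply]
        rfl
      by_cases hx3 : x = Fin.rev a1
      · rw [hx3]
        show d (Fin.rev a1) = Function.extend (i2 a1) ![d a1, (d a1)⁻¹] 1 (i2 a1 1)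
        rw [hmono.injective.extend_apply, hra, hμ]
        rfl
      · rw [Function.extend_apply', hd1 x hx1 hx3 (hev x)]
        · rfl
        · rintro ⟨y, rfl⟩
          fin_cases y
          · exact hx1 rfl
          · exact hx3 rfl
    rw [hheq]
    have hx : ∀ t ht, f (x2 σ t ht) ∈ (UT n K).subgroupOf (UG n σ) := by
      intro t ht
      rw [Subgroup.mem_subgroupOf, hf]
      exact (mem_UT_iff _).mpr (emb_ut hmono _ (X2m_ut t))
    obtain ⟨e, he0, he⟩ := hF.eps
    have hp : ∀ r ∈ (RBs K (bQ a)).subgroupOf (UG n σ),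
        f (w2 σ e he0 he) * r * (f (w2 σ e he0 he))⁻¹ ∈ (RBs K (bQ a)).subgroupOf (UG n σ) := by
      apply norm_of_pbs
      rw [hf]
      refine (mem_PBs _ _).mpr ?_
      show PBm (bQ a) (emb (i2 a1) (W2m e))
      apply emb_pbm hmono.injective
      apply bQ_range a a1 h01 h11
      · intro x
        have : i2 a1 0 ≤ i2 a1 x := hmono.monotone (Fin.zero_le x)
        exact this
      · intro x
        have : i2 a1 x ≤ i2 a1 1 := hmono.monotone (Fin.le_last x)
        exact this
    refine d2_mem ((Subgroup.closure _).comap f) ?_ ?_ e he0 he (d a1) hμ0 hμ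
    · intro t ht
      exact Subgroup.subset_closure ⟨1, f (x2 σ t ht), fun r hr => by simpa using hr,
        hx t ht, by simp⟩
    · intro t ht
      apply Subgroup.subset_closure
      obtain ⟨t', ht', e'⟩ := y2_eq t ht e he0 he
      refine ⟨f (w2 σ e he0 he), f (x2 σ t' ht'), hp, hx t' ht', ?_⟩
      rw [e', map_mul, map_mul, map_inv]

end Cfsg.Agent.Lib.helper47.UFus
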