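import Mathlib
import Cfsg.Agent.Lib.helper47.UFusI

/-!
The hypotheses of the simplicity criterion hold in the unitary group `UG n σ`.
-/

set_option autoImplicit false

namespace Cfsg.Agent.Lib.helper47.UFus

open Matrix Cfsg.Agent.Lib.helper47.PSLn Cfsg.Agent.Lib.helper47.FusionLevi

variable {n : ℕ} {K : Type*} [Field K] {σ : K →+* K}

theorem hH_diag [Finite K] (h : ↥(UG n σ)) (d : Fin n → K) (hd : h.1.1 = Matrix.diagonal d)
    (x : ↥(UG n σ)) (hx : x ∈ (UT n K).subgroupOf (UG n σ)) :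
    h * x * h⁻¹ ∈ (UT n K).subgroupOf (UG n σ) := by
  rw [Subgroup.mem_subgroupOf] at hx ⊢
  exact diag_conj_UT h.1 x.1 d hd hx

theorem hne_U [Finite K] (hF : FF σ) (a : Fin n) (ha : a < Fin.rev a) :
    (UT n K).subgroupOf (UG n σ) ≠ ⊥ := by
  obtain ⟨ε, hε0, hε⟩ := hF.eps
  have hU : qS σ a 0 ε (ne_of_lt ha) rfl ∈ UG n σ :=
    qS_mem_UG hF.inv a 0 ε (ne_of_lt ha) rfl (by simp [hε])
  have hT : qS σ a 0 ε (ne_of_lt ha) rfl ∈ UT n K :=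
    (mem_UT_iff _).mpr (qM_ut a ha 0 (fun _ _ => rfl) ε)
  intro hbot
  have h1 : (⟨qS σ a 0 ε (ne_of_lt ha) rfl, hU⟩ : ↥(UG n σ)) ∈ (UT n K).subgroupOf (UG n σ) :=
    Subgroup.mem_subgroupOf.mpr hT
  rw [hbot, Subgroup.mem_bot] at h1
  have h2 := congrArg (fun g : ↥(UG n σ) => g.1.1 a (Fin.rev a)) h1
  simp only [qS_coe] at h2
  rw [qM_apply] at h2
  simp [ne_of_lt ha, Matrix.one_apply_ne (ne_of_lt ha)] at h2
  exact hε0 h2

theorem hsc_G [Fintype K] {p f : ℕ} [Fact p.Prime] (hK : Fintype.card K = p ^ f) (hF : FF σ)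
    (a a1 : Fin n) (hmin : ∀ x : Fin n, a ≤ x) (h01 : a < a1) (h11 : a1 < Fin.rev a1)
    (T : Subgroup ↥(UG n σ)) (hT : T ≤ (UT n K).subgroupOf (UG n σ)) (hT0 : T ≠ ⊥)
    (hcl : ∀ x ∈ T, ∀ g : ↥(UG n σ), g * x * g⁻¹ ∈ (UT n K).subgroupOf (UG n σ) →
      g * x * g⁻¹ ∈ T) : T = (UT n K).subgroupOf (UG n σ) := by
  have H : SCHyp σ a a1 (T.map (UG n σ).subtype) := by
    refine ⟨hF, hmin, h01, h11, ?_, ?_⟩
    · rintro _ ⟨x, hx, rfl⟩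
      exact ⟨x.2, Subgroup.mem_subgroupOf.mp (hT hx)⟩
    · intro y hy g hg hgx
      obtain ⟨x, hx, rfl⟩ := hy
      have e : (UG n σ).subtype (⟨g, hg⟩ * x * ⟨g, hg⟩⁻¹) = g * (UG n σ).subtype x * g⁻¹ := by
        rw [map_mul, map_mul, map_inv]
        rfl
      rw [← e] at hgx ⊢
      exact ⟨_, hcl x hx ⟨g, hg⟩ (Subgroup.mem_subgroupOf.mpr hgx), rfl⟩
  have hne : T.map (UG n σ).subtype ≠ ⊥ := by
    intro h
    exact hT0 ((Subgroup.map_eq_bot_iff_of_injective T (UG n σ).subtype_injective).mp h)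
  have hmain := hsc_U hK H hne
  apply le_antisymm hT
  intro x hx
  have hx' : (x : SpecialLinearGroup (Fin n) K) ∈ T.map (UG n σ).subtype := by
    rw [hmain]
    exact ⟨x.2, Subgroup.mem_subgroupOf.mp hx⟩
  obtain ⟨y, hy, hyx⟩ := hx'
  have : y = x := Subtype.ext hyx
  rw [← this]
  exact hy

theorem hcent_GQ [Finite K] (hF : FF σ) (a : Fin n) (hmin : ∀ x : Fin n, a ≤ x)
    (ha : a ≠ Fin.rev a) (c : ↥(UG n σ)) (hc : c ∈ (UT n K).subgroupOf (UG n σ))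
    (hcc : ∀ x ∈ (RBs K (bQ a)).subgroupOf (UG n σ), c * x * c⁻¹ = x) :
    c ∈ (RBs K (bQ a)).subgroupOf (UG n σ) := by
  rw [Subgroup.mem_subgroupOf]
  refine (mem_RBs _ _).mpr (hcent_Q hF a hmin ha c.1 (Subgroup.mem_subgroupOf.mp hc) ?_)
  intro x hx hxR
  have h1 := hcc ⟨x, hx⟩ (Subgroup.mem_subgroupOf.mpr ((mem_RBs _ _).mpr hxR))
  rw [mul_inv_eq_iff_eq_mul] at h1
  exact congrArg Subtype.val h1

theorem hcent_GS [Finite K] (hF : FF σ) (c : ↥(UG n σ))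
    (hc : c ∈ (UT n K).subgroupOf (UG n σ))
    (hcc : ∀ x ∈ (RBs K bS).subgroupOf (UG n σ), c * x * c⁻¹ = x) :
    c ∈ (RBs K bS).subgroupOf (UG n σ) := by
  rw [Subgroup.mem_subgroupOf]
  refine (mem_RBs _ _).mpr (hcent_S hF c.1 (Subgroup.mem_subgroupOf.mp hc) ?_)
  intro x hx hxR
  have h1 := hcc ⟨x, hx⟩ (Subgroup.mem_subgroupOf.mpr ((mem_RBs _ _).mpr hxR))
  rw [mul_inv_eq_iff_eq_mul] at h1
  exact congrArg Subtype.val h1

theorem hwc_GQ [Finite K] (hF : FF σ) (a a1 : Fin n) (hmin : ∀ x : Fin n, a ≤ x)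
    (h01 : a < a1) (h11 : a1 < Fin.rev a1) (g : ↥(UG n σ))
    (hg : ∀ x ∈ (RBs K (bQ a)).subgroupOf (UG n σ), g * x * g⁻¹ ∈ (UT n K).subgroupOf (UG n σ)) :
    ∀ x ∈ (RBs K (bQ a)).subgroupOf (UG n σ), g * x * g⁻¹ ∈ (RBs K (bQ a)).subgroupOf (UG n σ) := by
  obtain ⟨i0, i1, i2, i3, i4, i5, i6⟩ := idx_facts h01 h11
  apply norm_of_pbs
  refine (mem_PBs _ _).mpr (hwc_Q hF a hmin i2 a1 (Ne.symm i1) i5 g.1 g.2 ?_)
  intro x hx hxR
  exact Subgroup.mem_subgroupOf.mp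
    (hg ⟨x, hx⟩ (Subgroup.mem_subgroupOf.mpr ((mem_RBs _ _).mpr hxR)))

theorem hwc_GS [Finite K] (hF : FF σ) (g : ↥(UG n σ))
    (hg : ∀ x ∈ (RBs K bS).subgroupOf (UG n σ), g * x * g⁻¹ ∈ (UT n K).subgroupOf (UG n σ)) :
    ∀ x ∈ (RBs K bS).subgroupOf (UG n σ), g * x * g⁻¹ ∈ (RBs K bS).subgroupOf (UG n σ) := by
  apply norm_of_pbs
  refine (mem_PBs _ _).mpr (hwc_S hF g.1 g.2 ?_)
  intro x hx hxR
  exact Subgroup.mem_subgroupOf.mp
    (hg ⟨x, hx⟩ (Subgroup.mem_subgroupOf.mpr ((mem_RBs _ _).mpr hxR)))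

/-- The radicals. -/
def Rfam [Finite K] (σ : K →+* K) (a : Fin n) (b : Bool) : Subgroup ↥(UG n σ) :=
  cond b ((RBs K (bQ a)).subgroupOf (UG n σ)) ((RBs K bS).subgroupOf (UG n σ))

/-- The tori. -/
def Hfam (hσ2 : ∀ x, σ (σ x) = x) (a1 : Fin n) (b : Bool) : Set ↥(UG n σ) :=
  cond b (HQset σ a1) (HSset hσ2)

theorem leviHyp_U [Fintype K] {p f : ℕ} [Fact p.Prime] (hK : Fintype.card K = p ^ f)
    (hF : FF σ) (a a1 : Fin n) (hmin : ∀ x : Fin n, a ≤ x) (h01 : a < a1)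
    (h11 : a1 < Fin.rev a1) :
    LeviHyp ((UT n K).subgroupOf (UG n σ)) (Rfam σ a) (Hfam hF.inv a1) := by
  obtain ⟨i0, i1, i2, i3, i4, i5, i6⟩ := idx_facts h01 h11
  refine ⟨hne_U hF a i0, hsc_G hK hF a a1 hmin h01 h11, ?_, ?_, ?_, ?_, ?_, ?_⟩
  · intro b
    cases b
    · intro x hx
      rw [Subgroup.mem_subgroupOf]
      exact RBs_le_UT bS bS_mono (Subgroup.mem_subgroupOf.mp hx)
    · intro x hx
      rw [Subgroup.mem_subgroupOf]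
      exact RBs_le_UT (bQ a) (bQ_mono a hmin i2) (Subgroup.mem_subgroupOf.mp hx)
  · intro b
    cases b
    · exact hwc_GS hF
    · exact hwc_GQ hF a a1 hmin h01 h11
  · intro b
    cases b
    · exact hcent_GS hF
    · exact hcent_GQ hF a hmin i2
  · intro b
    cases b
    · rintro h ⟨i, j, hij, hj, t, ht, rfl⟩ x hx
      exact hH_diag _ _ (embH_d4_coe hF.inv i j hij hj t ht) x hx
    · rintro h ⟨d, hd, -⟩ x hx
      exact hH_diag h d hd x hx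
  · intro b
    cases b
    · exact hW_S hF.inv
    · exact hW_Q hF a a1 h01 h11
  · intro M hSM _ hHM g hg
    exact hgen_U hF a1 h11 M hSM (hHM false) (hHM true) g hg

end Cfsg.Agent.Lib.helper47.UFus
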