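import Mathlib
import Cfsg.Agent.Lib.helper47.UFusJ
import Cfsg.Agent.Lib.helper7.SUCenter

/-!
Base change: the unitary group `UG n σ` of the antidiagonal Hermitian form is isomorphic to
the group `SU n K q` of the standard Hermitian form.
-/

set_option autoImplicit false

namespace Cfsg.Agent.Lib.helper47.UFus

open Matrix Cfsg Cfsg.Agent.Lib.helper47.PSLn

variable {n : ℕ} {K : Type*} [Field K]

/-- The conjugate transpose. -/
def cst (σ : K →+* K) (M : Matrix (Fin n) (Fin n) K) : Matrix (Fin n) (Fin n) K := (M.map σ)ᵀ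

theorem cst_apply (σ : K →+* K) (M : Matrix (Fin n) (Fin n) K) (a b : Fin n) :
    cst σ M a b = σ (M b a) := rfl

theorem cst_mul (σ : K →+* K) (M N : Matrix (Fin n) (Fin n) K) :
    cst σ (M * N) = cst σ N * cst σ M := by
  unfold cst
  rw [Matrix.map_mul, Matrix.transpose_mul]

theorem cst_cst (σ : K →+* K) (hσ2 : ∀ x, σ (σ x) = x) (M : Matrix (Fin n) (Fin n) K) :
    cst σ (cst σ M) = M := by
  ext a b
  rw [cst_apply, cst_apply, hσ2]

/-- The antidiagonal matrix. -/
def Jm (n : ℕ) (K : Type*) [Field K] : Matrix (Fin n) (Fin n) K := Wm K Fin.revPerm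

theorem Jm_apply (a b : Fin n) : Jm n K a b = if Fin.rev a = b then 1 else 0 := by
  unfold Jm
  rw [Wm_apply, Fin.revPerm_apply]

theorem Jm_mul_apply (M : Matrix (Fin n) (Fin n) K) (a b : Fin n) :
    (Jm n K * M) a b = M (Fin.rev a) b := by
  unfold Jm
  rw [Wm_mul_apply, Fin.revPerm_apply]

theorem mul_Jm_apply (M : Matrix (Fin n) (Fin n) K) (a b : Fin n) :
    (M * Jm n K) a b = M a (Fin.rev b) := by
  unfold Jm
  rw [mul_Wm_apply, Fin.revPerm_symm, Fin.revPerm_apply]

theorem Jm_mul_Jm : Jm n K * Jm n K = 1 := by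
  unfold Jm
  exact Wm_mul_Wm _ (fun a => by rw [Fin.revPerm_apply, Fin.revPerm_apply, Fin.rev_rev])

theorem cst_Jm (σ : K →+* K) : cst σ (Jm n K) = Jm n K := by
  ext a b
  rw [cst_apply, Jm_apply, Jm_apply]
  by_cases h : Fin.rev b = a
  · rw [if_pos h, if_pos (by rw [← h, Fin.rev_rev]), map_one]
  · rw [if_neg h, if_neg (fun h' => h (by rw [← h', Fin.rev_rev])), map_zero]

theorem sharp_eq_J (σ : K →+* K) (A : Matrix (Fin n) (Fin n) K) :
    sharp σ A = Jm n K * cst σ A * Jm n K := by
  ext a b
  rw [sharp_apply, mul_Jm_apply, Jm_mul_apply, cst_apply]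

theorem UG_iff_cst (σ : K →+* K) (A : SpecialLinearGroup (Fin n) K) :
    A ∈ UG n σ ↔ cst σ A.1 * Jm n K * A.1 = Jm n K := by
  rw [mem_UG, sharp_eq_J]
  constructor
  · intro h
    calc cst σ A.1 * Jm n K * A.1 = Jm n K * Jm n K * cst σ A.1 * Jm n K * A.1 := by
          rw [Jm_mul_Jm, Matrix.one_mul]
      _ = Jm n K * (Jm n K * cst σ A.1 * Jm n K * A.1) := by simp only [Matrix.mul_assoc]
      _ = Jm n K := by rw [h, Matrix.mul_one]
  · intro h
    calc Jm n K * cst σ A.1 * Jm n K * A.1 = Jm n K * (cst σ A.1 * Jm n K * A.1) := by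
          simp only [Matrix.mul_assoc]
      _ = 1 := by rw [h, Jm_mul_Jm]

theorem isIsom_iff_cst [Fintype K] {q : ℕ} (σ : K →+* K) (hσ : ∀ x, σ x = x ^ q) (hq : q ≠ 0)
    (N : Matrix (Fin n) (Fin n) K) :
    Cfsg.Agent.Lib.helper7.IsIsom n q N ↔ cst σ N * N = 1 := by
  have hmap : N.map (fun x => x ^ q) = N.map σ := by
    ext i j
    simp [hσ]
  constructor
  · intro h
    have h1 := h.transpose_mul_map hq
    rw [hmap] at h1
    have h2 := congrArg Matrix.transpose h1
    rw [Matrix.transpose_mul, Matrix.transpose_transpose, Matrix.transpose_one] at h2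
    exact h2
  · intro h u v
    have h1 : Nᵀ * N.map σ = 1 := by
      have h2 := congrArg Matrix.transpose h
      rw [Matrix.transpose_mul, Matrix.transpose_one] at h2
      unfold cst at h2
      rw [Matrix.transpose_transpose] at h2
      exact h2
    obtain ⟨w, hw⟩ : ∃ w : Fin n → K, w = fun k => σ (v k) := ⟨_, rfl⟩
    have e1 : ∀ i, ((N *ᵥ v) i) ^ q = (N.map σ *ᵥ w) i := by
      intro i
      rw [← hσ, hw]
      simp only [Matrix.mulVec, dotProduct, map_sum, map_mul, Matrix.map_apply]
    unfold hermForm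
    calc ∑ i, (N *ᵥ u) i * ((N *ᵥ v) i) ^ q = (N *ᵥ u) ⬝ᵥ (N.map σ *ᵥ w) := by
          unfold dotProduct
          exact Finset.sum_congr rfl (fun i _ => by rw [e1])
      _ = (u ᵥ* Nᵀ) ⬝ᵥ (N.map σ *ᵥ w) := by rw [Matrix.vecMul_transpose]
      _ = u ⬝ᵥ (Nᵀ *ᵥ (N.map σ *ᵥ w)) := (Matrix.dotProduct_mulVec u Nᵀ (N.map σ *ᵥ w)).symm
      _ = u ⬝ᵥ w := by rw [Matrix.mulVec_mulVec, h1, Matrix.one_mulVec]
      _ = ∑ i, u i * (v i) ^ q := by
          unfold dotProduct
          refine Finset.sum_congr rfl (fun i _ => ?_)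
          rw [hw]
          show u i * σ (v i) = u i * v i ^ q
          rw [hσ]

/-! ### The base change matrix -/

/-- A matrix supported on the diagonal and the antidiagonal. -/
def Pm (α β : Fin n → K) : Matrix (Fin n) (Fin n) K :=
  fun r c => (if r = c then α c else 0) + (if r = Fin.rev c then β c else 0)

theorem sum_ite_mul_ite (u v : Fin n) (A B : K) :
    ∑ r : Fin n, (if r = u then A else 0) * (if r = v then B else 0) =
      if u = v then A * B else 0 := by
  rw [Finset.sum_eq_single u]
  · rw [if_pos rfl]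
    by_cases h : u = v
    · rw [if_pos h, if_pos h]
    · rw [if_neg h, if_neg h, mul_zero]
  · intro r _ hr
    rw [if_neg hr, zero_mul]
  · intro h; exact absurd (Finset.mem_univ _) h

theorem cst_Pm_mul (σ : K →+* K) (α β : Fin n → K) (a b : Fin n) :
    (cst σ (Pm α β) * Pm α β) a b =
      (if a = b then σ (α a) * α b else 0) + (if a = Fin.rev b then σ (α a) * β b else 0) +
      (if Fin.rev a = b then σ (β a) * α b else 0) +
      (if Fin.rev a = Fin.rev b then σ (β a) * β b else 0) := by
  rw [Matrix.mul_apply]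
  simp only [cst_apply, Pm, map_add, apply_ite σ, map_zero, add_mul, mul_add,
    Finset.sum_add_distrib, sum_ite_mul_ite]
  ring

/-- The diagonal coefficients of the base change. -/
def alC (y l : K) (c : Fin n) : K := if Fin.rev c < c then l * y else 1

/-- The antidiagonal coefficients of the base change. -/
def beC (x l : K) (c : Fin n) : K := if c < Fin.rev c then x else if Fin.rev c < c then l else 0

theorem cst_P_mul (σ : K →+* K) (hσ2 : ∀ x, σ (σ x) = x) (x y l : K) (hx : x * σ x = -1)
    (hy : y * σ y = -1) (hl : l * (1 + σ x * y) = 1) :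
    cst σ (Pm (n := n) (alC y l) (beC x l)) * Pm (alC y l) (beC x l) = Jm n K := by
  have hl' : σ l * (1 + x * σ y) = 1 := by
    have := congrArg σ hl
    rw [map_mul, map_add, map_mul, hσ2, map_one] at this
    exact this
  ext a b
  rw [cst_Pm_mul, Jm_apply]
  by_cases hab : a = b
  · subst hab
    rcases lt_trichotomy a (Fin.rev a) with h | h | h
    · have e1 : alC y l a = 1 := if_neg (not_lt.mpr h.le)
      have e2 : beC x l a = x := if_pos h
      rw [if_pos rfl, if_neg (ne_of_lt h), if_neg (ne_of_gt h), if_pos rfl, if_neg (ne_of_gt h),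
        e1, e2]
      rw [map_one]
      linear_combination hx
    · have e1 : alC y l a = 1 := if_neg (by rw [← h]; exact lt_irrefl _)
      have e2 : beC x l a = 0 := by
        unfold beC
        rw [if_neg (by rw [← h]; exact lt_irrefl _), if_neg (by rw [← h]; exact lt_irrefl _)]
      rw [if_pos rfl, if_pos h, if_pos h.symm, if_pos rfl, if_pos h.symm, e1, e2]
      simp
    · have e1 : alC y l a = l * y := if_pos h
      have e2 : beC x l a = l := by
        unfold beC
        rw [if_neg (not_lt.mpr h.le), if_pos h]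
      rw [if_pos rfl, if_neg (ne_of_gt h), if_neg (ne_of_lt h), if_pos rfl, if_neg (ne_of_lt h),
        e1, e2]
      rw [map_mul]
      linear_combination (σ l * l) * hy
  · have hab' : Fin.rev a ≠ Fin.rev b := fun h => hab (Fin.rev_injective h)
    rw [if_neg hab, if_neg hab', zero_add, add_zero]
    by_cases hr : Fin.rev a = b
    · have hr' : a = Fin.rev b := by rw [← hr, Fin.rev_rev]
      rw [if_pos hr', if_pos hr, if_pos hr]
      rcases lt_trichotomy a (Fin.rev a) with h | h | h
      · have hb : Fin.rev b < b := by rw [← hr, Fin.rev_rev]; exact h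
        have e1 : alC y l a = 1 := if_neg (not_lt.mpr h.le)
        have e2 : beC x l a = x := if_pos h
        have e3 : alC y l b = l * y := if_pos hb
        have e4 : beC x l b = l := by
          unfold beC
          rw [if_neg (not_lt.mpr hb.le), if_pos hb]
        rw [e1, e2, e3, e4, map_one]
        linear_combination hl
      · exact absurd (h.trans hr) hab
      · have hb : b < Fin.rev b := by rw [← hr, Fin.rev_rev]; exact h
        have e1 : alC y l a = l * y := if_pos h
        have e2 : beC x l a = l := by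
          unfold beC
          rw [if_neg (not_lt.mpr h.le), if_pos h]
        have e3 : alC y l b = 1 := if_neg (not_lt.mpr hb.le)
        have e4 : beC x l b = x := if_pos hb
        rw [e1, e2, e3, e4, map_mul]
        linear_combination hl'
    · have hr' : a ≠ Fin.rev b := fun h => hr (by rw [h, Fin.rev_rev])
      rw [if_neg hr', if_neg hr, if_neg hr, add_zero]

theorem exists_P (σ : K →+* K) (hF : FF σ) :
    ∃ P Q : Matrix (Fin n) (Fin n) K, cst σ P * P = Jm n K ∧ Q = Jm n K * cst σ P := by
  obtain ⟨x, hx⟩ := hF.nm (-1) (by rw [map_neg, map_one])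
  obtain ⟨u, hu⟩ := hF.ne
  have hu0 : u ≠ 0 := by
    rintro rfl
    exact hu (map_zero σ)
  have hσu0 : σ u ≠ 0 := fun h => hu0 (sig_inj σ h)
  have hσx0 : σ x ≠ 0 := by
    intro h
    rw [h, mul_zero] at hx
    have : (1 : K) = 0 := by linear_combination hx
    exact one_ne_zero this
  obtain ⟨y, hy⟩ : ∃ y : K, y = x * (u / σ u) := ⟨_, rfl⟩
  have hyy : y * σ y = -1 := by
    rw [hy, map_mul, map_div₀, hF.inv]
    have : x * (u / σ u) * (σ x * (σ u / u)) = x * σ x := by field_simp
    rw [this, hx]
  have hne : 1 + σ x * y ≠ 0 := by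
    intro h
    have h1 : σ x * y = σ x * x := by linear_combination h - hx
    have h2 : y = x := mul_left_cancel₀ hσx0 h1
    rw [hy] at h2
    have h3 : x ≠ 0 := by
      rintro rfl
      rw [zero_mul] at hx
      have : (1 : K) = 0 := by linear_combination hx
      exact one_ne_zero this
    have h4 : u / σ u = 1 := by
      have : x * (u / σ u) = x * 1 := by rw [mul_one]; exact h2
      exact mul_left_cancel₀ h3 this
    rw [div_eq_one_iff_eq hσu0] at h4
    exact hu h4.symm
  refine ⟨Pm (alC y (1 + σ x * y)⁻¹) (beC x (1 + σ x * y)⁻¹), _, ?_, rfl⟩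
  exact cst_P_mul σ hF.inv x y _ hx hyy (inv_mul_cancel₀ hne)

end Cfsg.Agent.Lib.helper47.UFus
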