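import Mathlib
import Cfsg.Agent.Lib.helper47.UFusL
import Cfsg.Agent.Lib.helper47.UFusK
import Cfsg.Agent.Lib.helper17.UEichler

/-!
The fusion system of `PSU_n(q)`, `n ≥ 4`, on a Sylow `p`-subgroup (`p` the characteristic) is
simple.
-/

set_option autoImplicit false

namespace Cfsg.Agent.Lib.helper47.UFus

open Matrix Cfsg Cfsg.Agent.Lib.helper47.PSLn Cfsg.Agent.Lib.helper47.FusionLevi
  Cfsg.Agent.Lib.helper7

variable {n : ℕ} {K : Type*} [Field K]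

section bc

variable (σ : K →+* K) (P Q : Matrix (Fin n) (Fin n) K)

theorem QP_one (hP : cst σ P * P = Jm n K) (hQ : Q = Jm n K * cst σ P) : Q * P = 1 := by
  rw [hQ, Matrix.mul_assoc, hP, Jm_mul_Jm]

theorem PQ_one (hP : cst σ P * P = Jm n K) (hQ : Q = Jm n K * cst σ P) : P * Q = 1 :=
  mul_eq_one_comm.mp (QP_one σ P Q hP hQ)

theorem cstQ (hσ2 : ∀ x, σ (σ x) = x) (hP : cst σ P * P = Jm n K)
    (hQ : Q = Jm n K * cst σ P) : cst σ Q * Jm n K * Q = 1 := by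
  have hPQ := PQ_one σ P Q hP hQ
  have e : cst σ Q = P * Jm n K := by rw [hQ, cst_mul, cst_cst σ hσ2, cst_Jm]
  rw [e]
  calc P * Jm n K * Jm n K * Q = P * (Jm n K * Jm n K) * Q := by simp only [Matrix.mul_assoc]
    _ = 1 := by rw [Jm_mul_Jm, Matrix.mul_one, hPQ]

theorem bc_fwd (hσ2 : ∀ x, σ (σ x) = x) (hP : cst σ P * P = Jm n K)
    (hQ : Q = Jm n K * cst σ P) (A : Matrix (Fin n) (Fin n) K)
    (hA : cst σ A * Jm n K * A = Jm n K) : cst σ (P * A * Q) * (P * A * Q) = 1 := by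
  rw [cst_mul, cst_mul]
  calc cst σ Q * (cst σ A * cst σ P) * (P * A * Q)
      = cst σ Q * (cst σ A * (cst σ P * P) * A) * Q := by simp only [Matrix.mul_assoc]
    _ = cst σ Q * (cst σ A * Jm n K * A) * Q := by rw [hP]
    _ = cst σ Q * Jm n K * Q := by rw [hA]
    _ = 1 := cstQ σ P Q hσ2 hP hQ

theorem bc_bwd (hσ2 : ∀ x, σ (σ x) = x) (hP : cst σ P * P = Jm n K)
    (hQ : Q = Jm n K * cst σ P) (N : Matrix (Fin n) (Fin n) K)
    (hN : cst σ N * N = 1) : cst σ (Q * N * P) * Jm n K * (Q * N * P) = Jm n K := by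
  rw [cst_mul, cst_mul]
  calc cst σ P * (cst σ N * cst σ Q) * Jm n K * (Q * N * P)
      = cst σ P * (cst σ N * (cst σ Q * Jm n K * Q) * N) * P := by simp only [Matrix.mul_assoc]
    _ = cst σ P * (cst σ N * N) * P := by rw [cstQ σ P Q hσ2 hP hQ, Matrix.mul_one]
    _ = cst σ P * P := by rw [hN, Matrix.mul_one]
    _ = Jm n K := hP

theorem bc_det (hPQ : P * Q = 1) (A : Matrix (Fin n) (Fin n) K) (hA : A.det = 1) :
    (P * A * Q).det = 1 := by
  rw [Matrix.det_mul, Matrix.det_mul, hA, mul_one, ← Matrix.det_mul, hPQ, Matrix.det_one]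

variable [Fintype K] {q : ℕ}

/-- The base change homomorphism. -/
def bcHom (hσ : ∀ x, σ x = x ^ q) (hq : q ≠ 0) (hσ2 : ∀ x, σ (σ x) = x)
    (hP : cst σ P * P = Jm n K) (hQ : Q = Jm n K * cst σ P) : ↥(UG n σ) →* ↥(SU n K q) where
  toFun A := ⟨⟨P * A.1.1 * Q, bc_det P Q (PQ_one σ P Q hP hQ) A.1.1 A.1.2⟩,
    (mem_SU_iff n _).mpr ((isIsom_iff_cst σ hσ hq _).mpr
      (bc_fwd σ P Q hσ2 hP hQ A.1.1 ((UG_iff_cst σ A.1).mp A.2)))⟩
  map_one' := by
    apply Subtype.ext; apply Subtype.ext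
    show P * 1 * Q = 1
    rw [Matrix.mul_one]
    exact PQ_one σ P Q hP hQ
  map_mul' A B := by
    apply Subtype.ext; apply Subtype.ext
    show P * (A.1.1 * B.1.1) * Q = (P * A.1.1 * Q) * (P * B.1.1 * Q)
    have hQP := QP_one σ P Q hP hQ
    calc P * (A.1.1 * B.1.1) * Q = P * A.1.1 * 1 * B.1.1 * Q := by
          rw [Matrix.mul_one]; simp only [Matrix.mul_assoc]
      _ = P * A.1.1 * (Q * P) * B.1.1 * Q := by rw [hQP]
      _ = (P * A.1.1 * Q) * (P * B.1.1 * Q) := by simp only [Matrix.mul_assoc]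

theorem bcHom_coe (hσ : ∀ x, σ x = x ^ q) (hq : q ≠ 0) (hσ2 : ∀ x, σ (σ x) = x)
    (hP : cst σ P * P = Jm n K) (hQ : Q = Jm n K * cst σ P) (A : ↥(UG n σ)) :
    (bcHom σ P Q hσ hq hσ2 hP hQ A).1.1 = P * A.1.1 * Q := rfl

theorem bcHom_inj (hσ : ∀ x, σ x = x ^ q) (hq : q ≠ 0) (hσ2 : ∀ x, σ (σ x) = x)
    (hP : cst σ P * P = Jm n K) (hQ : Q = Jm n K * cst σ P) :
    Function.Injective (bcHom σ P Q hσ hq hσ2 hP hQ) := by
  intro A B h
  have h1 : P * A.1.1 * Q = P * B.1.1 * Q := congrArg (fun g : ↥(SU n K q) => g.1.1) h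
  have hQP := QP_one σ P Q hP hQ
  have key : ∀ M : Matrix (Fin n) (Fin n) K, Q * (P * M * Q) * P = M := by
    intro M
    calc Q * (P * M * Q) * P = (Q * P) * M * (Q * P) := by simp only [Matrix.mul_assoc]
      _ = M := by rw [hQP, Matrix.one_mul, Matrix.mul_one]
  apply Subtype.ext; apply Subtype.ext
  rw [← key A.1.1, h1, key]

theorem bcHom_surj (hσ : ∀ x, σ x = x ^ q) (hq : q ≠ 0) (hσ2 : ∀ x, σ (σ x) = x)
    (hP : cst σ P * P = Jm n K) (hQ : Q = Jm n K * cst σ P) :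
    Function.Surjective (bcHom σ P Q hσ hq hσ2 hP hQ) := by
  intro N
  have hQP := QP_one σ P Q hP hQ
  have hPQ := PQ_one σ P Q hP hQ
  have hN : cst σ N.1.1 * N.1.1 = 1 := (isIsom_iff_cst σ hσ hq _).mp ((mem_SU_iff n N.1).mp N.2)
  have hdet : (Q * N.1.1 * P).det = 1 := bc_det Q P hQP N.1.1 N.1.2
  refine ⟨⟨⟨Q * N.1.1 * P, hdet⟩, (UG_iff_cst σ _).mpr (bc_bwd σ P Q hσ2 hP hQ N.1.1 hN)⟩, ?_⟩
  apply Subtype.ext; apply Subtype.ext
  show P * (Q * N.1.1 * P) * Q = N.1.1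
  calc P * (Q * N.1.1 * P) * Q = (P * Q) * N.1.1 * (P * Q) := by simp only [Matrix.mul_assoc]
    _ = N.1.1 := by rw [hPQ, Matrix.one_mul, Matrix.mul_one]

end bc

theorem FF_of_card [Fintype K] {q : ℕ} (hK : Fintype.card K = q ^ 2) :
    ∃ σ : K →+* K, (∀ x, σ x = x ^ q) ∧ FF σ := by
  obtain ⟨σ, hσ, hne, hinv⟩ := Cfsg.Agent.Lib.helper17.exists_frob' hK
  refine ⟨σ, hσ, hinv, fun γ hγ => Cfsg.Agent.Lib.helper17.trace_surj σ hne hinv γ hγ, ?_, ?_⟩
  · intro β hβ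
    by_cases h0 : β = 0
    · exact ⟨0, by rw [h0, zero_mul]⟩
    · exact Cfsg.Agent.Lib.helper17.norm_surj σ hne hinv β h0 hβ
  · by_contra hcon
    push_neg at hcon
    exact hne (RingHom.ext hcon)

theorem pow_char_pow_eq_one {p : ℕ} [Fact p.Prime] [CharP K p] (c : K) (e : ℕ)
    (h : c ^ p ^ e = 1) : c = 1 := by
  have h1 : (c - 1) ^ p ^ e = 0 := by
    rw [sub_pow_char_pow, h, one_pow, sub_self]
  exact sub_eq_zero.mp (pow_eq_zero_iff (pow_ne_zero e (Fact.out : p.Prime).ne_zero) |>.mp h1)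

/-- **The fusion system of `PSU_n(q)` in the defining characteristic is simple, `n ≥ 4`.** -/
theorem psu_fusion_simple {K : Type*} [Field K] [Fintype K] (p q : ℕ) [Fact p.Prime] [CharP K p]
    (hK : Fintype.card K = q ^ 2) (n : ℕ) (hn : 4 ≤ n) (S : Sylow p (Cfsg.PSU n K q)) :
    (Cfsg.groupFusionSystem (S : Subgroup (Cfsg.PSU n K q))).IsSimple p := by
  obtain ⟨k, rfl⟩ : ∃ k, n = k + 4 := ⟨n - 4, by omega⟩
  obtain ⟨σ, hσ, hF⟩ := FF_of_card hK
  have hq : q ≠ 0 := by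
    rintro rfl
    have := Fintype.card_pos (α := K)
    rw [hK] at this
    simp at this
  obtain ⟨f, -, hf⟩ := FiniteField.card K p
  obtain ⟨P, Q, hP, hQ⟩ := exists_P (n := k + 4) σ hF
  have hmin : ∀ x : Fin (k + 4), (0 : Fin (k + 4)) ≤ x := fun x => Fin.zero_le x
  have h01 : (0 : Fin (k + 4)) < 1 := by
    rw [Fin.lt_def]
    simp
  have h11 : (1 : Fin (k + 4)) < Fin.rev 1 := by
    rw [Fin.lt_def, Fin.val_rev]
    simp
  have hyp := leviHyp_U (n := k + 4) hf hF 0 1 hmin h01 h11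
  have hfinU := finite_UG (n := k + 4) (σ := σ)
  have hfinSL := finite_sl (n := k + 4) (K := K)
  obtain ⟨e, he⟩ := IsPGroup.exists_card_eq (isPGroup_Us (n := k + 4) (σ := σ) hf)
  have hN : ∀ x ∈ (UT (k + 4) K).subgroupOf (UG (k + 4) σ), x ^ (p ^ e) = 1 := by
    intro x hx
    have h1 := pow_card_eq_one' (G := ↥((UT (k + 4) K).subgroupOf (UG (k + 4) σ))) (x := ⟨x, hx⟩)
    rw [he] at h1
    exact congrArg Subtype.val h1
  obtain ⟨φ, hφ⟩ : ∃ φ, φ = bcHom σ P Q hσ hq hF.inv hP hQ := ⟨_, rfl⟩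
  have hφinj : Function.Injective φ := by rw [hφ]; exact bcHom_inj σ P Q hσ hq hF.inv hP hQ
  have hφsurj : Function.Surjective φ := by rw [hφ]; exact bcHom_surj σ P Q hσ hq hF.inv hP hQ
  obtain ⟨π, hπdef⟩ : ∃ π : ↥(UG (k + 4) σ) →* Cfsg.PSU (k + 4) K q,
      π = (QuotientGroup.mk' (Subgroup.center ↥(SU (k + 4) K q))).comp φ := ⟨_, rfl⟩
  have hπ : Function.Surjective π := by
    rw [hπdef]
    exact (QuotientGroup.mk'_surjective _).comp hφsurj
  have hker : ∀ z, π z = 1 → φ z ∈ Subgroup.center ↥(SU (k + 4) K q) := by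
    intro z hz
    rw [hπdef] at hz
    exact (QuotientGroup.eq_one_iff _).mp hz
  have hc : ∀ z, π z = 1 → ∀ g, g * z = z * g := by
    intro z hz g
    apply hφinj
    rw [map_mul, map_mul]
    exact Subgroup.mem_center_iff.mp (hker z hz) (φ g)
  have hk : ∀ z, π z = 1 → z ^ (p ^ e) = 1 → z = 1 := by
    intro z hz hzN
    have hzc := hker z hz
    obtain ⟨Z, hZdef⟩ : ∃ Z : Matrix (Fin (k + 4)) (Fin (k + 4)) K, Z = (φ z).1.1 := ⟨_, rfl⟩
    have hZ : ∀ M : Matrix (Fin (k + 4)) (Fin (k + 4)) K, IsIsom (k + 4) q M → M.det = 1 →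
        Z * M = M * Z := by
      intro M hM hdet
      have h1 := Subgroup.mem_center_iff.mp hzc ⟨⟨M, hdet⟩, (mem_SU_iff (k + 4) _).mpr hM⟩
      have h2 := congrArg (fun g : ↥(SU (k + 4) K q) => g.1.1) h1
      rw [hZdef]
      exact h2.symm
    have hsc := scalar_of_commute hK (k + 4) Z hZ 0
    have hpow : Z ^ (p ^ e) = 1 := by
      have h1 : φ z ^ (p ^ e) = 1 := by rw [← map_pow, hzN, map_one]
      have h2 := congrArg (fun g : ↥(SU (k + 4) K q) => g.1.1) h1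
      rw [hZdef]
      simpa using h2
    have hc1 : Z 0 0 = 1 := by
      apply pow_char_pow_eq_one (p := p) _ e
      rw [hsc, smul_pow, one_pow] at hpow
      have h3 := congrFun (congrFun hpow 0) 0
      rw [Matrix.smul_apply, Matrix.one_apply_eq, smul_eq_mul, mul_one] at h3
      exact h3
    have hZ1 : Z = 1 := by rw [hsc, hc1, one_smul]
    apply hφinj
    rw [map_one]
    apply Subtype.ext; apply Subtype.ext
    rw [← hZdef, hZ1]
    rfl
  have hyp' := hyp.mapQuot π hπ hc (p ^ e) hN hk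
  obtain ⟨S₁, hS₁⟩ : ∃ S₁ : Sylow p (Cfsg.PSU (k + 4) K q),
      (S₁ : Subgroup (Cfsg.PSU (k + 4) K q)) =
        ((UT (k + 4) K).subgroupOf (UG (k + 4) σ)).map π :=
    ⟨(sylU (n := k + 4) hF hf).mapSurjective hπ, Sylow.coe_mapSurjective hπ _⟩
  rw [← hS₁] at hyp'
  exact isSimple_of_leviHyp_sylow S₁ _ _ hyp' S

end Cfsg.Agent.Lib.helper47.UFus
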