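import Mathlib
import Cfsg.Agent.Lib.helper47.UFusM
import Cfsg.Agent.Lib.helper99.UGen7

/-!
Generation of the antidiagonal-form special unitary group: unitary transvections, the predicate
`Good`, and the reduction of generation to "all isotropic vectors are good".
-/

set_option autoImplicit false

namespace Cfsg.Agent.Lib.helper47.UGen

open Matrix Cfsg Cfsg.Agent.Lib.helper47.PSLn Cfsg.Agent.Lib.helper47.UFus

variable {n : ℕ} {K : Type*} [Field K] {σ : K →+* K}

/-- the underlying matrix -/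
def mt (A : ↥(UG n σ)) : Matrix (Fin n) (Fin n) K := A.1.1

theorem mt_mul (A B : ↥(UG n σ)) : mt (A * B) = mt A * mt B := rfl

theorem mt_one : mt (1 : ↥(UG n σ)) = 1 := rfl

theorem mt_inj {A B : ↥(UG n σ)} (h : mt A = mt B) : A = B := Subtype.ext (Subtype.ext h)

theorem mt_inv_mul (A : ↥(UG n σ)) : mt A⁻¹ * mt A = 1 := by
  rw [← mt_mul, inv_mul_cancel, mt_one]

theorem mt_mul_inv (A : ↥(UG n σ)) : mt A * mt A⁻¹ = 1 := by
  rw [← mt_mul, mul_inv_cancel, mt_one]

theorem mt_sharp (A : ↥(UG n σ)) : sharp σ (mt A) * mt A = 1 := (mem_UG A.1).mp A.2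

theorem mt_pow (A : ↥(UG n σ)) (k : ℕ) : mt (A ^ k) = mt A ^ k := by
  induction k with
  | zero => rw [pow_zero, pow_zero, mt_one]
  | succ k ih => rw [pow_succ, pow_succ, mt_mul, ih]

theorem mt_inv_mulVec (A : ↥(UG n σ)) (z : Fin n → K) : mt A⁻¹ *ᵥ (mt A *ᵥ z) = z := by
  rw [mulVec_mulVec, mt_inv_mul, one_mulVec]

theorem mt_mulVec_inv (A : ↥(UG n σ)) (z : Fin n → K) : mt A *ᵥ (mt A⁻¹ *ᵥ z) = z := by
  rw [mulVec_mulVec, mt_mul_inv, one_mulVec]

theorem mat_ext_mulVec {M N : Matrix (Fin n) (Fin n) K} (h : ∀ z, M *ᵥ z = N *ᵥ z) : M = N := by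
  ext i j
  have := congrFun (h (Pi.single j 1)) i
  simpa using this

/-! ### the map `wv` -/

theorem wv_mulVec (M : Matrix (Fin n) (Fin n) K) (u : Fin n → K) :
    wv σ (M *ᵥ u) = wv σ u ᵥ* sharp σ M := by
  funext k
  simp only [wv_apply, mulVec, dotProduct, vecMul, map_sum, map_mul, sharp_apply]
  rw [← Equiv.sum_comp Fin.revPerm]
  refine Finset.sum_congr rfl (fun j _ => ?_)
  rw [Fin.revPerm_apply, mul_comm]

theorem wv_smul (c : K) (u : Fin n → K) : wv σ (c • u) = σ c • wv σ u := by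
  funext k
  simp only [wv_apply, Pi.smul_apply, smul_eq_mul, map_mul]

theorem wv_add (u v : Fin n → K) : wv σ (u + v) = wv σ u + wv σ v := by
  funext k
  simp only [wv_apply, Pi.add_apply, map_add]

theorem wv_single (a : Fin n) (c : K) :
    wv σ (Pi.single a c : Fin n → K) = Pi.single (Fin.rev a) (σ c) := by
  funext k
  rw [wv_apply]
  by_cases h : k = Fin.rev a
  · rw [h, Fin.rev_rev, Pi.single_eq_same, Pi.single_eq_same]
  · rw [Pi.single_eq_of_ne h, Pi.single_eq_of_ne, map_zero]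
    intro h'
    exact h (by rw [← h', Fin.rev_rev])

theorem wv_zero : wv σ (0 : Fin n → K) = 0 := by
  funext k
  simp only [wv_apply, Pi.zero_apply, map_zero]

theorem vmv_mulVec (x y z : Fin n → K) : vecMulVec x y *ᵥ z = (y ⬝ᵥ z) • x := by
  funext i
  simp only [mulVec, dotProduct, vecMulVec_apply, Pi.smul_apply, smul_eq_mul, Finset.sum_mul]
  refine Finset.sum_congr rfl (fun j _ => ?_)
  ring

/-! ### unitary transvections -/

/-- the matrix of the unitary transvection `z ↦ z + c h(z, u) u` -/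
def uM (σ : K →+* K) (u : Fin n → K) (c : K) : Matrix (Fin n) (Fin n) K :=
  1 + c • vecMulVec u (wv σ u)

theorem uM_mulVec (u z : Fin n → K) (c : K) :
    uM σ u c *ᵥ z = z + (c * (wv σ u ⬝ᵥ z)) • u := by
  unfold uM
  rw [add_mulVec, one_mulVec, smul_mulVec, vmv_mulVec, smul_smul]

theorem uM_conj (g : ↥(UG n σ)) (u : Fin n → K) (c : K) :
    mt g * uM σ u c = uM σ (mt g *ᵥ u) c * mt g := by
  unfold uM
  rw [mul_add, add_mul, mul_one, one_mul, Matrix.mul_smul, Matrix.smul_mul, mul_vecMulVec,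
    vecMulVec_mul, wv_mulVec, vecMul_vecMul, mt_sharp, vecMul_one]

theorem uM_smul (l : K) (u : Fin n → K) (c : K) : uM σ (l • u) c = uM σ u (l * σ l * c) := by
  unfold uM
  rw [wv_smul, smul_vecMulVec, vecMulVec_smul, smul_smul, smul_smul]
  congr 2
  ring

theorem uM_zero_vec (c : K) : uM σ (0 : Fin n → K) c = 1 := by
  unfold uM
  rw [wv_zero]
  ext i j
  simp [vecMulVec_apply]

/-- all unitary transvections with the given centre and parameter lie in `H` -/
def GoodAt (H : Subgroup ↥(UG n σ)) (u : Fin n → K) (c : K) : Prop :=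
  ∀ A : ↥(UG n σ), mt A = uM σ u c → A ∈ H

/-- all unitary transvections with the given centre lie in `H` -/
def Good (H : Subgroup ↥(UG n σ)) (u : Fin n → K) : Prop := ∀ c, GoodAt H u c

theorem GoodAt.act {H : Subgroup ↥(UG n σ)} {u : Fin n → K} {c : K} (h : GoodAt H u c)
    {g : ↥(UG n σ)} (hg : g ∈ H) : GoodAt H (mt g *ᵥ u) c := by
  intro A hA
  have h1 : g⁻¹ * A * g ∈ H := by
    apply h
    rw [mt_mul, mt_mul, hA, Matrix.mul_assoc, ← uM_conj, ← Matrix.mul_assoc, mt_inv_mul,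
      Matrix.one_mul]
  have h2 : A = g * (g⁻¹ * A * g) * g⁻¹ := by group
  rw [h2]
  exact H.mul_mem (H.mul_mem hg h1) (H.inv_mem hg)

theorem Good.act {H : Subgroup ↥(UG n σ)} {u : Fin n → K} (h : Good H u)
    {g : ↥(UG n σ)} (hg : g ∈ H) : Good H (mt g *ᵥ u) := fun c => (h c).act hg

theorem Good.smul {H : Subgroup ↥(UG n σ)} {u : Fin n → K} (h : Good H u) (l : K) :
    Good H (l • u) := by
  intro c A hA
  rw [uM_smul] at hA
  exact h _ A hA

theorem Good.of_smul {H : Subgroup ↥(UG n σ)} {u : Fin n → K} {l : K} (hl : l ≠ 0)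
    (h : Good H (l • u)) : Good H u := by
  have := h.smul l⁻¹
  rwa [smul_smul, inv_mul_cancel₀ hl, one_smul] at this

theorem GoodAt.of_smul {H : Subgroup ↥(UG n σ)} {u : Fin n → K} {l c : K}
    (h : GoodAt H (l • u) c) : GoodAt H u (l * σ l * c) := by
  intro A hA
  rw [← uM_smul] at hA
  exact h A hA

theorem Good.zero (H : Subgroup ↥(UG n σ)) : Good H (0 : Fin n → K) := by
  intro c A hA
  rw [uM_zero_vec] at hA
  have : A = 1 := mt_inj (by rw [hA, mt_one])
  rw [this]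
  exact H.one_mem

theorem iso_act (g : ↥(UG n σ)) (u : Fin n → K) :
    (mt g *ᵥ u) ⬝ᵥ wv σ (mt g *ᵥ u) = u ⬝ᵥ wv σ u := by
  rw [wv_mulVec, dotProduct_comm, ← dotProduct_mulVec, mulVec_mulVec, mt_sharp, one_mulVec,
    dotProduct_comm]

/-! ### the generation criterion -/

theorem top_of_good [Fintype K] {q : ℕ} (hK : Fintype.card K = q ^ 2) (hσ : ∀ x, σ x = x ^ q)
    (hF : FF σ) (hn : 3 ≤ n) (h32 : ¬ (n = 3 ∧ q = 2)) (H : Subgroup ↥(UG n σ))
    (hG : ∀ u : Fin n → K, u ⬝ᵥ wv σ u = 0 → Good H u) : H = ⊤ := by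
  have hq : q ≠ 0 := by
    rintro rfl
    have := Fintype.card_pos (α := K)
    rw [hK] at this
    simp at this
  obtain ⟨P, Q, hP, hQ⟩ := exists_P (n := n) σ hF
  obtain ⟨φ, hφ⟩ : ∃ φ, φ = bcHom σ P Q hσ hq hF.inv hP hQ := ⟨_, rfl⟩
  have hφinj : Function.Injective φ := by rw [hφ]; exact bcHom_inj σ P Q hσ hq hF.inv hP hQ
  have hφsurj : Function.Surjective φ := by rw [hφ]; exact bcHom_surj σ P Q hσ hq hF.inv hP hQ
  have hQP := QP_one σ P Q hP hQ
  have hPQ := PQ_one σ P Q hP hQ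
  have hTU : Cfsg.Agent.Lib.helper99.TU n K q = ⊤ := by
    rw [eq_top_iff]
    intro g _
    obtain ⟨g', hg', he⟩ := Cfsg.Agent.Lib.helper99.su_InT hK n hn h32 g
    rw [← Cfsg.Agent.Lib.helper99.suMat_inj he]
    exact hg'
  have hwv : ∀ v : Fin n → K, wv σ (Q *ᵥ v) = (fun j => v j ^ q) ᵥ* P := by
    intro v
    funext k
    simp only [wv_apply, mulVec, dotProduct, vecMul, map_sum, map_mul]
    refine Finset.sum_congr rfl (fun j _ => ?_)
    rw [hQ, Jm_mul_apply, Fin.rev_rev, cst_apply, hF.inv, hσ, mul_comm]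
  have hle : Cfsg.Agent.Lib.helper99.TU n K q ≤ H.map φ := by
    unfold Cfsg.Agent.Lib.helper99.TU
    rw [Subgroup.closure_le]
    rintro g ⟨v, c, hv, hg⟩
    obtain ⟨A, rfl⟩ := hφsurj g
    refine ⟨A, ?_, rfl⟩
    have hiso : (Q *ᵥ v) ⬝ᵥ wv σ (Q *ᵥ v) = 0 := by
      rw [hwv, dotProduct_comm, ← dotProduct_mulVec, mulVec_mulVec, hPQ, one_mulVec,
        dotProduct_comm]
      exact hv
    apply hG (Q *ᵥ v) hiso c A
    have h1 : P * mt A * Q = unitaryTransvection n q v c := by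
      rw [← hg, hφ]; rfl
    have h2 : mt A = Q * unitaryTransvection n q v c * P := by
      rw [← h1]
      calc mt A = (Q * P) * mt A * (Q * P) := by rw [hQP, Matrix.one_mul, Matrix.mul_one]
        _ = _ := by simp only [Matrix.mul_assoc]
    rw [h2]
    unfold unitaryTransvection uM
    rw [mul_add, add_mul, mul_one, hQP, Matrix.mul_smul, Matrix.smul_mul, mul_vecMulVec,
      vecMulVec_mul, hwv]
  have hmap : H.map φ = ⊤ := top_unique (hTU ▸ hle)
  rw [← Subgroup.comap_map_eq_self_of_injective hφinj H, hmap, Subgroup.comap_top]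

end Cfsg.Agent.Lib.helper47.UGen
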