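import Mathlib
import Cfsg.Agent.Lib.helper47.UGenA

/-!
Root elements of the antidiagonal-form special unitary group, their action on vectors, and the
relation between root elements and "lines" of good vectors.
-/

set_option autoImplicit false

namespace Cfsg.Agent.Lib.helper47.UGen

open Matrix Cfsg Cfsg.Agent.Lib.helper47.PSLn Cfsg.Agent.Lib.helper47.UFus

variable {n : ℕ} {K : Type*} [Field K] {σ : K →+* K}

theorem single_eq_smul_ev (a : Fin n) (c : K) : (Pi.single a c : Fin n → K) = c • ev a := by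
  funext k
  rw [Pi.smul_apply, ev_apply, smul_eq_mul]
  by_cases h : k = a
  · rw [h, Pi.single_eq_same, if_pos rfl, mul_one]
  · rw [Pi.single_eq_of_ne h, if_neg h, mul_zero]

theorem single_ne {j a : Fin n} (h : a ≠ j) (c : K) : (Pi.single j c : Fin n → K) a = 0 := by
  rw [Pi.single_eq_of_ne h]

theorem qM_mulVec (a : Fin n) (v z : Fin n → K) (t : K) :
    qM σ a v t *ᵥ z =
      z + (v ⬝ᵥ z + t * z (Fin.rev a)) • (ev a : Fin n → K) - z (Fin.rev a) • wv σ v := by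
  unfold qM
  rw [add_mulVec, sub_mulVec, add_mulVec, one_mulVec, smul_mulVec, vmv_mulVec, vmv_mulVec,
    vmv_mulVec, ev_dot_apply]
  module

/-- the element `q_a(v, t)` of the unitary group -/
def qU (hF : FF σ) (a : Fin n) (v : Fin n → K) (t : K) (ha : a ≠ Fin.rev a) (hva : v a = 0)
    (hval : t + σ t + v ⬝ᵥ wv σ v = 0) : ↥(UG n σ) :=
  ⟨qS σ a v t ha hva, qS_mem_UG hF.inv a v t ha hva hval⟩

theorem mt_qU (hF : FF σ) (a : Fin n) (v : Fin n → K) (t : K) (ha : a ≠ Fin.rev a)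
    (hva : v a = 0) (hval : t + σ t + v ⬝ᵥ wv σ v = 0) :
    mt (qU hF a v t ha hva hval) = qM σ a v t := rfl

theorem valid_of_mem (hF : FF σ) (A : ↥(UG n σ)) (a : Fin n) (v : Fin n → K) (t : K)
    (ha : a ≠ Fin.rev a) (hva : v a = 0) (hA : mt A = qM σ a v t) :
    t + σ t + v ⬝ᵥ wv σ v = 0 := by
  have h1 := mt_sharp A
  rw [hA, sharp_qM_mul a ha v hva hF.inv] at h1
  have h2 := congrFun (congrFun h1 a) (Fin.rev a)
  rw [Matrix.add_apply, Matrix.smul_apply, vecMulVec_apply, ev_apply, ev_apply, if_pos rfl,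
    if_pos rfl, Matrix.one_apply_ne ha] at h2
  simpa using h2

theorem qM_zero (a : Fin n) (s : K) : qM σ a 0 s = uM σ (ev a : Fin n → K) s := by
  unfold qM uM
  rw [wv_zero, wv_ev]
  ext i j
  simp [vecMulVec_apply]

/-- the transvection centred at a basis vector -/
def zU (hF : FF σ) (a : Fin n) (s : K) (ha : a ≠ Fin.rev a) (hs : s + σ s = 0) : ↥(UG n σ) :=
  qU hF a 0 s ha rfl (by rw [wv_zero, dotProduct_zero, add_zero]; exact hs)

theorem mt_zU (hF : FF σ) (a : Fin n) (s : K) (ha : a ≠ Fin.rev a) (hs : s + σ s = 0) :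
    mt (zU hF a s ha hs) = uM σ (ev a : Fin n → K) s := by
  unfold zU
  rw [mt_qU, qM_zero]

theorem zU_mulVec (hF : FF σ) (a : Fin n) (s : K) (ha : a ≠ Fin.rev a) (hs : s + σ s = 0)
    (z : Fin n → K) :
    mt (zU hF a s ha hs) *ᵥ z = z + (s * z (Fin.rev a)) • (ev a : Fin n → K) := by
  rw [mt_zU, uM_mulVec, wv_ev, ev_dot_apply]

theorem zU_mem {H : Subgroup ↥(UG n σ)} (hF : FF σ) (a : Fin n) (s : K) (ha : a ≠ Fin.rev a)
    (hs : s + σ s = 0) (h : GoodAt H (ev a : Fin n → K) s) : zU hF a s ha hs ∈ H :=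
  h _ (mt_zU hF a s ha hs)

theorem single_valid (j : Fin n) (c : K) (hj : j ≠ Fin.rev j) :
    (0 : K) + σ 0 + (Pi.single j c : Fin n → K) ⬝ᵥ wv σ (Pi.single j c) = 0 := by
  rw [wv_single, single_dotProduct, Pi.single_eq_of_ne hj, mul_zero, map_zero, add_zero,
    add_zero]

/-- the short root element `x_{a,j}(c)` -/
def xU (hF : FF σ) (a j : Fin n) (c : K) (ha : a ≠ Fin.rev a) (hja : j ≠ a)
    (hj : j ≠ Fin.rev j) : ↥(UG n σ) :=
  qU hF a (Pi.single j c) 0 ha (single_ne (Ne.symm hja) c) (single_valid j c hj)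

theorem mt_xU (hF : FF σ) (a j : Fin n) (c : K) (ha : a ≠ Fin.rev a) (hja : j ≠ a)
    (hj : j ≠ Fin.rev j) : mt (xU hF a j c ha hja hj) = qM σ a (Pi.single j c) 0 := rfl

theorem mt_zU' (hF : FF σ) (a : Fin n) (s : K) (ha : a ≠ Fin.rev a) (hs : s + σ s = 0) :
    mt (zU hF a s ha hs) = qM σ a 0 s := rfl

theorem xU_mulVec (hF : FF σ) (a j : Fin n) (c : K) (ha : a ≠ Fin.rev a) (hja : j ≠ a)
    (hj : j ≠ Fin.rev j) (z : Fin n → K) :
    mt (xU hF a j c ha hja hj) *ᵥ z =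
      z + (c * z j) • (ev a : Fin n → K) - (σ c * z (Fin.rev a)) • ev (Fin.rev j) := by
  rw [mt_xU, qM_mulVec, wv_single, single_dotProduct, single_eq_smul_ev]
  module

theorem qM_mul (a : Fin n) (ha : a ≠ Fin.rev a) (v v' : Fin n → K) (hva : v a = 0)
    (hva' : v' a = 0) (t t' : K) :
    qM σ a v t * qM σ a v' t' = qM σ a (v + v') (t + t' - v ⬝ᵥ wv σ v') := by
  apply mat_ext_mulVec
  intro z
  rw [← mulVec_mulVec, qM_mulVec, qM_mulVec, qM_mulVec]
  have e1 : (z + (v' ⬝ᵥ z + t' * z (Fin.rev a)) • (ev a : Fin n → K) -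
      z (Fin.rev a) • wv σ v') (Fin.rev a) = z (Fin.rev a) := by
    simp only [Pi.add_apply, Pi.sub_apply, Pi.smul_apply, smul_eq_mul, ev_apply, wv_apply,
      Fin.rev_rev, hva', map_zero, mul_zero, sub_zero, if_neg (Ne.symm ha), add_zero]
  have e2 : v ⬝ᵥ (z + (v' ⬝ᵥ z + t' * z (Fin.rev a)) • (ev a : Fin n → K) -
      z (Fin.rev a) • wv σ v') = v ⬝ᵥ z - z (Fin.rev a) * (v ⬝ᵥ wv σ v') := by
    rw [dotProduct_sub, dotProduct_add, dotProduct_smul, dotProduct_smul, dot_ev_apply, hva,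
      smul_zero, add_zero, smul_eq_mul]
  rw [e1, e2, wv_add, add_dotProduct]
  module

theorem xU_mul (hF : FF σ) (a j : Fin n) (c c' : K) (ha : a ≠ Fin.rev a) (hja : j ≠ a)
    (hj : j ≠ Fin.rev j) :
    xU hF a j c ha hja hj * xU hF a j c' ha hja hj = xU hF a j (c + c') ha hja hj := by
  apply mt_inj
  rw [mt_mul, mt_xU, mt_xU, mt_xU, qM_mul a ha _ _ (single_ne (Ne.symm hja) c)
    (single_ne (Ne.symm hja) c'), wv_single, single_dotProduct,
    Pi.single_eq_of_ne hj, mul_zero, add_zero, sub_zero, ← Pi.single_add]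

theorem xU_inv (hF : FF σ) (a j : Fin n) (c : K) (ha : a ≠ Fin.rev a) (hja : j ≠ a)
    (hj : j ≠ Fin.rev j) :
    (xU hF a j c ha hja hj)⁻¹ = xU hF a j (-c) ha hja hj := by
  apply inv_eq_of_mul_eq_one_right
  rw [xU_mul]
  apply mt_inj
  rw [mt_xU, mt_one, add_neg_cancel, Pi.single_zero, qM_zero, uM]
  simp

/-! ### lines -/

theorem line_matrix (hF : FF σ) (a l : Fin n) (ha : a ≠ Fin.rev a) (hla : l ≠ a)
    (hla' : l ≠ Fin.rev a) (hl : l ≠ Fin.rev l) (s μ : K) (hs : s + σ s = 0) :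
    qM σ a (Pi.single (Fin.rev l) (s * σ μ)) 0 * qM σ a 0 s * qM σ l 0 (s * (μ * σ μ)) =
      uM σ ((ev a : Fin n → K) + μ • ev l) s := by
  have hσs : σ s = -s := by linear_combination hs
  have h1 : Fin.rev a ≠ l := Ne.symm hla'
  have h2 : Fin.rev l ≠ l := Ne.symm hl
  have h3 : Fin.rev l ≠ a := fun h => hla' (by rw [← h, Fin.rev_rev])
  have h4 : Fin.rev a ≠ a := Ne.symm ha
  apply mat_ext_mulVec
  intro z
  rw [← mulVec_mulVec, ← mulVec_mulVec, qM_mulVec, qM_mulVec, qM_mulVec, uM_mulVec]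
  simp only [wv_zero, zero_dotProduct, smul_zero, sub_zero, zero_add, wv_single, Fin.rev_rev,
    single_dotProduct, wv_add, wv_smul, wv_ev, add_dotProduct, smul_dotProduct, ev_dot_apply,
    Pi.add_apply, Pi.smul_apply, smul_eq_mul, ev_apply, if_neg h1, if_neg h2, if_neg h3,
    if_neg h4, mul_zero, add_zero, zero_mul, map_mul, hF.inv, hσs, single_eq_smul_ev]
  module

theorem root_of_point (hF : FF σ) {H : Subgroup ↥(UG n σ)} (a l : Fin n) (ha : a ≠ Fin.rev a)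
    (hla : l ≠ a) (hla' : l ≠ Fin.rev a) (hl : l ≠ Fin.rev l)
    (hGa : Good H (ev a : Fin n → K)) (hGl : Good H (ev l : Fin n → K))
    (s μ : K) (hs : s + σ s = 0) (hP : Good H ((ev a : Fin n → K) + μ • ev l)) :
    xU hF a (Fin.rev l) (s * σ μ) ha (fun h => hla' (by rw [← h, Fin.rev_rev]))
      (by rw [Fin.rev_rev]; exact Ne.symm hl) ∈ H := by
  have hs' : s * (μ * σ μ) + σ (s * (μ * σ μ)) = 0 := by
    have hσs : σ s = -s := by linear_combination hs
    rw [map_mul, map_mul, hF.inv, hσs]; ring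
  have hA : xU hF a (Fin.rev l) (s * σ μ) ha (fun h => hla' (by rw [← h, Fin.rev_rev]))
      (by rw [Fin.rev_rev]; exact Ne.symm hl) * zU hF a s ha hs *
      zU hF l (s * (μ * σ μ)) hl hs' ∈ H := by
    apply hP s
    rw [mt_mul, mt_mul, ← line_matrix hF a l ha hla hla' hl s μ hs, mt_xU, mt_zU', mt_zU']
  have h1 := zU_mem hF a s ha hs (hGa s)
  have h2 := zU_mem hF l (s * (μ * σ μ)) hl hs' (hGl _)
  have := H.mul_mem (H.mul_mem hA (H.inv_mem h2)) (H.inv_mem h1)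
  simpa [mul_assoc] using this

theorem root_of_line (hF : FF σ) {H : Subgroup ↥(UG n σ)} (a l : Fin n) (ha : a ≠ Fin.rev a)
    (hla : l ≠ a) (hla' : l ≠ Fin.rev a) (hl : l ≠ Fin.rev l)
    (hGa : Good H (ev a : Fin n → K)) (hGl : Good H (ev l : Fin n → K))
    (hLine : ∀ μ : K, Good H ((ev a : Fin n → K) + μ • ev l)) (c : K) :
    xU hF a (Fin.rev l) c ha (fun h => hla' (by rw [← h, Fin.rev_rev]))
      (by rw [Fin.rev_rev]; exact Ne.symm hl) ∈ H := by
  obtain ⟨s, hs0, hs⟩ := hF.eps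
  obtain ⟨μ, hμ⟩ : ∃ μ : K, s * σ μ = c := ⟨σ (c / s), by rw [hF.inv]; field_simp⟩
  subst hμ
  exact root_of_point hF a l ha hla hla' hl hGa hGl s μ hs (hLine μ)

theorem xU_zero (hF : FF σ) (a j : Fin n) (ha : a ≠ Fin.rev a) (hja : j ≠ a)
    (hj : j ≠ Fin.rev j) : xU hF a j 0 ha hja hj = 1 := by
  apply mt_inj
  rw [mt_xU, mt_one, Pi.single_zero, qM_zero, uM]
  simp

theorem zU_mul (hF : FF σ) (a : Fin n) (s s' : K) (ha : a ≠ Fin.rev a) (hs : s + σ s = 0)
    (hs' : s' + σ s' = 0) (hss : (s + s') + σ (s + s') = 0) :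
    zU hF a s ha hs * zU hF a s' ha hs' = zU hF a (s + s') ha hss := by
  apply mt_inj
  rw [mt_mul, mt_zU', mt_zU', mt_zU', qM_mul a ha 0 0 rfl rfl, wv_zero, dotProduct_zero,
    sub_zero, add_zero]

theorem zU_pow_mt (hF : FF σ) (a : Fin n) (s : K) (ha : a ≠ Fin.rev a) (hs : s + σ s = 0)
    (N : ℕ) : mt (zU hF a s ha hs ^ N) = qM σ a 0 ((N : K) * s) := by
  induction N with
  | zero =>
    rw [pow_zero, mt_one, Nat.cast_zero, zero_mul, qM_zero, uM]
    simp
  | succ N ih =>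
    rw [pow_succ, mt_mul, ih, mt_zU', qM_mul a ha 0 0 rfl rfl, wv_zero, dotProduct_zero,
      sub_zero, add_zero, Nat.cast_succ]
    congr 1
    ring

theorem zU_inv_mt (hF : FF σ) (a : Fin n) (s : K) (ha : a ≠ Fin.rev a) (hs : s + σ s = 0) :
    mt (zU hF a s ha hs)⁻¹ = qM σ a 0 (-s) := by
  have hs' : -s + σ (-s) = 0 := by rw [map_neg]; linear_combination -hs
  have : (zU hF a s ha hs)⁻¹ = zU hF a (-s) ha hs' := by
    apply inv_eq_of_mul_eq_one_right
    apply mt_inj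
    rw [mt_mul, mt_zU', mt_zU', mt_one, qM_mul a ha 0 0 rfl rfl, wv_zero, dotProduct_zero,
      sub_zero, add_zero, add_neg_cancel, qM_zero, uM]
    simp
  rw [this, mt_zU']

theorem line_of_root₁ (hF : FF σ) {H : Subgroup ↥(UG n σ)} (a j : Fin n) (ha : a ≠ Fin.rev a)
    (hja : j ≠ a) (hja' : j ≠ Fin.rev a) (hj : j ≠ Fin.rev j)
    (hX : ∀ c, xU hF a j c ha hja hj ∈ H) (hG : Good H (ev j : Fin n → K)) (μ : K) :
    Good H ((ev j : Fin n → K) + μ • ev a) := by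
  have := hG.act (hX μ)
  rw [xU_mulVec, ev_apply, ev_apply, if_pos rfl, if_neg (Ne.symm hja'), mul_one, mul_zero,
    zero_smul, sub_zero] at this
  exact this

theorem line_of_root₂ (hF : FF σ) {H : Subgroup ↥(UG n σ)} (a j : Fin n) (ha : a ≠ Fin.rev a)
    (hja : j ≠ a) (hja' : j ≠ Fin.rev a) (hj : j ≠ Fin.rev j)
    (hX : ∀ c, xU hF a j c ha hja hj ∈ H) (hG : Good H (ev (Fin.rev a) : Fin n → K)) (μ : K) :
    Good H ((ev (Fin.rev a) : Fin n → K) + μ • ev (Fin.rev j)) := by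
  have := hG.act (hX (-σ μ))
  rw [xU_mulVec, ev_apply, ev_apply, if_pos rfl, if_neg hja', mul_one, mul_zero,
    zero_smul, add_zero, map_neg, hF.inv, neg_smul, sub_neg_eq_add] at this
  exact this

/-- all points of the line through two basis vectors are good -/
def Line (H : Subgroup ↥(UG n σ)) (i l : Fin n) : Prop :=
  ∀ μ : K, Good H ((ev i : Fin n → K) + μ • ev l)

theorem Line.symm {H : Subgroup ↥(UG n σ)} {i l : Fin n} (h : Line H i l)
    (hl : Good H (ev l : Fin n → K)) : Line H l i := by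
  intro μ
  by_cases hμ : μ = 0
  · rw [hμ, zero_smul, add_zero]; exact hl
  · have := (h μ⁻¹).smul μ
    rw [smul_add, smul_smul, mul_inv_cancel₀ hμ, one_smul, add_comm] at this
    exact this

theorem Line.quad (hF : FF σ) {H : Subgroup ↥(UG n σ)} {i l : Fin n} (hi : i ≠ Fin.rev i)
    (hli : l ≠ i) (hli' : l ≠ Fin.rev i) (hl : l ≠ Fin.rev l)
    (hGi : Good H (ev i : Fin n → K)) (hGi' : Good H (ev (Fin.rev i) : Fin n → K))
    (hGl : Good H (ev l : Fin n → K)) (hGl' : Good H (ev (Fin.rev l) : Fin n → K))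
    (h : Line H i l) :
    Line H i (Fin.rev l) ∧ Line H (Fin.rev i) l ∧ Line H (Fin.rev i) (Fin.rev l) := by
  have hX := root_of_line hF i l hi hli hli' hl hGi hGl h
  have hr1 : Fin.rev l ≠ i := fun h => hli' (by rw [← h, Fin.rev_rev])
  have hr2 : Fin.rev l ≠ Fin.rev i := fun h => hli (Fin.rev_injective h)
  have hr3 : Fin.rev l ≠ Fin.rev (Fin.rev l) := by rw [Fin.rev_rev]; exact Ne.symm hl
  have L1 : Line H (Fin.rev l) i := fun μ => line_of_root₁ hF i (Fin.rev l) hi hr1 hr2 hr3 hX hGl' μ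
  have L2 : Line H (Fin.rev i) l := by
    intro μ
    have := line_of_root₂ hF i (Fin.rev l) hi hr1 hr2 hr3 hX hGi' μ
    rwa [Fin.rev_rev] at this
  refine ⟨L1.symm hGi, L2, ?_⟩
  have hi' : Fin.rev i ≠ Fin.rev (Fin.rev i) := by rw [Fin.rev_rev]; exact Ne.symm hi
  have hli2 : l ≠ Fin.rev (Fin.rev i) := by rw [Fin.rev_rev]; exact hli
  have hX' := root_of_line hF (Fin.rev i) l hi' hli' hli2 hl hGi' hGl L2
  have hr4 : Fin.rev l ≠ Fin.rev (Fin.rev i) := by rw [Fin.rev_rev]; exact hr1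
  have L3 : Line H (Fin.rev l) (Fin.rev i) :=
    fun μ => line_of_root₁ hF (Fin.rev i) (Fin.rev l) hi' hr2 hr4 hr3 hX' hGl' μ
  exact L3.symm hGi'

theorem Line.trans (hF : FF σ) {H : Subgroup ↥(UG n σ)} {i k l : Fin n} (hk : k ≠ Fin.rev k)
    (hl : l ≠ Fin.rev l) (hki : k ≠ i) (hli : l ≠ i) (hlk : l ≠ k) (hlk' : l ≠ Fin.rev k)
    (hil' : i ≠ Fin.rev l) (hik' : i ≠ Fin.rev k)
    (hGi : Good H (ev i : Fin n → K)) (h : Line H i k)
    (hX1 : ∀ d, xU hF l k d hl (Ne.symm hlk) hk ∈ H)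
    (hX2 : ∀ d, xU hF k l d hk hlk hl ∈ H) : Line H i l := by
  intro ν
  by_cases hν : ν = 0
  · rw [hν, zero_smul, add_zero]; exact hGi
  · have h1 := ((h 1).act (hX1 ν)).act (hX2 (-ν⁻¹))
    have hkl' : k ≠ Fin.rev l := fun h => hlk' (by rw [h, Fin.rev_rev])
    have e : mt (xU hF k l (-ν⁻¹) hk hlk hl) *ᵥ (mt (xU hF l k ν hl (Ne.symm hlk) hk) *ᵥ
        ((ev i : Fin n → K) + (1 : K) • ev k)) = (ev i : Fin n → K) + ν • ev l := by
      rw [xU_mulVec, xU_mulVec]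
      simp only [Pi.add_apply, Pi.sub_apply, Pi.smul_apply, smul_eq_mul, ev_apply, if_pos,
        if_neg hki, if_neg hli, if_neg hlk, if_neg (Ne.symm hlk), if_neg (Ne.symm hil'),
        if_neg (Ne.symm hik'), if_neg (Ne.symm hk), if_neg (Ne.symm hl), if_neg (Ne.symm hlk'),
        if_neg (Ne.symm hkl'), if_neg hkl', if_neg hlk', mul_zero, mul_one, add_zero, zero_add,
        zero_smul, sub_zero, one_smul, if_true, Pi.zero_apply]
      have : -ν⁻¹ * ν = -1 := by field_simp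
      rw [this]
      module
    rw [e] at h1
    exact h1

end Cfsg.Agent.Lib.helper47.UGen
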