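import Mathlib
import Cfsg.Agent.Lib.helper47.UGenB

/-!
The generation criterion for the antidiagonal-form special unitary group in terms of root
elements and of lines of good vectors.
-/

set_option autoImplicit false

namespace Cfsg.Agent.Lib.helper47.UGen

open Matrix Cfsg Cfsg.Agent.Lib.helper47.PSLn Cfsg.Agent.Lib.helper47.UFus

variable {n : ℕ} {K : Type*} [Field K] {σ : K →+* K}

theorem mid_unique {k k' : Fin n} (hk : k = Fin.rev k) (hk' : k' = Fin.rev k') : k = k' := by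
  apply Fin.ext
  have h1 := congrArg Fin.val hk
  have h2 := congrArg Fin.val hk'
  rw [Fin.val_rev] at h1 h2
  omega

theorem iso_smul (c : K) (z : Fin n → K) (hz : z ⬝ᵥ wv σ z = 0) :
    (c • z) ⬝ᵥ wv σ (c • z) = 0 := by
  rw [wv_smul, smul_dotProduct, dotProduct_smul, hz, smul_zero, smul_zero]

theorem root_of_line' (hF : FF σ) {H : Subgroup ↥(UG n σ)} (a j : Fin n) (ha : a ≠ Fin.rev a)
    (hja : j ≠ a) (hja' : j ≠ Fin.rev a) (hj : j ≠ Fin.rev j)
    (hGa : Good H (ev a : Fin n → K)) (hGl : Good H (ev (Fin.rev j) : Fin n → K))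
    (hLine : ∀ μ : K, Good H ((ev a : Fin n → K) + μ • ev (Fin.rev j))) (c : K) :
    xU hF a j c ha hja hj ∈ H := by
  have h1 : Fin.rev j ≠ a := fun h => hja' (by rw [← h, Fin.rev_rev])
  have h2 : Fin.rev j ≠ Fin.rev a := fun h => hja (Fin.rev_injective h)
  have h3 : Fin.rev j ≠ Fin.rev (Fin.rev j) := by rw [Fin.rev_rev]; exact Ne.symm hj
  have := root_of_line hF a (Fin.rev j) ha h1 h2 h3 hGa hGl hLine c
  have e : xU hF a j c ha hja hj = xU hF a (Fin.rev (Fin.rev j)) c ha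
      (fun h => h2 (by rw [← h, Fin.rev_rev])) (by rw [Fin.rev_rev]; exact hj) :=
    mt_inj (by rw [mt_xU, mt_xU, Fin.rev_rev])
  rw [e]
  exact this

theorem red_step (hF : FF σ) {H : Subgroup ↥(UG n σ)} (a : Fin n) (ha : a ≠ Fin.rev a)
    (h1 : ∀ (j : Fin n) (hja : j ≠ a) (_ : j ≠ Fin.rev a) (hj : j ≠ Fin.rev j) (c : K),
      xU hF a j c ha hja hj ∈ H) :
    ∀ (N : ℕ) (S : Finset (Fin n)) (z : Fin n → K), S.card ≤ N → z (Fin.rev a) = 1 →
      (∀ l, l ≠ a → l ≠ Fin.rev a → l ≠ Fin.rev l → z l ≠ 0 → l ∈ S) →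
      ∃ g ∈ H, (mt g *ᵥ z) (Fin.rev a) = 1 ∧
        (∀ l, l ≠ a → l ≠ Fin.rev a → l ≠ Fin.rev l → (mt g *ᵥ z) l = 0) ∧
        (∀ k, k = Fin.rev k → (mt g *ᵥ z) k = z k) := by
  intro N
  induction N with
  | zero =>
    intro S z hcard hz hS
    refine ⟨1, H.one_mem, by rw [mt_one, one_mulVec]; exact hz, ?_,
      fun k _ => by rw [mt_one, one_mulVec]⟩
    intro l hl1 hl2 hl3
    rw [mt_one, one_mulVec]
    by_contra hne
    have hmem : l ∈ S := hS l hl1 hl2 hl3 hne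
    have := Finset.card_pos.mpr ⟨l, hmem⟩
    omega
  | succ N ih =>
    intro S z hcard hz hS
    by_cases hemp : ∀ l, l ≠ a → l ≠ Fin.rev a → l ≠ Fin.rev l → z l = 0
    · exact ⟨1, H.one_mem, by rw [mt_one, one_mulVec]; exact hz,
        by intro l h1 h2 h3; rw [mt_one, one_mulVec]; exact hemp l h1 h2 h3,
        fun k _ => by rw [mt_one, one_mulVec]⟩
    · push Not at hemp
      obtain ⟨l, hl1, hl2, hl3, hzl⟩ := hemp
      have hj1 : Fin.rev l ≠ a := fun h => hl2 (by rw [← h, Fin.rev_rev])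
      have hj2 : Fin.rev l ≠ Fin.rev a := fun h => hl1 (Fin.rev_injective h)
      have hj3 : Fin.rev l ≠ Fin.rev (Fin.rev l) := by rw [Fin.rev_rev]; exact Ne.symm hl3
      obtain ⟨X, hX⟩ : ∃ X, X = xU hF a (Fin.rev l) (σ (z l)) ha hj1 hj3 := ⟨_, rfl⟩
      have hXH : X ∈ H := by rw [hX]; exact h1 _ hj1 hj2 hj3 _
      obtain ⟨z', hz'⟩ : ∃ z' : Fin n → K, z' = mt X *ᵥ z := ⟨_, rfl⟩
      have hz'eq : z' = z + (σ (z l) * z (Fin.rev l)) • (ev a : Fin n → K) - z l • ev l := by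
        rw [hz', hX, xU_mulVec, hF.inv, hz, mul_one, Fin.rev_rev]
      have hz'a : z' (Fin.rev a) = 1 := by
        rw [hz'eq]
        simp only [Pi.add_apply, Pi.sub_apply, Pi.smul_apply, smul_eq_mul, ev_apply,
          if_neg (Ne.symm ha), if_neg (Ne.symm hl2), mul_zero, add_zero, sub_zero, hz]
      have hz'l : z' l = 0 := by
        rw [hz'eq]
        simp only [Pi.add_apply, Pi.sub_apply, Pi.smul_apply, smul_eq_mul, ev_apply,
          if_neg hl1, if_pos, mul_zero, add_zero, mul_one, sub_self]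
      have hz'o : ∀ x, x ≠ a → x ≠ l → z' x = z x := by
        intro x hx1 hx2
        rw [hz'eq]
        simp only [Pi.add_apply, Pi.sub_apply, Pi.smul_apply, smul_eq_mul, ev_apply,
          if_neg hx1, if_neg hx2, mul_zero, add_zero, sub_zero]
      have hl_mem : l ∈ S := hS l hl1 hl2 hl3 hzl
      have hcard' : (S.erase l).card ≤ N := by
        rw [Finset.card_erase_of_mem hl_mem]
        omega
      have hS' : ∀ x, x ≠ a → x ≠ Fin.rev a → x ≠ Fin.rev x → z' x ≠ 0 → x ∈ S.erase l := by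
        intro x hx1 hx2 hx3 hx4
        have hxl : x ≠ l := fun h => hx4 (by rw [h]; exact hz'l)
        rw [Finset.mem_erase]
        exact ⟨hxl, hS x hx1 hx2 hx3 (by rw [← hz'o x hx1 hxl]; exact hx4)⟩
      obtain ⟨g, hg, hg1, hg2, hg3⟩ := ih (S.erase l) z' hcard' hz'a hS'
      refine ⟨g * X, H.mul_mem hg hXH, ?_, ?_, ?_⟩
      · rw [mt_mul, ← mulVec_mulVec, ← hz']; exact hg1
      · intro x h1 h2 h3; rw [mt_mul, ← mulVec_mulVec, ← hz']; exact hg2 x h1 h2 h3
      · intro k hk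
        rw [mt_mul, ← mulVec_mulVec, ← hz', hg3 k hk]
        exact hz'o k (fun h => ha (by rw [← h]; exact hk)) (fun h => hl3 (by rw [← h]; exact hk))

theorem good_of_same (hF : FF σ) {H : Subgroup ↥(UG n σ)} (a : Fin n) (ha : a ≠ Fin.rev a)
    (hGa : Good H (ev a : Fin n → K)) (w w' : Fin n → K) (hw : w ⬝ᵥ wv σ w = 0)
    (hw' : w' ⬝ᵥ wv σ w' = 0) (h1 : w (Fin.rev a) = 1) (h1' : w' (Fin.rev a) = 1)
    (hsame : ∀ l, l ≠ a → w l = w' l) (hG : Good H w') : Good H w := by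
  obtain ⟨s, hs⟩ : ∃ s, s = w a - w' a := ⟨_, rfl⟩
  have hskew : s + σ s = 0 := by
    have hd : ∑ l, (w l * σ (w (Fin.rev l)) - w' l * σ (w' (Fin.rev l))) = 0 := by
      rw [Finset.sum_sub_distrib]
      have e1 : ∑ l, w l * σ (w (Fin.rev l)) = 0 := hw
      have e2 : ∑ l, w' l * σ (w' (Fin.rev l)) = 0 := hw'
      rw [e1, e2, sub_zero]
    rw [Finset.sum_eq_add a (Fin.rev a) ha] at hd
    · rw [h1, h1', Fin.rev_rev, map_one, mul_one, mul_one, one_mul, one_mul] at hd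
      rw [hs, map_sub]
      linear_combination hd
    · intro c _ hc
      have hc' : Fin.rev c ≠ a := fun h => hc.2 (by rw [← h, Fin.rev_rev])
      rw [hsame c hc.1, hsame _ hc', sub_self]
    · intro h; exact absurd (Finset.mem_univ _) h
    · intro h; exact absurd (Finset.mem_univ _) h
  have hz := zU_mem hF a s ha hskew (hGa s)
  have e : w = mt (zU hF a s ha hskew) *ᵥ w' := by
    rw [zU_mulVec, h1', mul_one]
    funext l
    rw [Pi.add_apply, Pi.smul_apply, ev_apply, smul_eq_mul]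
    by_cases hl : l = a
    · rw [if_pos hl, hl, hs]; ring
    · rw [if_neg hl, mul_zero, add_zero, hsame l hl]
  rw [e]
  exact hG.act hz

theorem good_rev_one (hF : FF σ) {H : Subgroup ↥(UG n σ)} (a : Fin n) (ha : a ≠ Fin.rev a)
    (h1 : ∀ (j : Fin n) (hja : j ≠ a) (_ : j ≠ Fin.rev a) (hj : j ≠ Fin.rev j) (c : K),
      xU hF a j c ha hja hj ∈ H)
    (hGa : Good H (ev a : Fin n → K)) (hGa' : Good H (ev (Fin.rev a) : Fin n → K))
    (h4 : ∀ k, k = Fin.rev k → ∀ B : K, B ≠ 0 → ∃ z' : Fin n → K,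
      z' ⬝ᵥ wv σ z' = 0 ∧ z' (Fin.rev a) = 1 ∧ z' k = B ∧ Good H z')
    (z : Fin n → K) (hz : z ⬝ᵥ wv σ z = 0) (hz1 : z (Fin.rev a) = 1) : Good H z := by
  obtain ⟨g, hg, hg1, hg2, hg3⟩ := red_step hF a ha h1 _ Finset.univ z le_rfl hz1
    (fun l _ _ _ _ => Finset.mem_univ l)
  obtain ⟨w, hw⟩ : ∃ w, w = mt g *ᵥ z := ⟨_, rfl⟩
  rw [← hw] at hg1 hg2 hg3
  have hwiso : w ⬝ᵥ wv σ w = 0 := by rw [hw, iso_act]; exact hz
  suffices hGw : Good H w by
    have := hGw.act (H.inv_mem hg)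
    rwa [hw, mt_inv_mulVec] at this
  by_cases hmid : ∀ k, k = Fin.rev k → z k = 0
  · refine good_of_same hF a ha hGa w (ev (Fin.rev a)) hwiso ?_ hg1 ?_ ?_ hGa'
    · rw [wv_ev, Fin.rev_rev, dot_ev_apply, ev_apply, if_neg ha]
    · rw [ev_apply, if_pos rfl]
    · intro l hl
      rw [ev_apply]
      by_cases hl2 : l = Fin.rev a
      · rw [if_pos hl2, hl2]; exact hg1
      · rw [if_neg hl2]
        by_cases hl3 : l = Fin.rev l
        · rw [hg3 l hl3]; exact hmid l hl3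
        · exact hg2 l hl hl2 hl3
  · push Not at hmid
    obtain ⟨k, hk, hzk⟩ := hmid
    obtain ⟨z', hz'iso, hz'1, hz'k, hGz'⟩ := h4 k hk (z k) hzk
    obtain ⟨g', hg', hg1', hg2', hg3'⟩ := red_step hF a ha h1 _ Finset.univ z' le_rfl hz'1
      (fun l _ _ _ _ => Finset.mem_univ l)
    obtain ⟨w', hw'⟩ : ∃ w', w' = mt g' *ᵥ z' := ⟨_, rfl⟩
    rw [← hw'] at hg1' hg2' hg3'
    have hw'iso : w' ⬝ᵥ wv σ w' = 0 := by rw [hw', iso_act]; exact hz'iso
    have hGw' : Good H w' := by rw [hw']; exact hGz'.act hg'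
    refine good_of_same hF a ha hGa w w' hwiso hw'iso hg1 hg1' ?_ hGw'
    intro l hl
    by_cases hl2 : l = Fin.rev a
    · rw [hl2, hg1, hg1']
    · by_cases hl3 : l = Fin.rev l
      · have : l = k := mid_unique hl3 hk
        rw [hg3 l hl3, hg3' l hl3, this, hz'k]
      · rw [hg2 l hl hl2 hl3, hg2' l hl hl2 hl3]

theorem good_all (hF : FF σ) {H : Subgroup ↥(UG n σ)} (a : Fin n) (ha : a ≠ Fin.rev a)
    (h1 : ∀ (j : Fin n) (hja : j ≠ a) (_ : j ≠ Fin.rev a) (hj : j ≠ Fin.rev j) (c : K),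
      xU hF a j c ha hja hj ∈ H)
    (h2 : ∀ (k : Fin n) (_ : k ≠ a) (hk2 : k ≠ Fin.rev a) (hk : k ≠ Fin.rev k),
      xU hF (Fin.rev a) k 1 (by rw [Fin.rev_rev]; exact Ne.symm ha) hk2 hk ∈ H)
    (hGa : Good H (ev a : Fin n → K)) (hGa' : Good H (ev (Fin.rev a) : Fin n → K))
    (h4 : ∀ k, k = Fin.rev k → ∀ B : K, B ≠ 0 → ∃ z' : Fin n → K,
      z' ⬝ᵥ wv σ z' = 0 ∧ z' (Fin.rev a) = 1 ∧ z' k = B ∧ Good H z')
    (z : Fin n → K) (hz : z ⬝ᵥ wv σ z = 0) : Good H z := by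
  have key : ∀ z : Fin n → K, z ⬝ᵥ wv σ z = 0 → z (Fin.rev a) ≠ 0 → Good H z := by
    intro z hz hz1
    have h := good_rev_one hF a ha h1 hGa hGa' h4 ((z (Fin.rev a))⁻¹ • z) (iso_smul _ z hz)
      (by rw [Pi.smul_apply, smul_eq_mul, inv_mul_cancel₀ hz1])
    exact Good.of_smul (inv_ne_zero hz1) h
  by_cases hz1 : z (Fin.rev a) = 0
  · by_cases hex : ∃ k, k ≠ a ∧ k ≠ Fin.rev a ∧ k ≠ Fin.rev k ∧ z k ≠ 0
    · obtain ⟨k, hk1, hk2, hk3, hzk⟩ := hex
      obtain ⟨g, hgdef⟩ : ∃ g, g = xU hF (Fin.rev a) k 1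
        (by rw [Fin.rev_rev]; exact Ne.symm ha) hk2 hk3 := ⟨_, rfl⟩
      have hg : g ∈ H := by rw [hgdef]; exact h2 k hk1 hk2 hk3
      have hrk : Fin.rev k ≠ Fin.rev a := fun h => hk1 (Fin.rev_injective h)
      have h3 := key (mt g *ᵥ z) (by rw [iso_act]; exact hz) (by
        rw [hgdef, xU_mulVec]
        simp only [Pi.add_apply, Pi.sub_apply, Pi.smul_apply, smul_eq_mul, ev_apply, if_pos,
          if_neg (Ne.symm hrk), mul_zero, sub_zero, one_mul, mul_one, hz1, zero_add]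
        exact hzk)
      have := h3.act (H.inv_mem hg)
      rwa [mt_inv_mulVec] at this
    · push Not at hex
      have hmid : ∀ k, k = Fin.rev k → z k = 0 := by
        intro k hk
        have e1 : ∑ l, z l * σ (z (Fin.rev l)) = 0 := hz
        rw [Finset.sum_eq_single k] at e1
        · rw [← hk] at e1
          rcases mul_eq_zero.mp e1 with h | h
          · exact h
          · exact (map_eq_zero σ).mp h
        · intro l _ hl
          by_cases hl1 : l = a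
          · rw [hl1, hz1, map_zero, mul_zero]
          · by_cases hl2 : l = Fin.rev a
            · rw [hl2, hz1, zero_mul]
            · by_cases hl3 : l = Fin.rev l
              · exact absurd (mid_unique hl3 hk) hl
              · rw [hex l hl1 hl2 hl3, zero_mul]
        · intro h; exact absurd (Finset.mem_univ _) h
      have e : z = z a • (ev a : Fin n → K) := by
        funext l
        rw [Pi.smul_apply, ev_apply, smul_eq_mul]
        by_cases hl1 : l = a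
        · rw [if_pos hl1, hl1, mul_one]
        · rw [if_neg hl1, mul_zero]
          by_cases hl2 : l = Fin.rev a
          · rw [hl2, hz1]
          · by_cases hl3 : l = Fin.rev l
            · exact hmid l hl3
            · exact hex l hl1 hl2 hl3
      rw [e]
      exact hGa.smul _
  · exact key z hz hz1

/-- the generation criterion in terms of lines of good vectors -/
theorem top_of_lines [Fintype K] {q : ℕ} (hK : Fintype.card K = q ^ 2) (hσ : ∀ x, σ x = x ^ q)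
    (hF : FF σ) (hn : 3 ≤ n) (h32 : ¬ (n = 3 ∧ q = 2)) (H : Subgroup ↥(UG n σ))
    (a : Fin n) (ha : a ≠ Fin.rev a)
    (hG : ∀ k : Fin n, k ≠ Fin.rev k → Good H (ev k : Fin n → K))
    (hL : ∀ l : Fin n, l ≠ a → l ≠ Fin.rev a → l ≠ Fin.rev l →
      Line H a l ∧ Line H (Fin.rev a) l)
    (h4 : ∀ k, k = Fin.rev k → ∀ B : K, B ≠ 0 → ∃ z' : Fin n → K,
      z' ⬝ᵥ wv σ z' = 0 ∧ z' (Fin.rev a) = 1 ∧ z' k = B ∧ Good H z') : H = ⊤ := by
  have ha' : Fin.rev a ≠ Fin.rev (Fin.rev a) := by rw [Fin.rev_rev]; exact Ne.symm ha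
  refine top_of_good hK hσ hF hn h32 H (fun z hz => good_all hF a ha ?_ ?_ (hG a ha)
    (hG _ ha') h4 z hz)
  · intro j hja hja' hj c
    have h1 : Fin.rev j ≠ a := fun h => hja' (by rw [← h, Fin.rev_rev])
    have h2 : Fin.rev j ≠ Fin.rev a := fun h => hja (Fin.rev_injective h)
    have h3 : Fin.rev j ≠ Fin.rev (Fin.rev j) := by rw [Fin.rev_rev]; exact Ne.symm hj
    exact root_of_line' hF a j ha hja hja' hj (hG a ha) (hG _ h3) (hL _ h1 h2 h3).1 c
  · intro k hk1 hk2 hk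
    have h1 : Fin.rev k ≠ a := fun h => hk2 (by rw [← h, Fin.rev_rev])
    have h2 : Fin.rev k ≠ Fin.rev a := fun h => hk1 (Fin.rev_injective h)
    have h3 : Fin.rev k ≠ Fin.rev (Fin.rev k) := by rw [Fin.rev_rev]; exact Ne.symm hk
    have hk2' : k ≠ Fin.rev (Fin.rev a) := by rw [Fin.rev_rev]; exact hk1
    exact root_of_line' hF (Fin.rev a) k ha' hk2 hk2' hk (hG _ ha') (hG _ h3)
      (hL _ h1 h2 h3).2 1

end Cfsg.Agent.Lib.helper47.UGen
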