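import Mathlib
import Cfsg.Agent.Lib.helper47.UGenC

/-!
The Coxeter-type monomial element of the antidiagonal-form special unitary group.
-/

set_option autoImplicit false

namespace Cfsg.Agent.Lib.helper47.UGen

open Matrix Cfsg Cfsg.Agent.Lib.helper47.PSLn Cfsg.Agent.Lib.helper47.UFus

/-- the value function of the Coxeter permutation -/
def cxF (n m : ℕ) (v : ℕ) : ℕ :=
  if v + 1 < m then v + 1 else if v + 1 = m then n - 1 else if n - m < v then v - 1
  else if v = n - m then 0 else v

/-- the value function of the inverse of the Coxeter permutation -/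
def cxG (n m : ℕ) (v : ℕ) : ℕ :=
  if v = 0 then n - m else if v < m then v - 1 else if v = n - 1 then m - 1
  else if n - m ≤ v then v + 1 else v

/-- the Coxeter permutation `0 → 1 → ⋯ → m-1 → n-1 → n-2 → ⋯ → n-m → 0` -/
def cxPerm (n m : ℕ) (hm : 1 ≤ m) (hmn : 2 * m ≤ n) : Equiv.Perm (Fin n) where
  toFun k := ⟨cxF n m k.val, by unfold cxF; have := k.isLt; split_ifs <;> first | omega | contradiction⟩
  invFun k := ⟨cxG n m k.val, by unfold cxG; have := k.isLt; split_ifs <;> first | omega | contradiction⟩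
  left_inv k := by
    apply Fin.ext
    show cxG n m (cxF n m k.val) = k.val
    have := k.isLt
    unfold cxF cxG
    split_ifs <;> first | omega | contradiction
  right_inv k := by
    apply Fin.ext
    show cxF n m (cxG n m k.val) = k.val
    have := k.isLt
    unfold cxF cxG
    split_ifs <;> first | omega | contradiction

theorem cxPerm_val (n m : ℕ) (hm : 1 ≤ m) (hmn : 2 * m ≤ n) (k : Fin n) :
    (cxPerm n m hm hmn k).val = cxF n m k.val := rfl

theorem cxPerm_rev (n m : ℕ) (hm : 1 ≤ m) (hmn : 2 * m ≤ n) (k : Fin n) :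
    cxPerm n m hm hmn (Fin.rev k) = Fin.rev (cxPerm n m hm hmn k) := by
  apply Fin.ext
  rw [Fin.val_rev, cxPerm_val, cxPerm_val, Fin.val_rev]
  have := k.isLt
  unfold cxF
  split_ifs <;> first | omega | contradiction

section idx

variable {n : ℕ} [NeZero n]

/-- the index with value `j` -/
def eI (n : ℕ) [NeZero n] (j : ℕ) : Fin n := Fin.ofNat n j

theorem eI_val {j : ℕ} (hj : j < n) : (eI n j).val = j := Nat.mod_eq_of_lt hj

theorem cxPerm_eI (m : ℕ) (hm : 1 ≤ m) (hmn : 2 * m ≤ n) {j : ℕ} (hj : j + 1 < m) :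
    cxPerm n m hm hmn (eI n j) = eI n (j + 1) := by
  apply Fin.ext
  rw [cxPerm_val, eI_val (by omega), eI_val (by omega)]
  unfold cxF
  rw [if_pos hj]

theorem cxPerm_eI_last (m : ℕ) (hm : 1 ≤ m) (hmn : 2 * m ≤ n) :
    cxPerm n m hm hmn (eI n (m - 1)) = Fin.rev (eI n 0) := by
  apply Fin.ext
  rw [cxPerm_val, eI_val (by omega), Fin.val_rev, eI_val (by omega)]
  unfold cxF
  rw [if_neg (by omega), if_pos (by omega)]

theorem hyp_cases (m : ℕ) (hmn : 2 * m ≤ n) (hnm : n ≤ 2 * m + 1) (x : Fin n)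
    (hx : x ≠ Fin.rev x) : ∃ j, j < m ∧ (x = eI n j ∨ x = Fin.rev (eI n j)) := by
  have h1 := x.isLt
  have h2 : x.val ≠ n - (x.val + 1) := by
    intro h
    apply hx
    apply Fin.ext
    rw [Fin.val_rev]
    exact h
  by_cases h : x.val < m
  · exact ⟨x.val, h, Or.inl (Fin.ext (by rw [eI_val h1]))⟩
  · refine ⟨n - (x.val + 1), by omega, Or.inr (Fin.ext ?_)⟩
    rw [Fin.val_rev, eI_val (by omega)]
    omega

theorem eI_ne_rev (m : ℕ) (hmn : 2 * m ≤ n) {j : ℕ} (hj : j < m) :
    eI n j ≠ Fin.rev (eI n j) := by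
  intro h
  have := congrArg Fin.val h
  rw [Fin.val_rev, eI_val (by omega)] at this
  omega

theorem eI_ne (m : ℕ) (hmn : 2 * m ≤ n) {i j : ℕ} (hi : i < m) (hj : j < m) (hij : i ≠ j) :
    eI n i ≠ eI n j := by
  intro h
  have := congrArg Fin.val h
  rw [eI_val (by omega), eI_val (by omega)] at this
  exact hij this

theorem eI_ne_rev' (m : ℕ) (hmn : 2 * m ≤ n) {i j : ℕ} (hi : i < m) (hj : j < m) :
    eI n i ≠ Fin.rev (eI n j) := by
  intro h
  have := congrArg Fin.val h
  rw [Fin.val_rev, eI_val (by omega), eI_val (by omega)] at this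
  omega

/-- the Coxeter permutation is transitive on the hyperbolic indices -/
theorem cx_reach (m : ℕ) (hm : 1 ≤ m) (hmn : 2 * m ≤ n) (hnm : n ≤ 2 * m + 1)
    (P : Fin n → Prop) (step : ∀ k, P k → P (cxPerm n m hm hmn k))
    (x y : Fin n) (hx : x ≠ Fin.rev x) (hy : y ≠ Fin.rev y) (hPx : P x) : P y := by
  have hE : ∀ j, j < m → P (eI n 0) → P (eI n j) := by
    intro j
    induction j with
    | zero => intro _ h; exact h
    | succ j ih =>
      intro hj h
      have := step _ (ih (by omega) h)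
      rwa [cxPerm_eI m hm hmn hj] at this
  have hF0 : P (eI n 0) → P (Fin.rev (eI n 0)) := by
    intro h
    have := step _ (hE (m - 1) (by omega) h)
    rwa [cxPerm_eI_last m hm hmn] at this
  have hFj : ∀ j, j < m → P (Fin.rev (eI n 0)) → P (Fin.rev (eI n j)) := by
    intro j
    induction j with
    | zero => intro _ h; exact h
    | succ j ih =>
      intro hj h
      have := step _ (ih (by omega) h)
      rwa [cxPerm_rev, cxPerm_eI m hm hmn hj] at this
  have hback : P (Fin.rev (eI n 0)) → P (eI n 0) := by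
    intro h
    have := step _ (hFj (m - 1) (by omega) h)
    rwa [cxPerm_rev, cxPerm_eI_last m hm hmn, Fin.rev_rev] at this
  have hto0 : ∀ j, j < m → ∀ i, i + j = m → P (eI n j) → P (Fin.rev (eI n 0)) := by
    intro j hj i
    induction i generalizing j with
    | zero => intro h; omega
    | succ i ih =>
      intro hij h
      by_cases hlast : j + 1 = m
      · have := step _ h
        have e : j = m - 1 := by omega
        rw [e, cxPerm_eI_last m hm hmn] at this
        exact this
      · have := step _ h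
        rw [cxPerm_eI m hm hmn (by omega)] at this
        exact ih (j + 1) (by omega) (by omega) this
  have hto0' : ∀ j, j < m → ∀ i, i + j = m → P (Fin.rev (eI n j)) → P (eI n 0) := by
    intro j hj i
    induction i generalizing j with
    | zero => intro h; omega
    | succ i ih =>
      intro hij h
      by_cases hlast : j + 1 = m
      · have := step _ h
        have e : j = m - 1 := by omega
        rw [e, cxPerm_rev, cxPerm_eI_last m hm hmn, Fin.rev_rev] at this
        exact this
      · have := step _ h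
        rw [cxPerm_rev, cxPerm_eI m hm hmn (by omega)] at this
        exact ih (j + 1) (by omega) (by omega) this
  have h0 : P (eI n 0) := by
    obtain ⟨j, hj, hxj | hxj⟩ := hyp_cases m hmn hnm x hx
    · rw [hxj] at hPx
      exact hback (hto0 j hj (m - j) (by omega) hPx)
    · rw [hxj] at hPx
      exact hto0' j hj (m - j) (by omega) hPx
  obtain ⟨j, hj, hyj | hyj⟩ := hyp_cases m hmn hnm y hy
  · rw [hyj]; exact hE j hj h0
  · rw [hyj]; exact hFj j hj (hF0 h0)

end idx

section mono

variable {n : ℕ} {K : Type*} [Field K] {σ : K →+* K}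

/-- a monomial matrix -/
def cxM (π : Equiv.Perm (Fin n)) (d : Fin n → K) : Matrix (Fin n) (Fin n) K :=
  Wm K π⁻¹ * Matrix.diagonal d

theorem cxM_apply (π : Equiv.Perm (Fin n)) (d : Fin n → K) (i j : Fin n) :
    cxM π d i j = if i = π j then d j else 0 := by
  unfold cxM
  rw [Matrix.mul_diagonal, Wm_apply]
  by_cases h : i = π j
  · rw [if_pos h, if_pos (by rw [h]; simp), one_mul]
  · rw [if_neg h, if_neg, zero_mul]
    intro h'
    exact h (by rw [← h']; simp)

theorem cxM_mulVec_ev (π : Equiv.Perm (Fin n)) (d : Fin n → K) (j : Fin n) :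
    cxM π d *ᵥ (ev j : Fin n → K) = d j • ev (π j) := by
  funext i
  rw [mulVec, dotProduct, Finset.sum_eq_single j]
  · rw [cxM_apply, ev_apply, if_pos rfl, mul_one, Pi.smul_apply, ev_apply, smul_eq_mul]
    by_cases h : i = π j
    · rw [if_pos h, if_pos h, mul_one]
    · rw [if_neg h, if_neg h, mul_zero]
  · intro b _ hb
    rw [ev_apply, if_neg hb, mul_zero]
  · intro h; exact absurd (Finset.mem_univ _) h

theorem cxM_sharp (π : Equiv.Perm (Fin n)) (d : Fin n → K)
    (hπ : ∀ k, π (Fin.rev k) = Fin.rev (π k)) (hd : ∀ k, d k * σ (d (Fin.rev k)) = 1) :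
    sharp σ (cxM π d) * cxM π d = 1 := by
  ext a c
  rw [Matrix.mul_apply, Finset.sum_eq_single (π c)]
  · rw [sharp_apply, cxM_apply, cxM_apply, if_pos rfl]
    by_cases hac : a = c
    · rw [hac, if_pos (by rw [hπ]), Matrix.one_apply_eq, mul_comm]
      exact hd c
    · rw [if_neg, map_zero, zero_mul, Matrix.one_apply_ne hac]
      intro h
      rw [← hπ] at h
      exact hac (Fin.rev_injective (π.injective h)).symm
  · intro b _ hb
    rw [cxM_apply, if_neg hb, mul_zero]
  · intro h; exact absurd (Finset.mem_univ _) h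

theorem exists_cox (hF : FF σ) (π : Equiv.Perm (Fin n))
    (hπ : ∀ k, π (Fin.rev k) = Fin.rev (π k)) (a : Fin n) (ha : a ≠ Fin.rev a) :
    ∃ (b : ↥(UG n σ)) (d : Fin n → K), (∀ k, d k ≠ 0) ∧
      ∀ k, mt b *ᵥ (ev k : Fin n → K) = d k • ev (π k) := by
  obtain ⟨δ, hδ0, hδ⟩ : ∃ δ : K, δ ≠ 0 ∧
      (((Equiv.Perm.sign π⁻¹ : ℤˣ) : ℤ) : K) * (δ * (σ δ)⁻¹) = 1 := by
    rcases Int.units_eq_one_or (Equiv.Perm.sign π⁻¹) with h | h
    · refine ⟨1, one_ne_zero, ?_⟩
      rw [h]; simp
    · obtain ⟨κ, hκ0, hκ⟩ := hF.eps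
      refine ⟨κ, hκ0, ?_⟩
      have hσκ : σ κ = -κ := by linear_combination hκ
      rw [h, hσκ]
      field_simp
      simp
  have hσδ : σ δ ≠ 0 := fun h => hδ0 ((map_eq_zero σ).mp h)
  obtain ⟨d, hd⟩ : ∃ d : Fin n → K,
      d = fun k => if k = a then δ else if k = Fin.rev a then (σ δ)⁻¹ else 1 := ⟨_, rfl⟩
  have hda : d a = δ := by rw [hd]; simp
  have hda' : d (Fin.rev a) = (σ δ)⁻¹ := by rw [hd]; simp [Ne.symm ha]
  have hdo : ∀ k, k ≠ a → k ≠ Fin.rev a → d k = 1 := by
    intro k h1 h2; rw [hd]; simp [h1, h2]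
  have hd0 : ∀ k, d k ≠ 0 := by
    intro k
    by_cases h1 : k = a
    · rw [h1, hda]; exact hδ0
    · by_cases h2 : k = Fin.rev a
      · rw [h2, hda']; exact inv_ne_zero hσδ
      · rw [hdo k h1 h2]; exact one_ne_zero
  have hdd : ∀ k, d k * σ (d (Fin.rev k)) = 1 := by
    intro k
    by_cases h1 : k = a
    · rw [h1, hda, hda', map_inv₀, hF.inv, mul_inv_cancel₀ hδ0]
    · by_cases h2 : k = Fin.rev a
      · rw [h2, Fin.rev_rev, hda, hda', inv_mul_cancel₀ hσδ]
      · have h3 : Fin.rev k ≠ a := fun h => h2 (by rw [← h, Fin.rev_rev])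
        have h4 : Fin.rev k ≠ Fin.rev a := fun h => h1 (Fin.rev_injective h)
        rw [hdo k h1 h2, hdo _ h3 h4, map_one, mul_one]
  have hprod : ∏ k, d k = δ * (σ δ)⁻¹ := by
    rw [Finset.prod_eq_mul a (Fin.rev a) ha, hda, hda']
    · intro c _ hc; exact hdo c hc.1 hc.2
    · intro h; exact absurd (Finset.mem_univ _) h
    · intro h; exact absurd (Finset.mem_univ _) h
  have hdet : (cxM π d).det = 1 := by
    unfold cxM
    rw [Matrix.det_mul, det_Wm, Matrix.det_diagonal, hprod]
    exact hδ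
  refine ⟨⟨⟨cxM π d, hdet⟩, (mem_UG _).mpr (cxM_sharp π d hπ hdd)⟩, d, hd0, fun k => ?_⟩
  exact cxM_mulVec_ev π d k

end mono

end Cfsg.Agent.Lib.helper47.UGen
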