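import Mathlib
import Cfsg.Agent.Lib.helper47.UGenD

/-!
Two-generation of the antidiagonal-form special unitary group: the generic argument with a
Coxeter-type element and a product of a transvection with a commuting semisimple element.
-/

set_option autoImplicit false

namespace Cfsg.Agent.Lib.helper47.UGen

open Matrix Cfsg Cfsg.Agent.Lib.helper47.PSLn Cfsg.Agent.Lib.helper47.UFus

variable {n : ℕ} [NeZero n] {K : Type*} [Field K] {σ : K →+* K}

set_option maxHeartbeats 1600000 in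
theorem gen_D1 [Fintype K] {q : ℕ} (hK : Fintype.card K = q ^ 2) (hσ : ∀ x, σ x = x ^ q)
    (hF : FF σ) (hn : 3 ≤ n) (h32 : ¬ (n = 3 ∧ q = 2)) (m : ℕ) (hm : 2 ≤ m) (hmn : 2 * m ≤ n)
    (hnm : n ≤ 2 * m + 1) (x : ↥(UG n σ)) (ω lam β ν : K)
    (hx0 : mt x *ᵥ (ev (eI n 0) : Fin n → K) = ω • ev (eI n 0)) (hω : ω * σ ω = 1)
    (hx1 : mt x *ᵥ (ev (eI n 1) : Fin n → K) = lam • ev (eI n 1) + β • ev (eI n 0))
    (hβ : β ≠ 0)
    (hxf : mt x *ᵥ (ev (Fin.rev (eI n 1)) : Fin n → K) = ν • ev (Fin.rev (eI n 1)))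
    (hxN : x ^ (Fintype.card K - 1) = 1)
    (hθ : ∀ z : K, z ≠ 0 → ∃ j : ℕ, (lam / ω) ^ j = z)
    (hν : ∀ ρ : K, ρ ≠ 0 → σ ρ = ρ → ∃ j : ℕ, (ν * σ ν) ^ j = ρ)
    (hmid : ∀ k : Fin n, k = Fin.rev k →
      (mt x *ᵥ (ev (Fin.rev (eI n 0)) : Fin n → K)) k ≠ 0 ∧
      (mt x *ᵥ (ev (Fin.rev (eI n 0)) : Fin n → K)) (Fin.rev (eI n 1)) ≠ 0) :
    ∃ a b : ↥(UG n σ), Subgroup.closure ({a, b} : Set ↥(UG n σ)) = ⊤ := by
  classical
  have hm1 : 1 ≤ m := by omega
  have hπrev := cxPerm_rev n m hm1 hmn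
  have he0 : eI n 0 ≠ Fin.rev (eI n 0) := eI_ne_rev m hmn (by omega)
  have he1 : eI n 1 ≠ Fin.rev (eI n 1) := eI_ne_rev m hmn (by omega)
  have he0' : Fin.rev (eI n 0) ≠ Fin.rev (Fin.rev (eI n 0)) := by
    rw [Fin.rev_rev]; exact Ne.symm he0
  have hf1 : Fin.rev (eI n 1) ≠ Fin.rev (Fin.rev (eI n 1)) := by
    rw [Fin.rev_rev]; exact Ne.symm he1
  have he10 : eI n 1 ≠ eI n 0 := eI_ne m hmn (by omega) (by omega) (by norm_num)
  have he10' : eI n 1 ≠ Fin.rev (eI n 0) := eI_ne_rev' m hmn (by omega) (by omega)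
  have hr1 : Fin.rev (eI n 1) ≠ eI n 0 := (eI_ne_rev' m hmn (by omega) (by omega)).symm
  have hr2 : Fin.rev (eI n 1) ≠ Fin.rev (eI n 0) := fun h => he10 (Fin.rev_injective h)
  obtain ⟨s₀, hs0, hs⟩ := hF.eps
  obtain ⟨u, hu⟩ : ∃ u, u = zU hF (eI n 0) s₀ he0 hs := ⟨_, rfl⟩
  obtain ⟨b, d, hd0, hb⟩ := exists_cox hF (cxPerm n m hm1 hmn) hπrev (eI n 0) he0
  refine ⟨u * x, b, ?_⟩
  have haH : u * x ∈ Subgroup.closure ({u * x, b} : Set ↥(UG n σ)) :=
    Subgroup.subset_closure (by simp)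
  have hbH : b ∈ Subgroup.closure ({u * x, b} : Set ↥(UG n σ)) :=
    Subgroup.subset_closure (by simp)
  generalize Subgroup.closure ({u * x, b} : Set ↥(UG n σ)) = H at haH hbH ⊢
  have hcomm : Commute x u := by
    show x * u = u * x
    apply mt_inj
    rw [mt_mul, mt_mul, hu, mt_zU, uM_conj, hx0, uM_smul, hω, one_mul]
  have hcardK : 1 ≤ Fintype.card K := Fintype.card_pos
  have huN : u ^ (Fintype.card K - 1) = u⁻¹ := by
    apply mt_inj
    rw [hu, zU_pow_mt, zU_inv_mt, Nat.cast_sub hcardK, FiniteField.cast_card_eq_zero,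
      Nat.cast_one, zero_sub, neg_one_mul]
  have huH : u ∈ H := by
    have h1 : (u * x) ^ (Fintype.card K - 1) = u⁻¹ := by
      rw [hcomm.symm.mul_pow, hxN, mul_one, huN]
    have h2 : u⁻¹ ∈ H := by rw [← h1]; exact H.pow_mem haH _
    exact H.inv_mem_iff.mp h2
  have hxH : x ∈ H := by
    have : x = u⁻¹ * (u * x) := by group
    rw [this]; exact H.mul_mem (H.inv_mem huH) haH
  -- the frame
  have hstepAt : ∀ k, (∃ s : K, s ≠ 0 ∧ s + σ s = 0 ∧ GoodAt H (ev k : Fin n → K) s) →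
      (∃ s : K, s ≠ 0 ∧ s + σ s = 0 ∧
        GoodAt H (ev (cxPerm n m hm1 hmn k) : Fin n → K) s) := by
    rintro k ⟨s, hs0', hs', hG⟩
    have h1 := hG.act hbH
    rw [hb k] at h1
    refine ⟨d k * σ (d k) * s, ?_, ?_, h1.of_smul⟩
    · exact mul_ne_zero (mul_ne_zero (hd0 k) (fun h => hd0 k ((map_eq_zero σ).mp h))) hs0'
    · have hσs : σ s = -s := by linear_combination hs'
      rw [map_mul, map_mul, hF.inv, hσs]; ring
  have hP0 : ∃ s : K, s ≠ 0 ∧ s + σ s = 0 ∧ GoodAt H (ev (eI n 0) : Fin n → K) s := by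
    refine ⟨s₀, hs0, hs, ?_⟩
    intro A hA
    have : A = u := mt_inj (by rw [hA, hu, mt_zU])
    rw [this]; exact huH
  obtain ⟨s₁, hs10, hs1, hG1⟩ := cx_reach m hm1 hmn hnm
    (fun k => ∃ s : K, s ≠ 0 ∧ s + σ s = 0 ∧ GoodAt H (ev k : Fin n → K) s) hstepAt
    (eI n 0) (Fin.rev (eI n 1)) he0 hf1 hP0
  have hxpow_f : ∀ j : ℕ, mt (x ^ j) *ᵥ (ev (Fin.rev (eI n 1)) : Fin n → K) =
      ν ^ j • ev (Fin.rev (eI n 1)) := by
    intro j
    induction j with
    | zero => rw [pow_zero, mt_one, one_mulVec, pow_zero, one_smul]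
    | succ j ih =>
      rw [pow_succ, mt_mul, ← mulVec_mulVec, hxf, mulVec_smul, ih, smul_smul, ← pow_succ']
  have hGf1 : Good H (ev (Fin.rev (eI n 1)) : Fin n → K) := by
    intro c A hA
    have hval := valid_of_mem hF A (Fin.rev (eI n 1)) 0 c hf1 rfl (by rw [hA, qM_zero])
    rw [wv_zero, dotProduct_zero, add_zero] at hval
    by_cases hc : c = 0
    · have : A = 1 := mt_inj (by rw [hA, hc, mt_one, uM]; simp)
      rw [this]; exact H.one_mem
    · have hσs1 : σ s₁ = -s₁ := by linear_combination hs1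
      have hσc : σ c = -c := by linear_combination hval
      obtain ⟨j, hj⟩ := hν (c / s₁) (div_ne_zero hc hs10)
        (by rw [map_div₀, hσs1, hσc, neg_div_neg_eq])
      have h1 := hG1.act (H.pow_mem hxH j)
      rw [hxpow_f] at h1
      have h2 := h1.of_smul
      have e : ν ^ j * σ (ν ^ j) * s₁ = c := by
        rw [map_pow, ← mul_pow, hj]; field_simp
      rw [e] at h2
      exact h2 A hA
  have hstepG : ∀ k, Good H (ev k : Fin n → K) →
      Good H (ev (cxPerm n m hm1 hmn k) : Fin n → K) := by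
    intro k hG
    have h1 := hG.act hbH
    rw [hb k] at h1
    exact Good.of_smul (hd0 k) h1
  have hG : ∀ k : Fin n, k ≠ Fin.rev k → Good H (ev k : Fin n → K) := fun k hk =>
    cx_reach m hm1 hmn hnm (fun k => Good H (ev k : Fin n → K)) hstepG (Fin.rev (eI n 1)) k
      hf1 hk hGf1
  -- the line through `e_0` and `e_1`
  have hω0 : ω ≠ 0 := by
    rintro rfl
    rw [zero_mul] at hω
    exact zero_ne_one hω
  obtain ⟨t, ht⟩ := hF.ne
  have ht0 : t ≠ 0 := by rintro rfl; exact ht (map_zero σ)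
  have ht1 : t ≠ 1 := by rintro rfl; exact ht (map_one σ)
  have hlamω : lam ≠ ω := by
    intro h
    obtain ⟨j, hj⟩ := hθ t ht0
    rw [h, div_self hω0, one_pow] at hj
    exact ht1 hj.symm
  have hxpow : ∀ j : ℕ, ∃ βj : K, mt (x ^ j) *ᵥ (ev (eI n 1) : Fin n → K) =
      lam ^ j • ev (eI n 1) + βj • ev (eI n 0) ∧ (lam - ω) * βj = β * (lam ^ j - ω ^ j) := by
    intro j
    induction j with
    | zero =>
      exact ⟨0, by rw [pow_zero, mt_one, one_mulVec, pow_zero, one_smul, zero_smul, add_zero],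
        by ring⟩
    | succ j ih =>
      obtain ⟨βj, h1, h2⟩ := ih
      refine ⟨lam ^ j * β + ω * βj, ?_, ?_⟩
      · rw [pow_succ', mt_mul, ← mulVec_mulVec, h1, mulVec_add, mulVec_smul, mulVec_smul, hx1,
          hx0]
        module
      · linear_combination ω * h2
  have hLpart : ∀ μ : K, μ ≠ 0 → μ * β ≠ lam - ω →
      Good H ((ev (eI n 0) : Fin n → K) + μ • ev (eI n 1)) := by
    intro μ hμ hμβ
    have hden : μ * β - (lam - ω) ≠ 0 := sub_ne_zero.mpr hμβ
    obtain ⟨j, hj⟩ := hθ (μ * β / (μ * β - (lam - ω))) (div_ne_zero (mul_ne_zero hμ hβ) hden)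
    obtain ⟨βj, h1, h2⟩ := hxpow j
    have h3 := (hG (eI n 1) he1).act (H.pow_mem hxH j)
    rw [h1] at h3
    obtain ⟨D, hD⟩ : ∃ D : K, D = μ * β - (lam - ω) := ⟨_, rfl⟩
    rw [← hD] at hden hj
    have hlamjD : lam ^ j * D = ω ^ j * (μ * β) := by
      have h5 : lam ^ j = ω ^ j * (μ * β / D) := by
        rw [← hj, div_pow]
        field_simp
      rw [h5]
      field_simp
    have hne : lam - ω ≠ 0 := sub_ne_zero.mpr hlamω
    have hβjD : βj * D = β * ω ^ j := by
      apply mul_left_cancel₀ hne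
      linear_combination D * h2 + β * hlamjD - β * ω ^ j * hD
    have hβj0 : βj ≠ 0 := by
      intro h0
      rw [h0, zero_mul] at hβjD
      exact mul_ne_zero hβ (pow_ne_zero j hω0) hβjD.symm
    have hlm : lam ^ j = μ * βj := by
      apply mul_right_cancel₀ hden
      linear_combination hlamjD - μ * hβjD
    have h4 := h3.smul βj⁻¹
    have e : βj⁻¹ • (lam ^ j • (ev (eI n 1) : Fin n → K) + βj • ev (eI n 0)) =
        ev (eI n 0) + μ • ev (eI n 1) := by
      rw [smul_add, smul_smul, smul_smul, inv_mul_cancel₀ hβj0, one_smul, add_comm]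
      congr 2
      rw [hlm]
      field_simp
    rw [e] at h4
    exact h4
  have hX01 : ∀ c : K, xU hF (eI n 0) (Fin.rev (eI n 1)) c he0 hr1 hf1 ∈ H := by
    have key : ∀ μ : K, μ * β ≠ lam - ω →
        xU hF (eI n 0) (Fin.rev (eI n 1)) (s₀ * σ μ) he0 hr1 hf1 ∈ H := by
      intro μ hμβ
      by_cases hμ : μ = 0
      · rw [hμ, map_zero, mul_zero, xU_zero]; exact H.one_mem
      · exact root_of_point hF (eI n 0) (eI n 1) he0 he10 he10' he1 (hG _ he0) (hG _ he1) s₀ μ
          hs (hLpart μ hμ hμβ)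
    have hne : lam - ω ≠ 0 := sub_ne_zero.mpr hlamω
    intro c
    obtain ⟨μ, hμ⟩ : ∃ μ : K, s₀ * σ μ = c := ⟨σ (c / s₀), by rw [hF.inv]; field_simp⟩
    by_cases hμβ : μ * β = lam - ω
    · have h1 := key ((1 - t) * μ) (by
        rw [mul_assoc, hμβ]
        intro h
        have : t * (lam - ω) = 0 := by linear_combination -h
        rcases mul_eq_zero.mp this with h' | h'
        · exact ht0 h'
        · exact hne h')
      have h2 := key (t * μ) (by
        rw [mul_assoc, hμβ]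
        intro h
        have : (t - 1) * (lam - ω) = 0 := by linear_combination h
        rcases mul_eq_zero.mp this with h' | h'
        · exact ht1 (sub_eq_zero.mp h')
        · exact hne h')
      have h3 := H.mul_mem h1 h2
      rw [xU_mul] at h3
      have e : s₀ * σ ((1 - t) * μ) + s₀ * σ (t * μ) = c := by
        rw [← hμ, ← mul_add, ← map_add]
        congr 2
        ring
      rw [e] at h3
      exact h3
    · rw [← hμ]; exact key μ hμβ
  have L_f0_e1 : Line H (Fin.rev (eI n 0)) (eI n 1) := by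
    intro μ
    have := line_of_root₂ hF (eI n 0) (Fin.rev (eI n 1)) he0 hr1 hr2 hf1 hX01 (hG _ he0') μ
    rwa [Fin.rev_rev] at this
  have hquad : ∀ i l : Fin n, i ≠ Fin.rev i → l ≠ i → l ≠ Fin.rev i → l ≠ Fin.rev l →
      Line H i l → Line H i (Fin.rev l) ∧ Line H (Fin.rev i) l ∧
        Line H (Fin.rev i) (Fin.rev l) := by
    intro i l hi hli hli' hl h
    exact Line.quad hF hi hli hli' hl (hG i hi)
      (hG _ (by rw [Fin.rev_rev]; exact Ne.symm hi)) (hG l hl)
      (hG _ (by rw [Fin.rev_rev]; exact Ne.symm hl)) h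
  have L01 : Line H (eI n 0) (eI n 1) := by
    have q := hquad _ _ he0' he10' (by rw [Fin.rev_rev]; exact he10) he1 L_f0_e1
    have := q.2.1
    rwa [Fin.rev_rev] at this
  have hshift : ∀ k l : Fin n, Line H k l →
      Line H (cxPerm n m hm1 hmn k) (cxPerm n m hm1 hmn l) := by
    intro k l hL ν'
    have h1 := (hL (ν' * d k / d l)).act hbH
    rw [mulVec_add, mulVec_smul, hb k, hb l] at h1
    have e : d k • (ev (cxPerm n m hm1 hmn k) : Fin n → K) +
        (ν' * d k / d l) • d l • ev (cxPerm n m hm1 hmn l) =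
        d k • ((ev (cxPerm n m hm1 hmn k) : Fin n → K) + ν' • ev (cxPerm n m hm1 hmn l)) := by
      rw [smul_add, smul_smul, smul_smul]
      congr 2
      have := hd0 l
      field_simp
    rw [e] at h1
    exact Good.of_smul (hd0 k) h1
  have hLadj : ∀ j, j + 1 < m → Line H (eI n j) (eI n (j + 1)) := by
    intro j
    induction j with
    | zero => intro _; exact L01
    | succ j ih =>
      intro hj
      have := hshift _ _ (ih (by omega))
      rwa [cxPerm_eI m hm1 hmn (by omega), cxPerm_eI m hm1 hmn (by omega)] at this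
  have hL0 : ∀ j, 1 ≤ j → j < m → Line H (eI n 0) (eI n j) := by
    intro j
    induction j with
    | zero => intro h; omega
    | succ j ih =>
      intro _ hj
      by_cases hj0 : j = 0
      · subst hj0; exact L01
      · have h1 := ih (by omega) (by omega)
        have hk := eI_ne_rev (n := n) m hmn (j := j) (by omega)
        have hl := eI_ne_rev (n := n) m hmn (j := j + 1) hj
        have hlk : eI n (j + 1) ≠ eI n j := eI_ne m hmn hj (by omega) (by omega)
        have hlk' : eI n (j + 1) ≠ Fin.rev (eI n j) := eI_ne_rev' m hmn hj (by omega)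
        have hkl' : eI n j ≠ Fin.rev (eI n (j + 1)) := eI_ne_rev' m hmn (by omega) hj
        have Lkl := hLadj j hj
        have q1 := hquad _ _ hk hlk hlk' hl Lkl
        have Llk : Line H (eI n (j + 1)) (eI n j) := Lkl.symm (hG _ hl)
        have q2 := hquad _ _ hl (Ne.symm hlk) hkl' hk Llk
        have hX1 : ∀ c, xU hF (eI n (j + 1)) (eI n j) c hl (Ne.symm hlk) hk ∈ H := fun c =>
          root_of_line' hF _ _ hl (Ne.symm hlk) hkl' hk (hG _ hl)
            (hG _ (by rw [Fin.rev_rev]; exact Ne.symm hk)) q2.1 c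
        have hX2 : ∀ c, xU hF (eI n j) (eI n (j + 1)) c hk hlk hl ∈ H := fun c =>
          root_of_line' hF _ _ hk hlk hlk' hl (hG _ hk)
            (hG _ (by rw [Fin.rev_rev]; exact Ne.symm hl)) q1.1 c
        exact Line.trans hF hk hl (eI_ne m hmn (by omega) (by omega) hj0)
          (eI_ne m hmn hj (by omega) (by omega)) hlk hlk'
          (eI_ne_rev' m hmn (by omega) hj) (eI_ne_rev' m hmn (by omega) (by omega))
          (hG _ he0) h1 hX1 hX2
  have hL : ∀ l : Fin n, l ≠ eI n 0 → l ≠ Fin.rev (eI n 0) → l ≠ Fin.rev l →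
      Line H (eI n 0) l ∧ Line H (Fin.rev (eI n 0)) l := by
    intro l hl1 hl2 hl3
    obtain ⟨j, hj, hlj | hlj⟩ := hyp_cases m hmn hnm l hl3
    · have hj1 : 1 ≤ j := by
        by_contra h
        have : j = 0 := by omega
        rw [this] at hlj
        exact hl1 hlj
      have q := hquad _ _ he0 hl1 hl2 hl3 (by rw [hlj]; exact hL0 j hj1 hj)
      exact ⟨by rw [hlj]; exact hL0 j hj1 hj, q.2.1⟩
    · have hj1 : 1 ≤ j := by
        by_contra h
        have : j = 0 := by omega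
        rw [this] at hlj
        exact hl2 hlj
      have hej := eI_ne_rev (n := n) m hmn hj
      have q := hquad _ _ he0 (eI_ne m hmn hj (by omega) (by omega))
        (eI_ne_rev' m hmn hj (by omega)) hej (hL0 j hj1 hj)
      rw [hlj]
      exact ⟨q.1, q.2.2⟩
  have h4 : ∀ k, k = Fin.rev k → ∀ B : K, B ≠ 0 → ∃ z' : Fin n → K,
      z' ⬝ᵥ wv σ z' = 0 ∧ z' (Fin.rev (eI n 0)) = 1 ∧ z' k = B ∧ Good H z' := by
    intro k hk B hB
    obtain ⟨z0, hz0⟩ : ∃ z0 : Fin n → K, z0 = mt x *ᵥ ev (Fin.rev (eI n 0)) := ⟨_, rfl⟩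
    have hz0k : z0 k ≠ 0 := by rw [hz0]; exact (hmid k hk).1
    have hz0f : z0 (Fin.rev (eI n 1)) ≠ 0 := by rw [hz0]; exact (hmid k hk).2
    have hGz0 : Good H z0 := by rw [hz0]; exact (hG _ he0').act hxH
    have hiso0 : z0 ⬝ᵥ wv σ z0 = 0 := by
      rw [hz0, iso_act, wv_ev, Fin.rev_rev, dot_ev_apply, ev_apply, if_neg he0]
    obtain ⟨c, hc⟩ : ∃ c : K,
        c = (z0 k / B - z0 (Fin.rev (eI n 0))) / z0 (Fin.rev (eI n 1)) := ⟨_, rfl⟩
    have hgH : xU hF (Fin.rev (eI n 0)) (Fin.rev (eI n 1)) c he0' hr2 hf1 ∈ H :=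
      root_of_line' hF _ _ he0' hr2 (by rw [Fin.rev_rev]; exact hr1) hf1 (hG _ he0')
        (by rw [Fin.rev_rev]; exact hG _ he1)
        (by rw [Fin.rev_rev]; exact (hL (eI n 1) he10 he10' he1).2) c
    obtain ⟨z1, hz1⟩ : ∃ z1 : Fin n → K,
        z1 = mt (xU hF (Fin.rev (eI n 0)) (Fin.rev (eI n 1)) c he0' hr2 hf1) *ᵥ z0 := ⟨_, rfl⟩
    have hz1eq : z1 = z0 + (c * z0 (Fin.rev (eI n 1))) • (ev (Fin.rev (eI n 0)) : Fin n → K) -
        (σ c * z0 (eI n 0)) • ev (eI n 1) := by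
      rw [hz1, xU_mulVec, Fin.rev_rev, Fin.rev_rev]
    have hz1r : z1 (Fin.rev (eI n 0)) = z0 k / B := by
      rw [hz1eq]
      simp only [Pi.add_apply, Pi.sub_apply, Pi.smul_apply, smul_eq_mul, ev_apply, if_pos,
        if_neg (Ne.symm he10'), mul_zero, sub_zero, mul_one]
      rw [hc]
      field_simp
      ring
    have hz1k : z1 k = z0 k := by
      rw [hz1eq]
      have hk1 : k ≠ Fin.rev (eI n 0) := fun h => he0' (by rw [← h]; exact hk)
      have hk2 : k ≠ eI n 1 := fun h => he1 (by rw [← h]; exact hk)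
      simp only [Pi.add_apply, Pi.sub_apply, Pi.smul_apply, smul_eq_mul, ev_apply, if_neg hk1,
        if_neg hk2, mul_zero, add_zero, sub_zero]
    have hGz1 : Good H z1 := by rw [hz1]; exact hGz0.act hgH
    have hiso1 : z1 ⬝ᵥ wv σ z1 = 0 := by rw [hz1, iso_act]; exact hiso0
    have hr0 : z0 k / B ≠ 0 := div_ne_zero hz0k hB
    refine ⟨(z0 k / B)⁻¹ • z1, iso_smul _ z1 hiso1, ?_, ?_, hGz1.smul _⟩
    · rw [Pi.smul_apply, hz1r, smul_eq_mul, inv_mul_cancel₀ hr0]
    · rw [Pi.smul_apply, hz1k, smul_eq_mul]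
      field_simp
  exact top_of_lines hK hσ hF hn h32 H (eI n 0) he0 hG hL h4

end Cfsg.Agent.Lib.helper47.UGen
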