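import Mathlib
import Cfsg.Agent.Lib.helper47.UGenE

/-!
Two-generation of the antidiagonal-form special unitary group: diagonal elements and the
instantiation of the generic argument.
-/

set_option autoImplicit false

namespace Cfsg.Agent.Lib.helper47.UGen

open Matrix Cfsg Cfsg.Agent.Lib.helper47.PSLn Cfsg.Agent.Lib.helper47.UFus

section diag

variable {n : ℕ} {K : Type*} [Field K] {σ : K →+* K}

theorem exists_diag (d : Fin n → K) (hprod : ∏ k, d k = 1)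
    (hd : ∀ k, σ (d (Fin.rev k)) * d k = 1) : ∃ τ : ↥(UG n σ), mt τ = Matrix.diagonal d := by
  have hdet : (Matrix.diagonal d).det = 1 := by rw [Matrix.det_diagonal, hprod]
  exact ⟨⟨⟨Matrix.diagonal d, hdet⟩, diag_mem_UG _ d rfl hd⟩, rfl⟩

theorem diag_mulVec_ev (d : Fin n → K) (k : Fin n) :
    Matrix.diagonal d *ᵥ (ev k : Fin n → K) = d k • ev k := by
  funext i
  rw [Matrix.mulVec_diagonal, Pi.smul_apply, ev_apply, smul_eq_mul]
  by_cases h : i = k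
  · rw [h]
  · rw [if_neg h, mul_zero, mul_zero]

theorem diag_pow_eq_one (τ : ↥(UG n σ)) (d : Fin n → K) (hτ : mt τ = Matrix.diagonal d) (N : ℕ)
    (hN : ∀ k, d k ^ N = 1) : τ ^ N = 1 := by
  apply mt_inj
  rw [mt_pow, hτ, Matrix.diagonal_pow, mt_one]
  have : d ^ N = 1 := funext hN
  rw [this]
  exact Matrix.diagonal_one

/-- the diagonal of a torus element of a hyperbolic pair -/
def pT (σ : K →+* K) (i : Fin n) (c : K) : Fin n → K :=
  Pi.mulSingle i c * Pi.mulSingle (Fin.rev i) (σ c)⁻¹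

theorem pT_self (i : Fin n) (hi : i ≠ Fin.rev i) (c : K) : pT σ i c i = c := by
  unfold pT
  rw [Pi.mul_apply, Pi.mulSingle_eq_same, Pi.mulSingle_eq_of_ne hi, mul_one]

theorem pT_rev (i : Fin n) (hi : i ≠ Fin.rev i) (c : K) : pT σ i c (Fin.rev i) = (σ c)⁻¹ := by
  unfold pT
  rw [Pi.mul_apply, Pi.mulSingle_eq_same, Pi.mulSingle_eq_of_ne (Ne.symm hi), one_mul]

theorem pT_of_ne (i k : Fin n) (c : K) (h1 : k ≠ i) (h2 : k ≠ Fin.rev i) : pT σ i c k = 1 := by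
  unfold pT
  rw [Pi.mul_apply, Pi.mulSingle_eq_of_ne h1, Pi.mulSingle_eq_of_ne h2, mul_one]

theorem pT_prod (i : Fin n) (c : K) : ∏ k, pT σ i c k = c * (σ c)⁻¹ := by
  unfold pT
  simp only [Pi.mul_apply]
  rw [Finset.prod_mul_distrib, Finset.prod_pi_mulSingle', Finset.prod_pi_mulSingle',
    if_pos (Finset.mem_univ _), if_pos (Finset.mem_univ _)]

theorem pT_unit (hF : FF σ) (i : Fin n) (hi : i ≠ Fin.rev i) (c : K) (hc : c ≠ 0) (k : Fin n) :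
    σ (pT σ i c (Fin.rev k)) * pT σ i c k = 1 := by
  have hσc : σ c ≠ 0 := fun h => hc ((map_eq_zero σ).mp h)
  by_cases h1 : k = i
  · rw [h1, pT_rev i hi, pT_self i hi, map_inv₀, hF.inv, inv_mul_cancel₀ hc]
  · by_cases h2 : k = Fin.rev i
    · rw [h2, Fin.rev_rev, pT_rev i hi, pT_self i hi, mul_inv_cancel₀ hσc]
    · have h3 : Fin.rev k ≠ i := fun h => h2 (by rw [← h, Fin.rev_rev])
      have h4 : Fin.rev k ≠ Fin.rev i := fun h => h1 (Fin.rev_injective h)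
      rw [pT_of_ne i k c h1 h2, pT_of_ne i _ c h3 h4, map_one, mul_one]

theorem wv_neg (v : Fin n → K) : wv σ (-v) = -wv σ v := by
  funext k
  simp only [wv_apply, Pi.neg_apply, map_neg]

theorem qU_inv_mt (hF : FF σ) (a : Fin n) (v : Fin n → K) (t : K) (ha : a ≠ Fin.rev a)
    (hva : v a = 0) (hval : t + σ t + v ⬝ᵥ wv σ v = 0) :
    mt (qU hF a v t ha hva hval)⁻¹ = qM σ a (-v) (σ t) := by
  have h1 : mt (qU hF a v t ha hva hval) * qM σ a (-v) (σ t) = 1 := by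
    rw [mt_qU, qM_mul a ha v (-v) hva (by rw [Pi.neg_apply, hva, neg_zero]), wv_neg,
      dotProduct_neg, sub_neg_eq_add, hval, add_neg_cancel, qM_zero, uM]
    simp
  calc mt (qU hF a v t ha hva hval)⁻¹
      = mt (qU hF a v t ha hva hval)⁻¹ * (mt (qU hF a v t ha hva hval) * qM σ a (-v) (σ t)) := by
        rw [h1, Matrix.mul_one]
    _ = qM σ a (-v) (σ t) := by rw [← Matrix.mul_assoc, mt_inv_mul, Matrix.one_mul]

theorem conj_rev_coord (hF : FF σ) (a : Fin n) (v : Fin n → K) (t : K) (ha : a ≠ Fin.rev a)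
    (hva : v a = 0) (hval : t + σ t + v ⬝ᵥ wv σ v = 0) (τ : ↥(UG n σ)) (d : Fin n → K)
    (hτ : mt τ = Matrix.diagonal d) (k : Fin n) (hk1 : k ≠ a) (hk2 : k ≠ Fin.rev a) :
    (mt (qU hF a v t ha hva hval * τ * (qU hF a v t ha hva hval)⁻¹) *ᵥ
      (ev (Fin.rev a) : Fin n → K)) k = (d k - d (Fin.rev a)) * σ (v (Fin.rev k)) := by
  obtain ⟨w, hw⟩ : ∃ w : Fin n → K, w = qM σ a (-v) (σ t) *ᵥ ev (Fin.rev a) := ⟨_, rfl⟩
  have hwk : w k = σ (v (Fin.rev k)) := by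
    rw [hw, qM_mulVec, wv_neg]
    simp only [Pi.add_apply, Pi.sub_apply, Pi.smul_apply, Pi.neg_apply, smul_eq_mul, ev_apply,
      if_neg hk1, if_neg hk2, if_pos, mul_zero, add_zero, zero_add, one_mul, sub_neg_eq_add,
      wv_apply]
  have hwr : w (Fin.rev a) = 1 := by
    rw [hw, qM_mulVec, wv_neg]
    simp only [Pi.add_apply, Pi.sub_apply, Pi.smul_apply, Pi.neg_apply, smul_eq_mul, ev_apply,
      if_neg (Ne.symm ha), if_pos, mul_zero, add_zero, one_mul, sub_neg_eq_add,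
      wv_apply, Fin.rev_rev, hva, map_zero]
  rw [mt_mul, mt_mul, ← mulVec_mulVec, ← mulVec_mulVec, qU_inv_mt, ← hw, hτ, mt_qU, qM_mulVec]
  simp only [Pi.add_apply, Pi.sub_apply, Pi.smul_apply, smul_eq_mul, ev_apply, if_neg hk1,
    mul_zero, add_zero, Matrix.mulVec_diagonal, hwk, hwr, wv_apply]
  ring

end diag

section inst

variable {n : ℕ} [NeZero n] {K : Type*} [Field K] {σ : K →+* K}

theorem gen_of_diag [Fintype K] {q : ℕ} (hK : Fintype.card K = q ^ 2) (hσ : ∀ x, σ x = x ^ q)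
    (hF : FF σ) (hn : 3 ≤ n) (h32 : ¬ (n = 3 ∧ q = 2)) (m : ℕ) (hm : 2 ≤ m) (hmn : 2 * m ≤ n)
    (hnm : n ≤ 2 * m + 1) (d : Fin n → K) (hprod : ∏ k, d k = 1)
    (hd : ∀ k, σ (d (Fin.rev k)) * d k = 1) (hN : ∀ k, d k ^ (Fintype.card K - 1) = 1)
    (vy : Fin n → K) (t : K) (hvy0 : vy (eI n 0) = 0) (hval : t + σ t + vy ⬝ᵥ wv σ vy = 0)
    (hvy1 : vy (eI n 1) ≠ 0) (hvyf : vy (Fin.rev (eI n 1)) = 0)
    (hω : d (eI n 0) * σ (d (eI n 0)) = 1)
    (hθ : ∀ z : K, z ≠ 0 → ∃ j : ℕ, (d (eI n 1) / d (eI n 0)) ^ j = z)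
    (hν : ∀ ρ : K, ρ ≠ 0 → σ ρ = ρ →
      ∃ j : ℕ, (d (Fin.rev (eI n 1)) * σ (d (Fin.rev (eI n 1)))) ^ j = ρ)
    (hmid : ∀ k : Fin n, k = Fin.rev k →
      (d k - d (Fin.rev (eI n 0))) * σ (vy (Fin.rev k)) ≠ 0 ∧
      d (Fin.rev (eI n 1)) - d (Fin.rev (eI n 0)) ≠ 0) :
    ∃ a b : ↥(UG n σ), Subgroup.closure ({a, b} : Set ↥(UG n σ)) = ⊤ := by
  have he0 : eI n 0 ≠ Fin.rev (eI n 0) := eI_ne_rev m hmn (by omega)
  have he1 : eI n 1 ≠ Fin.rev (eI n 1) := eI_ne_rev m hmn (by omega)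
  have he10 : eI n 1 ≠ eI n 0 := eI_ne m hmn (by omega) (by omega) (by norm_num)
  have he10' : eI n 1 ≠ Fin.rev (eI n 0) := eI_ne_rev' m hmn (by omega) (by omega)
  have hr1 : Fin.rev (eI n 1) ≠ eI n 0 := (eI_ne_rev' m hmn (by omega) (by omega)).symm
  have hr2 : Fin.rev (eI n 1) ≠ Fin.rev (eI n 0) := fun h => he10 (Fin.rev_injective h)
  obtain ⟨τ, hτ⟩ := exists_diag (σ := σ) d hprod hd
  obtain ⟨y, hy⟩ : ∃ y, y = qU hF (eI n 0) vy t he0 hvy0 hval := ⟨_, rfl⟩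
  have hymul : ∀ z : Fin n → K, mt y *ᵥ z = z + (vy ⬝ᵥ z + t * z (Fin.rev (eI n 0))) •
      (ev (eI n 0) : Fin n → K) - z (Fin.rev (eI n 0)) • wv σ vy := by
    intro z
    rw [hy, mt_qU, qM_mulVec]
  have hy0 : mt y *ᵥ (ev (eI n 0) : Fin n → K) = ev (eI n 0) := by
    rw [hymul, dot_ev_apply, hvy0, ev_apply, if_neg (Ne.symm he0), mul_zero, add_zero, zero_smul,
      zero_smul, add_zero, sub_zero]
  have hy1 : mt y *ᵥ (ev (eI n 1) : Fin n → K) = ev (eI n 1) + vy (eI n 1) • ev (eI n 0) := by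
    rw [hymul, dot_ev_apply, ev_apply, if_neg (Ne.symm he10'), mul_zero, add_zero, zero_smul,
      sub_zero]
  have hyf : mt y *ᵥ (ev (Fin.rev (eI n 1)) : Fin n → K) = ev (Fin.rev (eI n 1)) := by
    rw [hymul, dot_ev_apply, hvyf, ev_apply, if_neg (Ne.symm hr2), mul_zero, add_zero,
      zero_smul, zero_smul, add_zero, sub_zero]
  have hyi0 : mt y⁻¹ *ᵥ (ev (eI n 0) : Fin n → K) = ev (eI n 0) := by
    have h := mt_inv_mulVec y (ev (eI n 0))
    rwa [hy0] at h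
  have hyi1 : mt y⁻¹ *ᵥ (ev (eI n 1) : Fin n → K) = ev (eI n 1) - vy (eI n 1) • ev (eI n 0) := by
    have h := mt_inv_mulVec y ((ev (eI n 1) : Fin n → K) - vy (eI n 1) • ev (eI n 0))
    rwa [mulVec_sub, mulVec_smul, hy1, hy0, add_sub_cancel_right] at h
  have hyif : mt y⁻¹ *ᵥ (ev (Fin.rev (eI n 1)) : Fin n → K) = ev (Fin.rev (eI n 1)) := by
    have h := mt_inv_mulVec y (ev (Fin.rev (eI n 1)))
    rwa [hyf] at h
  obtain ⟨x, hx⟩ : ∃ x, x = y * τ * y⁻¹ := ⟨_, rfl⟩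
  have hxmul : ∀ z : Fin n → K, mt x *ᵥ z = mt y *ᵥ (Matrix.diagonal d *ᵥ (mt y⁻¹ *ᵥ z)) := by
    intro z
    rw [hx, mt_mul, mt_mul, ← mulVec_mulVec, ← mulVec_mulVec, hτ]
  obtain ⟨u, hu⟩ := hF.ne
  have hu0 : u ≠ 0 := by rintro rfl; exact hu (map_zero σ)
  have hu1 : u ≠ 1 := by rintro rfl; exact hu (map_one σ)
  have hd0 : d (eI n 0) ≠ 0 := by
    intro h
    have := hd (eI n 0)
    rw [h, mul_zero] at this
    exact zero_ne_one this
  have hd01 : d (eI n 1) ≠ d (eI n 0) := by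
    intro h
    obtain ⟨j, hj⟩ := hθ u hu0
    rw [h, div_self hd0, one_pow] at hj
    exact hu1 hj.symm
  refine gen_D1 hK hσ hF hn h32 m hm hmn hnm x (d (eI n 0)) (d (eI n 1))
    ((d (eI n 1) - d (eI n 0)) * vy (eI n 1)) (d (Fin.rev (eI n 1))) ?_ ?_ ?_ ?_ ?_ ?_ hθ hν ?_
  · rw [hxmul, hyi0, diag_mulVec_ev, mulVec_smul, hy0]
  · exact hω
  · rw [hxmul, hyi1, mulVec_sub, mulVec_smul, diag_mulVec_ev, diag_mulVec_ev, mulVec_sub,
      mulVec_smul, mulVec_smul, mulVec_smul, hy1, hy0]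
    module
  · exact mul_ne_zero (sub_ne_zero.mpr hd01) hvy1
  · rw [hxmul, hyif, diag_mulVec_ev, mulVec_smul, hyf]
  · rw [hx, conj_pow, diag_pow_eq_one τ d hτ _ hN, mul_one, mul_inv_cancel]
  · intro k hk
    have hk1 : k ≠ eI n 0 := fun h => he0 (by rw [← h]; exact hk)
    have hk2 : k ≠ Fin.rev (eI n 0) := fun h => he0 (by
      have h' : Fin.rev k = eI n 0 := by rw [h, Fin.rev_rev]
      calc eI n 0 = Fin.rev k := h'.symm
        _ = k := hk.symm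
        _ = Fin.rev (eI n 0) := h)
    refine ⟨?_, ?_⟩
    · rw [hx, hy, conj_rev_coord hF (eI n 0) vy t he0 hvy0 hval τ d hτ k hk1 hk2]
      exact (hmid k hk).1
    · rw [hx, hy, conj_rev_coord hF (eI n 0) vy t he0 hvy0 hval τ d hτ _ hr1 hr2, Fin.rev_rev]
      exact mul_ne_zero (hmid k hk).2 (fun h => hvy1 ((map_eq_zero σ).mp h))

end inst

end Cfsg.Agent.Lib.helper47.UGen
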