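import Mathlib
import Cfsg.Agent.Lib.helper47.UGenF

/-!
Two-generation of the antidiagonal-form special unitary group: the cases of even degree at
least six, odd degree at least five, and degree four over the field with four elements.
-/

set_option autoImplicit false

namespace Cfsg.Agent.Lib.helper47.UGen

open Matrix Cfsg Cfsg.Agent.Lib.helper47.PSLn Cfsg.Agent.Lib.helper47.UFus

variable {K : Type*} [Field K] {σ : K →+* K}

theorem exists_gen [Fintype K] : ∃ lam : K, lam ≠ 0 ∧ ∀ z : K, z ≠ 0 → ∃ j : ℕ, lam ^ j = z := by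
  obtain ⟨g, hg⟩ := IsCyclic.exists_generator (α := Kˣ)
  refine ⟨(g : K), g.ne_zero, fun z hz => ?_⟩
  have h1 := hg (Units.mk0 z hz)
  rw [← mem_powers_iff_mem_zpowers] at h1
  obtain ⟨j, hj⟩ := h1
  refine ⟨j, ?_⟩
  have := congrArg Units.val hj
  simpa using this

theorem norm_pow_cover (hF : FF σ) (lam : K) (hgen : ∀ z : K, z ≠ 0 → ∃ j : ℕ, lam ^ j = z)
    (ρ : K) (hρ0 : ρ ≠ 0) (hρ : σ ρ = ρ) :
    ∃ j : ℕ, ((σ lam)⁻¹ * σ ((σ lam)⁻¹)) ^ j = ρ := by
  obtain ⟨c, hc⟩ := hF.nm ρ⁻¹ (by rw [map_inv₀, hρ])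
  have hc0 : c ≠ 0 := by
    rintro rfl
    rw [zero_mul] at hc
    exact inv_ne_zero hρ0 hc.symm
  obtain ⟨j, hj⟩ := hgen c hc0
  refine ⟨j, ?_⟩
  rw [map_inv₀, hF.inv, ← mul_inv, inv_pow, mul_pow, ← map_pow, hj, mul_comm, hc, inv_inv]

theorem gen_ne_one (hF : FF σ) (lam : K) (hgen : ∀ z : K, z ≠ 0 → ∃ j : ℕ, lam ^ j = z) :
    lam ≠ 1 := by
  obtain ⟨u, hu⟩ := hF.ne
  have hu0 : u ≠ 0 := by rintro rfl; exact hu (map_zero σ)
  have hu1 : u ≠ 1 := by rintro rfl; exact hu (map_one σ)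
  rintro rfl
  obtain ⟨j, hj⟩ := hgen u hu0
  rw [one_pow] at hj
  exact hu1 hj.symm

theorem gen_not_fixed (hF : FF σ) (lam : K) (hgen : ∀ z : K, z ≠ 0 → ∃ j : ℕ, lam ^ j = z) :
    σ lam ≠ lam := by
  obtain ⟨u, hu⟩ := hF.ne
  have hu0 : u ≠ 0 := by rintro rfl; exact hu (map_zero σ)
  intro h
  obtain ⟨j, hj⟩ := hgen u hu0
  apply hu
  rw [← hj, map_pow, h]

section pair

variable {n : ℕ}

theorem pair_prod (i j : Fin n) (lam : K) (hlam : lam ≠ 0) :
    ∏ k, (pT σ i lam * pT σ j lam⁻¹) k = 1 := by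
  have hσ : σ lam ≠ 0 := fun h => hlam ((map_eq_zero σ).mp h)
  simp only [Pi.mul_apply]
  rw [Finset.prod_mul_distrib, pT_prod, pT_prod, map_inv₀, inv_inv]
  field_simp

theorem pair_unit (hF : FF σ) (i j : Fin n) (hi : i ≠ Fin.rev i) (hj : j ≠ Fin.rev j) (lam : K)
    (hlam : lam ≠ 0) (k : Fin n) :
    σ ((pT σ i lam * pT σ j lam⁻¹) (Fin.rev k)) * (pT σ i lam * pT σ j lam⁻¹) k = 1 := by
  rw [Pi.mul_apply, Pi.mul_apply, map_mul]
  have h1 := pT_unit hF i hi lam hlam k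
  have h2 := pT_unit hF j hj lam⁻¹ (inv_ne_zero hlam) k
  calc σ (pT σ i lam (Fin.rev k)) * σ (pT σ j lam⁻¹ (Fin.rev k)) *
        (pT σ i lam k * pT σ j lam⁻¹ k)
      = (σ (pT σ i lam (Fin.rev k)) * pT σ i lam k) *
        (σ (pT σ j lam⁻¹ (Fin.rev k)) * pT σ j lam⁻¹ k) := by ring
    _ = 1 := by rw [h1, h2, mul_one]

theorem pow_card_of_unit [Fintype K] (d : Fin n → K) (hd : ∀ k, σ (d (Fin.rev k)) * d k = 1)
    (k : Fin n) : d k ^ (Fintype.card K - 1) = 1 := by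
  apply FiniteField.pow_card_sub_one_eq_one
  intro h
  have := hd k
  rw [h, mul_zero] at this
  exact zero_ne_one this

theorem no_mid_even (m : ℕ) (hn : n = 2 * m) (k : Fin n) (hk : k = Fin.rev k) : False := by
  have := congrArg Fin.val hk
  rw [Fin.val_rev] at this
  have := k.isLt
  omega

end pair

/-- even degree at least six -/
theorem gen_even [Fintype K] {q : ℕ} (hK : Fintype.card K = q ^ 2) (hσ : ∀ x, σ x = x ^ q)
    (hF : FF σ) (m : ℕ) (hm : 3 ≤ m) :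
    ∃ a b : ↥(UG (2 * m) σ), Subgroup.closure ({a, b} : Set ↥(UG (2 * m) σ)) = ⊤ := by
  haveI : NeZero (2 * m) := ⟨by omega⟩
  obtain ⟨n, hn⟩ : ∃ n, n = 2 * m := ⟨_, rfl⟩
  rw [← hn]
  haveI : NeZero n := ⟨by omega⟩
  have hmn : 2 * m ≤ n := by omega
  obtain ⟨lam, hlam0, hgen⟩ := exists_gen (K := K)
  have hσlam : σ lam ≠ 0 := fun h => hlam0 ((map_eq_zero σ).mp h)
  have he1 : eI n 1 ≠ Fin.rev (eI n 1) := eI_ne_rev m hmn (by omega)
  have he2 : eI n 2 ≠ Fin.rev (eI n 2) := eI_ne_rev m hmn (by omega)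
  have h01 : eI n 0 ≠ eI n 1 := eI_ne m hmn (by omega) (by omega) (by norm_num)
  have h02 : eI n 0 ≠ eI n 2 := eI_ne m hmn (by omega) (by omega) (by norm_num)
  have h12 : eI n 1 ≠ eI n 2 := eI_ne m hmn (by omega) (by omega) (by norm_num)
  have h01' : eI n 0 ≠ Fin.rev (eI n 1) := eI_ne_rev' m hmn (by omega) (by omega)
  have h02' : eI n 0 ≠ Fin.rev (eI n 2) := eI_ne_rev' m hmn (by omega) (by omega)
  have h12' : eI n 1 ≠ Fin.rev (eI n 2) := eI_ne_rev' m hmn (by omega) (by omega)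
  have h21' : eI n 2 ≠ Fin.rev (eI n 1) := eI_ne_rev' m hmn (by omega) (by omega)
  obtain ⟨d, hd⟩ : ∃ d : Fin n → K, d = pT σ (eI n 1) lam * pT σ (eI n 2) lam⁻¹ := ⟨_, rfl⟩
  have hd0 : d (eI n 0) = 1 := by
    rw [hd, Pi.mul_apply, pT_of_ne _ _ _ h01 h01', pT_of_ne _ _ _ h02 h02', mul_one]
  have hd1 : d (eI n 1) = lam := by
    rw [hd, Pi.mul_apply, pT_self _ he1, pT_of_ne _ _ _ h12 h12', mul_one]
  have hdf : d (Fin.rev (eI n 1)) = (σ lam)⁻¹ := by
    rw [hd, Pi.mul_apply, pT_rev _ he1, pT_of_ne _ _ _ (Ne.symm h21')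
      (fun h => h12 (Fin.rev_injective h)), mul_one]
  have hunit : ∀ k, σ (d (Fin.rev k)) * d k = 1 := by
    intro k; rw [hd]; exact pair_unit hF _ _ he1 he2 lam hlam0 k
  refine gen_of_diag hK hσ hF (by omega) (by omega) m (by omega) hmn (by omega) d
    (by rw [hd]; exact pair_prod _ _ lam hlam0) hunit (pow_card_of_unit d hunit)
    (Pi.single (eI n 1) 1) 0 (single_ne h01 1) (single_valid (eI n 1) 1 he1) ?_ ?_ ?_ ?_ ?_ ?_
  · rw [Pi.single_eq_same]; exact one_ne_zero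
  · exact single_ne (Ne.symm he1) 1
  · rw [hd0, map_one, mul_one]
  · intro z hz
    rw [hd0, hd1, div_one]
    exact hgen z hz
  · intro ρ hρ0 hρ
    rw [hdf]
    exact norm_pow_cover hF lam hgen ρ hρ0 hρ
  · intro k hk
    exact absurd hk (fun h => no_mid_even m hn k h)

/-- degree four over the field with four elements -/
theorem gen_four_two [Fintype K] (hK : Fintype.card K = 2 ^ 2) (hσ : ∀ x, σ x = x ^ 2)
    (hF : FF σ) :
    ∃ a b : ↥(UG 4 σ), Subgroup.closure ({a, b} : Set ↥(UG 4 σ)) = ⊤ := by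
  obtain ⟨lam, hlam0, hgen⟩ := exists_gen (K := K)
  have hlam3 : lam ^ 3 = 1 := by
    have := FiniteField.pow_card_sub_one_eq_one lam hlam0
    rwa [hK] at this
  have hσlam : σ lam ≠ 0 := fun h => hlam0 ((map_eq_zero σ).mp h)
  have hmn : 2 * 2 ≤ 4 := by norm_num
  have he0 : eI 4 0 ≠ Fin.rev (eI 4 0) := eI_ne_rev 2 hmn (by omega)
  have he1 : eI 4 1 ≠ Fin.rev (eI 4 1) := eI_ne_rev 2 hmn (by omega)
  have h01 : eI 4 0 ≠ eI 4 1 := eI_ne 2 hmn (by omega) (by omega) (by norm_num)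
  have h01' : eI 4 0 ≠ Fin.rev (eI 4 1) := eI_ne_rev' 2 hmn (by omega) (by omega)
  have h10' : eI 4 1 ≠ Fin.rev (eI 4 0) := eI_ne_rev' 2 hmn (by omega) (by omega)
  obtain ⟨d, hd⟩ : ∃ d : Fin 4 → K, d = pT σ (eI 4 0) lam * pT σ (eI 4 1) lam⁻¹ := ⟨_, rfl⟩
  have hd0 : d (eI 4 0) = lam := by
    rw [hd, Pi.mul_apply, pT_self _ he0, pT_of_ne _ _ _ h01 h01', mul_one]
  have hd1 : d (eI 4 1) = lam⁻¹ := by
    rw [hd, Pi.mul_apply, pT_self _ he1, pT_of_ne _ _ _ (Ne.symm h01) h10', one_mul]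
  have hunit : ∀ k, σ (d (Fin.rev k)) * d k = 1 := by
    intro k; rw [hd]; exact pair_unit hF _ _ he0 he1 lam hlam0 k
  refine gen_of_diag hK hσ hF (by omega) (by omega) 2 le_rfl hmn (by omega) d
    (by rw [hd]; exact pair_prod _ _ lam hlam0) hunit (pow_card_of_unit d hunit)
    (Pi.single (eI 4 1) 1) 0 (single_ne h01 1) (single_valid (eI 4 1) 1 he1) ?_ ?_ ?_ ?_ ?_ ?_
  · rw [Pi.single_eq_same]; exact one_ne_zero
  · exact single_ne (Ne.symm he1) 1
  · rw [hd0, hσ]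
    linear_combination hlam3
  · intro z hz
    rw [hd0, hd1]
    obtain ⟨j, hj⟩ := hgen z hz
    refine ⟨j, ?_⟩
    have : lam⁻¹ / lam = lam := by
      field_simp
      linear_combination -hlam3
    rw [this, hj]
  · intro ρ hρ0 hρ
    refine ⟨0, ?_⟩
    rw [pow_zero]
    rw [hσ] at hρ
    have : ρ * (ρ - 1) = 0 := by linear_combination hρ
    rcases mul_eq_zero.mp this with h | h
    · exact absurd h hρ0
    · exact (sub_eq_zero.mp h).symm
  · intro k hk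
    exact absurd hk (fun h => no_mid_even (n := 4) 2 rfl k h)

/-- odd degree at least five -/
theorem gen_odd [Fintype K] {q : ℕ} (hK : Fintype.card K = q ^ 2) (hσ : ∀ x, σ x = x ^ q)
    (hF : FF σ) (m : ℕ) (hm : 2 ≤ m) :
    ∃ a b : ↥(UG (2 * m + 1) σ),
      Subgroup.closure ({a, b} : Set ↥(UG (2 * m + 1) σ)) = ⊤ := by
  obtain ⟨n, hn⟩ : ∃ n, n = 2 * m + 1 := ⟨_, rfl⟩
  rw [← hn]
  haveI : NeZero n := ⟨by omega⟩
  have hmn : 2 * m ≤ n := by omega
  obtain ⟨lam, hlam0, hgen⟩ := exists_gen (K := K)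
  have hσlam : σ lam ≠ 0 := fun h => hlam0 ((map_eq_zero σ).mp h)
  have hlam1 := gen_ne_one hF lam hgen
  have hlamσ := gen_not_fixed hF lam hgen
  have he1 : eI n 1 ≠ Fin.rev (eI n 1) := eI_ne_rev m hmn (by omega)
  have h01 : eI n 0 ≠ eI n 1 := eI_ne m hmn (by omega) (by omega) (by norm_num)
  have h01' : eI n 0 ≠ Fin.rev (eI n 1) := eI_ne_rev' m hmn (by omega) (by omega)
  have hmidrev : eI n m = Fin.rev (eI n m) := by
    apply Fin.ext
    rw [Fin.val_rev, eI_val (by omega)]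
    omega
  have hmid_ne : ∀ j, j < m → eI n m ≠ eI n j ∧ eI n m ≠ Fin.rev (eI n j) := by
    intro j hj
    constructor
    · intro h
      have := congrArg Fin.val h
      rw [eI_val (by omega), eI_val (by omega)] at this
      omega
    · intro h
      have := congrArg Fin.val h
      rw [Fin.val_rev, eI_val (by omega), eI_val (by omega)] at this
      omega
  have hm0 := hmid_ne 0 (by omega)
  have hm1 := hmid_ne 1 (by omega)
  obtain ⟨ζ, hζ⟩ : ∃ ζ : K, ζ = σ lam / lam := ⟨_, rfl⟩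
  have hσζ : σ ζ * ζ = 1 := by
    rw [hζ, map_div₀, hF.inv]
    field_simp
  obtain ⟨d, hd⟩ : ∃ d : Fin n → K, d = pT σ (eI n 1) lam * Pi.mulSingle (eI n m) ζ := ⟨_, rfl⟩
  have hd0 : d (eI n 0) = 1 := by
    rw [hd, Pi.mul_apply, pT_of_ne _ _ _ h01 h01', Pi.mulSingle_eq_of_ne (Ne.symm hm0.1),
      mul_one]
  have hd1 : d (eI n 1) = lam := by
    rw [hd, Pi.mul_apply, pT_self _ he1, Pi.mulSingle_eq_of_ne (Ne.symm hm1.1), mul_one]
  have hdf : d (Fin.rev (eI n 1)) = (σ lam)⁻¹ := by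
    rw [hd, Pi.mul_apply, pT_rev _ he1, Pi.mulSingle_eq_of_ne (Ne.symm hm1.2), mul_one]
  have hdf0 : d (Fin.rev (eI n 0)) = 1 := by
    rw [hd, Pi.mul_apply, pT_of_ne _ _ _ (fun h => h01' (by rw [← h, Fin.rev_rev]))
      (fun h => h01 (Fin.rev_injective h)), Pi.mulSingle_eq_of_ne (Ne.symm hm0.2), mul_one]
  have hdm : d (eI n m) = ζ := by
    rw [hd, Pi.mul_apply, pT_of_ne _ _ _ hm1.1 hm1.2, Pi.mulSingle_eq_same, one_mul]
  have hunit : ∀ k, σ (d (Fin.rev k)) * d k = 1 := by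
    intro k
    rw [hd, Pi.mul_apply, Pi.mul_apply, map_mul]
    have h1 := pT_unit hF (eI n 1) he1 lam hlam0 k
    have h2 : σ ((Pi.mulSingle (eI n m) ζ : Fin n → K) (Fin.rev k)) *
        (Pi.mulSingle (eI n m) ζ : Fin n → K) k = 1 := by
      by_cases hk : k = eI n m
      · rw [hk, ← hmidrev, Pi.mulSingle_eq_same]
        exact hσζ
      · have hk' : Fin.rev k ≠ eI n m := by
          intro h
          apply hk
          rw [← Fin.rev_rev k, h, ← hmidrev]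
        rw [Pi.mulSingle_eq_of_ne hk, Pi.mulSingle_eq_of_ne hk', map_one, mul_one]
    calc σ (pT σ (eI n 1) lam (Fin.rev k)) *
          σ ((Pi.mulSingle (eI n m) ζ : Fin n → K) (Fin.rev k)) *
          (pT σ (eI n 1) lam k * (Pi.mulSingle (eI n m) ζ : Fin n → K) k)
        = (σ (pT σ (eI n 1) lam (Fin.rev k)) * pT σ (eI n 1) lam k) *
          (σ ((Pi.mulSingle (eI n m) ζ : Fin n → K) (Fin.rev k)) *
            (Pi.mulSingle (eI n m) ζ : Fin n → K) k) := by ring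
      _ = 1 := by rw [h1, h2, mul_one]
  have hprod : ∏ k, d k = 1 := by
    rw [hd]
    simp only [Pi.mul_apply]
    rw [Finset.prod_mul_distrib, pT_prod, Finset.prod_pi_mulSingle', if_pos (Finset.mem_univ _),
      hζ]
    field_simp
  obtain ⟨vy, hvy⟩ : ∃ vy : Fin n → K,
      vy = Pi.single (eI n 1) 1 + Pi.single (eI n m) 1 := ⟨_, rfl⟩
  have hvyval : vy ⬝ᵥ wv σ vy = 1 := by
    rw [hvy, wv_add, wv_single, wv_single, map_one, add_dotProduct, single_dotProduct,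
      single_dotProduct, Pi.add_apply, Pi.add_apply, ← hmidrev, Pi.single_eq_same,
      single_ne he1 1, single_ne (Ne.symm hm1.1) 1, single_ne hm1.2 1]
    ring
  obtain ⟨t, ht⟩ := hF.tr (-1) (by rw [map_neg, map_one])
  have hvy0 : vy (eI n 0) = 0 := by
    rw [hvy, Pi.add_apply, single_ne h01 1, single_ne (Ne.symm hm0.1) 1, add_zero]
  have hvy1 : vy (eI n 1) = 1 := by
    rw [hvy, Pi.add_apply, Pi.single_eq_same, single_ne (Ne.symm hm1.1) 1, add_zero]
  have hvym : vy (eI n m) = 1 := by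
    rw [hvy, Pi.add_apply, Pi.single_eq_same, single_ne hm1.1 1, zero_add]
  refine gen_of_diag hK hσ hF (by omega) (by omega) m hm hmn (by omega) d hprod hunit
    (pow_card_of_unit d hunit) vy t hvy0 (by rw [hvyval, ht]; ring) ?_ ?_ ?_ ?_ ?_ ?_
  · rw [hvy1]; exact one_ne_zero
  · rw [hvy, Pi.add_apply, single_ne (Ne.symm he1) 1, single_ne (Ne.symm hm1.2) 1, add_zero]
  · rw [hd0, map_one, mul_one]
  · intro z hz
    rw [hd0, hd1, div_one]
    exact hgen z hz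
  · intro ρ hρ0 hρ
    rw [hdf]
    exact norm_pow_cover hF lam hgen ρ hρ0 hρ
  · intro k hk
    have hkm : k = eI n m := mid_unique hk hmidrev
    rw [hkm, ← hmidrev, hdm, hdf0, hdf, hvym, map_one, mul_one]
    refine ⟨?_, ?_⟩
    · rw [hζ]
      intro h
      apply hlamσ
      field_simp at h
      linear_combination h
    · intro h
      apply hlam1
      have h2 : (σ lam)⁻¹ = 1 := by linear_combination h
      have h3 : σ lam = 1 := by rw [← inv_inv (σ lam), h2, inv_one]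
      have h4 := congrArg σ h3
      rwa [hF.inv, map_one] at h4

end Cfsg.Agent.Lib.helper47.UGen
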