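import Mathlib
import Cfsg.Agent.Lib.helper47.UGenG
import Cfsg.Agent.Lib.helper45.SLDiag

/-!
Two-generation of the antidiagonal-form special unitary group in small degree: common tools
(membership of matrices, conjugation by diagonal elements, a Weyl element, filling a root group).
-/

set_option autoImplicit false

namespace Cfsg.Agent.Lib.helper47.UGen

open Matrix Cfsg Cfsg.Agent.Lib.helper47.PSLn Cfsg.Agent.Lib.helper47.UFus

variable {n : ℕ} {K : Type*} [Field K] {σ : K →+* K}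

/-- some element of `H` has the given matrix -/
def Mem (H : Subgroup ↥(UG n σ)) (M : Matrix (Fin n) (Fin n) K) : Prop := ∃ A ∈ H, mt A = M

theorem Mem.of {H : Subgroup ↥(UG n σ)} {A : ↥(UG n σ)} (h : A ∈ H) : Mem H (mt A) :=
  ⟨A, h, rfl⟩

theorem Mem.elim {H : Subgroup ↥(UG n σ)} {M : Matrix (Fin n) (Fin n) K} (h : Mem H M)
    (A : ↥(UG n σ)) (hA : mt A = M) : A ∈ H := by
  obtain ⟨A', hA', e⟩ := h
  have : A = A' := mt_inj (by rw [hA, e])
  rw [this]
  exact hA'

theorem Mem.mul {H : Subgroup ↥(UG n σ)} {M N : Matrix (Fin n) (Fin n) K} (h : Mem H M)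
    (h' : Mem H N) : Mem H (M * N) := by
  obtain ⟨A, hA, rfl⟩ := h
  obtain ⟨B, hB, rfl⟩ := h'
  exact ⟨A * B, H.mul_mem hA hB, mt_mul A B⟩

theorem Mem.one (H : Subgroup ↥(UG n σ)) : Mem H (1 : Matrix (Fin n) (Fin n) K) :=
  ⟨1, H.one_mem, mt_one⟩

theorem qM_single_zero (a j : Fin n) : qM σ a (Pi.single j (0 : K)) 0 = 1 := by
  rw [Pi.single_zero, qM_zero, uM]
  simp

theorem Mem.qinv (hF : FF σ) {H : Subgroup ↥(UG n σ)} {a : Fin n} {v : Fin n → K} {t : K}
    (ha : a ≠ Fin.rev a) (hva : v a = 0) (h : Mem H (qM σ a v t)) :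
    Mem H (qM σ a (-v) (σ t)) := by
  obtain ⟨A, hA, e⟩ := h
  have hval := valid_of_mem hF A a v t ha hva e
  have : A = qU hF a v t ha hva hval := mt_inj (by rw [e, mt_qU])
  refine ⟨A⁻¹, H.inv_mem hA, ?_⟩
  rw [this, qU_inv_mt]

theorem Mem.valid (hF : FF σ) {H : Subgroup ↥(UG n σ)} {a : Fin n} {v : Fin n → K} {t : K}
    (ha : a ≠ Fin.rev a) (hva : v a = 0) (h : Mem H (qM σ a v t)) :
    t + σ t + v ⬝ᵥ wv σ v = 0 := by
  obtain ⟨A, _, e⟩ := h
  exact valid_of_mem hF A a v t ha hva e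

/-- two elements with the same vector part differ by a central element -/
theorem Mem.diff (hF : FF σ) {H : Subgroup ↥(UG n σ)} {a : Fin n} {v : Fin n → K} {t t' : K}
    (ha : a ≠ Fin.rev a) (hva : v a = 0) (h : Mem H (qM σ a v t)) (h' : Mem H (qM σ a v t')) :
    Mem H (qM σ a 0 (t - t')) := by
  have hval := h'.valid hF ha hva
  have h1 := h.mul (h'.qinv hF ha hva)
  rw [qM_mul a ha v (-v) hva (by rw [Pi.neg_apply, hva, neg_zero]), add_neg_cancel, wv_neg,
    dotProduct_neg, sub_neg_eq_add] at h1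
  have e : t + σ t' + v ⬝ᵥ wv σ v = t - t' := by linear_combination hval
  rwa [e] at h1

theorem mat_ext_ev {M N : Matrix (Fin n) (Fin n) K}
    (h : ∀ k, M *ᵥ (ev k : Fin n → K) = N *ᵥ ev k) : M = N := by
  ext i j
  have := congrFun (h j) i
  unfold ev at this
  simpa using this

/-- conjugating a root element by a diagonal element -/
theorem diag_conj_qM (d : Fin n → K) (hd : ∀ k, σ (d (Fin.rev k)) * d k = 1) (a j : Fin n)
    (c c' t t' : K) (hc : c' * d j = d a * c) (ht : t' = d a * σ (d a) * t) :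
    Matrix.diagonal d * qM σ a (Pi.single j c) t =
      qM σ a (Pi.single j c') t' * Matrix.diagonal d := by
  have h1 : σ (d a) * d (Fin.rev a) = 1 := by
    have := hd (Fin.rev a)
    rwa [Fin.rev_rev] at this
  have h2 : σ (d j) * d (Fin.rev j) = 1 := by
    have := hd (Fin.rev j)
    rwa [Fin.rev_rev] at this
  have hc' : σ c' * σ (d j) = σ (d a) * σ c := by rw [← map_mul, hc, map_mul]
  apply mat_ext_mulVec
  intro z
  rw [← mulVec_mulVec, ← mulVec_mulVec, qM_mulVec, qM_mulVec, wv_single, wv_single,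
    single_dotProduct, single_dotProduct, single_eq_smul_ev (Fin.rev j),
    single_eq_smul_ev (Fin.rev j), mulVec_sub, mulVec_add, mulVec_smul, mulVec_smul, mulVec_smul,
    diag_mulVec_ev, diag_mulVec_ev, Matrix.mulVec_diagonal, Matrix.mulVec_diagonal]
  have e1 : (c * z j + t * z (Fin.rev a)) * d a =
      c' * (d j * z j) + t' * (d (Fin.rev a) * z (Fin.rev a)) := by
    linear_combination (-z j) * hc - z (Fin.rev a) * d (Fin.rev a) * ht -
      t * z (Fin.rev a) * d a * h1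
  have e2 : z (Fin.rev a) * (σ c * d (Fin.rev j)) = d (Fin.rev a) * z (Fin.rev a) * σ c' := by
    linear_combination z (Fin.rev a) * (d (Fin.rev a) * σ c' * h2 -
      d (Fin.rev j) * d (Fin.rev a) * hc' - σ c * d (Fin.rev j) * h1)
  simp only [smul_smul]
  rw [e1, e2]

theorem Mem.conj_diag {H : Subgroup ↥(UG n σ)} (τ : ↥(UG n σ)) (hτH : τ ∈ H) (d : Fin n → K)
    (hτ : mt τ = Matrix.diagonal d) (hd : ∀ k, σ (d (Fin.rev k)) * d k = 1) (a j : Fin n)
    (c c' t t' : K) (hc : c' * d j = d a * c) (ht : t' = d a * σ (d a) * t)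
    (h : Mem H (qM σ a (Pi.single j c) t)) : Mem H (qM σ a (Pi.single j c') t') := by
  obtain ⟨A, hA, e⟩ := h
  refine ⟨τ * A * τ⁻¹, H.mul_mem (H.mul_mem hτH hA) (H.inv_mem hτH), ?_⟩
  rw [mt_mul, mt_mul, e, hτ, diag_conj_qM d hd a j c c' t t' hc ht, ← hτ, Matrix.mul_assoc,
    mt_mul_inv, Matrix.mul_one]

theorem diag_ne_zero (d : Fin n → K) (hd : ∀ k, σ (d (Fin.rev k)) * d k = 1) (k : Fin n) :
    d k ≠ 0 := by
  intro h
  have := hd k
  rw [h, mul_zero] at this
  exact zero_ne_one this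

theorem Mem.conj_diag_pow {H : Subgroup ↥(UG n σ)} (τ : ↥(UG n σ)) (hτH : τ ∈ H)
    (d : Fin n → K) (hτ : mt τ = Matrix.diagonal d) (hd : ∀ k, σ (d (Fin.rev k)) * d k = 1)
    (a j : Fin n) (c t : K) (h : Mem H (qM σ a (Pi.single j c) t)) (N : ℕ) :
    Mem H (qM σ a (Pi.single j ((d a / d j) ^ N * c)) ((d a * σ (d a)) ^ N * t)) := by
  induction N with
  | zero => rwa [pow_zero, pow_zero, one_mul, one_mul]
  | succ N ih =>
    refine Mem.conj_diag τ hτH d hτ hd a j _ _ _ _ ?_ ?_ ih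
    · have := diag_ne_zero d hd j
      rw [pow_succ]
      field_simp
    · rw [pow_succ]
      ring

/-- the diagonal element, its reverse, and a Weyl element swapping them -/
theorem weyl_setup {q : ℕ} (hσ : ∀ x, σ x = x ^ q) (hF : FF σ) (a : Fin n)
    (ha : a ≠ Fin.rev a) (d : Fin n → K) (hprod : ∏ k, d k = 1)
    (hunit : ∀ k, σ (d (Fin.rev k)) * d k = 1) :
    ∃ (τ τ' w : ↥(UG n σ)) (cw : Fin n → K), mt τ = Matrix.diagonal d ∧
      mt τ' = Matrix.diagonal (fun k => d (Fin.rev k)) ∧ τ' = (τ ^ q)⁻¹ ∧ w * τ * w⁻¹ = τ' ∧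
      (∀ k, cw k ≠ 0) ∧ ∀ k, mt w *ᵥ (ev k : Fin n → K) = cw k • ev (Fin.rev k) := by
  obtain ⟨τ, hτ⟩ := exists_diag (σ := σ) d hprod hunit
  have hunit' : ∀ k, σ ((fun k => d (Fin.rev k)) (Fin.rev k)) * (fun k => d (Fin.rev k)) k = 1 :=
    fun k => hunit (Fin.rev k)
  have hprod' : ∏ k, (fun k => d (Fin.rev k)) k = 1 := by
    rw [← hprod]
    exact Equiv.prod_comp Fin.revPerm d
  obtain ⟨τ', hτ'⟩ := exists_diag (σ := σ) (fun k => d (Fin.rev k)) hprod' hunit'
  obtain ⟨w, cw, hcw0, hw⟩ := exists_cox hF (Fin.revPerm : Equiv.Perm (Fin n))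
    (fun k => by simp) a ha
  have hw' : ∀ k, mt w *ᵥ (ev k : Fin n → K) = cw k • ev (Fin.rev k) := hw
  refine ⟨τ, τ', w, cw, hτ, hτ', ?_, ?_, hcw0, hw'⟩
  · apply eq_inv_of_mul_eq_one_left
    apply mt_inj
    rw [mt_mul, hτ', mt_pow, hτ, Matrix.diagonal_pow, Matrix.diagonal_mul_diagonal, mt_one,
      ← Matrix.diagonal_one]
    congr 1
    funext k
    have := hunit (Fin.rev k)
    rw [Fin.rev_rev, hσ] at this
    show d (Fin.rev k) * d k ^ q = 1
    linear_combination this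
  · apply mul_inv_eq_of_eq_mul
    apply mt_inj
    rw [mt_mul, mt_mul, hτ, hτ']
    apply mat_ext_ev
    intro k
    rw [← mulVec_mulVec, ← mulVec_mulVec, diag_mulVec_ev, mulVec_smul, hw', mulVec_smul,
      diag_mulVec_ev, Fin.rev_rev, smul_comm]

/-- the first commutator step -/
theorem comm_step (hF : FF σ) {H : Subgroup ↥(UG n σ)} (a j : Fin n) (ha : a ≠ Fin.rev a)
    (hja : j ≠ a) (t₀ : K)
    (hval : t₀ + σ t₀ + (Pi.single j 1 : Fin n → K) ⬝ᵥ wv σ (Pi.single j 1) = 0)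
    (τ τ' w : ↥(UG n σ)) (hwτ : w * τ * w⁻¹ = τ') (hτH : τ ∈ H) (hτ'H : τ' ∈ H)
    (d' : Fin n → K) (hτ' : mt τ' = Matrix.diagonal d')
    (hunit' : ∀ k, σ (d' (Fin.rev k)) * d' k = 1)
    (hb : qU hF a (Pi.single j 1) t₀ ha (single_ne (Ne.symm hja) 1) hval * w ∈ H) (c' : K)
    (hc : c' * d' j = -d' a) :
    Mem H (qM σ a (Pi.single j (1 + c'))
      (t₀ + d' a * σ (d' a) * σ t₀ - (Pi.single j 1 : Fin n → K) ⬝ᵥ wv σ (Pi.single j c'))) := by
  obtain ⟨y, hy⟩ : ∃ y, y = qU hF a (Pi.single j 1) t₀ ha (single_ne (Ne.symm hja) 1) hval :=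
    ⟨_, rfl⟩
  rw [← hy] at hb
  have h2 : y * τ' * y⁻¹ ∈ H := by
    have e : y * τ' * y⁻¹ = (y * w) * τ * (y * w)⁻¹ := by
      rw [← hwτ]
      group
    rw [e]
    exact H.mul_mem (H.mul_mem hb hτH) (H.inv_mem hb)
  have h3 : y * τ' * y⁻¹ * τ'⁻¹ ∈ H := H.mul_mem h2 (H.inv_mem hτ'H)
  have e1 : mt τ' * mt y⁻¹ =
      qM σ a (Pi.single j c') (d' a * σ (d' a) * σ t₀) * mt τ' := by
    rw [hy, qU_inv_mt, hτ', ← Pi.single_neg]
    exact diag_conj_qM d' hunit' a j (-1) c' (σ t₀) _ (by rw [hc]; ring) rfl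
  refine ⟨y * τ' * y⁻¹ * τ'⁻¹, h3, ?_⟩
  rw [mt_mul, mt_mul, mt_mul, Matrix.mul_assoc (mt y), e1, Matrix.mul_assoc (mt y),
    Matrix.mul_assoc, mt_mul_inv, Matrix.mul_one, hy, mt_qU,
    qM_mul a ha _ _ (single_ne (Ne.symm hja) 1) (single_ne (Ne.symm hja) c'), ← Pi.single_add]

/-- filling a root group from one nontrivial element and a scaling -/
theorem field_fill [Fintype K] (P : K → Prop) (hadd : ∀ c c', P c → P c' → P (c + c'))
    (hneg : ∀ c, P c → P (-c)) (h0 : P 0) (θ : K) (hθ : ∀ c, P c → P (θ * c))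
    (hB : ∀ B : Subfield K, θ ∈ B → B = ⊤) (c₀ : K) (hc₀ : c₀ ≠ 0) (hP : P c₀) (c : K) :
    P c := by
  classical
  let R : Subring K :=
    { carrier := {b | ∀ a : K, P a → P (b * a)}
      mul_mem' := by
        intro b1 b2 hb1 hb2 a ha
        rw [mul_assoc]
        exact hb1 _ (hb2 _ ha)
      one_mem' := by
        intro a ha
        rwa [one_mul]
      add_mem' := by
        intro b1 b2 hb1 hb2 a ha
        rw [add_mul]
        exact hadd _ _ (hb1 _ ha) (hb2 _ ha)
      zero_mem' := by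
        intro a _
        rw [zero_mul]
        exact h0
      neg_mem' := by
        intro b hb a ha
        rw [neg_mul]
        exact hneg _ (hb _ ha) }
  let B : Subfield K :=
    { R with
      inv_mem' := by
        intro b hb
        by_cases hb0 : b = 0
        · rw [hb0, _root_.inv_zero]
          exact R.zero_mem
        · have h1 := FiniteField.pow_card_sub_one_eq_one b hb0
          have hcard : 2 ≤ Fintype.card K := Fintype.one_lt_card
          have h2 : b⁻¹ = b ^ (Fintype.card K - 2) := by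
            apply inv_eq_of_mul_eq_one_right
            rw [← pow_succ']
            have : Fintype.card K - 2 + 1 = Fintype.card K - 1 := by omega
            rw [this]
            exact h1
          rw [h2]
          exact R.pow_mem hb _ }
  have hθB : θ ∈ B := fun a ha => hθ a ha
  have hB' := hB B hθB
  have hc : c / c₀ ∈ B := by
    rw [hB']
    exact Subfield.mem_top _
  have := hc c₀ hP
  rwa [div_mul_cancel₀ _ hc₀] at this

/-- a generator of the multiplicative group -/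
theorem exists_gen_unit [Fintype K] {q : ℕ} (hK : Fintype.card K = q ^ 2) :
    ∃ g : Kˣ, (∀ u : Kˣ, u ∈ Subgroup.zpowers g) ∧
      (∀ z : K, z ≠ 0 → ∃ j : ℕ, (g : K) ^ j = z) ∧
      (∀ j : ℕ, 0 < j → j < q ^ 2 - 1 → (g : K) ^ j ≠ 1) := by
  classical
  obtain ⟨g, hg⟩ := IsCyclic.exists_generator (α := Kˣ)
  refine ⟨g, hg, fun z hz => ?_, fun j hj0 hj h => ?_⟩
  · have h1 := hg (Units.mk0 z hz)
    rw [← mem_powers_iff_mem_zpowers] at h1
    obtain ⟨j, hj⟩ := h1
    refine ⟨j, ?_⟩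
    have := congrArg Units.val hj
    simpa using this
  · have hord : orderOf g = q ^ 2 - 1 := by
      rw [orderOf_eq_card_of_forall_mem_zpowers hg, Nat.card_eq_fintype_card, Fintype.card_units,
        hK]
    have h1 : g ^ j = 1 := by
      apply Units.ext
      rw [Units.val_pow_eq_pow_val, Units.val_one]
      exact h
    have h2 := orderOf_dvd_of_pow_eq_one h1
    rw [hord] at h2
    have := Nat.le_of_dvd hj0 h2
    omega

theorem norm_pow_cover' (hF : FF σ) (lam : K) (hgen : ∀ z : K, z ≠ 0 → ∃ j : ℕ, lam ^ j = z)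
    (ρ : K) (hρ0 : ρ ≠ 0) (hρ : σ ρ = ρ) : ∃ j : ℕ, (lam * σ lam) ^ j = ρ := by
  obtain ⟨c, hc⟩ := hF.nm ρ hρ
  have hc0 : c ≠ 0 := by
    rintro rfl
    rw [zero_mul] at hc
    exact hρ0 hc.symm
  obtain ⟨j, hj⟩ := hgen c hc0
  refine ⟨j, ?_⟩
  rw [mul_pow, ← map_pow, hj, hc]

/-- a subfield containing the cube of a generator is everything -/
theorem subfield_eq_top_of_gen_cube_mem [Fintype K] {q : ℕ} (hK : Fintype.card K = q ^ 2)
    (hq : 3 ≤ q) (k : Kˣ) (hk : ∀ u : Kˣ, u ∈ Subgroup.zpowers k) (B : Subfield K)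
    (hB : (k : K) ^ 3 ∈ B) : B = ⊤ := by
  classical
  have : Fintype ↥B := Fintype.ofFinite _
  have hord : orderOf k = Fintype.card K - 1 := by
    rw [orderOf_eq_card_of_forall_mem_zpowers hk, Nat.card_eq_fintype_card, Fintype.card_units]
  have hcard : Fintype.card K = Fintype.card ↥B ^ Module.finrank ↥B K :=
    Module.card_eq_pow_finrank
  have hb2 : 2 ≤ Fintype.card ↥B := Fintype.one_lt_card
  have hpow : k ^ (3 * (Fintype.card ↥B - 1)) = 1 := by
    have hne : (⟨(k : K) ^ 3, hB⟩ : ↥B) ≠ 0 := by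
      intro h
      have := congrArg (fun z : ↥B => (z : K)) h
      simp at this
    have h1 := FiniteField.pow_card_sub_one_eq_one (⟨(k : K) ^ 3, hB⟩ : ↥B) hne
    have h2 := congrArg (fun z : ↥B => (z : K)) h1
    simp only [SubmonoidClass.coe_pow, Subfield.coe_one] at h2
    apply Units.ext
    rw [Units.val_pow_eq_pow_val, Units.val_one, pow_mul]
    exact h2
  have hdvd : Fintype.card K - 1 ∣ 3 * (Fintype.card ↥B - 1) := by
    rw [← hord]
    exact orderOf_dvd_of_pow_eq_one hpow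
  have hle : Fintype.card K - 1 ≤ 3 * (Fintype.card ↥B - 1) := Nat.le_of_dvd (by omega) hdvd
  have hdeg : Module.finrank ↥B K = 1 := by
    by_contra hne
    rcases Nat.lt_or_ge (Module.finrank ↥B K) 1 with h0 | h2
    · have : Module.finrank ↥B K = 0 := by omega
      rw [this, pow_zero] at hcard
      have hq2 : 9 ≤ q ^ 2 := by nlinarith
      omega
    · have h2' : 2 ≤ Module.finrank ↥B K := by omega
      have h3 : Fintype.card ↥B ^ 2 ≤ Fintype.card K := by
        rw [hcard]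
        exact Nat.pow_le_pow_right (by omega) h2'
      rw [hK] at h3 hle
      have h4 : Fintype.card ↥B ≤ q := by
        by_contra hlt
        push Not at hlt
        nlinarith
      have hq2 : 3 * q ≤ q ^ 2 := by nlinarith
      omega
  rw [hdeg, pow_one] at hcard
  rw [eq_top_iff]
  intro t _
  have hinj : Function.Injective (fun z : ↥B => (z : K)) := Subtype.val_injective
  have hbij : Function.Bijective (fun z : ↥B => (z : K)) :=
    (Fintype.bijective_iff_injective_and_card _).mpr ⟨hinj, hcard.symm⟩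
  obtain ⟨z, hz⟩ := hbij.2 t
  rw [← hz]
  exact z.2

end Cfsg.Agent.Lib.helper47.UGen
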