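import Mathlib
import Cfsg.Agent.Lib.helper47.PSLnFusC

/-!
The symplectic group `Sp_{2m}(F)` (Mathlib's `Matrix.symplecticGroup (Fin m) F`, blocks indexed by
`Fin m ⊕ Fin m`): the Siegel parabolic `PS` (lower-left block zero), its radical `RS`
(`[[1,S],[0,1]]`, `S` symmetric), the Levi embedding `lv : GL_m → Sp_{2m}`, and the unipotent
subgroup `U` (upper-left block unitriangular).
-/

set_option autoImplicit false

namespace Cfsg.Agent.Lib.helper47.SpFus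

open Matrix Cfsg.Agent.Lib.helper47.PSLn Cfsg.Agent.Lib.helper47.PSLnFus

variable {m : ℕ} {F : Type*} [Field F]

/-- The symplectic group. -/
abbrev SpG (m : ℕ) (F : Type*) [Field F] := Matrix.symplecticGroup (Fin m) F

theorem sp_blocks (g : SpG m F) : g.1 = fromBlocks g.1.toBlocks₁₁ g.1.toBlocks₁₂ g.1.toBlocks₂₁
    g.1.toBlocks₂₂ := (fromBlocks_toBlocks _).symm

theorem sp_coe_mul (g h : SpG m F) : (g * h).1 = g.1 * h.1 := rfl

theorem sp_coe_one : (1 : SpG m F).1 = 1 := rfl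

theorem sp_mul_inv (g : SpG m F) : g.1 * g⁻¹.1 = 1 := by
  rw [← sp_coe_mul, mul_inv_cancel]; rfl

theorem sp_inv_mul (g : SpG m F) : g⁻¹.1 * g.1 = 1 := by
  rw [← sp_coe_mul, inv_mul_cancel]; rfl

theorem inv_blocks (g : SpG m F) : g⁻¹.1 = fromBlocks (g.1.toBlocks₂₂)ᵀ (-(g.1.toBlocks₁₂)ᵀ)
    (-(g.1.toBlocks₂₁)ᵀ) (g.1.toBlocks₁₁)ᵀ := by
  rw [SymplecticGroup.coe_inv]
  conv_lhs => rw [sp_blocks g]
  simp [Matrix.J, fromBlocks_transpose, fromBlocks_multiply, fromBlocks_neg]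

theorem b11_mul (M N : Matrix (Fin m ⊕ Fin m) (Fin m ⊕ Fin m) F) :
    (M * N).toBlocks₁₁ = M.toBlocks₁₁ * N.toBlocks₁₁ + M.toBlocks₁₂ * N.toBlocks₂₁ := by
  conv_lhs => rw [← fromBlocks_toBlocks M, ← fromBlocks_toBlocks N, fromBlocks_multiply,
    toBlocks_fromBlocks₁₁]

theorem b12_mul (M N : Matrix (Fin m ⊕ Fin m) (Fin m ⊕ Fin m) F) :
    (M * N).toBlocks₁₂ = M.toBlocks₁₁ * N.toBlocks₁₂ + M.toBlocks₁₂ * N.toBlocks₂₂ := by
  conv_lhs => rw [← fromBlocks_toBlocks M, ← fromBlocks_toBlocks N, fromBlocks_multiply,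
    toBlocks_fromBlocks₁₂]

theorem b21_mul (M N : Matrix (Fin m ⊕ Fin m) (Fin m ⊕ Fin m) F) :
    (M * N).toBlocks₂₁ = M.toBlocks₂₁ * N.toBlocks₁₁ + M.toBlocks₂₂ * N.toBlocks₂₁ := by
  conv_lhs => rw [← fromBlocks_toBlocks M, ← fromBlocks_toBlocks N, fromBlocks_multiply,
    toBlocks_fromBlocks₂₁]

theorem b22_mul (M N : Matrix (Fin m ⊕ Fin m) (Fin m ⊕ Fin m) F) :
    (M * N).toBlocks₂₂ = M.toBlocks₂₁ * N.toBlocks₁₂ + M.toBlocks₂₂ * N.toBlocks₂₂ := by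
  conv_lhs => rw [← fromBlocks_toBlocks M, ← fromBlocks_toBlocks N, fromBlocks_multiply,
    toBlocks_fromBlocks₂₂]

/-- The symplectic relations for the blocks. -/
theorem sp_rel (g : SpG m F) :
    (g.1.toBlocks₁₁)ᵀ * g.1.toBlocks₂₁ = (g.1.toBlocks₂₁)ᵀ * g.1.toBlocks₁₁ ∧
    (g.1.toBlocks₁₂)ᵀ * g.1.toBlocks₂₂ = (g.1.toBlocks₂₂)ᵀ * g.1.toBlocks₁₂ ∧
    (g.1.toBlocks₁₁)ᵀ * g.1.toBlocks₂₂ - (g.1.toBlocks₂₁)ᵀ * g.1.toBlocks₁₂ = 1 := by
  have h := g.2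
  rw [sp_blocks g] at h
  exact SymplecticGroup.fromBlocks_mem_iff.mp h

/-- The element `[[1,S],[0,1]]`, `S` symmetric. -/
def rS (S : Matrix (Fin m) (Fin m) F) (hS : Sᵀ = S) : SpG m F :=
  ⟨fromBlocks 1 S 0 1, by
    rw [SymplecticGroup.fromBlocks_mem_iff]
    simp [hS]⟩

theorem rS_coe (S : Matrix (Fin m) (Fin m) F) (hS : Sᵀ = S) :
    (rS S hS).1 = fromBlocks 1 S 0 1 := rfl

theorem rS_mul (S S' : Matrix (Fin m) (Fin m) F) (hS : Sᵀ = S) (hS' : S'ᵀ = S') :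
    rS S hS * rS S' hS' = rS (S + S') (by rw [transpose_add, hS, hS']) := by
  apply Subtype.ext
  rw [sp_coe_mul, rS_coe, rS_coe, rS_coe, fromBlocks_multiply]
  simp [add_comm]

theorem rS_zero : rS (0 : Matrix (Fin m) (Fin m) F) (transpose_zero) = 1 := by
  apply Subtype.ext
  rw [rS_coe, sp_coe_one, fromBlocks_one]

/-- The Levi embedding `P ↦ diag(P, P⁻ᵀ)`. -/
def lv : GL (Fin m) F →* SpG m F where
  toFun g := ⟨fromBlocks (g : Matrix (Fin m) (Fin m) F) 0 0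
      ((g⁻¹ : GL (Fin m) F) : Matrix (Fin m) (Fin m) F)ᵀ, by
    rw [SymplecticGroup.fromBlocks_mem_iff]
    have h1 : ((g⁻¹ : GL (Fin m) F) : Matrix (Fin m) (Fin m) F) * (g : Matrix (Fin m) (Fin m) F) = 1 := by
      rw [← Units.val_mul, inv_mul_cancel, Units.val_one]
    refine ⟨by simp, by simp, ?_⟩
    rw [← transpose_mul, h1]
    simp⟩
  map_one' := by
    apply Subtype.ext
    show fromBlocks ((1 : GL (Fin m) F) : Matrix (Fin m) (Fin m) F) 0 0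
      (((1 : GL (Fin m) F)⁻¹ : GL (Fin m) F) : Matrix (Fin m) (Fin m) F)ᵀ = 1
    rw [inv_one, Units.val_one, transpose_one, fromBlocks_one]
  map_mul' g h := by
    apply Subtype.ext
    show fromBlocks ((g * h : GL (Fin m) F) : Matrix (Fin m) (Fin m) F) 0 0
      (((g * h)⁻¹ : GL (Fin m) F) : Matrix (Fin m) (Fin m) F)ᵀ =
      fromBlocks (g : Matrix (Fin m) (Fin m) F) 0 0
        ((g⁻¹ : GL (Fin m) F) : Matrix (Fin m) (Fin m) F)ᵀ *
      fromBlocks (h : Matrix (Fin m) (Fin m) F) 0 0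
        ((h⁻¹ : GL (Fin m) F) : Matrix (Fin m) (Fin m) F)ᵀ
    rw [fromBlocks_multiply, _root_.mul_inv_rev, Units.val_mul, Units.val_mul, transpose_mul]
    simp only [Matrix.mul_zero, Matrix.zero_mul, add_zero, zero_add]

theorem lv_coe (g : GL (Fin m) F) : (lv g).1 = fromBlocks (g : Matrix (Fin m) (Fin m) F) 0 0
    ((g⁻¹ : GL (Fin m) F) : Matrix (Fin m) (Fin m) F)ᵀ := rfl

theorem gl_mul_inv (g : GL (Fin m) F) :
    (g : Matrix (Fin m) (Fin m) F) * ((g⁻¹ : GL (Fin m) F) : Matrix (Fin m) (Fin m) F) = 1 := by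
  rw [← Units.val_mul, mul_inv_cancel, Units.val_one]

theorem gl_inv_mul (g : GL (Fin m) F) :
    ((g⁻¹ : GL (Fin m) F) : Matrix (Fin m) (Fin m) F) * (g : Matrix (Fin m) (Fin m) F) = 1 := by
  rw [← Units.val_mul, inv_mul_cancel, Units.val_one]

theorem congr_symm (P S : Matrix (Fin m) (Fin m) F) (hS : Sᵀ = S) : (P * S * Pᵀ)ᵀ = P * S * Pᵀ := by
  rw [transpose_mul, transpose_mul, transpose_transpose, hS, Matrix.mul_assoc]

/-- Conjugation of the Siegel radical by the Levi factor. -/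
theorem lv_conj_rS (g : GL (Fin m) F) (S : Matrix (Fin m) (Fin m) F) (hS : Sᵀ = S) :
    lv g * rS S hS * (lv g)⁻¹ = rS ((g : Matrix (Fin m) (Fin m) F) * S * (g : Matrix (Fin m) (Fin m) F)ᵀ)
      (congr_symm _ S hS) := by
  suffices h : lv g * rS S hS = rS ((g : Matrix (Fin m) (Fin m) F) * S *
      (g : Matrix (Fin m) (Fin m) F)ᵀ) (congr_symm _ S hS) * lv g by rw [h]; group
  apply Subtype.ext
  rw [sp_coe_mul, sp_coe_mul, rS_coe, rS_coe, lv_coe, fromBlocks_multiply, fromBlocks_multiply]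
  have h2 : (g : Matrix (Fin m) (Fin m) F)ᵀ * ((g⁻¹ : GL (Fin m) F) : Matrix (Fin m) (Fin m) F)ᵀ = 1 := by
    rw [← transpose_mul, gl_inv_mul, transpose_one]
  simp only [Matrix.mul_zero, Matrix.zero_mul, add_zero, zero_add, Matrix.mul_one, Matrix.one_mul]
  rw [Matrix.mul_assoc, h2, Matrix.mul_one]

/-- The Siegel parabolic: lower-left block zero. -/
def PS (m : ℕ) (F : Type*) [Field F] : Subgroup (SpG m F) where
  carrier := {g | g.1.toBlocks₂₁ = 0}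
  mul_mem' := by
    intro a b ha hb
    show (a * b).1.toBlocks₂₁ = 0
    rw [sp_coe_mul, b21_mul, show a.1.toBlocks₂₁ = 0 from ha, show b.1.toBlocks₂₁ = 0 from hb]
    simp
  one_mem' := by
    show (1 : SpG m F).1.toBlocks₂₁ = 0
    rw [sp_coe_one, ← fromBlocks_one, toBlocks_fromBlocks₂₁]
  inv_mem' := by
    intro a ha
    show a⁻¹.1.toBlocks₂₁ = 0
    rw [inv_blocks, toBlocks_fromBlocks₂₁, show a.1.toBlocks₂₁ = 0 from ha]
    simp

theorem mem_PS (g : SpG m F) : g ∈ PS m F ↔ g.1.toBlocks₂₁ = 0 := Iff.rfl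

theorem PS_b11_mul (g h : SpG m F) (hh : h ∈ PS m F) :
    (g * h).1.toBlocks₁₁ = g.1.toBlocks₁₁ * h.1.toBlocks₁₁ := by
  rw [sp_coe_mul, b11_mul, (mem_PS h).mp hh, Matrix.mul_zero, add_zero]

theorem lv_mem_PS (g : GL (Fin m) F) : lv g ∈ PS m F := by
  rw [mem_PS, lv_coe, toBlocks_fromBlocks₂₁]

theorem lv_b11 (g : GL (Fin m) F) : (lv g).1.toBlocks₁₁ = (g : Matrix (Fin m) (Fin m) F) := by
  rw [lv_coe, toBlocks_fromBlocks₁₁]

theorem rS_mem_PS (S : Matrix (Fin m) (Fin m) F) (hS : Sᵀ = S) : rS S hS ∈ PS m F := by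
  rw [mem_PS, rS_coe, toBlocks_fromBlocks₂₁]

/-- The Siegel radical. -/
def RS (m : ℕ) (F : Type*) [Field F] : Subgroup (SpG m F) where
  carrier := {g | g.1.toBlocks₂₁ = 0 ∧ g.1.toBlocks₁₁ = 1}
  mul_mem' := by
    rintro a b ⟨ha1, ha2⟩ ⟨hb1, hb2⟩
    refine ⟨(PS m F).mul_mem ha1 hb1, ?_⟩
    rw [PS_b11_mul a b hb1, ha2, hb2, Matrix.mul_one]
  one_mem' := by
    refine ⟨(PS m F).one_mem, ?_⟩
    rw [sp_coe_one, ← fromBlocks_one, toBlocks_fromBlocks₁₁]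
  inv_mem' := by
    rintro a ⟨ha1, ha2⟩
    refine ⟨(PS m F).inv_mem ha1, ?_⟩
    have h := PS_b11_mul a a⁻¹ ((PS m F).inv_mem ha1)
    rw [mul_inv_cancel, ha2, Matrix.one_mul] at h
    rw [← h, sp_coe_one, ← fromBlocks_one, toBlocks_fromBlocks₁₁]

theorem mem_RS (g : SpG m F) : g ∈ RS m F ↔ g.1.toBlocks₂₁ = 0 ∧ g.1.toBlocks₁₁ = 1 := Iff.rfl

theorem rS_mem_RS (S : Matrix (Fin m) (Fin m) F) (hS : Sᵀ = S) : rS S hS ∈ RS m F := by
  rw [mem_RS, rS_coe, toBlocks_fromBlocks₂₁, toBlocks_fromBlocks₁₁]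
  exact ⟨rfl, rfl⟩

/-- Elements of the Siegel radical are of the form `rS S`. -/
theorem exists_rS_of_mem (g : SpG m F) (hg : g ∈ RS m F) :
    ∃ (S : Matrix (Fin m) (Fin m) F) (hS : Sᵀ = S), g = rS S hS := by
  obtain ⟨h1, h2⟩ := hg
  obtain ⟨-, r2, r3⟩ := sp_rel g
  rw [h1, h2] at r3
  rw [transpose_one, Matrix.one_mul, transpose_zero, Matrix.zero_mul, sub_zero] at r3
  rw [r3, Matrix.mul_one, transpose_one, Matrix.one_mul] at r2
  refine ⟨g.1.toBlocks₁₂, r2, ?_⟩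
  apply Subtype.ext
  rw [rS_coe]
  conv_lhs => rw [sp_blocks g, h1, h2, r3]

end Cfsg.Agent.Lib.helper47.SpFus
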