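import Mathlib
import Cfsg.Agent.Lib.helper47.SpFusA

/-!
The unipotent subgroup `U` of `Sp_{2m}(F)`; the Siegel radical is weakly closed and
self-centralising in `U`.
-/

set_option autoImplicit false

namespace Cfsg.Agent.Lib.helper47.SpFus

open Matrix Cfsg.Agent.Lib.helper47.PSLn Cfsg.Agent.Lib.helper47.PSLnFus

variable {m : ℕ} {F : Type*} [Field F]

/-- The Levi embedding restricted to `SL_m`. -/
def lvS : SpecialLinearGroup (Fin m) F →* SpG m F := lv.comp Matrix.SpecialLinearGroup.toGL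

theorem lvS_b11 (A : SpecialLinearGroup (Fin m) F) : (lvS A).1.toBlocks₁₁ = A.1 := by
  show (lv (Matrix.SpecialLinearGroup.toGL A)).1.toBlocks₁₁ = A.1
  rw [lv_b11]
  rfl

theorem lvS_mem_PS (A : SpecialLinearGroup (Fin m) F) : lvS A ∈ PS m F := lv_mem_PS _

/-- The unipotent subgroup: lower-left block zero, upper-left block unitriangular. -/
def U (m : ℕ) (F : Type*) [Field F] [Finite F] : Subgroup (SpG m F) where
  carrier := {g | g ∈ PS m F ∧ ∃ A ∈ UT m F, g.1.toBlocks₁₁ = A.1}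
  mul_mem' := by
    rintro a b ⟨ha1, A, hA, ha2⟩ ⟨hb1, B, hB, hb2⟩
    refine ⟨(PS m F).mul_mem ha1 hb1, A * B, (UT m F).mul_mem hA hB, ?_⟩
    rw [PS_b11_mul a b hb1, ha2, hb2, coe_mul']
  one_mem' := by
    refine ⟨(PS m F).one_mem, 1, (UT m F).one_mem, ?_⟩
    rw [sp_coe_one, ← fromBlocks_one, toBlocks_fromBlocks₁₁, coe_one']
  inv_mem' := by
    rintro a ⟨ha1, A, hA, ha2⟩
    refine ⟨(PS m F).inv_mem ha1, A⁻¹, (UT m F).inv_mem hA, ?_⟩
    have h := PS_b11_mul a a⁻¹ ((PS m F).inv_mem ha1)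
    rw [mul_inv_cancel, ha2, sp_coe_one, ← fromBlocks_one, toBlocks_fromBlocks₁₁] at h
    calc a⁻¹.1.toBlocks₁₁ = (A⁻¹.1 * A.1) * a⁻¹.1.toBlocks₁₁ := by
          rw [coe_inv_mul', Matrix.one_mul]
      _ = A⁻¹.1 := by rw [Matrix.mul_assoc, ← h, Matrix.mul_one]

variable [Finite F]

theorem mem_U (g : SpG m F) :
    g ∈ U m F ↔ g ∈ PS m F ∧ ∃ A ∈ UT m F, g.1.toBlocks₁₁ = A.1 := Iff.rfl

theorem U_le_PS : U m F ≤ PS m F := fun _ h => h.1

theorem RS_le_U : RS m F ≤ U m F := by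
  rintro g ⟨h1, h2⟩
  exact ⟨h1, 1, (UT m F).one_mem, by rw [h2, coe_one']⟩

theorem lvS_mem_U (A : SpecialLinearGroup (Fin m) F) (hA : A ∈ UT m F) : lvS A ∈ U m F :=
  ⟨lvS_mem_PS A, A, hA, lvS_b11 A⟩

/-- `U = lvS(UT) · RS`. -/
theorem exists_decomp (g : SpG m F) (hg : g ∈ U m F) :
    ∃ A ∈ UT m F, ∃ (S : Matrix (Fin m) (Fin m) F) (hS : Sᵀ = S), g = lvS A * rS S hS := by
  obtain ⟨h1, A, hA, h2⟩ := hg
  have h3 : (lvS A)⁻¹ * g ∈ RS m F := by
    refine ⟨(PS m F).mul_mem ((PS m F).inv_mem (lvS_mem_PS A)) h1, ?_⟩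
    rw [PS_b11_mul _ _ h1, ← map_inv, lvS_b11, h2, coe_inv_mul']
  obtain ⟨S, hS, h4⟩ := exists_rS_of_mem _ h3
  refine ⟨A, hA, S, hS, ?_⟩
  rw [← h4]
  group

theorem mem_RS_of_mem_U (g : SpG m F) (hg : g ∈ PS m F) (h1 : g.1.toBlocks₁₁ = 1) : g ∈ RS m F :=
  ⟨hg, h1⟩

theorem rS_pow (S : Matrix (Fin m) (Fin m) F) (hS : Sᵀ = S) (n : ℕ) :
    (rS S hS) ^ n = rS (n • S) (by rw [transpose_smul, hS]) := by
  induction n with
  | zero =>
    rw [pow_zero]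
    apply Subtype.ext
    rw [rS_coe, zero_smul, sp_coe_one, fromBlocks_one]
  | succ n ih =>
    rw [pow_succ, ih, rS_mul]
    apply Subtype.ext
    rw [rS_coe, rS_coe, succ_nsmul]

theorem U_b11_pow (g : SpG m F) (hg : g ∈ PS m F) (A : SpecialLinearGroup (Fin m) F)
    (h : g.1.toBlocks₁₁ = A.1) (n : ℕ) : (g ^ n).1.toBlocks₁₁ = (A ^ n).1 := by
  induction n with
  | zero =>
    rw [pow_zero, pow_zero, sp_coe_one, ← fromBlocks_one, toBlocks_fromBlocks₁₁, coe_one']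
  | succ n ih =>
    rw [pow_succ, pow_succ, PS_b11_mul _ _ hg, ih, h, coe_mul']

/-- `U` is a `p`-group. -/
theorem U_pow [Fintype F] {p f : ℕ} [Fact p.Prime] [CharP F p] (hF : Fintype.card F = p ^ f)
    (g : SpG m F) (hg : g ∈ U m F) : ∃ k : ℕ, g ^ (p ^ k) = 1 := by
  obtain ⟨h1, A, hA, h2⟩ := hg
  obtain ⟨k, hk⟩ := UT_pow hF A hA
  have h3 : g ^ (p ^ k) ∈ RS m F := by
    refine ⟨(PS m F).pow_mem h1 _, ?_⟩
    rw [U_b11_pow g h1 A h2, hk, coe_one']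
  obtain ⟨S, hS, h4⟩ := exists_rS_of_mem _ h3
  refine ⟨k + 1, ?_⟩
  rw [pow_succ, pow_mul, h4, rS_pow]
  apply Subtype.ext
  rw [rS_coe, sp_coe_one]
  have : (p • S : Matrix (Fin m) (Fin m) F) = 0 := by
    rw [← Nat.cast_smul_eq_nsmul F, CharP.cast_eq_zero, zero_smul]
  rw [this, fromBlocks_one]

theorem isPGroup_U [Fintype F] {p f : ℕ} [Fact p.Prime] [CharP F p]
    (hF : Fintype.card F = p ^ f) : IsPGroup p (U m F) := by
  rintro ⟨g, hg⟩
  obtain ⟨k, hk⟩ := U_pow hF g hg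
  exact ⟨k, Subtype.ext hk⟩

/-- Row relation for symplectic matrices. -/
theorem sp_rel_row (g : SpG m F) :
    g.1.toBlocks₂₁ * (g.1.toBlocks₂₂)ᵀ = g.1.toBlocks₂₂ * (g.1.toBlocks₂₁)ᵀ := by
  obtain ⟨r1, -, -⟩ := sp_rel g⁻¹
  rw [inv_blocks, toBlocks_fromBlocks₁₁, toBlocks_fromBlocks₂₁, transpose_transpose,
    transpose_neg, transpose_transpose, Matrix.mul_neg, Matrix.neg_mul] at r1
  exact (neg_injective r1).symm

theorem conj_b21 (s : SpG m F) (S : Matrix (Fin m) (Fin m) F) (hS : Sᵀ = S) :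
    (s * rS S hS * s⁻¹).1.toBlocks₂₁ = -(s.1.toBlocks₂₁ * S * (s.1.toBlocks₂₁)ᵀ) := by
  rw [sp_coe_mul, sp_coe_mul, b21_mul, b21_mul, b22_mul, inv_blocks, rS_coe,
    toBlocks_fromBlocks₁₁, toBlocks_fromBlocks₂₁, toBlocks_fromBlocks₁₁, toBlocks_fromBlocks₂₁,
    toBlocks_fromBlocks₁₂, toBlocks_fromBlocks₂₂]
  simp only [Matrix.mul_one, Matrix.mul_zero, add_zero, Matrix.add_mul, Matrix.mul_neg]
  rw [sp_rel_row s]
  abel

theorem single_symm (i : Fin m) (c : F) : (Matrix.single i i c)ᵀ = Matrix.single i i c :=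
  Matrix.transpose_single i i c

/-- Weak closure of the Siegel radical, first half. -/
theorem mem_PS_of_conj (s : SpG m F) (h : ∀ x ∈ RS m F, s * x * s⁻¹ ∈ U m F) : s ∈ PS m F := by
  rw [mem_PS]
  ext k i
  have h1 := (h _ (rS_mem_RS (Matrix.single i i (1 : F)) (single_symm i 1))).1
  rw [mem_PS, conj_b21, neg_eq_zero] at h1
  have h2 := congrFun (congrFun h1 k) k
  rw [Matrix.mul_apply] at h2
  simp only [Matrix.mul_single_apply_same, Matrix.transpose_apply, mul_one, Matrix.zero_apply] at h2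
  rw [Finset.sum_eq_single i] at h2
  · rw [Matrix.mul_single_apply_same, mul_one] at h2
    exact mul_self_eq_zero.mp h2
  · intro j _ hj
    rw [Matrix.mul_single_apply_of_ne _ _ _ _ _ hj, zero_mul]
  · intro hi; exact absurd (Finset.mem_univ i) hi

theorem conj_RS_of_PS (s : SpG m F) (hs : s ∈ PS m F) (x : SpG m F) (hx : x ∈ RS m F) :
    s * x * s⁻¹ ∈ RS m F := by
  have hsi := (PS m F).inv_mem hs
  refine ⟨(PS m F).mul_mem ((PS m F).mul_mem hs hx.1) hsi, ?_⟩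
  rw [PS_b11_mul _ _ hsi, PS_b11_mul _ _ hx.1, hx.2, Matrix.mul_one, ← PS_b11_mul _ _ hsi,
    mul_inv_cancel, sp_coe_one, ← fromBlocks_one, toBlocks_fromBlocks₁₁]

theorem conj_RS_of_conj (s : SpG m F) (h : ∀ x ∈ RS m F, s * x * s⁻¹ ∈ U m F) :
    ∀ x ∈ RS m F, s * x * s⁻¹ ∈ RS m F :=
  fun x hx => conj_RS_of_PS s (mem_PS_of_conj s h) x hx

/-- The Siegel radical is self-centralising in `U`. -/
theorem mem_RS_of_comm (u : SpG m F) (hu : u ∈ U m F)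
    (hc : ∀ x ∈ RS m F, u * x = x * u) : u ∈ RS m F := by
  obtain ⟨h1, A, hA, h2⟩ := hu
  refine ⟨h1, ?_⟩
  rw [h2]
  ext k i
  by_cases hki : k = i
  · subst hki
    rw [hA.2 k, Matrix.one_apply_eq]
  · rw [Matrix.one_apply_ne hki]
    have h3 := hc _ (rS_mem_RS (Matrix.single i i (1 : F)) (single_symm i 1))
    have h4 := congrArg (fun g : SpG m F => g.1.toBlocks₁₂) h3
    simp only [sp_coe_mul, b12_mul, rS_coe, toBlocks_fromBlocks₁₁, toBlocks_fromBlocks₁₂,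
      toBlocks_fromBlocks₂₂, Matrix.mul_one, Matrix.one_mul] at h4
    rw [h2, add_comm] at h4
    have h5 := add_left_cancel h4
    have h6 := congrFun (congrFun h5 k) i
    rw [Matrix.mul_single_apply_same, mul_one, Matrix.single_mul_apply_of_ne _ _ _ _ _ hki] at h6
    exact h6

end Cfsg.Agent.Lib.helper47.SpFus
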