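import Mathlib
import Cfsg.Agent.Lib.helper47.SpFusB

/-!
The unipotent radical `Q1` of the stabiliser of the point `⟨e₁⟩` in `Sp_{2m}(F)`: it is weakly
closed and self-centralising in `U`.
-/

set_option autoImplicit false

namespace Cfsg.Agent.Lib.helper47.SpFus

open Matrix Cfsg.Agent.Lib.helper47.PSLn Cfsg.Agent.Lib.helper47.PSLnFus

variable {m : ℕ} {F : Type*} [Field F]

local notation "Tv" => Matrix.SpecialLinearGroup.transvection

/-- Basis vectors of `F^(2m)`. -/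
def bv (x : Fin m ⊕ Fin m) : Fin m ⊕ Fin m → F := Pi.single x 1

theorem mulVec_bv (M : Matrix (Fin m ⊕ Fin m) (Fin m ⊕ Fin m) F) (y x : Fin m ⊕ Fin m) :
    (M *ᵥ bv y) x = M x y := by
  unfold bv
  rw [mulVec_single_one]
  rfl

theorem bv_apply (x y : Fin m ⊕ Fin m) : (bv x : Fin m ⊕ Fin m → F) y = if y = x then 1 else 0 := by
  unfold bv
  rw [Pi.single_apply]

theorem single_mulVec' (i j : Fin m) (c : F) (w : Fin m → F) :
    Matrix.single i j c *ᵥ w = (c * w j) • (Pi.single i 1 : Fin m → F) := by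
  ext k
  simp only [Matrix.mulVec, dotProduct, Matrix.single_apply, Pi.smul_apply, Pi.single_apply,
    smul_eq_mul]
  by_cases hk : k = i
  · subst hk
    simp
  · simp [hk, Ne.symm hk]

section Q

variable [NeZero m]

/-- The first basis vector. -/
def e1 : Fin m ⊕ Fin m → F := bv (Sum.inl 0)

theorem e1_inl (i : Fin m) : (e1 : Fin m ⊕ Fin m → F) (Sum.inl i) = if i = 0 then 1 else 0 := by
  unfold e1
  rw [bv_apply]
  simp only [Sum.inl.injEq]

theorem e1_inr (i : Fin m) : (e1 : Fin m ⊕ Fin m → F) (Sum.inr i) = 0 := by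
  unfold e1
  rw [bv_apply, if_neg (by simp)]

theorem e1_comp_inl : (e1 : Fin m ⊕ Fin m → F) ∘ Sum.inl = Pi.single 0 1 := by
  ext i
  rw [Function.comp_apply, e1_inl, Pi.single_apply]

theorem e1_comp_inr : (e1 : Fin m ⊕ Fin m → F) ∘ Sum.inr = 0 := by
  ext i
  rw [Function.comp_apply, e1_inr]
  rfl

theorem e1_eq : (e1 : Fin m ⊕ Fin m → F) = Sum.elim (Pi.single 0 1) 0 := by
  rw [← e1_comp_inl, ← e1_comp_inr, Sum.elim_comp_inl_inr]

/-- The unipotent radical of the stabiliser of `⟨e₁⟩`. -/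
def Q1 (m : ℕ) (F : Type*) [Field F] [NeZero m] : Subgroup (SpG m F) where
  carrier := {q | q.1 *ᵥ e1 = e1 ∧
    ∀ v : Fin m ⊕ Fin m → F, v (Sum.inr 0) = 0 → ∃ c : F, q.1 *ᵥ v = v + c • e1}
  mul_mem' := by
    rintro a b ⟨ha1, ha2⟩ ⟨hb1, hb2⟩
    refine ⟨by rw [sp_coe_mul, ← mulVec_mulVec, hb1, ha1], fun v hv => ?_⟩
    obtain ⟨c, hc⟩ := hb2 v hv
    obtain ⟨c', hc'⟩ := ha2 v hv
    refine ⟨c' + c, ?_⟩
    rw [sp_coe_mul, ← mulVec_mulVec, hc, mulVec_add, mulVec_smul, ha1, hc', add_smul, add_assoc]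
  one_mem' := ⟨by rw [sp_coe_one, one_mulVec],
    fun v _ => ⟨0, by rw [sp_coe_one, one_mulVec, zero_smul, add_zero]⟩⟩
  inv_mem' := by
    rintro a ⟨ha1, ha2⟩
    have h1 : a⁻¹.1 *ᵥ e1 = e1 := by
      conv_lhs => rw [← ha1]
      rw [mulVec_mulVec, sp_inv_mul, one_mulVec]
    refine ⟨h1, fun v hv => ?_⟩
    obtain ⟨c, hc⟩ := ha2 v hv
    refine ⟨-c, ?_⟩
    have h2 : a⁻¹.1 *ᵥ (a.1 *ᵥ v) = v := by rw [mulVec_mulVec, sp_inv_mul, one_mulVec]
    rw [hc, mulVec_add, mulVec_smul, h1] at h2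
    rw [neg_smul, ← sub_eq_add_neg, eq_sub_iff_add_eq]
    exact h2

theorem mem_Q1 (q : SpG m F) : q ∈ Q1 m F ↔ q.1 *ᵥ e1 = e1 ∧
    ∀ v : Fin m ⊕ Fin m → F, v (Sum.inr 0) = 0 → ∃ c : F, q.1 *ᵥ v = v + c • e1 := Iff.rfl

theorem rS_mulVec (S : Matrix (Fin m) (Fin m) F) (hS : Sᵀ = S) (v : Fin m ⊕ Fin m → F) :
    (rS S hS).1 *ᵥ v = Sum.elim (v ∘ Sum.inl + S *ᵥ (v ∘ Sum.inr)) (v ∘ Sum.inr) := by
  rw [rS_coe, fromBlocks_mulVec]
  simp

/-- `rS S ∈ Q1` when `S` maps the hyperplane `w 0 = 0` into the line of `e₀`. -/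
theorem rS_mem_Q1 (S : Matrix (Fin m) (Fin m) F) (hS : Sᵀ = S)
    (h : ∀ w : Fin m → F, w 0 = 0 → ∃ c : F, S *ᵥ w = c • (Pi.single 0 1 : Fin m → F)) :
    rS S hS ∈ Q1 m F := by
  constructor
  · rw [rS_mulVec, e1_comp_inl, e1_comp_inr, mulVec_zero, add_zero]
    exact e1_eq.symm
  · intro v hv
    obtain ⟨c, hc⟩ := h (v ∘ Sum.inr) hv
    refine ⟨c, ?_⟩
    rw [rS_mulVec, hc]
    ext x
    rcases x with i | i
    · simp only [Sum.elim_inl, Pi.add_apply, Function.comp_apply, Pi.smul_apply, e1_inl,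
        Pi.single_apply, smul_eq_mul]
    · simp only [Sum.elim_inr, Pi.add_apply, Function.comp_apply, Pi.smul_apply, e1_inr,
        smul_eq_mul, mul_zero, add_zero]

theorem sym0 (j : Fin m) : (Matrix.single (0 : Fin m) j (1 : F) + Matrix.single j 0 1)ᵀ =
    Matrix.single (0 : Fin m) j (1 : F) + Matrix.single j 0 1 := by
  rw [transpose_add, Matrix.transpose_single, Matrix.transpose_single, add_comm]

theorem rS00_mem_Q1 : rS (Matrix.single (0 : Fin m) 0 (1 : F)) (Matrix.transpose_single 0 0 1) ∈ Q1 m F := by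
  apply rS_mem_Q1
  intro w hw
  exact ⟨0, by rw [single_mulVec', hw, mul_zero, zero_smul]⟩

theorem rS0j_mem_Q1 (j : Fin m) (hj : j ≠ 0) :
    rS (Matrix.single (0 : Fin m) j (1 : F) + Matrix.single j 0 1) (sym0 j) ∈ Q1 m F := by
  apply rS_mem_Q1
  intro w hw
  exact ⟨w j, by rw [add_mulVec, single_mulVec', single_mulVec', hw, mul_zero, zero_smul, add_zero,
    one_mul]⟩

theorem lvS_Tv_coe {i j : Fin m} (hij : i ≠ j) (c : F) :
    (lvS (Tv hij c)).1 = fromBlocks (1 + Matrix.single i j c) 0 0 (1 + Matrix.single j i (-c)) := by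
  have h1 : (Tv hij c)⁻¹ = Tv hij (-c) := inv_eq_of_mul_eq_one_right (Tv_mul_neg hij c)
  show fromBlocks (Tv hij c).1 0 0 ((Tv hij c)⁻¹.1)ᵀ = _
  rw [h1, Matrix.SpecialLinearGroup.transvection_coe, Matrix.SpecialLinearGroup.transvection_coe,
    transpose_add, transpose_one, Matrix.transpose_single]

theorem lvS_Tv_mulVec {i j : Fin m} (hij : i ≠ j) (c : F) (v : Fin m ⊕ Fin m → F) :
    (lvS (Tv hij c)).1 *ᵥ v = Sum.elim (v ∘ Sum.inl + (c * v (Sum.inl j)) • Pi.single i 1)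
      (v ∘ Sum.inr + (-c * v (Sum.inr i)) • Pi.single j 1) := by
  rw [lvS_Tv_coe, fromBlocks_mulVec]
  simp only [add_mulVec, one_mulVec, zero_mulVec, add_zero, zero_add, single_mulVec',
    Function.comp_apply]

theorem lvS_Tv_mem_Q1 (j : Fin m) (hj : j ≠ 0) (c : F) :
    lvS (Tv (Ne.symm hj) c) ∈ Q1 m F := by
  constructor
  · rw [lvS_Tv_mulVec, e1_inl, if_neg hj, e1_inr, mul_zero, mul_zero, zero_smul, zero_smul,
      add_zero, add_zero, Sum.elim_comp_inl_inr]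
  · intro v hv
    refine ⟨c * v (Sum.inl j), ?_⟩
    rw [lvS_Tv_mulVec, hv, mul_zero, zero_smul, add_zero]
    ext x
    rcases x with i | i
    · simp only [Sum.elim_inl, Pi.add_apply, Function.comp_apply, Pi.smul_apply, e1_inl,
        Pi.single_apply, smul_eq_mul]
    · simp only [Sum.elim_inr, Pi.add_apply, Function.comp_apply, Pi.smul_apply, e1_inr,
        smul_eq_mul, mul_zero, add_zero]

variable [Finite F]

theorem U_mulVec_e1 (u : SpG m F) (hu : u ∈ U m F) : u.1 *ᵥ e1 = e1 := by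
  obtain ⟨h1, A, hA, h2⟩ := hu
  ext x
  rw [e1, mulVec_bv]
  rcases x with i | i
  · have : u.1 (Sum.inl i) (Sum.inl 0) = u.1.toBlocks₁₁ i 0 := rfl
    rw [this, h2, bv_apply]
    by_cases hi : i = 0
    · subst hi
      rw [hA.2 0]; simp
    · rw [hA.1 i 0 ((Fin.pos_iff_ne_zero' i).mpr hi)]; simp [hi]
  · have : u.1 (Sum.inr i) (Sum.inl 0) = u.1.toBlocks₂₁ i 0 := rfl
    rw [this, (mem_PS u).mp h1, bv_apply]
    simp

theorem Q1_le_U : Q1 m F ≤ U m F := by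
  rintro q ⟨hq1, hq2⟩
  have hent : ∀ (j : Fin m) (x : Fin m ⊕ Fin m), x ≠ Sum.inl 0 →
      q.1 x (Sum.inl j) = if x = Sum.inl j then 1 else 0 := by
    intro j x hx
    obtain ⟨c, hc⟩ := hq2 (bv (Sum.inl j)) (by rw [bv_apply]; simp)
    have := congrFun hc x
    rw [mulVec_bv] at this
    rw [this, Pi.add_apply, Pi.smul_apply, bv_apply, e1, bv_apply, if_neg hx, smul_zero, add_zero]
  have h00 : q.1 (Sum.inl 0) (Sum.inl 0) = 1 := by
    have := congrFun hq1 (Sum.inl 0)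
    rw [e1, mulVec_bv, bv_apply] at this
    simpa using this
  have hPS : q ∈ PS m F := by
    rw [mem_PS]
    ext i j
    have := hent j (Sum.inr i) (by simp)
    show q.1 (Sum.inr i) (Sum.inl j) = 0
    rw [this]
    simp
  have hup : ∀ i j : Fin m, j < i → q.1.toBlocks₁₁ i j = 0 := by
    intro i j hji
    have hi : i ≠ 0 := by rintro rfl; exact absurd hji (Fin.not_lt_zero j)
    have := hent j (Sum.inl i) (by simp [hi])
    rw [if_neg (by simp [ne_of_gt hji])] at this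
    exact this
  have hdiag : ∀ i : Fin m, q.1.toBlocks₁₁ i i = 1 := by
    intro i
    by_cases hi : i = 0
    · subst hi; exact h00
    · have := hent i (Sum.inl i) (by simp [hi])
      rw [if_pos rfl] at this
      exact this
  have hdet : (q.1.toBlocks₁₁).det = 1 := by
    rw [Matrix.det_of_upperTriangular (fun i j hij => hup i j hij)]
    exact Finset.prod_eq_one (fun i _ => hdiag i)
  exact ⟨hPS, ⟨q.1.toBlocks₁₁, hdet⟩, ⟨hup, hdiag⟩, rfl⟩

theorem smul_inv_of_smul (s : SpG m F) (lam : F) (h : s.1 *ᵥ e1 = lam • e1) :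
    lam ≠ 0 ∧ s⁻¹.1 *ᵥ e1 = lam⁻¹ • (e1 : Fin m ⊕ Fin m → F) := by
  have h1 : s⁻¹.1 *ᵥ (s.1 *ᵥ e1) = (e1 : Fin m ⊕ Fin m → F) := by
    rw [mulVec_mulVec, sp_inv_mul, one_mulVec]
  rw [h, mulVec_smul] at h1
  have hl : lam ≠ 0 := by
    rintro rfl
    rw [zero_smul] at h1
    have := congrFun h1 (Sum.inl 0)
    rw [e1_inl] at this
    simp at this
  refine ⟨hl, ?_⟩
  conv_rhs => rw [← h1]
  rw [smul_smul, inv_mul_cancel₀ hl, one_smul]

/-- Elements fixing the point `⟨e₁⟩` normalise `Q1`. -/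
theorem conj_mem_Q1 (s : SpG m F) (lam : F) (hs : s.1 *ᵥ e1 = lam • e1) (q : SpG m F)
    (hq : q ∈ Q1 m F) : s * q * s⁻¹ ∈ Q1 m F := by
  obtain ⟨hl, hsi⟩ := smul_inv_of_smul s lam hs
  obtain ⟨hq1, hq2⟩ := hq
  constructor
  · rw [sp_coe_mul, sp_coe_mul, ← mulVec_mulVec, ← mulVec_mulVec, hsi, mulVec_smul, hq1,
      mulVec_smul, hs, smul_smul, inv_mul_cancel₀ hl, one_smul]
  · intro v hv
    have hrow : (s⁻¹.1 *ᵥ v) (Sum.inr 0) = 0 := by
      have hc1 : ∀ j : Fin m, s⁻¹.1 (Sum.inr 0) (Sum.inl j) = 0 := by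
        intro j
        have h1 : s⁻¹.1 (Sum.inr 0) (Sum.inl j) = s⁻¹.1.toBlocks₂₁ 0 j := rfl
        rw [h1, inv_blocks, toBlocks_fromBlocks₂₁]
        have h2 := congrFun hs (Sum.inr j)
        rw [e1, mulVec_bv, Pi.smul_apply, bv_apply] at h2
        simp only [Matrix.neg_apply, Matrix.transpose_apply]
        have h3 : s.1.toBlocks₂₁ j 0 = s.1 (Sum.inr j) (Sum.inl 0) := rfl
        rw [h3, h2]
        simp
      have hc2 : ∀ j : Fin m, j ≠ 0 → s⁻¹.1 (Sum.inr 0) (Sum.inr j) = 0 := by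
        intro j hj
        have h1 : s⁻¹.1 (Sum.inr 0) (Sum.inr j) = s⁻¹.1.toBlocks₂₂ 0 j := rfl
        rw [h1, inv_blocks, toBlocks_fromBlocks₂₂]
        have h2 := congrFun hs (Sum.inl j)
        rw [e1, mulVec_bv, Pi.smul_apply, bv_apply] at h2
        simp only [Matrix.transpose_apply]
        have h3 : s.1.toBlocks₁₁ j 0 = s.1 (Sum.inl j) (Sum.inl 0) := rfl
        rw [h3, h2]
        simp [hj]
      simp only [Matrix.mulVec, dotProduct, Fintype.sum_sum_type]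
      rw [Finset.sum_eq_zero (fun j _ => by rw [hc1 j, zero_mul]), zero_add]
      apply Finset.sum_eq_zero
      intro j _
      by_cases hj : j = 0
      · subst hj; rw [hv, mul_zero]
      · rw [hc2 j hj, zero_mul]
    obtain ⟨c, hc⟩ := hq2 _ hrow
    refine ⟨c * lam, ?_⟩
    rw [sp_coe_mul, sp_coe_mul, ← mulVec_mulVec, ← mulVec_mulVec, hc, mulVec_add, mulVec_smul,
      hs, mulVec_mulVec, sp_mul_inv, one_mulVec, smul_smul]

/-- Weak closure of `Q1` in `U`, first half: `s⁻¹` fixes the point. -/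
theorem exists_smul_of_conj (hm : 2 ≤ m) (s : SpG m F)
    (h : ∀ q ∈ Q1 m F, s * q * s⁻¹ ∈ U m F) :
    ∃ mu : F, s⁻¹.1 *ᵥ e1 = mu • (e1 : Fin m ⊕ Fin m → F) := by
  obtain ⟨w, hw⟩ : ∃ w : Fin m ⊕ Fin m → F, w = s⁻¹.1 *ᵥ e1 := ⟨_, rfl⟩
  have hfix : ∀ q ∈ Q1 m F, q.1 *ᵥ w = w := by
    intro q hq
    have h1 := U_mulVec_e1 _ (h q hq)
    rw [sp_coe_mul, sp_coe_mul, ← mulVec_mulVec, ← mulVec_mulVec, ← hw] at h1
    have h2 := congrArg (fun x => s⁻¹.1 *ᵥ x) h1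
    rw [mulVec_mulVec, sp_inv_mul, one_mulVec, ← hw] at h2
    exact h2
  have hr0 : w (Sum.inr 0) = 0 := by
    have h1 := hfix _ (rS00_mem_Q1 (m := m) (F := F))
    rw [rS_mulVec, single_mulVec'] at h1
    have h2 := congrFun h1 (Sum.inl 0)
    simpa using h2
  have hr : ∀ j : Fin m, j ≠ 0 → w (Sum.inr j) = 0 := by
    intro j hj
    have h1 := hfix _ (rS0j_mem_Q1 (F := F) j hj)
    rw [rS_mulVec, add_mulVec, single_mulVec', single_mulVec'] at h1
    have h2 := congrFun h1 (Sum.inl 0)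
    simpa [hj, Ne.symm hj] using h2
  have hl : ∀ j : Fin m, j ≠ 0 → w (Sum.inl j) = 0 := by
    intro j hj
    have h1 := hfix _ (lvS_Tv_mem_Q1 (F := F) j hj 1)
    rw [lvS_Tv_coe, fromBlocks_mulVec] at h1
    have h2 := congrFun h1 (Sum.inl 0)
    simpa [add_mulVec, single_mulVec'] using h2
  refine ⟨w (Sum.inl 0), ?_⟩
  rw [← hw]
  ext x
  rw [Pi.smul_apply, smul_eq_mul]
  rcases x with i | i
  · rw [e1_inl]
    by_cases hi : i = 0
    · subst hi; simp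
    · rw [hl i hi]; simp [hi]
  · rw [e1_inr, mul_zero]
    by_cases hi : i = 0
    · subst hi; exact hr0
    · exact hr i hi

theorem conj_Q1_of_conj (hm : 2 ≤ m) (s : SpG m F)
    (h : ∀ q ∈ Q1 m F, s * q * s⁻¹ ∈ U m F) : ∀ q ∈ Q1 m F, s * q * s⁻¹ ∈ Q1 m F := by
  obtain ⟨mu, hmu⟩ := exists_smul_of_conj hm s h
  obtain ⟨-, h2⟩ := smul_inv_of_smul s⁻¹ mu hmu
  rw [inv_inv] at h2
  exact fun q hq => conj_mem_Q1 s _ h2 q hq

end Q

end Cfsg.Agent.Lib.helper47.SpFus
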