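import Mathlib
import Cfsg.Agent.Lib.helper47.SpFusC

/-!
`Q1` is self-centralising in `U`; the embeddings `phi i : SL_2 → Sp_{2m}` on the hyperbolic
planes `⟨e_i, f_i⟩`.
-/

set_option autoImplicit false

namespace Cfsg.Agent.Lib.helper47.SpFus

open Matrix Cfsg.Agent.Lib.helper47.PSLn Cfsg.Agent.Lib.helper47.PSLnFus

variable {m : ℕ} {F : Type*} [Field F]

local notation "Tv" => Matrix.SpecialLinearGroup.transvection

section Q

variable [NeZero m] [Finite F]

/-- `Q1` is self-centralising in `U`. -/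
theorem mem_Q1_of_comm (u : SpG m F) (hu : u ∈ U m F)
    (hc : ∀ q ∈ Q1 m F, u * q = q * u) : u ∈ Q1 m F := by
  have hue := U_mulVec_e1 u hu
  obtain ⟨h1, A, hA, h2⟩ := hu
  have hC : u.1.toBlocks₂₁ = 0 := (mem_PS u).mp h1
  have hD0 : ∀ l : Fin m, u.1.toBlocks₂₂ 0 l = if l = 0 then 1 else 0 := by
    obtain ⟨-, -, r3⟩ := sp_rel u
    rw [hC, transpose_zero, Matrix.zero_mul, sub_zero, h2] at r3
    intro l
    have h3 := congrFun (congrFun r3 0) l
    rw [Matrix.mul_apply, Finset.sum_eq_single 0] at h3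
    · rw [Matrix.transpose_apply, hA.2 0, one_mul] at h3
      rw [h3, Matrix.one_apply]
      simp only [eq_comm]
    · intro k _ hk
      rw [Matrix.transpose_apply, hA.1 k 0 ((Fin.pos_iff_ne_zero' k).mpr hk), zero_mul]
    · intro h; exact absurd (Finset.mem_univ _) h
  have k1 : ∀ j : Fin m, j ≠ 0 →
      u.1.toBlocks₁₁ * (Matrix.single 0 j (1 : F) + Matrix.single j 0 1) =
        (Matrix.single 0 j (1 : F) + Matrix.single j 0 1) * u.1.toBlocks₂₂ := by
    intro j hj
    have h3 := hc _ (rS0j_mem_Q1 (F := F) j hj)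
    have h4 := congrArg (fun g : SpG m F => g.1.toBlocks₁₂) h3
    simp only [sp_coe_mul, b12_mul, rS_coe, toBlocks_fromBlocks₁₁, toBlocks_fromBlocks₁₂,
      toBlocks_fromBlocks₂₂, Matrix.mul_one, Matrix.one_mul] at h4
    rw [add_comm] at h4
    exact add_left_cancel h4
  have k2 : ∀ j : Fin m, j ≠ 0 →
      u.1.toBlocks₁₂ * Matrix.single j 0 (-1 : F) = Matrix.single 0 j (1 : F) * u.1.toBlocks₁₂ := by
    intro j hj
    have h3 := hc _ (lvS_Tv_mem_Q1 (F := F) j hj 1)
    have h4 := congrArg (fun g : SpG m F => g.1.toBlocks₁₂) h3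
    simp only [sp_coe_mul, b12_mul, lvS_Tv_coe, toBlocks_fromBlocks₁₁, toBlocks_fromBlocks₁₂,
      toBlocks_fromBlocks₂₂, Matrix.mul_zero, Matrix.zero_mul, zero_add, add_zero, Matrix.mul_add,
      Matrix.add_mul, Matrix.mul_one, Matrix.one_mul] at h4
    exact add_left_cancel h4
  have a1 : ∀ k j : Fin m, k ≠ 0 → j ≠ 0 → u.1.toBlocks₁₁ k j = if k = j then 1 else 0 := by
    intro k j hk hj
    have h3 := congrFun (congrFun (k1 j hj) k) 0
    rw [Matrix.mul_add, Matrix.add_mul, Matrix.add_apply, Matrix.add_apply,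
      Matrix.mul_single_apply_of_ne _ _ _ _ _ (Ne.symm hj), Matrix.mul_single_apply_same,
      Matrix.single_mul_apply_of_ne _ _ _ _ _ hk, zero_add, zero_add, mul_one] at h3
    rw [h3]
    by_cases hkj : k = j
    · subst hkj
      rw [Matrix.single_mul_apply_same, hD0 0, if_pos rfl, if_pos rfl, mul_one]
    · rw [Matrix.single_mul_apply_of_ne _ _ _ _ _ hkj, if_neg hkj]
  have d1 : ∀ j l : Fin m, j ≠ 0 → l ≠ 0 → u.1.toBlocks₂₂ j l = if j = l then 1 else 0 := by
    intro j l hj hl
    have h3 := congrFun (congrFun (k1 j hj) 0) l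
    rw [Matrix.mul_add, Matrix.add_mul, Matrix.add_apply, Matrix.add_apply,
      Matrix.mul_single_apply_of_ne _ _ _ _ _ hl, Matrix.single_mul_apply_same,
      Matrix.single_mul_apply_of_ne _ _ _ _ _ (Ne.symm hj), add_zero, add_zero, one_mul] at h3
    rw [← h3]
    by_cases hjl : j = l
    · subst hjl
      rw [Matrix.mul_single_apply_same, h2, hA.2 0, if_pos rfl, mul_one]
    · rw [Matrix.mul_single_apply_of_ne _ _ _ _ _ (Ne.symm hjl), if_neg hjl]
  have b1 : ∀ k j : Fin m, k ≠ 0 → j ≠ 0 → u.1.toBlocks₁₂ k j = 0 := by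
    intro k j hk hj
    have h3 := congrFun (congrFun (k2 j hj) k) 0
    rw [Matrix.mul_single_apply_same, Matrix.single_mul_apply_of_ne _ _ _ _ _ hk, mul_neg,
      mul_one, neg_eq_zero] at h3
    exact h3
  have hmat : ∀ x y : Fin m ⊕ Fin m, x ≠ Sum.inl 0 → y ≠ Sum.inr 0 →
      u.1 x y = if x = y then 1 else 0 := by
    intro x y hx hy
    rcases x with k | k <;> rcases y with l | l
    · have hk : k ≠ 0 := fun h => hx (by rw [h])
      show u.1.toBlocks₁₁ k l = _
      by_cases hl : l = 0
      · subst hl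
        rw [h2, hA.1 k 0 ((Fin.pos_iff_ne_zero' k).mpr hk), if_neg (by simpa using hk)]
      · rw [a1 k l hk hl]
        simp only [Sum.inl.injEq]
    · have hk : k ≠ 0 := fun h => hx (by rw [h])
      have hl : l ≠ 0 := fun h => hy (by rw [h])
      show u.1.toBlocks₁₂ k l = _
      rw [b1 k l hk hl, if_neg (by simp)]
    · show u.1.toBlocks₂₁ k l = _
      rw [hC, if_neg (by simp)]
      rfl
    · have hl : l ≠ 0 := fun h => hy (by rw [h])
      show u.1.toBlocks₂₂ k l = _
      by_cases hk : k = 0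
      · subst hk
        rw [hD0 l, if_neg hl, if_neg (by simpa using Ne.symm hl)]
      · rw [d1 k l hk hl]
        simp only [Sum.inr.injEq]
  refine ⟨hue, fun v hv => ⟨(u.1 *ᵥ v) (Sum.inl 0) - v (Sum.inl 0), ?_⟩⟩
  ext x
  by_cases hx : x = Sum.inl 0
  · subst hx
    rw [Pi.add_apply, Pi.smul_apply, e1_inl, if_pos rfl, smul_eq_mul, mul_one]
    ring
  · have hex : (e1 : Fin m ⊕ Fin m → F) x = 0 := by
      unfold e1
      rw [bv_apply, if_neg hx]
    rw [Pi.add_apply, Pi.smul_apply, hex, smul_zero, add_zero]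
    simp only [Matrix.mulVec, dotProduct]
    rw [Finset.sum_eq_single x]
    · by_cases hx2 : x = Sum.inr 0
      · rw [hx2, hv, mul_zero]
      · rw [hmat x x hx hx2, if_pos rfl, one_mul]
    · intro y _ hyx
      by_cases hy : y = Sum.inr 0
      · rw [hy, hv, mul_zero]
      · rw [hmat x y hx hy, if_neg (Ne.symm hyx), zero_mul]
    · intro h; exact absurd (Finset.mem_univ _) h

end Q

/-! ### The embeddings of `SL_2` -/

/-- The matrix acting as `M` on `⟨e_i, f_i⟩` and trivially elsewhere. -/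
def embM (i : Fin m) (M : Matrix (Fin 2) (Fin 2) F) : Matrix (Fin m ⊕ Fin m) (Fin m ⊕ Fin m) F :=
  fromBlocks (1 + Matrix.single i i (M 0 0 - 1)) (Matrix.single i i (M 0 1))
    (Matrix.single i i (M 1 0)) (1 + Matrix.single i i (M 1 1 - 1))

theorem embM_one (i : Fin m) : embM i (1 : Matrix (Fin 2) (Fin 2) F) = 1 := by
  unfold embM
  simp

theorem embM_mul (i : Fin m) (M N : Matrix (Fin 2) (Fin 2) F) :
    embM i (M * N) = embM i M * embM i N := by
  unfold embM
  rw [fromBlocks_multiply]
  simp only [Matrix.mul_add, Matrix.add_mul, Matrix.mul_one, Matrix.one_mul,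
    Matrix.single_mul_single_same, Matrix.mul_apply, Fin.sum_univ_two]
  congr 1
  · ext a b
    simp only [Matrix.add_apply, Matrix.single_apply, Matrix.one_apply]
    split_ifs <;> ring
  · ext a b
    simp only [Matrix.add_apply, Matrix.single_apply, Matrix.one_apply]
    split_ifs <;> ring
  · ext a b
    simp only [Matrix.add_apply, Matrix.single_apply, Matrix.one_apply]
    split_ifs <;> ring
  · ext a b
    simp only [Matrix.add_apply, Matrix.single_apply, Matrix.one_apply]
    split_ifs <;> ring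

theorem embM_mem (i : Fin m) (M : Matrix (Fin 2) (Fin 2) F) (h : M.det = 1) :
    embM i M ∈ Matrix.symplecticGroup (Fin m) F := by
  unfold embM
  rw [Matrix.det_fin_two] at h
  rw [SymplecticGroup.fromBlocks_mem_iff]
  simp only [transpose_add, transpose_one, Matrix.transpose_single, Matrix.mul_add, Matrix.add_mul,
    Matrix.mul_one, Matrix.one_mul, Matrix.single_mul_single_same]
  refine ⟨?_, ?_, ?_⟩
  · ext a b
    simp only [Matrix.add_apply, Matrix.single_apply]
    split_ifs <;> ring
  · ext a b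
    simp only [Matrix.add_apply, Matrix.single_apply]
    split_ifs <;> ring
  · ext a b
    simp only [Matrix.add_apply, Matrix.sub_apply, Matrix.single_apply, Matrix.one_apply]
    split_ifs <;> first | linear_combination h | linear_combination -h | ring | simp_all

/-- The embedding of `SL_2` on the hyperbolic plane `⟨e_i, f_i⟩`. -/
def phi (i : Fin m) : SpecialLinearGroup (Fin 2) F →* SpG m F where
  toFun M := ⟨embM i M.1, embM_mem i M.1 M.2⟩
  map_one' := Subtype.ext (embM_one i)
  map_mul' a b := Subtype.ext (embM_mul i a.1 b.1)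

theorem phi_coe (i : Fin m) (M : SpecialLinearGroup (Fin 2) F) : (phi i M).1 = embM i M.1 := rfl

theorem h01 : (0 : Fin 2) ≠ 1 := by decide

theorem phi_Tv (i : Fin m) (c : F) :
    phi i (Tv h01 c) = rS (Matrix.single i i c) (Matrix.transpose_single i i c) := by
  apply Subtype.ext
  rw [phi_coe, rS_coe, Matrix.SpecialLinearGroup.transvection_coe]
  unfold embM
  simp [Matrix.single_apply]

theorem phi_mulVec_e1 [NeZero m] (i : Fin m) (hi : i ≠ 0) (M : SpecialLinearGroup (Fin 2) F) :
    (phi i M).1 *ᵥ e1 = (e1 : Fin m ⊕ Fin m → F) := by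
  ext x
  rw [e1, mulVec_bv, phi_coe, bv_apply]
  unfold embM
  rcases x with k | k
  · rw [fromBlocks_apply₁₁, Matrix.add_apply, Matrix.single_apply, if_neg (fun h => hi h.2),
      add_zero, Matrix.one_apply]
    simp only [Sum.inl.injEq]
  · rw [fromBlocks_apply₂₁, Matrix.single_apply, if_neg (fun h => hi h.2), if_neg (by simp)]

end Cfsg.Agent.Lib.helper47.SpFus
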