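import Mathlib
import Cfsg.Agent.Lib.helper47.SpFusD
import Cfsg.Agent.Lib.helper47.PSLnFusD

/-!
`U` is a Sylow `p`-subgroup of `Sp_{2m}(F)`; its normaliser is upper triangular; `p`-elements lift
uniquely from `PSp`; torus elements.
-/

set_option autoImplicit false

namespace Cfsg.Agent.Lib.helper47.SpFus

open Matrix Cfsg.Agent.Lib.helper47.PSLn Cfsg.Agent.Lib.helper47.PSLnFus

variable {m : ℕ} {F : Type*} [Field F]

local notation "Tv" => Matrix.SpecialLinearGroup.transvection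

theorem upper_mul_diag (M N : Matrix (Fin m) (Fin m) F) (hM : ∀ i j, j < i → M i j = 0)
    (hN : ∀ i j, j < i → N i j = 0) (i : Fin m) : (M * N) i i = M i i * N i i := by
  rw [Matrix.mul_apply]
  apply Finset.sum_eq_single i
  · intro k _ hk
    rcases lt_or_gt_of_ne hk with h | h
    · rw [hM i k h, zero_mul]
    · rw [hN k i h, mul_zero]
  · intro h; exact absurd (Finset.mem_univ i) h

/-- Matrix version of `upper_of_conj`. -/
theorem upper_of_conj_mat (P : Matrix (Fin m) (Fin m) F)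
    (h : ∀ i j : Fin m, j < i → ∃ V : Matrix (Fin m) (Fin m) F,
      (∀ a b, b < a → V a b = 0) ∧ (∀ a, V a a = 1) ∧
        P * V = (1 + Matrix.single j i (1 : F)) * P) :
    ∀ i j : Fin m, j < i → P i j = 0 := by
  suffices H : ∀ (N : ℕ) (j : Fin m), j.val = N → ∀ i, j < i → P i j = 0 from
    fun i j hji => H j.val j rfl i hji
  intro N
  induction N using Nat.strong_induction_on with
  | _ N ih =>
    intro j hj i hji
    obtain ⟨V, hV1, hV2, hV3⟩ := h i j hji
    have h3 := congrFun (congrFun hV3 j) j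
    rw [Matrix.add_mul, Matrix.one_mul, Matrix.add_apply, Matrix.single_mul_apply_same, one_mul,
      Matrix.mul_apply, Finset.sum_eq_single j] at h3
    · rw [hV2 j, mul_one] at h3
      exact (left_eq_add.mp h3)
    · intro k _ hkj
      rcases lt_or_gt_of_ne hkj with hlt | hgt
      · rw [ih k.val (by rw [← hj]; exact hlt) k rfl j hlt, zero_mul]
      · rw [hV1 k j hgt, mul_zero]
    · intro habs; exact absurd (Finset.mem_univ j) habs

theorem det_upper' {n : ℕ} (s : SpecialLinearGroup (Fin n) F)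
    (hup : ∀ i j : Fin n, j < i → s.1 i j = 0) : ∏ i, s.1 i i = 1 := by
  have h1 : s.1.BlockTriangular id := fun i j hij => hup i j hij
  rw [← Matrix.det_of_isUpperTriangular h1]
  exact s.2

/-- Upper triangular matrices of determinant one lie in any subgroup containing `UT` and the
torus elements `h_{ab}(t)`. -/
theorem upper_mem [Finite F] {n : ℕ} (N : Subgroup (SpecialLinearGroup (Fin n) F))
    (hU : UT n F ≤ N) (hH : ∀ (a b : Fin n) (hab : a ≠ b) (t : F), t ≠ 0 → hE hab t ∈ N) :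
    ∀ (d k : ℕ), k + d + 1 = n → ∀ s : SpecialLinearGroup (Fin n) F,
      (∀ i j : Fin n, j < i → s.1 i j = 0) → (∀ i : Fin n, i.val < k → s.1 i i = 1) → s ∈ N := by
  intro d
  induction d with
  | zero =>
    intro k hk s hup hdiag
    apply hU
    rw [mem_UT]
    refine ⟨hup, ?_⟩
    have hdet := det_upper' s hup
    obtain ⟨i₀, hi₀⟩ : ∃ i₀ : Fin n, i₀.val = k := ⟨⟨k, by omega⟩, rfl⟩
    rw [Finset.prod_eq_single i₀ (fun i _ hi => hdiag i (by
        have h1 : i.val ≠ k := fun h => hi (Fin.ext (h.trans hi₀.symm))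
        have h2 := i.2
        omega)) (fun h => absurd (Finset.mem_univ _) h)] at hdet
    intro i
    by_cases hi : i = i₀
    · rw [hi]; exact hdet
    · apply hdiag
      have h1 : i.val ≠ k := fun h => hi (Fin.ext (h.trans hi₀.symm))
      have h2 := i.2
      omega
  | succ d ih =>
    intro k hk s hup hdiag
    obtain ⟨a, ha⟩ : ∃ a : Fin n, a.val = k := ⟨⟨k, by omega⟩, rfl⟩
    obtain ⟨b, hb⟩ : ∃ b : Fin n, b.val = k + 1 := ⟨⟨k + 1, by omega⟩, rfl⟩
    have hab : a ≠ b := by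
      intro h
      rw [h] at ha
      omega
    have hsa : s.1 a a ≠ 0 := by
      have hdet := det_upper' s hup
      intro h0
      have : ∏ i, s.1 i i = 0 := Finset.prod_eq_zero (Finset.mem_univ a) h0
      rw [this] at hdet
      exact zero_ne_one hdet
    have ht : (s.1 a a)⁻¹ ≠ 0 := inv_ne_zero hsa
    have hmem := hH a b hab _ ht
    have h2 := ih (k + 1) (by omega) (hE hab (s.1 a a)⁻¹ * s)
      (by
        intro i j hji
        rw [hE_mul_apply hab _ ht, hup i j hji, mul_zero])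
      (by
        intro i hi
        rw [hE_mul_apply hab _ ht]
        by_cases hia : i = a
        · rw [if_pos hia, hia, inv_mul_cancel₀ hsa]
        · have hib : i ≠ b := by
            intro h
            rw [h, hb] at hi
            omega
          rw [if_neg hia, if_neg hib, one_mul]
          apply hdiag
          have : i.val ≠ k := fun h => hia (Fin.ext (h.trans ha.symm))
          omega)
    have h3 : s = (hE hab (s.1 a a)⁻¹)⁻¹ * (hE hab (s.1 a a)⁻¹ * s) := by group
    rw [h3]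
    exact N.mul_mem (N.inv_mem hmem) h2

theorem finite_sp [Finite F] : Finite (SpG m F) :=
  Finite.of_injective (fun g : SpG m F => g.1) Subtype.val_injective

theorem conj_pow_one (s x : SpG m F) (n : ℕ) (hx : x ^ n = 1) : (s * x * s⁻¹) ^ n = 1 := by
  rw [conj_pow, hx, mul_one, mul_inv_cancel]

section U

variable [Finite F]

/-- Membership in `U` in terms of matrix entries. -/
theorem mem_U' (g : SpG m F) : g ∈ U m F ↔ g ∈ PS m F ∧
    (∀ i j : Fin m, j < i → g.1.toBlocks₁₁ i j = 0) ∧ ∀ i : Fin m, g.1.toBlocks₁₁ i i = 1 := by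
  constructor
  · rintro ⟨h1, A, hA, h2⟩
    refine ⟨h1, fun i j hji => ?_, fun i => ?_⟩
    · rw [h2]; exact hA.1 i j hji
    · rw [h2]; exact hA.2 i
  · rintro ⟨h1, h2, h3⟩
    have hdet : g.1.toBlocks₁₁.det = 1 := by
      have hT : g.1.toBlocks₁₁.BlockTriangular id := fun i j hij => h2 i j hij
      rw [Matrix.det_of_isUpperTriangular hT]
      exact Finset.prod_eq_one (fun i _ => h3 i)
    exact ⟨h1, ⟨g.1.toBlocks₁₁, hdet⟩, ⟨h2, h3⟩, rfl⟩

/-- The normaliser of `U` lies in the Borel subgroup. -/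
theorem norm_U_upper (s : SpG m F) (h : ∀ x ∈ U m F, s * x * s⁻¹ ∈ U m F) :
    s ∈ PS m F ∧ ∀ i j : Fin m, j < i → s.1.toBlocks₁₁ i j = 0 := by
  haveI := finite_sp (m := m) (F := F)
  have hs : s ∈ PS m F := mem_PS_of_conj s (fun x hx => h x (RS_le_U hx))
  refine ⟨hs, upper_of_conj_mat _ ?_⟩
  intro i j hji
  have h1 := Cfsg.Agent.Lib.helper47.FusionLevi.conj_inv_mem (U m F) s h _
    (lvS_mem_U _ (Tv_mem_UT hji (1 : F)))
  obtain ⟨u', hu'⟩ : ∃ u', u' = s⁻¹ * lvS (Tv (ne_of_lt hji) (1 : F)) * s := ⟨_, rfl⟩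
  rw [← hu'] at h1
  have h2 : s * u' = lvS (Tv (ne_of_lt hji) (1 : F)) * s := by rw [hu']; group
  have h3 : (s * u').1.toBlocks₁₁ = (lvS (Tv (ne_of_lt hji) (1 : F)) * s).1.toBlocks₁₁ := by
    rw [h2]
  rw [PS_b11_mul _ _ h1.1, PS_b11_mul _ _ hs, lvS_b11,
    Matrix.SpecialLinearGroup.transvection_coe] at h3
  obtain ⟨-, h4, h5⟩ := (mem_U' u').mp h1
  exact ⟨_, h4, h5, h3⟩

theorem norm_U_pow (s : SpG m F) (h : ∀ x ∈ U m F, s * x * s⁻¹ ∈ U m F) (n : ℕ) :
    ∀ x ∈ U m F, s ^ n * x * (s ^ n)⁻¹ ∈ U m F := by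
  induction n with
  | zero => intro x hx; simpa using hx
  | succ n ih =>
    intro x hx
    have h1 := h _ (ih x hx)
    have e : s ^ (n + 1) * x * (s ^ (n + 1))⁻¹ = s * (s ^ n * x * (s ^ n)⁻¹) * s⁻¹ := by
      rw [pow_succ']; group
    rw [e]; exact h1

theorem norm_U_diag_pow (s : SpG m F) (h : ∀ x ∈ U m F, s * x * s⁻¹ ∈ U m F) (n : ℕ)
    (i : Fin m) : (s ^ n).1.toBlocks₁₁ i i = (s.1.toBlocks₁₁ i i) ^ n := by
  obtain ⟨hs, hup⟩ := norm_U_upper s h
  induction n with
  | zero =>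
    rw [pow_zero, pow_zero, sp_coe_one, ← fromBlocks_one, toBlocks_fromBlocks₁₁,
      Matrix.one_apply_eq]
  | succ n ih =>
    rw [pow_succ, PS_b11_mul _ _ hs,
      upper_mul_diag _ _ (norm_U_upper _ (norm_U_pow s h n)).2 hup, ih, pow_succ]

/-- A `p`-element normalising `U` lies in `U`. -/
theorem mem_U_of_norm_of_pow {p : ℕ} [Fact p.Prime] [CharP F p] (s : SpG m F)
    (h : ∀ x ∈ U m F, s * x * s⁻¹ ∈ U m F) (k : ℕ) (hk : s ^ (p ^ k) = 1) : s ∈ U m F := by
  obtain ⟨hs, hup⟩ := norm_U_upper s h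
  rw [mem_U']
  refine ⟨hs, hup, fun i => ?_⟩
  have h1 := norm_U_diag_pow s h (p ^ k) i
  rw [hk, sp_coe_one, ← fromBlocks_one, toBlocks_fromBlocks₁₁, Matrix.one_apply_eq] at h1
  have h4 : (s.1.toBlocks₁₁ i i - 1) ^ (p ^ k) = 0 := by
    rw [sub_pow_char_pow, ← h1, one_pow, sub_self]
  exact sub_eq_zero.mp ((pow_eq_zero_iff (pow_ne_zero _ (Fact.out : p.Prime).ne_zero)).mp h4)

/-- Conjugation by an element of the Siegel parabolic with diagonal upper-left block
preserves `U`. -/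
theorem conj_U_of_diag (s : SpG m F) (hs : s ∈ PS m F) (d : Fin m → F) (hd : ∀ i, d i ≠ 0)
    (h : s.1.toBlocks₁₁ = Matrix.diagonal d) : ∀ x ∈ U m F, s * x * s⁻¹ ∈ U m F := by
  intro x hx
  obtain ⟨hx1, hx2, hx3⟩ := (mem_U' x).mp hx
  obtain ⟨y, hy⟩ : ∃ y, y = s * x * s⁻¹ := ⟨_, rfl⟩
  rw [← hy]
  have hyP : y ∈ PS m F := by
    rw [hy]
    exact (PS m F).mul_mem ((PS m F).mul_mem hs hx1) ((PS m F).inv_mem hs)
  have h1 : y * s = s * x := by rw [hy]; group
  have h2 : (y * s).1.toBlocks₁₁ = (s * x).1.toBlocks₁₁ := by rw [h1]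
  rw [PS_b11_mul _ _ hs, PS_b11_mul _ _ hx1, h] at h2
  have h3 : ∀ i j, y.1.toBlocks₁₁ i j * d j = d i * x.1.toBlocks₁₁ i j := by
    intro i j
    have := congrFun (congrFun h2 i) j
    rwa [Matrix.mul_diagonal, Matrix.diagonal_mul] at this
  rw [mem_U']
  refine ⟨hyP, fun i j hji => ?_, fun i => ?_⟩
  · have := h3 i j
    rw [hx2 i j hji, mul_zero] at this
    exact (mul_eq_zero.mp this).resolve_right (hd j)
  · have := h3 i i
    rw [hx3 i, mul_one] at this
    exact mul_right_cancel₀ (hd i) (by rw [this, one_mul])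

end U

/-- The projection onto `PSp`. -/
def prS : SpG m F →* Cfsg.PSp m F := QuotientGroup.mk' _

theorem prS_surj : Function.Surjective (prS (m := m) (F := F)) := QuotientGroup.mk'_surjective _

theorem prS_eq_iff (a b : SpG m F) : prS a = prS b ↔ a⁻¹ * b ∈ Subgroup.center (SpG m F) := by
  unfold prS
  rw [QuotientGroup.mk'_apply, QuotientGroup.mk'_apply, QuotientGroup.eq]

section fin

variable [Fintype F] {p f : ℕ} [Fact p.Prime] [CharP F p]

/-- `U` as a Sylow `p`-subgroup of `Sp_{2m}(F)`. -/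
def sylU (hF : Fintype.card F = p ^ f) : Sylow p (SpG m F) where
  toSubgroup := U m F
  isPGroup' := isPGroup_U hF
  is_maximal' := by
    intro Q hQ hUQ
    by_contra hne
    have hH : (U m F).subgroupOf Q ≠ ⊤ := by
      intro h
      rw [Subgroup.subgroupOf_eq_top] at h
      exact hne (le_antisymm h hUQ)
    haveI := finite_sp (m := m) (F := F)
    haveI : Group.IsNilpotent Q := hQ.isNilpotent
    have h1 := Group.normalizerCondition_of_isNilpotent _ (lt_top_iff_ne_top.mpr hH)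
    obtain ⟨g, hg, hgn⟩ := SetLike.exists_of_lt h1
    rw [Subgroup.mem_normalizer_iff] at hg
    have h2 : ∀ x ∈ U m F, g.1 * x * g.1⁻¹ ∈ U m F := by
      intro x hx
      have := (hg ⟨x, hUQ hx⟩).mp (Subgroup.mem_subgroupOf.mpr hx)
      exact Subgroup.mem_subgroupOf.mp this
    obtain ⟨k, hk⟩ := hQ g
    have hk' : g.1 ^ (p ^ k) = 1 := by
      have := congrArg Subtype.val hk
      simpa using this
    exact hgn (Subgroup.mem_subgroupOf.mpr (mem_U_of_norm_of_pow g.1 h2 k hk'))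

theorem sylU_coe (hF : Fintype.card F = p ^ f) :
    ((sylU (m := m) hF : Sylow p (SpG m F)) : Subgroup (SpG m F)) = U m F := rfl

/-- Central `p`-elements are trivial. -/
theorem central_pow_eq_one (z : SpG m F) (hz : z ∈ Subgroup.center (SpG m F)) (k : ℕ)
    (hk : z ^ (p ^ k) = 1) : z = 1 := by
  have hzU : z ∈ U m F := by
    apply mem_U_of_norm_of_pow z _ k hk
    intro x hx
    rw [← Subgroup.mem_center_iff.mp hz x, mul_inv_cancel_right]
    exact hx
  have hzR : z ∈ RS m F :=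
    mem_RS_of_comm z hzU (fun x _ => (Subgroup.mem_center_iff.mp hz x).symm)
  obtain ⟨B, hB, rfl⟩ := exists_rS_of_mem z hzR
  have h1 := congrArg (fun g : SpG m F => g.1.toBlocks₁₁)
    (Subgroup.mem_center_iff.mp hz (SymplecticGroup.symJ (Fin m) F))
  simp only [sp_coe_mul, SymplecticGroup.coe_J, rS_coe, Matrix.J, fromBlocks_multiply,
    toBlocks_fromBlocks₁₁] at h1
  have h2 : B = 0 := by simpa using h1.symm
  subst h2
  exact rS_zero

/-- `p`-elements of `Sp` with the same image in `PSp` are equal. -/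
theorem eq_of_prS_eq_of_pow (x y : SpG m F) (a b : ℕ) (hx : x ^ (p ^ a) = 1)
    (hy : y ^ (p ^ b) = 1) (h : prS x = prS y) : x = y := by
  have hz := (prS_eq_iff x y).mp h
  have hc : Commute x (x⁻¹ * y) := Subgroup.mem_center_iff.mp hz x
  have hx' : x ^ (p ^ (a + b)) = 1 := by rw [pow_add, pow_mul, hx, one_pow]
  have hy' : y ^ (p ^ (a + b)) = 1 := by rw [pow_add, mul_comm, pow_mul, hy, one_pow]
  have h1 : (x⁻¹ * y) ^ (p ^ (a + b)) = 1 := by
    have e : y = x * (x⁻¹ * y) := by group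
    have h2 : y ^ (p ^ (a + b)) = x ^ (p ^ (a + b)) * (x⁻¹ * y) ^ (p ^ (a + b)) := by
      conv_lhs => rw [e]
      exact hc.mul_pow _
    rw [hy', hx', one_mul] at h2
    exact h2.symm
  have h3 := central_pow_eq_one _ hz _ h1
  exact inv_mul_eq_one.mp h3

theorem mem_U_of_prS_mem (hF : Fintype.card F = p ^ f) (x : SpG m F) (a : ℕ)
    (hx : x ^ (p ^ a) = 1) (h : prS x ∈ (U m F).map prS) : x ∈ U m F := by
  obtain ⟨u, hu, hux⟩ := h
  obtain ⟨b, hb⟩ := U_pow hF u hu
  have := eq_of_prS_eq_of_pow u x b a hb hx hux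
  rw [← this]
  exact hu

theorem prS_inj_U (hF : Fintype.card F = p ^ f) (x y : SpG m F) (hx : x ∈ U m F)
    (hy : y ∈ U m F) (h : prS x = prS y) : x = y := by
  obtain ⟨a, ha⟩ := U_pow hF x hx
  obtain ⟨b, hb⟩ := U_pow hF y hy
  exact eq_of_prS_eq_of_pow x y a b ha hb h

end fin

/-! ### Torus elements -/

theorem phi_hE_coe (i : Fin m) (t : F) (ht : t ≠ 0) :
    (phi i (hE h01 t)).1 = fromBlocks (Matrix.diagonal (fun k => if k = i then t else 1)) 0 0
      (Matrix.diagonal (fun k => if k = i then t⁻¹ else 1)) := by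
  rw [phi_coe, hE_coe h01 t ht]
  unfold embM
  have e00 : (Matrix.diagonal (fun i : Fin 2 => if i = 0 then t else if i = 1 then t⁻¹ else 1))
      0 0 = t := by simp
  have e01 : (Matrix.diagonal (fun i : Fin 2 => if i = 0 then t else if i = 1 then t⁻¹ else 1))
      0 1 = 0 := by simp
  have e10 : (Matrix.diagonal (fun i : Fin 2 => if i = 0 then t else if i = 1 then t⁻¹ else 1))
      1 0 = 0 := by simp
  have e11 : (Matrix.diagonal (fun i : Fin 2 => if i = 0 then t else if i = 1 then t⁻¹ else 1))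
      1 1 = t⁻¹ := by simp
  rw [e00, e01, e10, e11, Matrix.single_zero]
  congr 1
  · ext a b
    rw [Matrix.add_apply, Matrix.single_apply]
    by_cases hab : a = b
    · subst hab
      rw [Matrix.one_apply_eq, Matrix.diagonal_apply_eq]
      by_cases hai : a = i
      · subst hai
        rw [if_pos ⟨rfl, rfl⟩, if_pos rfl]; ring
      · rw [if_neg (fun h => hai h.1.symm), if_neg hai, add_zero]
    · rw [Matrix.one_apply_ne hab, Matrix.diagonal_apply_ne _ hab,
        if_neg (fun h => hab (h.1.symm.trans h.2)), add_zero]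
  · ext a b
    rw [Matrix.add_apply, Matrix.single_apply]
    by_cases hab : a = b
    · subst hab
      rw [Matrix.one_apply_eq, Matrix.diagonal_apply_eq]
      by_cases hai : a = i
      · subst hai
        rw [if_pos ⟨rfl, rfl⟩, if_pos rfl]; ring
      · rw [if_neg (fun h => hai h.1.symm), if_neg hai, add_zero]
    · rw [Matrix.one_apply_ne hab, Matrix.diagonal_apply_ne _ hab,
        if_neg (fun h => hab (h.1.symm.trans h.2)), add_zero]

theorem phi_hE_mem_PS (i : Fin m) (t : F) (ht : t ≠ 0) : phi i (hE h01 t) ∈ PS m F := by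
  rw [mem_PS, phi_hE_coe i t ht, toBlocks_fromBlocks₂₁]

theorem phi_hE_b11 (i : Fin m) (t : F) (ht : t ≠ 0) :
    (phi i (hE h01 t)).1.toBlocks₁₁ = Matrix.diagonal (fun k => if k = i then t else 1) := by
  rw [phi_hE_coe i t ht, toBlocks_fromBlocks₁₁]

theorem phi_hE_conj_U [Finite F] (i : Fin m) (t : F) (ht : t ≠ 0) :
    ∀ x ∈ U m F, phi i (hE h01 t) * x * (phi i (hE h01 t))⁻¹ ∈ U m F :=
  conj_U_of_diag _ (phi_hE_mem_PS i t ht) _ (fun k => by split_ifs <;> [exact ht; exact one_ne_zero])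
    (phi_hE_b11 i t ht)

theorem lvS_hE_conj_U [Finite F] {a b : Fin m} (hab : a ≠ b) (t : F) (ht : t ≠ 0) :
    ∀ x ∈ U m F, lvS (hE hab t) * x * (lvS (hE hab t))⁻¹ ∈ U m F :=
  conj_U_of_diag _ (lvS_mem_PS _) _ (fun k => hE_d_ne_zero t ht k)
    (by rw [lvS_b11, hE_coe hab t ht])

end Cfsg.Agent.Lib.helper47.SpFus
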