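import Mathlib
import Cfsg.Agent.Lib.helper48.PSpBasic
import Cfsg.Agent.Lib.helper47.SpFusC

/-!
Generation of `Sp_{2m}(F)`: a subgroup containing the Levi root elements `lvS (T_ij(c))` and all
transvections with centre a standard basis vector is everything.
-/

set_option autoImplicit false

namespace Cfsg.Agent.Lib.helper47.SpGen

open Matrix Cfsg Cfsg.Agent.Lib.helper85 Cfsg.Agent.Lib.helper48.PSp

variable {m : ℕ} {F : Type*} [Field F]

local notation "Tv" => Matrix.SpecialLinearGroup.transvection
local notation "lvS" => Cfsg.Agent.Lib.helper47.SpFus.lvS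

/-- all transvections with centre `v` lie in `H` -/
def Good (H : Subgroup (SpG m F)) (v : VS m F) : Prop := ∀ c : F, spT v c ∈ H

theorem Good.smul {H : Subgroup (SpG m F)} {v : VS m F} (h : Good H v) (k : F) :
    Good H (k • v) := by
  intro c
  rw [spT_smul]
  exact h _

theorem Good.act {H : Subgroup (SpG m F)} {v : VS m F} (h : Good H v) {g : SpG m F}
    (hg : g ∈ H) : Good H (act g v) := by
  intro c
  rw [← spT_conj]
  exact H.mul_mem (H.mul_mem hg (h c)) (H.inv_mem hg)

theorem Good.add {H : Subgroup (SpG m F)} {u v : VS m F} (hu : Good H u) (hv : Good H v)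
    (c : F) : Good H (v + (c * sf v u) • u) := by
  have := hv.act (hu c)
  rwa [act_spT] at this

theorem top_of_good {H : Subgroup (SpG m F)} (h : ∀ v, Good H v) : H = ⊤ := by
  rw [eq_top_iff]
  intro g _
  have h1 : spH (Fin m) F ≤ H := by
    unfold spH
    rw [Subgroup.closure_le]
    rintro t ⟨p, c, rfl⟩
    exact h p c
  exact h1 (sp_gen g)

/-- induction on the support of a vector -/
theorem supp_ind (P : (Fin m → F) → Prop)
    (h1 : ∀ (i : Fin m) (t : F), t ≠ 0 → P (Pi.single i t))
    (h2 : ∀ (i j : Fin m), i ≠ j → ∀ (c : F) (a : Fin m → F), P a →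
      P (a + (c * a j) • Pi.single i 1))
    (a : Fin m → F) (ha : a ≠ 0) : P a := by
  classical
  have key : ∀ n : ℕ, ∀ a : Fin m → F,
      (Finset.univ.filter (fun k => a k ≠ 0)).card = n + 1 → P a := by
    intro n
    induction n with
    | zero =>
      intro a hc
      rw [zero_add, Finset.card_eq_one] at hc
      obtain ⟨i, hi⟩ := hc
      have hai : a i ≠ 0 := by
        have : i ∈ Finset.univ.filter (fun k => a k ≠ 0) := by
          rw [hi]; exact Finset.mem_singleton_self i
        exact (Finset.mem_filter.mp this).2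
      have : a = Pi.single i (a i) := by
        funext k
        by_cases hk : k = i
        · subst hk; rw [Pi.single_eq_same]
        · rw [Pi.single_eq_of_ne hk]
          by_contra hne
          have : k ∈ Finset.univ.filter (fun k => a k ≠ 0) :=
            Finset.mem_filter.mpr ⟨Finset.mem_univ _, hne⟩
          rw [hi, Finset.mem_singleton] at this
          exact hk this
      rw [this]
      exact h1 i _ hai
    | succ n ih =>
      intro a hc
      have h1lt : 1 < (Finset.univ.filter (fun k => a k ≠ 0)).card := by omega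
      obtain ⟨i, hi, j, hj, hij⟩ := Finset.one_lt_card.mp h1lt
      have hai : a i ≠ 0 := (Finset.mem_filter.mp hi).2
      have haj : a j ≠ 0 := (Finset.mem_filter.mp hj).2
      have hsupp : Finset.univ.filter (fun k => Function.update a i 0 k ≠ 0) =
          (Finset.univ.filter (fun k => a k ≠ 0)).erase i := by
        ext k
        rw [Finset.mem_filter, Finset.mem_erase, Finset.mem_filter]
        by_cases hk : k = i
        · subst hk; simp
        · simp [hk]
      have hP := ih (Function.update a i 0) (by
        rw [hsupp, Finset.card_erase_of_mem hi, hc]; rfl)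
      have := h2 i j hij (a i / a j) _ hP
      have e : Function.update a i 0 + (a i / a j * Function.update a i 0 j) • Pi.single i 1
          = a := by
        funext k
        rw [Pi.add_apply, Pi.smul_apply, smul_eq_mul, Function.update_of_ne (Ne.symm hij)]
        by_cases hk : k = i
        · subst hk
          rw [Function.update_self, Pi.single_eq_same, div_mul_cancel₀ _ haj]; ring
        · rw [Function.update_of_ne hk, Pi.single_eq_of_ne hk]; ring
      rwa [e] at this
  have hpos : 0 < (Finset.univ.filter (fun k => a k ≠ 0)).card := by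
    rw [Finset.card_pos]
    by_contra hne
    rw [Finset.not_nonempty_iff_eq_empty] at hne
    apply ha
    funext k
    by_contra hk
    have : k ∈ Finset.univ.filter (fun k => a k ≠ 0) :=
      Finset.mem_filter.mpr ⟨Finset.mem_univ _, hk⟩
    rw [hne] at this
    exact absurd this (Finset.notMem_empty _)
  exact key ((Finset.univ.filter (fun k => a k ≠ 0)).card - 1) a (by omega)

/-- vectors in the span of the `e_i` -/
def vE (a : Fin m → F) : VS m F := Sum.elim a 0

/-- vectors in the span of the `f_i` -/
def vF (b : Fin m → F) : VS m F := Sum.elim 0 b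

theorem vE_single (i : Fin m) (t : F) : vE (Pi.single i t) = t • (eb i : VS m F) := by
  funext x
  rcases x with k | k
  · by_cases hk : k = i
    · subst hk; simp [vE, eb]
    · simp [vE, eb, hk]
  · simp [vE, eb]

theorem vF_single (i : Fin m) (t : F) : vF (Pi.single i t) = t • (fb i : VS m F) := by
  funext x
  rcases x with k | k
  · simp [vF, fb]
  · by_cases hk : k = i
    · subst hk; simp [vF, fb]
    · simp [vF, fb, hk]

variable [NeZero m]

theorem act_lvS_Tv {i j : Fin m} (hij : i ≠ j) (c : F) (v : VS m F) :
    act (lvS (Tv hij c)) v = Sum.elim (v ∘ Sum.inl + (c * v (Sum.inl j)) • Pi.single i 1)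
      (v ∘ Sum.inr + (-c * v (Sum.inr i)) • Pi.single j 1) :=
  Cfsg.Agent.Lib.helper47.SpFus.lvS_Tv_mulVec hij c v

theorem act_lvS_Tv_vE {i j : Fin m} (hij : i ≠ j) (c : F) (a : Fin m → F) :
    act (lvS (Tv hij c)) (vE a) = vE (a + (c * a j) • Pi.single i 1) := by
  rw [act_lvS_Tv]
  funext x
  rcases x with k | k
  · simp [vE]
  · simp [vE]

theorem act_lvS_Tv_vF {i j : Fin m} (hij : i ≠ j) (c : F) (b : Fin m → F) :
    act (lvS (Tv hij c)) (vF b) = vF (b + (-c * b i) • Pi.single j 1) := by
  rw [act_lvS_Tv]
  funext x
  rcases x with k | k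
  · simp [vF]
  · simp [vF]

theorem good_vE {H : Subgroup (SpG m F)}
    (hL : ∀ (i j : Fin m) (hij : i ≠ j) (c : F), lvS (Tv hij c) ∈ H)
    (hE : ∀ i, Good H (eb i)) (a : Fin m → F) (ha : a ≠ 0) : Good H (vE a) := by
  refine supp_ind (fun a => Good H (vE a)) ?_ ?_ a ha
  · intro i t _
    show Good H (vE (Pi.single i t))
    rw [vE_single]
    exact (hE i).smul t
  · intro i j hij c a hP
    show Good H (vE (a + (c * a j) • Pi.single i 1))
    rw [← act_lvS_Tv_vE hij]
    exact Good.act hP (hL i j hij c)

theorem good_vF {H : Subgroup (SpG m F)}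
    (hL : ∀ (i j : Fin m) (hij : i ≠ j) (c : F), lvS (Tv hij c) ∈ H)
    (hF : ∀ i, Good H (fb i)) (b : Fin m → F) (hb : b ≠ 0) : Good H (vF b) := by
  refine supp_ind (fun b => Good H (vF b)) ?_ ?_ b hb
  · intro i t _
    show Good H (vF (Pi.single i t))
    rw [vF_single]
    exact (hF i).smul t
  · intro i j hij c b hP
    show Good H (vF (b + (c * b j) • Pi.single i 1))
    have := act_lvS_Tv_vF (Ne.symm hij) (-c) b
    rw [neg_neg] at this
    rw [← this]
    exact Good.act hP (hL j i (Ne.symm hij) (-c))

omit [NeZero m] in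
theorem good_all {H : Subgroup (SpG m F)}
    (hE : ∀ a : Fin m → F, a ≠ 0 → Good H (vE a))
    (hF : ∀ b : Fin m → F, b ≠ 0 → Good H (vF b)) : ∀ v : VS m F, Good H v := by
  intro v
  obtain ⟨a, b, rfl⟩ : ∃ a b, v = vE a + vF b := ⟨v ∘ Sum.inl, v ∘ Sum.inr, by
    funext x; rcases x with k | k <;> simp [vE, vF]⟩
  by_cases hb : b = 0
  · subst hb
    by_cases ha : a = 0
    · subst ha
      intro c
      have : (vE (0 : Fin m → F) + vF (0 : Fin m → F)) = 0 := by
        funext x; rcases x with k | k <;> simp [vE, vF]
      rw [this, spT_zero_vec]; exact H.one_mem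
    · have : vE a + vF (0 : Fin m → F) = vE a := by
        funext x; rcases x with k | k <;> simp [vE, vF]
      rw [this]; exact hE a ha
  by_cases ha : a = 0
  · subst ha
    have : vE (0 : Fin m → F) + vF b = vF b := by
      funext x; rcases x with k | k <;> simp [vE, vF]
    rw [this]; exact hF b hb
  have key : ∀ a' : Fin m → F, a' ≠ 0 → sf (vF b) (vE a') ≠ 0 → Good H (vE a' + vF b) := by
    intro a' ha' hs
    have := Good.add (hE a' ha') (hF b hb) (sf (vF b) (vE a'))⁻¹
    rw [inv_mul_cancel₀ hs, one_smul, add_comm] at this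
    exact this
  by_cases hs : sf (vF b) (vE a) = 0
  · obtain ⟨i, hi⟩ : ∃ i, b i ≠ 0 := by
      by_contra hne
      push Not at hne
      exact hb (funext hne)
    have hbi : sf (vF b) (eb i) = b i := by rw [sf_eb]; rfl
    have hsum : vE a + eb i = vE (a + Pi.single i 1) := by
      funext x
      rcases x with k | k
      · by_cases hk : k = i
        · subst hk; simp [vE, eb]
        · simp [vE, eb, hk]
      · simp [vE, eb]
    have hne : a + Pi.single i 1 ≠ 0 := by
      intro h0
      have h1 : vE a = -(eb i : VS m F) := by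
        rw [eq_neg_iff_add_eq_zero, hsum, h0]
        funext x; rcases x with k | k <;> simp [vE]
      rw [h1, sf_neg_right, hbi] at hs
      exact hi (neg_eq_zero.mp hs)
    have hs' : sf (vF b) (vE (a + Pi.single i 1)) ≠ 0 := by
      rw [← hsum, sf_add_right, hs, zero_add, hbi]; exact hi
    have h2 := key _ hne hs'
    have hE_i : Good H (eb i) := by
      have := hE (Pi.single i 1) (by
        intro h; have := congrFun h i; simp at this)
      rwa [vE_single, one_smul] at this
    have h3 := Good.add hE_i h2 (-(b i)⁻¹)
    have hsf : sf (vE (a + Pi.single i 1) + vF b) (eb i) = b i := by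
      rw [sf_eb]; simp [vE, vF]
    rw [hsf, neg_mul, inv_mul_cancel₀ hi, neg_one_smul, ← hsum] at h3
    have e : vE a + eb i + vF b + -(eb i : VS m F) = vE a + vF b := by abel
    rwa [e] at h3
  · exact key a ha hs

/-- a subgroup containing the Levi root elements and the transvections centred at the standard
basis vectors is the whole symplectic group -/
theorem top_of_levi {H : Subgroup (SpG m F)}
    (hL : ∀ (i j : Fin m) (hij : i ≠ j) (c : F), lvS (Tv hij c) ∈ H)
    (hE : ∀ i, Good H (eb i)) (hF : ∀ i, Good H (fb i)) : H = ⊤ :=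
  top_of_good (good_all (good_vE hL hE) (good_vF hL hF))

end Cfsg.Agent.Lib.helper47.SpGen
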