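import Mathlib
import Cfsg.Agent.Lib.helper47.SpGenA
import Cfsg.Agent.Lib.helper45.SLGen

/-!
Generation of `Sp_{2m}(F)`: the Coxeter-type element `bgen` and a criterion for a subgroup
containing it to be everything.
-/

set_option autoImplicit false

namespace Cfsg.Agent.Lib.helper47.SpGen

open Matrix Cfsg Cfsg.Agent.Lib.helper85 Cfsg.Agent.Lib.helper48.PSp Cfsg.Agent.Lib.helper45

local notation "Tv" => Matrix.SpecialLinearGroup.transvection
local notation "lvS" => Cfsg.Agent.Lib.helper47.SpFus.lvS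

section general

variable {m : ℕ} {F : Type*} [Field F]

theorem act_lvS (A : SpecialLinearGroup (Fin m) F) (v : VS m F) :
    act (lvS A) v = Sum.elim (A.1 *ᵥ (v ∘ Sum.inl)) ((A⁻¹).1ᵀ *ᵥ (v ∘ Sum.inr)) := by
  have h : (lvS A).1 = fromBlocks A.1 0 0 ((A⁻¹).1)ᵀ := rfl
  show (lvS A).1 *ᵥ v = _
  rw [h]
  conv_lhs => rw [← Sum.elim_comp_inl_inr v]
  rw [fromBlocks_mulVec]
  simp

/-- Weyl element of the hyperbolic plane `⟨e_i, f_i⟩` -/
def wP (i : Fin m) : SpG m F := spT (eb i) 1 * spT (fb i) 1 * spT (eb i) 1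

theorem wP_mem {H : Subgroup (SpG m F)} {i : Fin m} (hE : Good H (eb i)) (hF : Good H (fb i)) :
    wP i ∈ H :=
  H.mul_mem (H.mul_mem (hE 1) (hF 1)) (hE 1)

theorem eb_inl (i k : Fin m) : (eb i : VS m F) (Sum.inl k) = if k = i then 1 else 0 := by
  simp [eb, Pi.single_apply]

theorem eb_inr (i k : Fin m) : (eb i : VS m F) (Sum.inr k) = 0 := by
  simp [eb]

theorem fb_inr (i k : Fin m) : (fb i : VS m F) (Sum.inr k) = if k = i then 1 else 0 := by
  simp [fb, Pi.single_apply]

theorem fb_inl (i k : Fin m) : (fb i : VS m F) (Sum.inl k) = 0 := by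
  simp [fb]

theorem act_spT_eb_eb (i j : Fin m) (c : F) : act (spT (eb i) c) (eb j : VS m F) = eb j := by
  rw [act_spT, sf_eb, eb_inr, mul_zero, zero_smul, add_zero]

theorem act_spT_fb_fb (i j : Fin m) (c : F) : act (spT (fb i) c) (fb j : VS m F) = fb j := by
  rw [act_spT, sf_fb, fb_inl, neg_zero, mul_zero, zero_smul, add_zero]

theorem act_spT_eb_fb_ne {i j : Fin m} (hij : i ≠ j) (c : F) :
    act (spT (eb i) c) (fb j : VS m F) = fb j := by
  rw [act_spT, sf_eb, fb_inr, if_neg hij, mul_zero, zero_smul, add_zero]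

theorem act_spT_eb_fb (i : Fin m) (c : F) :
    act (spT (eb i) c) (fb i : VS m F) = fb i + c • eb i := by
  rw [act_spT, sf_eb, fb_inr, if_pos rfl, mul_one]

theorem act_spT_fb_eb_ne {i j : Fin m} (hij : i ≠ j) (c : F) :
    act (spT (fb i) c) (eb j : VS m F) = eb j := by
  rw [act_spT, sf_fb, eb_inl, if_neg hij, neg_zero, mul_zero, zero_smul, add_zero]

theorem act_spT_fb_eb (i : Fin m) (c : F) :
    act (spT (fb i) c) (eb i : VS m F) = eb i + (-c) • fb i := by
  rw [act_spT, sf_fb, eb_inl, if_pos rfl, mul_neg, mul_one]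

theorem act_wP_eb_ne {i j : Fin m} (hij : i ≠ j) : act (wP i) (eb j : VS m F) = eb j := by
  unfold wP
  rw [act_mul, act_mul, act_spT_eb_eb, act_spT_fb_eb_ne hij, act_spT_eb_eb]

theorem act_wP_fb_ne {i j : Fin m} (hij : i ≠ j) : act (wP i) (fb j : VS m F) = fb j := by
  unfold wP
  rw [act_mul, act_mul, act_spT_eb_fb_ne hij, act_spT_fb_fb, act_spT_eb_fb_ne hij]

theorem act_wP_fb (i : Fin m) : act (wP i) (fb i : VS m F) = eb i := by
  unfold wP
  simp only [act_mul, act_add, act_smul, act_spT_eb_fb, act_spT_fb_fb, act_spT_fb_eb,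
    act_spT_eb_eb]
  module

theorem act_wP_eb (i : Fin m) : act (wP i) (eb i : VS m F) = -fb i := by
  unfold wP
  simp only [act_mul, act_add, act_smul, act_spT_eb_fb, act_spT_fb_eb,
    act_spT_eb_eb]
  module

/-- transfer of membership of transvections along a group element -/
theorem mem_of_act {H : Subgroup (SpG m F)} {g : SpG m F} (hg : g ∈ H) {v v' : VS m F} {ε : F}
    (hε : ε * ε = 1) (h : act g v = ε • v') (c : F) : spT v c ∈ H ↔ spT v' c ∈ H := by
  have e : g * spT v c * g⁻¹ = spT v' c := by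
    rw [spT_conj, h, spT_smul, pow_two, hε, one_mul]
  constructor
  · intro h1; rw [← e]; exact H.mul_mem (H.mul_mem hg h1) (H.inv_mem hg)
  · intro h1
    have : spT v c = g⁻¹ * spT v' c * g := by rw [← e]; group
    rw [this]; exact H.mul_mem (H.mul_mem (H.inv_mem hg) h1) hg

variable [NeZero m]

/-- the Levi root element as a product of three transvections -/
theorem lvS_Tv_eq {i j : Fin m} (hij : i ≠ j) (μ : F) (hμ : μ ≠ 0) (c : F) :
    lvS (Tv hij c) = spT (eb i + μ • fb j) (-c / μ) * spT (eb i) (c / μ) * spT (fb j) (c * μ) := by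
  have hji : j ≠ i := Ne.symm hij
  apply sp_ext'
  intro v
  rw [act_lvS_Tv, act_mul, act_mul, act_spT, act_spT, act_spT]
  simp only [sf_add_right, sf_smul_right, sf_eb, sf_fb]
  funext x
  rcases x with k | k
  · by_cases hki : k = i
    · subst hki
      simp [eb_inl, eb_inr, fb_inl, fb_inr, hij, hji]
      field_simp
      ring
    · simp [eb_inl, eb_inr, fb_inl, fb_inr, hij, hji, hki]
  · by_cases hkj : k = j
    · subst hkj
      simp [eb_inl, eb_inr, fb_inl, fb_inr, hij, hji]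
      field_simp
      ring
    · simp [eb_inl, eb_inr, fb_inl, fb_inr, hij, hji, hkj]

theorem act_lvS_Tv_eb_ne {i j : Fin m} (hij : i ≠ j) (c : F) {k : Fin m} (hk : k ≠ j) :
    act (lvS (Tv hij c)) (eb k : VS m F) = eb k := by
  rw [act_lvS_Tv]
  funext x
  rcases x with l | l
  · simp [eb_inl, eb_inr, Ne.symm hk]
  · simp [eb_inl, eb_inr]

theorem act_lvS_Tv_eb {i j : Fin m} (hij : i ≠ j) (c : F) :
    act (lvS (Tv hij c)) (eb j : VS m F) = eb j + c • eb i := by
  rw [act_lvS_Tv]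
  funext x
  rcases x with l | l
  · simp [eb_inl, eb_inr, Pi.single_apply]
  · simp [eb_inl, eb_inr]

theorem act_lvS_Tv_fb_ne {i j : Fin m} (hij : i ≠ j) (c : F) {k : Fin m} (hk : k ≠ i) :
    act (lvS (Tv hij c)) (fb k : VS m F) = fb k := by
  rw [act_lvS_Tv]
  funext x
  rcases x with l | l
  · simp [fb_inl, fb_inr]
  · simp [fb_inl, fb_inr, Ne.symm hk]

theorem act_lvS_Tv_fb {i j : Fin m} (hij : i ≠ j) (c : F) :
    act (lvS (Tv hij c)) (fb i : VS m F) = fb i + (-c) • fb j := by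
  rw [act_lvS_Tv]
  funext x
  rcases x with l | l
  · simp [fb_inl, fb_inr]
  · simp [fb_inl, fb_inr, Pi.single_apply]

end general

section cyc

variable {F : Type*} [Field F] {n : ℕ}

/-- the cyclic monomial matrix -/
def cycM (F : Type*) [Field F] (n : ℕ) : Matrix (Fin (n + 1)) (Fin (n + 1)) F :=
  Matrix.of (fun i j => if j = i + 1 then cycEps F n i else 0)

theorem cycM_apply (i j : Fin (n + 1)) :
    cycM F n i j = if j = i + 1 then cycEps F n i else 0 := rfl

theorem prod_cycEps : ∏ i : Fin (n + 1), cycEps F n i = (-1) ^ n := by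
  classical
  have h : ∀ i : Fin (n + 1), cycEps F n i = if i = Fin.last n then (-1) ^ n else 1 := by
    intro i
    unfold cycEps
    by_cases hi : i = Fin.last n
    · subst hi; simp
    · have : ¬ (i.val = n) := fun h => hi (Fin.ext h)
      rw [if_neg this, if_neg hi]
  simp_rw [h]
  rw [Finset.prod_ite_eq' Finset.univ (Fin.last n) (fun _ => (-1 : F) ^ n)]
  simp

theorem cycM_det : (cycM F n).det = 1 := by
  have h : cycM F n = Matrix.diagonal (cycEps F n) * (finRotate (n + 1)).permMatrix F := by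
    ext i j
    rw [Matrix.diagonal_mul, cycM_apply, Equiv.Perm.permMatrix, PEquiv.toMatrix_apply,
      Equiv.toPEquiv_apply]
    simp [eq_comm]
  rw [h, Matrix.det_mul, Matrix.det_diagonal, Matrix.det_permutation, sign_finRotate, prod_cycEps]
  push_cast
  rw [← mul_pow]
  simp

/-- the cyclic monomial matrix in `SL` -/
def cycSL (F : Type*) [Field F] (n : ℕ) : SpecialLinearGroup (Fin (n + 1)) F :=
  ⟨cycM F n, cycM_det⟩

theorem cycM_mul_transpose : cycM F n * (cycM F n)ᵀ = 1 := by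
  ext i j
  rw [Matrix.mul_apply]
  simp only [cycM_apply, Matrix.transpose_apply]
  rw [Finset.sum_eq_single (i + 1)]
  · rw [if_pos rfl]
    by_cases hij : i = j
    · subst hij; rw [if_pos rfl, cycEps_mul_self, Matrix.one_apply_eq]
    · rw [if_neg (fun h => hij (add_right_cancel h)), mul_zero, Matrix.one_apply_ne hij]
  · intro k _ hk; rw [if_neg hk, zero_mul]
  · intro h; exact absurd (Finset.mem_univ _) h

theorem cycSL_inv_coe : ((cycSL F n)⁻¹).1 = (cycM F n)ᵀ := by
  have h : (cycSL F n)⁻¹ = (cycSL F n).transpose := by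
    apply inv_eq_of_mul_eq_one_right
    apply Subtype.ext
    exact cycM_mul_transpose
  rw [h]
  rfl

theorem cycM_mulVec_single (j : Fin (n + 1)) :
    cycM F n *ᵥ Pi.single j 1 = Pi.single (j - 1) (cycEps F n (j - 1)) := by
  funext i
  rw [Matrix.mulVec_single_one, Matrix.col_apply, cycM_apply, Pi.single_apply]
  by_cases h : i = j - 1
  · subst h
    rw [if_pos (sub_add_cancel j 1).symm, if_pos rfl]
  · rw [if_neg (fun h' => h (eq_sub_of_add_eq h'.symm)), if_neg h]

theorem act_cyc_eb (j : Fin (n + 1)) :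
    act (lvS (cycSL F n)) (eb j : VS (n + 1) F) = cycEps F n (j - 1) • eb (j - 1) := by
  rw [act_lvS]
  have h1 : (eb j : VS (n + 1) F) ∘ Sum.inl = Pi.single j 1 := by
    funext k; simp [eb_inl, Pi.single_apply]
  have h2 : (eb j : VS (n + 1) F) ∘ Sum.inr = 0 := by
    funext k; simp [eb_inr]
  rw [h1, h2, Matrix.mulVec_zero]
  show Sum.elim (cycM F n *ᵥ Pi.single j 1) 0 = _
  rw [cycM_mulVec_single]
  funext x
  rcases x with k | k
  · simp [eb_inl, Pi.single_apply]
  · simp [eb_inr]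

theorem act_cyc_fb (j : Fin (n + 1)) :
    act (lvS (cycSL F n)) (fb j : VS (n + 1) F) = cycEps F n (j - 1) • fb (j - 1) := by
  rw [act_lvS]
  have h1 : (fb j : VS (n + 1) F) ∘ Sum.inr = Pi.single j 1 := by
    funext k; simp [fb_inr, Pi.single_apply]
  have h2 : (fb j : VS (n + 1) F) ∘ Sum.inl = 0 := by
    funext k; simp [fb_inl]
  rw [h1, h2, Matrix.mulVec_zero, cycSL_inv_coe, Matrix.transpose_transpose, cycM_mulVec_single]
  funext x
  rcases x with k | k
  · simp [fb_inl]
  · simp [fb_inr, Pi.single_apply]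

/-- the second generator: a Coxeter-type element -/
def bgen (F : Type*) [Field F] (n : ℕ) : SpG (n + 1) F := lvS (cycSL F n) * wP 0

theorem act_bgen_eb {j : Fin (n + 1)} (hj : j ≠ 0) :
    act (bgen F n) (eb j : VS (n + 1) F) = cycEps F n (j - 1) • eb (j - 1) := by
  unfold bgen
  rw [act_mul, act_wP_eb_ne (Ne.symm hj), act_cyc_eb]

theorem act_bgen_fb {j : Fin (n + 1)} (hj : j ≠ 0) :
    act (bgen F n) (fb j : VS (n + 1) F) = cycEps F n (j - 1) • fb (j - 1) := by
  unfold bgen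
  rw [act_mul, act_wP_fb_ne (Ne.symm hj), act_cyc_fb]

theorem act_bgen_fb_zero :
    act (bgen F n) (fb 0 : VS (n + 1) F) = cycEps F n (0 - 1) • eb (0 - 1) := by
  unfold bgen
  rw [act_mul, act_wP_fb, act_cyc_eb]

theorem chain_eb {H : Subgroup (SpG (n + 1) F)} (hb : bgen F n ∈ H) (c : F) (k : ℕ)
    (hk : k < n + 1) :
    spT (eb (⟨k, hk⟩ : Fin (n + 1))) c ∈ H ↔ spT (eb (0 : Fin (n + 1))) c ∈ H := by
  induction k with
  | zero => exact Iff.rfl
  | succ k ih =>
    have hj : (⟨k + 1, hk⟩ : Fin (n + 1)) ≠ 0 := by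
      intro h; have := congrArg Fin.val h; simp at this
    have hsub : (⟨k + 1, hk⟩ : Fin (n + 1)) - 1 = ⟨k, by omega⟩ := by
      apply Fin.ext
      rw [Fin.coe_sub_one, if_neg hj]
      rfl
    rw [mem_of_act hb (cycEps_mul_self _) (act_bgen_eb hj) c, hsub]
    exact ih (by omega)

theorem chain_eb' {H : Subgroup (SpG (n + 1) F)} (hb : bgen F n ∈ H) (c : F) (i : Fin (n + 1)) :
    spT (eb i) c ∈ H ↔ spT (eb (0 : Fin (n + 1))) c ∈ H :=
  chain_eb hb c i.val i.isLt

theorem chain_fb {H : Subgroup (SpG (n + 1) F)} (hb : bgen F n ∈ H) (c : F) (k : ℕ)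
    (hk : k < n + 1) :
    spT (fb (⟨k, hk⟩ : Fin (n + 1))) c ∈ H ↔ spT (eb (0 : Fin (n + 1))) c ∈ H := by
  induction k with
  | zero =>
    have h0 : (⟨0, hk⟩ : Fin (n + 1)) = 0 := rfl
    rw [h0, mem_of_act hb (cycEps_mul_self _) act_bgen_fb_zero c]
    exact chain_eb' hb c _
  | succ k ih =>
    have hj : (⟨k + 1, hk⟩ : Fin (n + 1)) ≠ 0 := by
      intro h; have := congrArg Fin.val h; simp at this
    have hsub : (⟨k + 1, hk⟩ : Fin (n + 1)) - 1 = ⟨k, by omega⟩ := by
      apply Fin.ext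
      rw [Fin.coe_sub_one, if_neg hj]
      rfl
    rw [mem_of_act hb (cycEps_mul_self _) (act_bgen_fb hj) c, hsub]
    exact ih (by omega)

theorem chain_fb' {H : Subgroup (SpG (n + 1) F)} (hb : bgen F n ∈ H) (c : F) (i : Fin (n + 1)) :
    spT (fb i) c ∈ H ↔ spT (eb (0 : Fin (n + 1))) c ∈ H :=
  chain_fb hb c i.val i.isLt

/-- generation criterion: the Coxeter-type element, the transvections centred at `e_0` and those
centred at a mixed vector `e_0 + ν e_1` generate `Sp` -/
theorem top_of_gens (hn : 1 ≤ n) {H : Subgroup (SpG (n + 1) F)} (hb : bgen F n ∈ H)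
    (h0 : Good H (eb 0)) (ν : F) (hν : ν ≠ 0) (hmix : Good H (eb 0 + ν • eb 1)) : H = ⊤ := by
  have hE : ∀ i, Good H (eb i) := fun i c => (chain_eb' hb c i).mpr (h0 c)
  have hF : ∀ i, Good H (fb i) := fun i c => (chain_fb' hb c i).mpr (h0 c)
  have h01 : (0 : Fin (n + 1)) ≠ 1 := by
    intro e
    exact absurd (Fin.one_eq_zero_iff.mp e.symm) (by omega)
  have hw1 : wP 1 ∈ H := wP_mem (hE 1) (hF 1)
  have hmix' : Good H (eb 0 + (-ν) • fb 1) := by
    have := hmix.act hw1
    rwa [act_add, act_smul, act_wP_eb_ne (Ne.symm h01), act_wP_eb, smul_neg, ← neg_smul] at this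
  have hT : ∀ c, lvS (Tv h01 c) ∈ H := by
    intro c
    rw [lvS_Tv_eq h01 (-ν) (neg_ne_zero.mpr hν) c]
    exact H.mul_mem (H.mul_mem (hmix' _) (h0 _)) (hF 1 _)
  have hw0 : wP 0 ∈ H := wP_mem (hE 0) (hF 0)
  have hcyc : lvS (cycSL F n) ∈ H := by
    have : lvS (cycSL F n) = bgen F n * (wP 0)⁻¹ := by unfold bgen; group
    rw [this]; exact H.mul_mem hb (H.inv_mem hw0)
  have hcomap : H.comap lvS = ⊤ :=
    eq_top_of_cyc hn (H.comap lvS) (cycEps F n) cycEps_mul_self (cycSL F n)
      (Subgroup.mem_comap.mpr hcyc) (fun i j => cycM_apply i j)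
      (fun h t => Subgroup.mem_comap.mpr (hT t))
  have hL : ∀ (i j : Fin (n + 1)) (hij : i ≠ j) (c : F), lvS (Tv hij c) ∈ H := by
    intro i j hij c
    have : Tv hij c ∈ H.comap lvS := by rw [hcomap]; trivial
    exact Subgroup.mem_comap.mp this
  exact top_of_levi hL hE hF

end cyc

end Cfsg.Agent.Lib.helper47.SpGen
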