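import Mathlib
import Cfsg.Agent.Lib.helper47.SpGenB
import Cfsg.Agent.Lib.helper47.SpFusE
import Cfsg.Agent.Lib.helper45.SLDiag

/-!
`Sp_{2m}(F)` over a finite field is generated by two elements (`m ≥ 2`, not `Sp_4(2)`).
-/

set_option autoImplicit false

namespace Cfsg.Agent.Lib.helper47.SpGen

open Matrix Cfsg Cfsg.Agent.Lib.helper85 Cfsg.Agent.Lib.helper48.PSp Cfsg.Agent.Lib.helper45

local notation "Tv" => Matrix.SpecialLinearGroup.transvection
local notation "lvS" => Cfsg.Agent.Lib.helper47.SpFus.lvS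

section scaling

variable {m : ℕ} {F : Type*} [Field F]

theorem spT_pow' (v : VS m F) (c : F) (N : ℕ) : spT v c ^ N = spT v ((N : F) * c) := by
  induction N with
  | zero => simp [spT_zero]
  | succ N ih => rw [pow_succ, ih, spT_add, Nat.cast_succ, add_mul, one_mul]

variable [Fintype F]

theorem good_of_scaling {H : Subgroup (SpG m F)} (k : Fˣ)
    (hk : ∀ u : Fˣ, u ∈ Subgroup.zpowers k) (v : VS m F) (h1 : spT v 1 ∈ H)
    (hs : ∀ a : F, spT v a ∈ H → spT v ((k : F) ^ 2 * a) ∈ H) : Good H v := by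
  classical
  intro c
  by_cases hK : 3 < Fintype.card F
  · let R : Subring F :=
      { carrier := {b | ∀ a : F, spT v a ∈ H → spT v (b * a) ∈ H}
        mul_mem' := by
          intro b1 b2 hb1 hb2 a ha
          rw [mul_assoc]
          exact hb1 _ (hb2 _ ha)
        one_mem' := by
          intro a ha
          rwa [one_mul]
        add_mem' := by
          intro b1 b2 hb1 hb2 a ha
          rw [add_mul, ← spT_add]
          exact H.mul_mem (hb1 _ ha) (hb2 _ ha)
        zero_mem' := by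
          intro a _
          rw [zero_mul, spT_zero]
          exact H.one_mem
        neg_mem' := by
          intro b hb a ha
          rw [neg_mul, ← spT_inv]
          exact H.inv_mem (hb _ ha) }
    let B : Subfield F :=
      { R with
        inv_mem' := by
          intro b hb
          by_cases hb0 : b = 0
          · rw [hb0, _root_.inv_zero]
            exact R.zero_mem
          · have h1 := FiniteField.pow_card_sub_one_eq_one b hb0
            have h2 : b⁻¹ = b ^ (Fintype.card F - 2) := by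
              apply inv_eq_of_mul_eq_one_right
              rw [← pow_succ']
              have : Fintype.card F - 2 + 1 = Fintype.card F - 1 := by omega
              rw [this]
              exact h1
            rw [h2]
            exact R.pow_mem hb _ }
    have hkB : (k : F) ^ 2 ∈ B := fun a ha => hs a ha
    have hB := subfield_eq_top_of_gen_sq_mem hK k hk B hkB
    have hc : c ∈ B := by rw [hB]; exact Subfield.mem_top _
    have := hc 1 h1
    rwa [mul_one] at this
  · rcases eq_zero_or_one_or_neg_one_of_card_le_three (by omega) c with h | h | h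
    · rw [h, spT_zero]; exact H.one_mem
    · rw [h]; exact h1
    · rw [h, ← spT_inv]; exact H.inv_mem h1

end scaling

section torus

variable {m : ℕ} {F : Type*} [Field F]

/-- torus element of the plane `i` -/
def tor (i : Fin m) (l : F) : SpG m F :=
  Cfsg.Agent.Lib.helper47.SpFus.phi i
    (Cfsg.Agent.Lib.helper47.PSLnFus.hE Cfsg.Agent.Lib.helper47.SpFus.h01 l)

theorem act_tor (i : Fin m) (l : F) (hl : l ≠ 0) (v : VS m F) :
    act (tor i l) v = Sum.elim (fun k => (if k = i then l else 1) * v (Sum.inl k))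
      (fun k => (if k = i then l⁻¹ else 1) * v (Sum.inr k)) := by
  show (Cfsg.Agent.Lib.helper47.SpFus.phi i
    (Cfsg.Agent.Lib.helper47.PSLnFus.hE Cfsg.Agent.Lib.helper47.SpFus.h01 l)).1 *ᵥ v = _
  rw [Cfsg.Agent.Lib.helper47.SpFus.phi_hE_coe i l hl]
  conv_lhs => rw [← Sum.elim_comp_inl_inr v]
  rw [fromBlocks_mulVec]
  funext x
  rcases x with k | k
  · simp [Matrix.mulVec_diagonal]
  · simp [Matrix.mulVec_diagonal]

theorem act_tor_eb (i : Fin m) (l : F) (hl : l ≠ 0) (j : Fin m) :
    act (tor i l) (eb j : VS m F) = (if j = i then l else 1) • eb j := by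
  rw [act_tor i l hl]
  funext x
  rcases x with k | k
  · by_cases hk : k = j
    · subst hk; simp [eb_inl]
    · simp [eb_inl, hk]
  · simp [eb_inr]

theorem act_tor_fb (i : Fin m) (l : F) (hl : l ≠ 0) (j : Fin m) :
    act (tor i l) (fb j : VS m F) = (if j = i then l⁻¹ else 1) • fb j := by
  rw [act_tor i l hl]
  funext x
  rcases x with k | k
  · simp [fb_inl]
  · by_cases hk : k = j
    · subst hk; simp [fb_inr]
    · simp [fb_inr, hk]

theorem act_tor_pow (i : Fin m) (l : F) (hl : l ≠ 0) (N : ℕ) (v : VS m F) :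
    act (tor i l ^ N) v = Sum.elim (fun k => (if k = i then l ^ N else 1) * v (Sum.inl k))
      (fun k => (if k = i then l⁻¹ ^ N else 1) * v (Sum.inr k)) := by
  induction N generalizing v with
  | zero =>
    rw [pow_zero, act_one]
    funext x
    rcases x with k | k <;> simp
  | succ N ih =>
    rw [pow_succ, act_mul, ih, act_tor i l hl]
    funext x
    rcases x with k | k
    · by_cases hk : k = i
      · simp [hk, pow_succ]; ring
      · simp [hk]
    · by_cases hk : k = i
      · simp [hk, pow_succ]; ring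
      · simp [hk]

theorem tor_pow_eq_one (i : Fin m) (l : F) (hl : l ≠ 0) (N : ℕ) (hN : l ^ N = 1) :
    tor i l ^ N = 1 := by
  apply sp_ext'
  intro v
  rw [act_tor_pow i l hl, act_one, hN, inv_pow, hN, inv_one]
  funext x
  rcases x with k | k <;> simp

end torus

section cases

variable {F : Type*} [Field F] [Fintype F] {n : ℕ}

/-- the case of a field with at least three elements -/
theorem gen_A (hq : 3 ≤ Fintype.card F) :
    ∃ a b : SpG (n + 1 + 1) F, Subgroup.closure ({a, b} : Set (SpG (n + 1 + 1) F)) = ⊤ := by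
  classical
  obtain ⟨k, hk⟩ := IsCyclic.exists_generator (α := Fˣ)
  have hord : orderOf k = Fintype.card F - 1 := by
    rw [orderOf_eq_card_of_forall_mem_zpowers hk, Nat.card_eq_fintype_card, Fintype.card_units]
  obtain ⟨l, hl⟩ : ∃ l : F, l = (k : F) := ⟨_, rfl⟩
  have hl0 : l ≠ 0 := by rw [hl]; exact k.ne_zero
  have hl1 : l ≠ 1 := by
    intro e
    have : k = 1 := Units.ext (by rw [← hl, e]; rfl)
    rw [this, orderOf_one] at hord
    omega
  have hlN : l ^ (Fintype.card F - 1) = 1 := FiniteField.pow_card_sub_one_eq_one l hl0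
  have h01 : (0 : Fin (n + 1 + 1)) ≠ 1 := by
    intro h; have := congrArg Fin.val h; simp at this
  obtain ⟨c₀, hc₀⟩ : ∃ c₀ : F, c₀ = (l - 1)⁻¹ := ⟨_, rfl⟩
  have hc₀' : c₀ * (l - 1) = 1 := by rw [hc₀]; exact inv_mul_cancel₀ (sub_ne_zero.mpr hl1)
  obtain ⟨u, hu⟩ : ∃ u : SpG (n + 1 + 1) F, u = spT (eb 0) 1 := ⟨_, rfl⟩
  obtain ⟨y, hy⟩ : ∃ y : SpG (n + 1 + 1) F, y = lvS (Tv h01 c₀) := ⟨_, rfl⟩
  have hyinv : y⁻¹ = lvS (Tv h01 (-c₀)) := by
    rw [hy, ← map_inv, Matrix.SpecialLinearGroup.transvection_inv]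
  obtain ⟨x, hx⟩ : ∃ x : SpG (n + 1 + 1) F, x = y * tor 1 l * y⁻¹ := ⟨_, rfl⟩
  have hx_e0 : act x (eb 0) = eb 0 := by
    rw [hx, act_mul, act_mul, hyinv, act_lvS_Tv_eb_ne h01 _ h01, act_tor_eb 1 l hl0, if_neg h01,
      one_smul, hy, act_lvS_Tv_eb_ne h01 _ h01]
  have hx_e1 : act x (eb 1) = eb 0 + l • eb 1 := by
    rw [hx, act_mul, act_mul, hyinv, act_lvS_Tv_eb h01, act_add, act_smul, act_tor_eb 1 l hl0,
      act_tor_eb 1 l hl0, if_pos rfl, if_neg h01, one_smul, act_add, act_smul, act_smul, hy,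
      act_lvS_Tv_eb h01, act_lvS_Tv_eb_ne h01 _ h01, smul_add, smul_smul]
    have e : l * c₀ = 1 + c₀ := by linear_combination hc₀'
    rw [e]
    module
  have hx_f1 : act x (fb 1) = l⁻¹ • fb 1 := by
    rw [hx, act_mul, act_mul, hyinv, act_lvS_Tv_fb_ne h01 _ (Ne.symm h01), act_tor_fb 1 l hl0,
      if_pos rfl, act_smul, hy, act_lvS_Tv_fb_ne h01 _ (Ne.symm h01)]
  have hxi_f1 : act x⁻¹ (fb 1) = l • fb 1 := by
    have h := act_inv_act x (fb 1)
    rw [hx_f1, act_smul] at h
    calc act x⁻¹ (fb 1) = l • (l⁻¹ • act x⁻¹ (fb 1)) := by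
          rw [smul_smul, mul_inv_cancel₀ hl0, one_smul]
      _ = l • fb 1 := by rw [h]
  refine ⟨u * x, bgen F (n + 1), ?_⟩
  have haH : u * x ∈ Subgroup.closure ({u * x, bgen F (n + 1)} : Set (SpG (n + 1 + 1) F)) :=
    Subgroup.subset_closure (by simp)
  have hbH : bgen F (n + 1) ∈
      Subgroup.closure ({u * x, bgen F (n + 1)} : Set (SpG (n + 1 + 1) F)) :=
    Subgroup.subset_closure (by simp)
  generalize Subgroup.closure ({u * x, bgen F (n + 1)} : Set (SpG (n + 1 + 1) F)) = H
    at haH hbH ⊢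
  have hcomm : Commute x u := by
    have : x * u * x⁻¹ = u := by rw [hu, spT_conj, hx_e0]
    exact mul_inv_eq_iff_eq_mul.mp this
  have hxN : x ^ (Fintype.card F - 1) = 1 := by
    rw [hx, conj_pow, tor_pow_eq_one 1 l hl0 _ hlN, mul_one, mul_inv_cancel]
  have hcard : 1 ≤ Fintype.card F := by omega
  have huN : u ^ (Fintype.card F - 1) = u⁻¹ := by
    rw [hu, spT_pow', spT_inv]
    congr 1
    rw [mul_one, Nat.cast_sub hcard, FiniteField.cast_card_eq_zero, Nat.cast_one, zero_sub]
  have huH : u ∈ H := by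
    have h1 : (u * x) ^ (Fintype.card F - 1) = u⁻¹ := by
      rw [hcomm.symm.mul_pow, hxN, mul_one, huN]
    have h2 : u⁻¹ ∈ H := by rw [← h1]; exact H.pow_mem haH _
    exact (H.inv_mem_iff).mp h2
  have hxH : x ∈ H := by
    have : x = u⁻¹ * (u * x) := by group
    rw [this]; exact H.mul_mem (H.inv_mem huH) haH
  have hf1 : spT (fb (1 : Fin (n + 1 + 1))) (1 : F) ∈ H :=
    (chain_fb' hbH 1 1).mpr (by rw [← hu]; exact huH)
  have hgf1 : Good H (fb (1 : Fin (n + 1 + 1))) := by
    refine good_of_scaling k hk (fb 1) hf1 ?_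
    intro a ha
    have e : spT (fb (1 : Fin (n + 1 + 1))) ((k : F) ^ 2 * a) = x⁻¹ * spT (fb 1) a * x⁻¹⁻¹ := by
      rw [spT_conj, hxi_f1, spT_smul, hl]
    rw [e]
    exact H.mul_mem (H.mul_mem (H.inv_mem hxH) ha) (H.inv_mem (H.inv_mem hxH))
  have h0 : Good H (eb (0 : Fin (n + 1 + 1))) := fun c => (chain_fb' hbH c 1).mp (hgf1 c)
  have hg1 : Good H (eb (1 : Fin (n + 1 + 1))) := fun c => (chain_eb' hbH c 1).mpr (h0 c)
  have hmix : Good H (eb (0 : Fin (n + 1 + 1)) + l • eb 1) := by
    have := hg1.act hxH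
    rwa [hx_e1] at this
  exact top_of_gens (by omega) hbH h0 l hl0 hmix

/-- the case of the field with two elements -/
theorem gen_B (hq : Fintype.card F = 2) :
    ∃ a b : SpG (n + 2 + 1) F, Subgroup.closure ({a, b} : Set (SpG (n + 2 + 1) F)) = ⊤ := by
  classical
  have h2 : (2 : F) = 0 := by
    have := FiniteField.cast_card_eq_zero F
    rw [hq] at this
    exact_mod_cast this
  have hneg : (-1 : F) = 1 := by linear_combination -h2
  have hcases : ∀ c : F, c = 0 ∨ c = 1 := by
    intro c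
    rcases eq_zero_or_one_or_neg_one_of_card_le_three (by omega) c with h | h | h
    · exact Or.inl h
    · exact Or.inr h
    · right; rw [h, hneg]
  have h01 : (0 : Fin (n + 2 + 1)) ≠ 1 := by
    intro h; have := congrArg Fin.val h; simp at this
  have hmod : 2 % (n + 2 + 1) = 2 := Nat.mod_eq_of_lt (by omega)
  have h02 : (0 : Fin (n + 2 + 1)) ≠ 2 := by
    intro h; have := congrArg Fin.val h; simp at this; omega
  have h12 : (1 : Fin (n + 2 + 1)) ≠ 2 := by
    intro h; have := congrArg Fin.val h; simp at this; omega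
  obtain ⟨u, hu⟩ : ∃ u : SpG (n + 2 + 1) F, u = spT (eb 0) 1 := ⟨_, rfl⟩
  obtain ⟨A, hA⟩ : ∃ A : SpG (n + 2 + 1) F, A = spT (eb 1 + eb 2) 1 := ⟨_, rfl⟩
  obtain ⟨B, hB⟩ : ∃ B : SpG (n + 2 + 1) F, B = spT (fb 2) 1 := ⟨_, rfl⟩
  have hAA : A * A = 1 := by rw [hA, spT_add, one_add_one_eq_two, h2, spT_zero]
  have hBB : B * B = 1 := by rw [hB, spT_add, one_add_one_eq_two, h2, spT_zero]
  have hAinv : A⁻¹ = A := inv_eq_of_mul_eq_one_right hAA
  have hBinv : B⁻¹ = B := inv_eq_of_mul_eq_one_right hBB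
  have hs1 : sf (fb 2 : VS (n + 2 + 1) F) (eb 1 + eb 2) = 1 := by
    rw [sf_add_right, sf_eb, sf_eb, fb_inr, fb_inr, if_neg h12, if_pos rfl, zero_add]
  have hs2 : sf (eb 1 + eb 2 : VS (n + 2 + 1) F) (fb 2) = -1 := by
    rw [sf_fb, Pi.add_apply, eb_inl, eb_inl, if_neg (Ne.symm h12), if_pos rfl, zero_add]
  have hbraid : A * B * A = B * A * B := by
    have e1 : A * B * A⁻¹ = spT (fb 2 + (eb 1 + eb 2)) 1 := by
      rw [hA, hB, spT_conj, act_spT, hs1, mul_one, one_smul]
    have e2 : B * A * B⁻¹ = spT (fb 2 + (eb 1 + eb 2)) 1 := by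
      rw [hA, hB, spT_conj, act_spT, hs2, mul_neg, mul_one, hneg, one_smul,
        add_comm (eb 1 + eb 2 : VS (n + 2 + 1) F) (fb 2)]
    rw [hAinv] at e1
    rw [hBinv] at e2
    rw [e1, e2]
  obtain ⟨x, hx⟩ : ∃ x : SpG (n + 2 + 1) F, x = A * B := ⟨_, rfl⟩
  have hx3 : x ^ 3 = 1 := by
    have e : x ^ 3 = A * (B * A * B) * (A * B) := by
      rw [hx, pow_succ, pow_succ, pow_one]
      simp only [mul_assoc]
    rw [e, ← hbraid]
    have e' : A * (A * B * A) * (A * B) = (A * A) * B * (A * A) * B := by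
      simp only [mul_assoc]
    rw [e', hAA, one_mul, mul_one, hBB]
  have hcomm : Commute u x := by
    have c1 : u * A = A * u := by
      rw [hu, hA]; apply spT_comm
      rw [sf_add_right, sf_eb, sf_eb, eb_inr, eb_inr, add_zero]
    have c2 : u * B = B * u := by
      rw [hu, hB]; apply spT_comm
      rw [sf_fb, eb_inl, if_neg (Ne.symm h02), neg_zero]
    show u * x = x * u
    rw [hx, ← mul_assoc, c1, mul_assoc, c2, ← mul_assoc]
  refine ⟨u * x, bgen F (n + 2), ?_⟩
  have haH : u * x ∈ Subgroup.closure ({u * x, bgen F (n + 2)} : Set (SpG (n + 2 + 1) F)) :=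
    Subgroup.subset_closure (by simp)
  have hbH : bgen F (n + 2) ∈
      Subgroup.closure ({u * x, bgen F (n + 2)} : Set (SpG (n + 2 + 1) F)) :=
    Subgroup.subset_closure (by simp)
  generalize Subgroup.closure ({u * x, bgen F (n + 2)} : Set (SpG (n + 2 + 1) F)) = H
    at haH hbH ⊢
  have hu3 : u ^ 3 = u := by
    rw [hu, spT_pow', mul_one]
    congr 1
    push_cast
    linear_combination h2
  have huH : u ∈ H := by
    have h1 : (u * x) ^ 3 = u := by rw [hcomm.mul_pow, hx3, mul_one, hu3]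
    rw [← h1]; exact H.pow_mem haH _
  have hxH : x ∈ H := by
    have : x = u⁻¹ * (u * x) := by group
    rw [this]; exact H.mul_mem (H.inv_mem huH) haH
  have h0 : Good H (eb (0 : Fin (n + 2 + 1))) := by
    intro c
    rcases hcases c with h | h
    · rw [h, spT_zero]; exact H.one_mem
    · rw [h, ← hu]; exact huH
  have hBH : B ∈ H := by rw [hB]; exact (chain_fb' hbH 1 2).mpr (h0 1)
  have hAH : A ∈ H := by
    have : A = x * B⁻¹ := by rw [hx]; group
    rw [this]; exact H.mul_mem hxH (H.inv_mem hBH)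
  have hg12 : Good H (eb (1 : Fin (n + 2 + 1)) + eb 2) := by
    intro c
    rcases hcases c with h | h
    · rw [h, spT_zero]; exact H.one_mem
    · rw [h, ← hA]; exact hAH
  have hmix : Good H (eb (0 : Fin (n + 2 + 1)) + (1 : F) • eb 1) := by
    have := hg12.act hbH
    rw [act_add, act_bgen_eb (Ne.symm h01), act_bgen_eb (Ne.symm h02)] at this
    have e1 : (1 : Fin (n + 2 + 1)) - 1 = 0 := sub_self 1
    have e2 : (2 : Fin (n + 2 + 1)) - 1 = 1 := by
      apply Fin.ext
      rw [Fin.coe_sub_one, if_neg (Ne.symm h02)]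
      simp
    rw [e1, e2] at this
    have c0 : cycEps F (n + 2) (0 : Fin (n + 2 + 1)) = 1 := by
      unfold cycEps
      rw [if_neg]
      simp
    have c1 : cycEps F (n + 2) (1 : Fin (n + 2 + 1)) = 1 := by
      unfold cycEps
      rw [if_neg]
      simp
    rw [c0, c1] at this
    simp only [one_smul] at this ⊢
    exact this
  exact top_of_gens (by omega) hbH h0 1 one_ne_zero hmix

/-- `Sp_{2m}(F)` is generated by two elements -/
theorem sp_two_gen (m : ℕ) (hm : 2 ≤ m) (hF : m = 2 → 2 < Fintype.card F) :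
    ∃ a b : SpG m F, Subgroup.closure ({a, b} : Set (SpG m F)) = ⊤ := by
  by_cases hq : 3 ≤ Fintype.card F
  · obtain ⟨n, rfl⟩ : ∃ n, m = n + 1 + 1 := ⟨m - 2, by omega⟩
    exact gen_A hq
  · have h1 := Fintype.one_lt_card (α := F)
    have h2 : Fintype.card F = 2 := by omega
    have hm3 : 3 ≤ m := by
      by_contra h
      have : m = 2 := by omega
      have := hF this
      omega
    obtain ⟨n, rfl⟩ : ∃ n, m = n + 2 + 1 := ⟨m - 3, by omega⟩
    exact gen_B h2

end cases

end Cfsg.Agent.Lib.helper47.SpGen
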