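import Mathlib
import Cfsg.Agent.S0228

set_option autoImplicit false
set_option linter.unusedSectionVars false
set_option linter.unusedSimpArgs false
set_option linter.unusedVariables false

/-! A copy of `A₄` from a Klein four-group and an element of order three permuting its
involutions cyclically. -/

namespace Cfsg.Agent.Lib.helper47.A4Gen

variable {G : Type*} [Group G]

/-- `a, b` commuting involutions, `c` of order three with `c a c⁻¹ = b`, `c b c⁻¹ = a b`:
they generate a copy of `A₄` -/
theorem exists_A4_of_rel (a b c : G) (ha : a * a = 1) (hb : b * b = 1)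
    (hab : b * a = a * b) (ha1 : a ≠ 1) (hne : a ≠ b) (hc : c * (c * c) = 1)
    (hca : c * a = b * c) (hcb : c * b = a * (b * c)) :
    ∃ H : Subgroup G, Nonempty (H ≃* alternatingGroup (Fin 4)) ∧ a ∈ H ∧ b ∈ H ∧ c ∈ H := by
  classical
  have h1 : ∀ x, a * (a * x) = x := fun x => by rw [← mul_assoc, ha, one_mul]
  have h2 : ∀ x, b * (b * x) = x := fun x => by rw [← mul_assoc, hb, one_mul]
  have h3 : ∀ x, b * (a * x) = a * (b * x) := fun x => by rw [← mul_assoc, hab, mul_assoc]
  have ha' : a⁻¹ = a := inv_eq_of_mul_eq_one_right ha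
  have hb' : b⁻¹ = b := inv_eq_of_mul_eq_one_right hb
  have hc' : c⁻¹ = c * c := inv_eq_of_mul_eq_one_right hc
  have hc3 : c ^ 3 = 1 := by rw [pow_succ, pow_succ, pow_one, mul_assoc]; exact hc
  -- basic inequalities
  have hb1 : b ≠ 1 := by
    intro h
    rw [h, one_mul] at hca
    exact ha1 (mul_left_cancel (hca.trans (mul_one c).symm))
  have hab1 : a * b ≠ 1 := by
    intro h
    have : a = b := by
      have := congrArg (fun x => x * b) h
      simp only [mul_assoc, hb, mul_one, one_mul] at this
      exact this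
    exact hne this
  have hc1 : c ≠ 1 := by
    intro h
    rw [h, one_mul, mul_one] at hca
    exact hne hca
  have hcc1 : c * c ≠ 1 := by
    intro h
    rw [h, mul_one] at hc
    exact hc1 hc
  -- the subgroup V
  let V : Subgroup G :=
    { carrier := {1, a, b, a * b}
      mul_mem' := by
        intro x y hx hy
        simp only [Set.mem_insert_iff, Set.mem_singleton_iff] at hx hy ⊢
        rcases hx with hx | hx | hx | hx <;> rcases hy with hy | hy | hy | hy <;>
          subst x <;> subst y <;> simp [mul_assoc, ha, hb, hab, h1, h2, h3]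
      one_mem' := by simp
      inv_mem' := by
        intro x hx
        simp only [Set.mem_insert_iff, Set.mem_singleton_iff] at hx ⊢
        rcases hx with hx | hx | hx | hx <;> subst x <;>
          simp [mul_assoc, ha, hb, hab, h1, h2, h3, ha', hb'] }
  have hVmem : ∀ g : G, g ∈ V ↔ (g = 1 ∨ g = a ∨ g = b ∨ g = a * b) := fun g => Iff.rfl
  have haV : a ∈ V := by rw [hVmem]; simp
  have hbV : b ∈ V := by rw [hVmem]; simp
  have hVcard : Nat.card V = 4 := by
    have h0 : Nat.card V = ({1, a, b, a * b} : Set G).ncard := Nat.card_coe_set_eq _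
    rw [h0, Set.ncard_insert_of_notMem, Set.ncard_insert_of_notMem, Set.ncard_pair]
    · intro h
      have : a = 1 := by
        have := congrArg (fun x => x * b) h
        simp only [mul_assoc, hb, mul_one] at this
        exact this.symm
      exact ha1 this
    · simp only [Set.mem_insert_iff, Set.mem_singleton_iff, not_or]
      refine ⟨hne, ?_⟩
      intro h
      have : b = 1 := by
        have := congrArg (fun x => a * x) h
        simp only [ha, h1] at this
        exact this.symm
      exact hb1 this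
    · simp only [Set.mem_insert_iff, Set.mem_singleton_iff, not_or]
      exact ⟨fun h => ha1 h.symm, fun h => hb1 h.symm, fun h => hab1 h.symm⟩
  -- c normalises V
  have conj1 : ∀ w ∈ V, ∃ w' ∈ V, c * w = w' * c := by
    intro w hw
    rcases (hVmem w).mp hw with h | h | h | h
    · exact ⟨1, V.one_mem, by rw [h, mul_one, one_mul]⟩
    · exact ⟨b, hbV, by rw [h, hca]⟩
    · exact ⟨a * b, V.mul_mem haV hbV, by rw [h, hcb, mul_assoc]⟩
    · refine ⟨a, haV, ?_⟩
      rw [h, ← mul_assoc, hca, mul_assoc, hcb, ← mul_assoc, ← mul_assoc, hab, mul_assoc a b b, hb,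
        mul_one]
  have conjk : ∀ k : ℕ, ∀ w ∈ V, ∃ w' ∈ V, c ^ k * w = w' * c ^ k := by
    intro k
    induction k with
    | zero => intro w hw; exact ⟨w, hw, by simp⟩
    | succ k ih =>
      intro w hw
      obtain ⟨w1, hw1, e1⟩ := conj1 w hw
      obtain ⟨w2, hw2, e2⟩ := ih w1 hw1
      exact ⟨w2, hw2, by rw [pow_succ, mul_assoc, e1, ← mul_assoc, e2, mul_assoc]⟩
  -- the subgroup T
  let T : Subgroup G :=
    { carrier := {g | ∃ v ∈ V, ∃ k : ℕ, g = v * c ^ k}
      mul_mem' := by
        rintro x y ⟨v, hv, k, rfl⟩ ⟨w, hw, l, rfl⟩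
        obtain ⟨w', hw', e⟩ := conjk k w hw
        refine ⟨v * w', V.mul_mem hv hw', k + l, ?_⟩
        rw [mul_assoc, ← mul_assoc (c ^ k), e, pow_add]
        simp only [mul_assoc]
      one_mem' := ⟨1, V.one_mem, 0, by simp⟩
      inv_mem' := by
        rintro x ⟨v, hv, k, rfl⟩
        obtain ⟨w', hw', e⟩ := conjk (2 * k) v⁻¹ (V.inv_mem hv)
        refine ⟨w', hw', 2 * k, ?_⟩
        rw [← e, mul_inv_rev]
        congr 1
        apply inv_eq_of_mul_eq_one_right
        rw [← pow_add, show k + 2 * k = 3 * k by ring, pow_mul, hc3, one_pow] }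
  have hTmem : ∀ g : G, g ∈ T ↔ ∃ v ∈ V, ∃ k : ℕ, g = v * c ^ k := fun g => Iff.rfl
  have hVT : V ≤ T := fun g hg => ⟨g, hg, 0, by simp⟩
  have haT : a ∈ T := hVT haV
  have hbT : b ∈ T := hVT hbV
  have hcT : c ∈ T := ⟨1, V.one_mem, 1, by simp⟩
  have hpowmod : ∀ k : ℕ, c ^ k = c ^ (k % 3) := by
    intro k
    conv_lhs => rw [← Nat.div_add_mod k 3, pow_add, pow_mul, hc3, one_pow, one_mul]
  -- cardinality
  let φ : V × Fin 3 → T := fun p => ⟨p.1.1 * c ^ (p.2 : ℕ), ⟨p.1.1, p.1.2, p.2, rfl⟩⟩
  have hφ : Function.Surjective φ := by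
    rintro ⟨g, v, hv, k, rfl⟩
    refine ⟨(⟨v, hv⟩, ⟨k % 3, Nat.mod_lt _ (by norm_num)⟩), ?_⟩
    apply Subtype.ext
    show v * c ^ (k % 3) = v * c ^ k
    rw [← hpowmod]
  haveI : Finite V := Nat.finite_of_card_ne_zero (by rw [hVcard]; norm_num)
  haveI : Finite T := Finite.of_surjective φ hφ
  have hle : Nat.card T ≤ 12 := by
    have := Nat.card_le_card_of_surjective φ hφ
    rw [Nat.card_prod, hVcard] at this
    simpa using this
  have h4 : 4 ∣ Nat.card T := by
    rw [← hVcard]; exact Subgroup.card_dvd_of_le hVT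
  have h3' : 3 ∣ Nat.card T := by
    have ho : orderOf (⟨c, hcT⟩ : T) = 3 := by
      haveI : Fact (Nat.Prime 3) := ⟨by norm_num⟩
      apply orderOf_eq_prime
      · apply Subtype.ext
        exact hc3
      · intro h
        exact hc1 (congrArg Subtype.val h)
    rw [← ho]
    exact orderOf_dvd_natCard _
  have h12 : 12 ∣ Nat.card T := by
    have : Nat.Coprime 4 3 := by norm_num
    exact this.mul_dvd_of_dvd_of_dvd h4 h3'
  have hpos : 0 < Nat.card T := Nat.card_pos
  have hcard : Nat.card T = 12 := by
    obtain ⟨k, hk⟩ := h12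
    omega
  refine ⟨T, ?_, haT, hbT, hcT⟩
  apply Cfsg.Agent.S0228.result hcard
  rintro ⟨g, hg⟩ hord hcen
  have hgg : g * g = 1 := by
    have := pow_orderOf_eq_one (⟨g, hg⟩ : T)
    rw [hord] at this
    have := congrArg Subtype.val this
    simpa [sq] using this
  have hg1 : g ≠ 1 := by
    intro h
    have : (⟨g, hg⟩ : T) = 1 := Subtype.ext h
    rw [this, orderOf_one] at hord
    norm_num at hord
  have hcomm : g * c = c * g := by
    have := Subgroup.mem_center_iff.mp hcen ⟨c, hcT⟩
    have := congrArg Subtype.val this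
    simpa using this.symm
  obtain ⟨v, hv, k, hgk⟩ := (hTmem g).mp hg
  rw [hpowmod] at hgk
  -- v commutes with c
  have hvc : v * c = c * v := by
    rw [hgk] at hcomm
    have e1 : v * c ^ (k % 3) * c = v * c * c ^ (k % 3) := by
      rw [mul_assoc, mul_assoc, ← pow_succ, ← pow_succ']
    have e2 : c * (v * c ^ (k % 3)) = c * v * c ^ (k % 3) := by rw [mul_assoc]
    rw [e1, e2] at hcomm
    exact mul_right_cancel hcomm
  have hv1 : v = 1 := by
    rcases (hVmem v).mp hv with h | h | h | h
    · exact h
    · exfalso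
      rw [h, hca] at hvc
      exact hne (mul_right_cancel hvc)
    · exfalso
      rw [h, hcb, ← mul_assoc] at hvc
      have h' : b = a * b := mul_right_cancel hvc
      have : a = 1 := by
        have h'' := congrArg (fun x => x * b) h'
        simp only [mul_assoc, hb, mul_one] at h''
        exact h''.symm
      exact ha1 this
    · exfalso
      have e : c * (a * b) = a * c := by
        rw [← mul_assoc, hca, mul_assoc, hcb, ← mul_assoc, ← mul_assoc, hab, mul_assoc a b b, hb,
          mul_one]
      rw [h, e, mul_assoc] at hvc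
      have h' : b * c = c := mul_left_cancel hvc
      exact hb1 (mul_right_cancel (h'.trans (one_mul c).symm))
  rw [hv1, one_mul] at hgk
  have hk3 : k % 3 < 3 := Nat.mod_lt _ (by norm_num)
  interval_cases hk : k % 3
  · rw [pow_zero] at hgk
    exact hg1 hgk
  · rw [pow_one] at hgk
    rw [hgk] at hgg
    exact hcc1 hgg
  · rw [hgk] at hgg
    have : c = 1 := by
      calc c = c * (c * (c * c)) := by rw [hc, mul_one]
        _ = c ^ 2 * c ^ 2 := by simp only [pow_succ, pow_zero, one_mul, mul_assoc]
        _ = 1 := hgg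
    exact hc1 this

end Cfsg.Agent.Lib.helper47.A4Gen
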