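import Mathlib
import Cfsg.Agent.S3377
import Cfsg.Agent.Lib.helper47.AutPSL2Basic

set_option autoImplicit false
set_option linter.unusedSectionVars false
set_option linter.unusedSimpArgs false

/-! Generating copies of `A₅` from elements satisfying the `(3,5,2)` relations, and power formulas
for elements of `SL₂(F)` in terms of the trace. -/

namespace Cfsg.Agent.Lib.helper47.A5Gen

open Matrix

section gen

variable {G : Type*} [Group G]

/-- elements `X`, `Y` with `X³ = Y⁵ = (XY)² = 1`, `X ≠ 1` generate a copy of `A₅` -/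
theorem exists_A5_of_rel (X Y : G) (hX : X ^ 3 = 1) (hY : Y ^ 5 = 1) (hXY : (X * Y) ^ 2 = 1)
    (hne : X ≠ 1) :
    ∃ H : Subgroup G, Nonempty (H ≃* alternatingGroup (Fin 5)) ∧ X ∈ H ∧ Y ∈ H ∧
      H = Subgroup.closure {X, Y} := by
  obtain ⟨iso⟩ := Cfsg.Agent.S3377.result
  have hrels : ∀ r ∈ ({FreeGroup.of (0 : Fin 2) ^ 3, FreeGroup.of (1 : Fin 2) ^ 5,
      (FreeGroup.of (0 : Fin 2) * FreeGroup.of 1) ^ 2} : Set (FreeGroup (Fin 2))),
      FreeGroup.lift ![X, Y] r = 1 := by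
    intro r hr
    simp only [Set.mem_insert_iff, Set.mem_singleton_iff] at hr
    rcases hr with rfl | rfl | rfl
    · rw [map_pow, FreeGroup.lift_apply_of]
      exact hX
    · rw [map_pow, FreeGroup.lift_apply_of]
      exact hY
    · rw [map_pow, map_mul, FreeGroup.lift_apply_of, FreeGroup.lift_apply_of]
      exact hXY
  let f0 : PresentedGroup ({FreeGroup.of (0 : Fin 2) ^ 3, FreeGroup.of (1 : Fin 2) ^ 5,
      (FreeGroup.of (0 : Fin 2) * FreeGroup.of 1) ^ 2} : Set (FreeGroup (Fin 2))) →* G :=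
    PresentedGroup.toGroup hrels
  have hf0x : f0 (PresentedGroup.of 0) = X := by simp [f0]
  have hf0y : f0 (PresentedGroup.of 1) = Y := by simp [f0]
  let f : alternatingGroup (Fin 5) →* G := f0.comp iso.symm.toMonoidHom
  have hfx : f (iso (PresentedGroup.of 0)) = X := by simp [f, hf0x]
  have hfy : f (iso (PresentedGroup.of 1)) = Y := by simp [f, hf0y]
  have hinj : Function.Injective f := by
    rw [← MonoidHom.ker_eq_bot_iff]
    have := alternatingGroup.isSimpleGroup_five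
    rcases (MonoidHom.normal_ker f).eq_bot_or_eq_top with h | h
    · exact h
    · exfalso
      have h1 : iso (PresentedGroup.of 0) ∈ f.ker := by rw [h]; trivial
      rw [MonoidHom.mem_ker, hfx] at h1
      exact hne h1
  refine ⟨f.range, ⟨(MonoidHom.ofInjective hinj).symm⟩, ⟨_, hfx⟩, ⟨_, hfy⟩, ?_⟩
  have h1 : f.range = f0.range := by
    apply le_antisymm
    · rintro _ ⟨a, rfl⟩
      exact ⟨iso.symm a, rfl⟩
    · rintro _ ⟨a, rfl⟩
      exact ⟨iso a, by simp [f]⟩
  rw [h1, MonoidHom.range_eq_map, ← PresentedGroup.closure_range_of, MonoidHom.map_closure]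
  congr 1
  ext g
  constructor
  · rintro ⟨_, ⟨i, rfl⟩, rfl⟩
    fin_cases i
    · left; exact hf0x
    · right; exact hf0y
  · rintro (rfl | rfl)
    · exact ⟨_, ⟨0, rfl⟩, hf0x⟩
    · exact ⟨_, ⟨1, rfl⟩, hf0y⟩

end gen

section powers

variable {F : Type*} [Field F]

open Cfsg.Agent.Lib.helper47.AutPSL2

/-- Cayley–Hamilton for `SL₂` in entry form: `M * (x + y M) = -y + (x + t y) M`, `t = tr M` -/
theorem mul_lin (M : SpecialLinearGroup (Fin 2) F) (x y : F) :
    (M : Matrix (Fin 2) (Fin 2) F) * (x • (1 : Matrix (Fin 2) (Fin 2) F) + y • M.1) =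
      (-y) • (1 : Matrix (Fin 2) (Fin 2) F) + (x + (M.1 0 0 + M.1 1 1) * y) • M.1 := by
  have hd := sl2_det M
  ext i j
  fin_cases i <;> fin_cases j <;>
    simp [Matrix.mul_apply, Fin.sum_univ_two, Matrix.one_apply] <;>
    first | linear_combination (-y) * hd | ring1

theorem pow_two_lin (M : SpecialLinearGroup (Fin 2) F) :
    (M : Matrix (Fin 2) (Fin 2) F) ^ 2 = (-1 : F) • (1 : Matrix (Fin 2) (Fin 2) F) +
      (M.1 0 0 + M.1 1 1) • M.1 := by
  have h := mul_lin M 0 1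
  rw [zero_smul, zero_add, one_smul] at h
  rw [sq, h]
  congr 2
  ring

theorem pow_three_lin (M : SpecialLinearGroup (Fin 2) F) :
    (M : Matrix (Fin 2) (Fin 2) F) ^ 3 = (-(M.1 0 0 + M.1 1 1)) • (1 : Matrix (Fin 2) (Fin 2) F) +
      ((M.1 0 0 + M.1 1 1) ^ 2 - 1) • M.1 := by
  rw [pow_succ', pow_two_lin, mul_lin]
  congr 2
  ring

theorem pow_four_lin (M : SpecialLinearGroup (Fin 2) F) :
    (M : Matrix (Fin 2) (Fin 2) F) ^ 4 =
      (1 - (M.1 0 0 + M.1 1 1) ^ 2) • (1 : Matrix (Fin 2) (Fin 2) F) +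
      ((M.1 0 0 + M.1 1 1) ^ 3 - 2 * (M.1 0 0 + M.1 1 1)) • M.1 := by
  rw [pow_succ', pow_three_lin, mul_lin]
  congr 2 <;> ring

theorem pow_five_lin (M : SpecialLinearGroup (Fin 2) F) :
    (M : Matrix (Fin 2) (Fin 2) F) ^ 5 =
      (2 * (M.1 0 0 + M.1 1 1) - (M.1 0 0 + M.1 1 1) ^ 3) • (1 : Matrix (Fin 2) (Fin 2) F) +
      ((M.1 0 0 + M.1 1 1) ^ 4 - 3 * (M.1 0 0 + M.1 1 1) ^ 2 + 1) • M.1 := by
  rw [pow_succ', pow_four_lin, mul_lin]
  congr 2 <;> ring

theorem val_pow (M : SpecialLinearGroup (Fin 2) F) (n : ℕ) : (M ^ n).1 = M.1 ^ n :=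
  Matrix.SpecialLinearGroup.coe_pow M n

/-- trace `1` implies `M³ = -1` -/
theorem pow_three_of_trace_one (M : SpecialLinearGroup (Fin 2) F) (h : M.1 0 0 + M.1 1 1 = 1) :
    M ^ 3 = -1 := by
  apply Subtype.ext
  rw [val_pow, pow_three_lin, h]
  simp

/-- trace `τ` with `τ² + τ - 1 = 0` implies `M⁵ = 1` -/
theorem pow_five_of_trace (M : SpecialLinearGroup (Fin 2) F)
    (h : (M.1 0 0 + M.1 1 1) ^ 2 + (M.1 0 0 + M.1 1 1) - 1 = 0) : M ^ 5 = 1 := by
  apply Subtype.ext
  rw [val_pow, pow_five_lin]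
  have h1 : 2 * (M.1 0 0 + M.1 1 1) - (M.1 0 0 + M.1 1 1) ^ 3 = 1 := by
    linear_combination (1 - (M.1 0 0 + M.1 1 1)) * h
  have h2 : (M.1 0 0 + M.1 1 1) ^ 4 - 3 * (M.1 0 0 + M.1 1 1) ^ 2 + 1 = 0 := by
    linear_combination ((M.1 0 0 + M.1 1 1) ^ 2 - (M.1 0 0 + M.1 1 1) - 1) * h
  rw [h1, h2]
  simp

/-- the trace `τ` of an element of order `5` satisfies `τ² + τ - 1 = 0` -/
theorem trace_of_order_five (M : SpecialLinearGroup (Fin 2) F) (h5 : M ^ 5 = 1) (h1 : M ≠ 1) :
    (M.1 0 0 + M.1 1 1) ^ 2 + (M.1 0 0 + M.1 1 1) - 1 = 0 := by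
  have h := pow_five_lin M
  rw [← val_pow, h5] at h
  obtain ⟨t, ht⟩ : ∃ t : F, t = M.1 0 0 + M.1 1 1 := ⟨_, rfl⟩
  rw [← ht] at h ⊢
  have e00 := congrFun (congrFun h 0) 0
  have e01 := congrFun (congrFun h 0) 1
  have e10 := congrFun (congrFun h 1) 0
  have e11 := congrFun (congrFun h 1) 1
  simp at e00 e01 e10 e11
  by_cases hk : t ^ 4 - 3 * t ^ 2 + 1 = 0
  · rw [hk] at e00
    have hl : t ^ 3 - 2 * t + 1 = 0 := by linear_combination e00
    by_contra hne
    have ht1 : t = 1 := by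
      have : (t - 1) * (t ^ 2 + t - 1) = 0 := by linear_combination hl
      rcases mul_eq_zero.mp this with h | h
      · linear_combination h
      · exact absurd h hne
    rw [ht1] at hk
    norm_num at hk
  · exfalso
    have hb : M.1 0 1 = 0 := by
      rcases e01 with h | h
      · exact absurd h hk
      · exact h
    have hc : M.1 1 0 = 0 := by
      rcases e10 with h | h
      · exact absurd h hk
      · exact h
    have had : M.1 0 0 = M.1 1 1 := by
      apply mul_left_cancel₀ hk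
      linear_combination e11 - e00
    have hd := sl2_det M
    rw [hb, hc, had] at hd
    -- M = ± 1, so M ^ 2 = 1
    have hM2 : M ^ 2 = 1 := by
      apply sl2_ext <;> simp only [sq, mul_e00, mul_e01, mul_e10, mul_e11, one_e00, one_e01,
        one_e10, one_e11, hb, hc, had]
      · linear_combination hd
      · ring
      · ring
      · linear_combination hd
    apply h1
    have : M = M ^ 5 * (M ^ 2)⁻¹ * (M ^ 2)⁻¹ := by group
    rw [this, h5, hM2]
    simp

end powers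

end Cfsg.Agent.Lib.helper47.A5Gen
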