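import Mathlib
import Cfsg.Agent.Lib.helper47.AutPSL2

set_option autoImplicit false
set_option linter.unusedSectionVars false
set_option linter.unusedSimpArgs false

/-! The field-automorphism invariant of an automorphism of `PSL₂(F)` and the resulting
homomorphism `Aut(PSL₂(F)) → ℤ/f`. -/

namespace Cfsg.Agent.Lib.helper47.AutPSL2

open Matrix

section trsq

variable {F : Type*} [Field F]

/-- the square of the trace, a class function on `PSL₂(F)` -/
noncomputable def trsq (g : ProjectiveSpecialLinearGroup (Fin 2) F) : F :=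
  ((Quotient.out g : SpecialLinearGroup (Fin 2) F).1 0 0 +
    (Quotient.out g : SpecialLinearGroup (Fin 2) F).1 1 1) ^ 2

theorem trsq_pr (M : SpecialLinearGroup (Fin 2) F) : trsq (pr M) = (M.1 0 0 + M.1 1 1) ^ 2 := by
  obtain ⟨N, hN⟩ : ∃ N : SpecialLinearGroup (Fin 2) F, N = Quotient.out (pr M) := ⟨_, rfl⟩
  have h1 : trsq (pr M) = (N.1 0 0 + N.1 1 1) ^ 2 := by rw [hN]; rfl
  have h : pr N = pr M := by rw [hN]; exact QuotientGroup.out_eq' (pr M)
  rw [h1]
  rcases (pr_eq_iff _ _).mp h with h | h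
  · rw [h]
  · rw [h, neg_e, neg_e]; ring

/-- `α` acts on trace squares as the `k`-th power of Frobenius -/
def Rel (p : ℕ) (α : MulAut (ProjectiveSpecialLinearGroup (Fin 2) F)) (k : ℕ) : Prop :=
  ∀ g, trsq (α g) = (trsq g) ^ (p ^ k)

theorem rel_conj (p : ℕ) (h : ProjectiveSpecialLinearGroup (Fin 2) F) :
    Rel p (MulAut.conj h) 0 := by
  intro g
  obtain ⟨A, rfl⟩ := pr_surj h
  obtain ⟨M, rfl⟩ := pr_surj g
  rw [MulAut.conj_apply, ← map_inv, ← map_mul, ← map_mul, trsq_pr, trsq_pr, pow_zero, pow_one]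
  congr 1
  simp only [mul_e00, mul_e01, mul_e10, mul_e11, inv_e00, inv_e01, inv_e10, inv_e11]
  linear_combination (M.1 0 0 + M.1 1 1) * sl2_det A

theorem rel_dAut (p : ℕ) (c : Fˣ) : Rel p (dAut c) 0 := by
  intro g
  obtain ⟨M, rfl⟩ := pr_surj g
  rw [dAut_pr, trsq_pr, trsq_pr, pow_zero, pow_one, dconj_e00, dconj_e11]

theorem Rel.mul {p : ℕ} {α β : MulAut (ProjectiveSpecialLinearGroup (Fin 2) F)} {k j : ℕ}
    (hα : Rel p α k) (hβ : Rel p β j) : Rel p (α * β) (k + j) := by
  intro g
  rw [MulAut.mul_apply, hα, hβ, ← pow_mul, pow_add, mul_comm]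

theorem rel_frob (p : ℕ) [Fact p.Prime] [CharP F p] [Finite F] : Rel p (frobAut (F := F) p) 1 := by
  intro g
  obtain ⟨M, rfl⟩ := pr_surj g
  rw [frobAut_pr, trsq_pr, trsq_pr, frobSL_e, frobSL_e, ← add_pow_char, pow_one, ← pow_mul,
    ← pow_mul, mul_comm]

theorem rel_frob_pow (p : ℕ) [Fact p.Prime] [CharP F p] [Finite F] (k : ℕ) :
    Rel p (frobAut (F := F) p ^ k) k := by
  induction k with
  | zero =>
    intro g
    simp
  | succ k ih =>
    rw [pow_succ]
    exact ih.mul (rel_frob p)

/-- every element of `F` is a trace -/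
theorem trsq_surj (t : F) : ∃ g : ProjectiveSpecialLinearGroup (Fin 2) F, trsq g = t ^ 2 :=
  ⟨pr (mk2 t 1 (-1) 0 (by ring)), by rw [trsq_pr, mk2_e00, mk2_e11, add_zero]⟩

theorem rel_unique [Fintype F] {p f : ℕ} [Fact p.Prime] [CharP F p] (hF : Fintype.card F = p ^ f)
    {α : MulAut (ProjectiveSpecialLinearGroup (Fin 2) F)} {k j : ℕ}
    (hk : Rel p α k) (hj : Rel p α j) : (k : ZMod f) = (j : ZMod f) := by
  have hp : p.Prime := Fact.out
  -- step 1: squares
  have h1 : ∀ t : F, (t ^ 2) ^ p ^ k = (t ^ 2) ^ p ^ j := by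
    intro t
    obtain ⟨g, hg⟩ := trsq_surj t
    rw [← hg, ← hk g, ← hj g]
  -- step 2: all elements
  have h2 : ∀ a : F, a ^ p ^ k = a ^ p ^ j := by
    intro a
    by_cases h20 : (2 : F) = 0
    · have h := h1 a
      rw [← pow_mul, ← pow_mul, mul_comm 2, mul_comm 2, pow_mul, pow_mul] at h
      have h3 : (a ^ p ^ k - a ^ p ^ j) ^ 2 = 0 := by
        linear_combination h + ((a ^ p ^ j) ^ 2 - a ^ p ^ k * a ^ p ^ j) * h20
      have h4 := pow_eq_zero_iff (two_ne_zero) |>.mp h3
      linear_combination h4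
    · have ha : a = ((a + 1) / 2) ^ 2 - ((a - 1) / 2) ^ 2 := by field_simp; ring
      rw [ha, sub_pow_char_pow, sub_pow_char_pow, h1, h1]
  -- step 3: Galois group
  let _ : Algebra (ZMod p) F := ZMod.algebra F p
  have hord := FiniteField.orderOf_frobeniusAlgEquivOfAlgebraic (ZMod p) F
  have hfin : Module.finrank (ZMod p) F = f := by
    have := Module.card_eq_pow_finrank (K := ZMod p) (V := F)
    rw [hF, ZMod.card] at this
    exact (Nat.pow_right_injective hp.two_le this).symm
  rw [hfin] at hord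
  have hpow : ∀ (n : ℕ) (x : F),
      (FiniteField.frobeniusAlgEquivOfAlgebraic (ZMod p) F ^ n) x = x ^ p ^ n := by
    intro n
    induction n with
    | zero => intro x; simp
    | succ n ih =>
      intro x
      rw [pow_succ, AlgEquiv.mul_apply, ih, FiniteField.coe_frobeniusAlgEquivOfAlgebraic,
        ZMod.card, ← pow_mul, ← pow_succ']
  have heq : FiniteField.frobeniusAlgEquivOfAlgebraic (ZMod p) F ^ k =
      FiniteField.frobeniusAlgEquivOfAlgebraic (ZMod p) F ^ j := by
    apply AlgEquiv.ext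
    intro x
    rw [hpow, hpow, h2]
  have hmod := pow_eq_pow_iff_modEq.mp heq
  rw [hord] at hmod
  exact (ZMod.natCast_eq_natCast_iff k j f).mpr hmod

theorem exists_rel [Fintype F] {p f : ℕ} [Fact p.Prime] [CharP F p] (hF : Fintype.card F = p ^ f)
    (α : MulAut (ProjectiveSpecialLinearGroup (Fin 2) F)) : ∃ k : ℕ, Rel p α k := by
  obtain ⟨h, c, k, rfl⟩ := aut_structure hF α
  refine ⟨0 + 0 + k, ?_⟩
  exact ((rel_conj p h).mul (rel_dAut p c)).mul (rel_frob_pow p k)

/-- the field-automorphism part of an automorphism of `PSL₂(F)` -/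
noncomputable def phi0 [Fintype F] {p f : ℕ} [Fact p.Prime] [CharP F p]
    (hF : Fintype.card F = p ^ f) :
    MulAut (ProjectiveSpecialLinearGroup (Fin 2) F) →* Multiplicative (ZMod f) :=
  MonoidHom.mk'
    (fun α => Multiplicative.ofAdd ((Classical.choose (exists_rel hF α) : ℕ) : ZMod f))
    (by
      intro α β
      have hα := Classical.choose_spec (exists_rel hF α)
      have hβ := Classical.choose_spec (exists_rel hF β)
      have hαβ := Classical.choose_spec (exists_rel hF (α * β))
      rw [← ofAdd_add, ← Nat.cast_add]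
      congr 1
      exact rel_unique hF hαβ (hα.mul hβ))

theorem phi0_eq [Fintype F] {p f : ℕ} [Fact p.Prime] [CharP F p]
    (hF : Fintype.card F = p ^ f) (α : MulAut (ProjectiveSpecialLinearGroup (Fin 2) F)) (k : ℕ)
    (hk : Rel p α k) : phi0 hF α = Multiplicative.ofAdd (k : ZMod f) := by
  show Multiplicative.ofAdd ((Classical.choose (exists_rel hF α) : ℕ) : ZMod f) = _
  congr 1
  exact rel_unique hF (Classical.choose_spec (exists_rel hF α)) hk

theorem frobAut_pow_card [Fintype F] {p f : ℕ} [Fact p.Prime] [CharP F p]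
    (hF : Fintype.card F = p ^ f) : frobAut (F := F) p ^ f = 1 := by
  apply MulEquiv.toMonoidHom_injective
  apply hom_ext_uv
  · intro x
    show (frobAut p ^ f) (pr (uM x)) = pr (uM x)
    rw [frobAut_pow_uM, ← hF, FiniteField.pow_card]
  · intro y
    show (frobAut p ^ f) (pr (vM y)) = pr (vM y)
    rw [frobAut_pow_vM, ← hF, FiniteField.pow_card]

/-- an automorphism with trivial field part is inner ∘ diagonal -/
theorem eq_conj_mul_dAut [Fintype F] {p f : ℕ} [Fact p.Prime] [CharP F p]
    (hF : Fintype.card F = p ^ f) (α : MulAut (ProjectiveSpecialLinearGroup (Fin 2) F))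
    (hα : phi0 hF α = 1) :
    ∃ (h : ProjectiveSpecialLinearGroup (Fin 2) F) (c : Fˣ), α = MulAut.conj h * dAut c := by
  obtain ⟨h, c, k, rfl⟩ := aut_structure hF α
  have hrel : Rel p (MulAut.conj h * dAut c * frobAut p ^ k) (0 + 0 + k) :=
    ((rel_conj p h).mul (rel_dAut p c)).mul (rel_frob_pow p k)
  rw [phi0_eq hF _ _ hrel, zero_add, zero_add] at hα
  have hk : (k : ZMod f) = 0 := by
    have := congrArg Multiplicative.toAdd hα
    simpa using this
  obtain ⟨m, rfl⟩ := (ZMod.natCast_eq_zero_iff k f).mp hk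
  refine ⟨h, c, ?_⟩
  rw [pow_mul, frobAut_pow_card hF, one_pow, mul_one]

end trsq

section kernel

variable {F : Type*} [Field F]

/-- a diagonal automorphism attached to a non-square is not inner (odd characteristic) -/
theorem dAut_not_inner (h2 : (2 : F) ≠ 0) (ν : Fˣ) (hν : ¬ IsSquare (ν : F))
    (h : ProjectiveSpecialLinearGroup (Fin 2) F) : dAut ν ≠ MulAut.conj h := by
  intro heq
  obtain ⟨B, rfl⟩ := pr_surj h
  have h1 := congrArg (fun φ : MulAut (ProjectiveSpecialLinearGroup (Fin 2) F) => φ (pr (uM 1))) heq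
  simp only [dAut_pr, MulAut.conj_apply, dconj_uM, mul_one] at h1
  rw [← map_inv, ← map_mul, ← map_mul] at h1
  have hd := sl2_det B
  rcases (pr_eq_iff _ _).mp h1 with h | h
  · have h' : B * uM 1 = uM (ν : F) * B := by rw [← h]; group
    have e00 := congrArg (fun A : SpecialLinearGroup (Fin 2) F => A.1 0 0) h'
    have e01 := congrArg (fun A : SpecialLinearGroup (Fin 2) F => A.1 0 1) h'
    simp only [mul_e00, mul_e01, uM_e00, uM_e01, uM_e10, uM_e11] at e00 e01
    have hc : B.1 1 0 = 0 := by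
      have : (ν : F) * B.1 1 0 = 0 := by linear_combination -e00
      rcases mul_eq_zero.mp this with h | h
      · exact absurd h ν.ne_zero
      · exact h
    rw [hc] at hd
    apply hν
    refine ⟨B.1 0 0, ?_⟩
    have e : B.1 0 0 = (ν : F) * B.1 1 1 := by linear_combination e01
    linear_combination (-(ν : F)) * hd - B.1 0 0 * e
  · have h' : B * uM 1 = -uM (ν : F) * B := by rw [← h]; group
    have e00 := congrArg (fun A : SpecialLinearGroup (Fin 2) F => A.1 0 0) h'
    have e10 := congrArg (fun A : SpecialLinearGroup (Fin 2) F => A.1 1 0) h'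
    simp only [mul_e00, mul_e10, uM_e00, uM_e01, uM_e10, uM_e11, neg_e] at e00 e10
    have hc : B.1 1 0 = 0 := by
      have : (2 : F) * B.1 1 0 = 0 := by linear_combination e10
      rcases mul_eq_zero.mp this with h | h
      · exact absurd h h2
      · exact h
    rw [hc] at e00 hd
    have ha : B.1 0 0 = 0 := by
      have : (2 : F) * B.1 0 0 = 0 := by linear_combination e00
      rcases mul_eq_zero.mp this with h | h
      · exact absurd h h2
      · exact h
    rw [ha] at hd
    simp at hd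

/-- in odd characteristic every nonzero element is a square or a fixed non-square times a square -/
theorem sq_or_nu_sq [Fintype F] (hchar : ringChar F ≠ 2) (ν : F) (hν : ¬ IsSquare ν) (c : F)
    (hc : c ≠ 0) : (∃ s : F, s ≠ 0 ∧ c = s ^ 2) ∨ (∃ s : F, s ≠ 0 ∧ c = ν * s ^ 2) := by
  have hν0 : ν ≠ 0 := by rintro rfl; exact hν ⟨0, by simp⟩
  by_cases hsq : IsSquare c
  · left
    obtain ⟨s, hs⟩ := hsq
    refine ⟨s, ?_, by rw [hs, sq]⟩
    rintro rfl
    exact hc (by rw [hs, mul_zero])
  · right
    have hodd := FiniteField.odd_card_of_char_ne_two hchar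
    have hq : Fintype.card F / 2 * 2 = Fintype.card F - 1 := by omega
    have key : ∀ a : F, a ≠ 0 → ¬ IsSquare a → a ^ (Fintype.card F / 2) = -1 := by
      intro a ha hna
      have h1 : a ^ (Fintype.card F / 2) ≠ 1 := fun h => hna ((FiniteField.isSquare_iff hchar ha).mpr h)
      have h2 : (a ^ (Fintype.card F / 2)) ^ 2 = 1 := by
        rw [← pow_mul, hq, FiniteField.pow_card_sub_one_eq_one a ha]
      have h3 : (a ^ (Fintype.card F / 2) - 1) * (a ^ (Fintype.card F / 2) + 1) = 0 := by
        linear_combination h2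
      rcases mul_eq_zero.mp h3 with h | h
      · exact absurd (by linear_combination h) h1
      · linear_combination h
    have hcν : IsSquare (c * ν⁻¹) := by
      rw [FiniteField.isSquare_iff hchar (mul_ne_zero hc (inv_ne_zero hν0)), mul_pow, inv_pow,
        key c hc hsq, key ν hν0 hν]
      simp
    obtain ⟨s, hs⟩ := hcν
    refine ⟨s, ?_, ?_⟩
    · rintro rfl
      rw [mul_zero] at hs
      exact mul_ne_zero hc (inv_ne_zero hν0) hs
    · have : c = ν * (c * ν⁻¹) := by field_simp
      rw [this, hs, sq]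

end kernel

end Cfsg.Agent.Lib.helper47.AutPSL2
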