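import Mathlib
import Cfsg.Agent.Lib.helper81.BLF1
import Cfsg.Agent.Lib.helper81.BLF3
import Cfsg.Agent.Lib.helper21.BLF4

/-! S4471 split project (architect helper68), piece FB (racer copy by helper47):
Frobenius–Blichfeldt descent for a two-eigenvalue element of a finite unitary matrix group. -/

set_option autoImplicit false

namespace Cfsg.Agent.Lib.helper68.BL

open scoped ComplexConjugate Matrix

universe u

/-- squared Frobenius norm -/
noncomputable def helper47_nu {n : ℕ} (X : Matrix (Fin n) (Fin n) ℂ) : ℝ := ((Xᴴ * X).trace).re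

theorem helper47_nu_mul_unitary {n : ℕ} (X V : Matrix (Fin n) (Fin n) ℂ) (hV : V * Vᴴ = 1) :
    helper47_nu (X * V) = helper47_nu X := by
  unfold helper47_nu
  rw [Matrix.conjTranspose_mul, Matrix.mul_assoc, Matrix.trace_mul_comm, Matrix.mul_assoc,
    Matrix.mul_assoc, hV, Matrix.mul_one]

theorem helper47_nu_smul {n : ℕ} (a : ℂ) (X : Matrix (Fin n) (Fin n) ℂ) :
    helper47_nu (a • X) = ‖a‖ ^ 2 * helper47_nu X := by
  unfold helper47_nu
  rw [Matrix.conjTranspose_smul, Matrix.smul_mul, Matrix.mul_smul, smul_smul, Matrix.trace_smul]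
  have h1 : star a * a = ((‖a‖ ^ 2 : ℝ) : ℂ) := by
    rw [Complex.star_def, Complex.conj_mul']
    push_cast; rfl
  rw [h1, smul_eq_mul, Complex.re_ofReal_mul]

theorem helper47_nu_eq {n : ℕ} (X : Matrix (Fin n) (Fin n) ℂ) :
    helper47_nu X = ∑ i, ∑ j, ‖X j i‖ ^ 2 := by
  unfold helper47_nu
  simp only [Matrix.trace, Matrix.diag_apply, Matrix.mul_apply, Matrix.conjTranspose_apply,
    Complex.re_sum]
  refine Finset.sum_congr rfl fun i _ => Finset.sum_congr rfl fun j _ => ?_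
  rw [Complex.star_def, Complex.conj_mul']
  norm_cast

theorem helper47_nu_nonneg {n : ℕ} (X : Matrix (Fin n) (Fin n) ℂ) : 0 ≤ helper47_nu X := by
  rw [helper47_nu_eq]
  exact Finset.sum_nonneg fun i _ => Finset.sum_nonneg fun j _ => by positivity

theorem helper47_nu_eq_zero {n : ℕ} (X : Matrix (Fin n) (Fin n) ℂ) (h : helper47_nu X = 0) :
    X = 0 := by
  rw [helper47_nu_eq] at h
  ext j i
  have h1 := (Finset.sum_eq_zero_iff_of_nonneg
    (fun i _ => Finset.sum_nonneg fun j _ => by positivity)).mp h i (Finset.mem_univ i)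
  have h2 := (Finset.sum_eq_zero_iff_of_nonneg (fun j _ => by positivity)).mp h1 j
    (Finset.mem_univ j)
  simpa using h2

theorem helper47_orth {n : ℕ} (E : Matrix (Fin n) (Fin n) ℂ) (hEh : Eᴴ = E) (w u : Fin n → ℂ)
    (hw : E *ᵥ w = w) (hu : E *ᵥ u = 0) : star w ⬝ᵥ u = 0 := by
  rw [← hw, Matrix.star_mulVec, ← Matrix.dotProduct_mulVec, hEh, hu, dotProduct_zero]

theorem helper47_orth' {n : ℕ} (E : Matrix (Fin n) (Fin n) ℂ) (hEh : Eᴴ = E) (w u : Fin n → ℂ)
    (hw : E *ᵥ w = w) (hu : E *ᵥ u = 0) : star u ⬝ᵥ w = 0 := by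
  have h1 : star u ᵥ* E = 0 := by
    have h2 : star (E *ᵥ u) = star u ᵥ* Eᴴ := Matrix.star_mulVec E u
    rw [hEh, hu, star_zero] at h2
    exact h2.symm
  rw [← hw, Matrix.dotProduct_mulVec, h1, zero_dotProduct]

theorem helper47_norm_unitary {n : ℕ} (y : Matrix (Fin n) (Fin n) ℂ) (hy : yᴴ * y = 1)
    (w : Fin n → ℂ) : star (y *ᵥ w) ⬝ᵥ (y *ᵥ w) = star w ⬝ᵥ w := by
  rw [Matrix.star_mulVec, ← Matrix.dotProduct_mulVec, Matrix.mulVec_mulVec, hy, Matrix.one_mulVec]

theorem helper47_idem_mul {n : ℕ} (P : Matrix (Fin n) (Fin n) ℂ) (hP : P * P = P) (x y : ℂ) :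
    (1 + x • P) * (1 + y • P) = 1 + (x + y + x * y) • P := by
  simp only [Matrix.add_mul, Matrix.mul_add, Matrix.one_mul, Matrix.mul_one, Matrix.smul_mul,
    Matrix.mul_smul, hP]
  module

/-- FB (Frobenius–Blichfeldt for a two-eigenvalue element), racer copy. -/
theorem helper47_fb_commute {G : Type u} [Group G] [Finite G] {n : ℕ} (U : G →* Matrix (Fin n) (Fin n) ℂ)
    (hU : ∀ g : G, (U g)ᴴ * U g = 1) (z : G) (ω : ℂ) (hω : star ω * ω = 1) (hω1 : ω ≠ 1)
    (hr : ‖ω - 1‖ < 1) (hz : (U z - 1) * (U z - ω • (1 : Matrix (Fin n) (Fin n) ℂ)) = 0) (g : G) :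
    U z * U (g * z * g⁻¹) = U (g * z * g⁻¹) * U z := by
  classical
  have hUi : ∀ x : G, U x * U x⁻¹ = 1 := fun x => by rw [← map_mul, mul_inv_cancel, map_one]
  have hUi' : ∀ x : G, U x⁻¹ * U x = 1 := fun x => by rw [← map_mul, inv_mul_cancel, map_one]
  have hUinv : ∀ x : G, U x⁻¹ = (U x)ᴴ := by
    intro x
    calc U x⁻¹ = ((U x)ᴴ * U x) * U x⁻¹ := by rw [hU, Matrix.one_mul]
      _ = (U x)ᴴ := by rw [Matrix.mul_assoc, hUi, Matrix.mul_one]
  have hU' : ∀ x : G, U x * (U x)ᴴ = 1 := fun x => by rw [← hUinv, hUi]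
  obtain ⟨a, ha⟩ : ∃ a : ℂ, a = ω - 1 := ⟨_, rfl⟩
  have ha0 : a ≠ 0 := by rw [ha]; exact sub_ne_zero.mpr hω1
  have hna : ‖a‖ < 1 := by rw [ha]; exact hr
  have hω0 : ω ≠ 0 := by rintro rfl; simp at hω
  have hstarω : star ω = ω⁻¹ := eq_inv_of_mul_eq_one_left hω
  have hb : a / ω ≠ 0 := div_ne_zero ha0 hω0
  obtain ⟨E, hEdef⟩ : ∃ E : Matrix (Fin n) (Fin n) ℂ, E = a⁻¹ • (U z - 1) := ⟨_, rfl⟩
  have hs : U z = 1 + a • E := by
    rw [hEdef, smul_smul, mul_inv_cancel₀ ha0, one_smul]; abel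
  have hEE : E * E = E := by
    have h1 : (U z - 1) * (U z - 1) = a • (U z - 1) := by
      have h2 : U z - ω • (1 : Matrix (Fin n) (Fin n) ℂ)
          = (U z - 1) - a • (1 : Matrix (Fin n) (Fin n) ℂ) := by
        rw [ha, sub_smul, one_smul]; abel
      rw [h2, Matrix.mul_sub, Matrix.mul_smul, Matrix.mul_one, sub_eq_zero] at hz
      exact hz
    rw [hEdef, Matrix.smul_mul, Matrix.mul_smul, h1, smul_smul, smul_smul]
    congr 1
    field_simp
  have hsinv : U z * (1 + (-(a / ω)) • E) = 1 := by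
    rw [hs, helper47_idem_mul E hEE]
    have h0 : a + -(a / ω) + a * -(a / ω) = 0 := by rw [ha]; field_simp; ring
    rw [h0, zero_smul, add_zero]
  have hsH : (U z)ᴴ = 1 + (-(a / ω)) • E := by
    calc (U z)ᴴ = (U z)ᴴ * (U z * (1 + (-(a / ω)) • E)) := by rw [hsinv, Matrix.mul_one]
      _ = 1 + (-(a / ω)) • E := by rw [← Matrix.mul_assoc, hU, Matrix.one_mul]
  have hsa : star a = -(a / ω) := by
    rw [ha, star_sub, star_one, hstarω]; field_simp; ring
  have hsH2 : (U z)ᴴ = 1 + (-(a / ω)) • Eᴴ := by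
    rw [hs, Matrix.conjTranspose_add, Matrix.conjTranspose_one, Matrix.conjTranspose_smul, hsa]
  have hEh : Eᴴ = E := by
    have h3 : (-(a / ω)) • E = (-(a / ω)) • Eᴴ := add_left_cancel (hsH.symm.trans hsH2)
    exact (smul_right_injective _ (neg_ne_zero.mpr hb) h3).symm
  obtain ⟨Eh, hEh_def⟩ : ∃ Eh : G → Matrix (Fin n) (Fin n) ℂ, ∀ h, Eh h = U h * E * (U h)ᴴ :=
    ⟨_, fun _ => rfl⟩
  have hEhI : ∀ h, Eh h * Eh h = Eh h := by
    intro h
    rw [hEh_def]
    calc U h * E * (U h)ᴴ * (U h * E * (U h)ᴴ)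
        = U h * E * ((U h)ᴴ * U h) * E * (U h)ᴴ := by simp only [Matrix.mul_assoc]
      _ = U h * (E * E) * (U h)ᴴ := by rw [hU, Matrix.mul_one, Matrix.mul_assoc (U h) E E]
      _ = U h * E * (U h)ᴴ := by rw [hEE]
  have hEhH : ∀ h, (Eh h)ᴴ = Eh h := by
    intro h
    rw [hEh_def, Matrix.conjTranspose_mul, Matrix.conjTranspose_mul,
      Matrix.conjTranspose_conjTranspose, hEh, Matrix.mul_assoc]
  have hUc : ∀ h, U (h * z * h⁻¹) = 1 + a • Eh h := by
    intro h
    rw [map_mul, map_mul, hUinv, hs, hEh_def, Matrix.mul_add, Matrix.add_mul, Matrix.mul_one, hU',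
      Matrix.mul_smul, Matrix.smul_mul]
  -- (*) for conjugates
  have hstarA : ∀ h : G, ∀ w : Fin n → ℂ, E *ᵥ w = w → E *ᵥ (U (h * z * h⁻¹) *ᵥ w) = 0 →
      w = 0 := by
    intro h w hw hu
    refine orth_vec_zero (Eh h) (hEhI h) (hEhH h) w (U (h * z * h⁻¹) *ᵥ w)
      (helper47_orth E hEh w _ hw hu) (helper47_norm_unitary _ (hU _) w) a hna ?_
    rw [hUc, Matrix.add_mulVec, Matrix.one_mulVec, Matrix.smul_mulVec, add_sub_cancel_left]
  -- (*) for commutators
  have hstarB : ∀ c : G, ∀ w : Fin n → ℂ, E *ᵥ w = w →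
      E *ᵥ (U (z * c * z⁻¹ * c⁻¹) *ᵥ w) = 0 → w = 0 := by
    intro c w hw hu
    obtain ⟨u, hudef⟩ : ∃ u, u = U (z * c * z⁻¹ * c⁻¹) *ᵥ w := ⟨_, rfl⟩
    rw [← hudef] at hu
    obtain ⟨t, htdef⟩ : ∃ t, t = U (c * z * c⁻¹) := ⟨_, rfl⟩
    have ht : t = 1 + a • Eh c := by rw [htdef, hUc]
    have hy' : U (z * c * z⁻¹ * c⁻¹) = U z * tᴴ := by
      rw [htdef, ← hUinv, ← map_mul U]; congr 1; group
    have hsu : U z *ᵥ u = u := by
      rw [hs, Matrix.add_mulVec, Matrix.one_mulVec, Matrix.smul_mulVec, hu, smul_zero, add_zero]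
    have htw : tᴴ *ᵥ w = u := by
      have h1 : (U z)ᴴ *ᵥ u = tᴴ *ᵥ w := by
        rw [hudef, hy', Matrix.mulVec_mulVec, ← Matrix.mul_assoc, hU, Matrix.one_mul]
      have h2 : (U z)ᴴ *ᵥ u = u := by
        conv_lhs => rw [← hsu]
        rw [Matrix.mulVec_mulVec, hU, Matrix.one_mulVec]
      rw [← h1, h2]
    have hwt : w = t *ᵥ u := by
      rw [← htw, Matrix.mulVec_mulVec, htdef, hU', Matrix.one_mulVec]
    have hu0 : u = 0 := by
      refine orth_vec_zero (Eh c) (hEhI c) (hEhH c) u w (helper47_orth' E hEh w u hw hu) ?_ a hna ?_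
      · rw [hudef]; exact (helper47_norm_unitary _ (hU _) w).symm
      · rw [hwt, ht, Matrix.add_mulVec, Matrix.one_mulVec, Matrix.smul_mulVec, add_sub_cancel_left]
    rw [hwt, hu0, Matrix.mulVec_zero]
  -- one step of the downward induction
  have hstep : ∀ c : G, (∀ w : Fin n → ℂ, E *ᵥ w = w → E *ᵥ (U c *ᵥ w) = 0 → w = 0) →
      U z * U (z * c * z⁻¹ * c⁻¹) = U (z * c * z⁻¹ * c⁻¹) * U z → U z * U c = U c * U z := by
    intro c hst hcomm
    obtain ⟨t, htdef⟩ : ∃ t, t = U (c * z * c⁻¹) := ⟨_, rfl⟩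
    have ht : t = 1 + a • Eh c := by rw [htdef, hUc]
    have hy' : U (z * c * z⁻¹ * c⁻¹) = U z * tᴴ := by
      rw [htdef, ← hUinv, ← map_mul U]; congr 1; group
    have htt : tᴴ * t = 1 := by rw [htdef]; exact hU _
    have htt' : t * tᴴ = 1 := by rw [htdef]; exact hU' _
    rw [hy'] at hcomm
    have h1 : U z * tᴴ = tᴴ * U z := by
      have h0 := congrArg (fun X => (U z)ᴴ * X) hcomm
      simp only [← Matrix.mul_assoc, hU, Matrix.one_mul] at h0
      exact h0
    have h2 : t * U z = U z * t := by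
      calc t * U z = t * (U z * tᴴ) * t := by
            rw [Matrix.mul_assoc, Matrix.mul_assoc, htt, Matrix.mul_one]
        _ = t * (tᴴ * U z) * t := by rw [h1]
        _ = U z * t := by rw [← Matrix.mul_assoc, htt', Matrix.one_mul]
    have h3 : E * Eh c = Eh c * E := by
      rw [ht, hs] at h2
      have e1 : (1 + a • Eh c) * (1 + a • E)
          = (1 + a • E + a • Eh c) + (a * a) • (Eh c * E) := by
        simp only [Matrix.add_mul, Matrix.mul_add, Matrix.one_mul, Matrix.mul_one,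
          Matrix.smul_mul, Matrix.mul_smul]
        module
      have e2 : (1 + a • E) * (1 + a • Eh c)
          = (1 + a • E + a • Eh c) + (a * a) • (E * Eh c) := by
        simp only [Matrix.add_mul, Matrix.mul_add, Matrix.one_mul, Matrix.mul_one,
          Matrix.smul_mul, Matrix.mul_smul]
        module
      rw [e1, e2] at h2
      exact (smul_right_injective _ (mul_ne_zero ha0 ha0) (add_left_cancel h2)).symm
    have h5 : Eh c = E :=
      proj_eq_of_commute E (Eh c) (U c) (U c)ᴴ hEE hEh (hEhH c) (hU' c) (hEh_def c) h3 hst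
    have h6 : U (c * z * c⁻¹) = U z := by rw [hUc, h5, ← hs]
    rw [map_mul, map_mul] at h6
    calc U z * U c = U c * U z * U c⁻¹ * U c := by rw [h6]
      _ = U c * U z := by rw [Matrix.mul_assoc, hUi', Matrix.mul_one]
  -- the commutator sequence
  obtain ⟨c, hc0, hcs⟩ : ∃ c : ℕ → G, c 0 = g * z * g⁻¹ ∧
      ∀ k, c (k + 1) = z * c k * z⁻¹ * (c k)⁻¹ :=
    ⟨fun k => Nat.rec (g * z * g⁻¹) (fun _ x => z * x * z⁻¹ * x⁻¹) k, rfl, fun _ => rfl⟩
  have hstar_all : ∀ k, ∀ w : Fin n → ℂ, E *ᵥ w = w → E *ᵥ (U (c k) *ᵥ w) = 0 → w = 0 := by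
    intro k
    cases k with
    | zero => rw [hc0]; exact hstarA g
    | succ k => rw [hcs]; exact hstarB (c k)
  have hdown : ∀ k, U z * U (c (k + 1)) = U (c (k + 1)) * U z →
      U z * U (c k) = U (c k) * U z := by
    intro k h
    rw [hcs] at h
    exact hstep (c k) (hstar_all k) h
  have hK : ∃ K, U (c K) = 1 := by
    by_contra hne
    push Not at hne
    have hfpos : ∀ k, 0 < helper47_nu (U (c k) - 1) := by
      intro k
      rcases (helper47_nu_nonneg (U (c k) - 1)).lt_or_eq with h | h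
      · exact h
      · exact absurd (sub_eq_zero.mp (helper47_nu_eq_zero _ h.symm)) (hne k)
    have hfstep : ∀ k, helper47_nu (U (c (k + 1)) - 1) ≤ ‖a‖ ^ 2 * helper47_nu (U (c k) - 1) := by
      intro k
      obtain ⟨y, hy⟩ : ∃ y, y = U (c k) := ⟨_, rfl⟩
      rw [← hy]
      have e1 : U (c (k + 1)) - 1 = (U z * y - y * U z) * U (z⁻¹ * (c k)⁻¹) := by
        rw [hcs, hy, Matrix.sub_mul, ← map_mul U, ← map_mul U, ← map_mul U, ← map_mul U]
        congr 1
        · congr 1; group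
        · rw [← map_one U]; congr 1; group
      have e2 : U z * y - y * U z = a • (E * (y - 1) - (y - 1) * E) := by
        rw [hs]
        simp only [Matrix.add_mul, Matrix.mul_add, Matrix.one_mul, Matrix.mul_one,
          Matrix.smul_mul, Matrix.mul_smul, Matrix.mul_sub, Matrix.sub_mul, smul_sub]
        abel
      rw [e1, helper47_nu_mul_unitary _ _ (hU' _), e2, helper47_nu_smul]
      exact mul_le_mul_of_nonneg_left (herm_idem_comm_le E (y - 1) hEE hEh) (by positivity)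
    have hanti : StrictAnti (fun k => helper47_nu (U (c k) - 1)) := by
      apply strictAnti_nat_of_succ_lt
      intro k
      calc helper47_nu (U (c (k + 1)) - 1) ≤ ‖a‖ ^ 2 * helper47_nu (U (c k) - 1) := hfstep k
        _ < 1 * helper47_nu (U (c k) - 1) := by
            apply mul_lt_mul_of_pos_right _ (hfpos k)
            have h0 := norm_nonneg a
            nlinarith
        _ = helper47_nu (U (c k) - 1) := one_mul _
    have hinj : Function.Injective c := by
      intro i j hij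
      apply hanti.injective
      show helper47_nu (U (c i) - 1) = helper47_nu (U (c j) - 1)
      rw [hij]
    exact not_injective_infinite_finite c hinj
  obtain ⟨K, hK⟩ := hK
  have hall : ∀ K, U z * U (c K) = U (c K) * U z → U z * U (c 0) = U (c 0) * U z := by
    intro K
    induction K with
    | zero => exact id
    | succ K ih => exact fun h => ih (hdown K h)
  have hfin := hall K (by rw [hK, Matrix.mul_one, Matrix.one_mul])
  rwa [hc0] at hfin

end Cfsg.Agent.Lib.helper68.BL
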