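import Mathlib
import Cfsg.Agent.Lib.helper47.BLU
import Cfsg.Agent.Lib.helper47.BLFB

/-! S4471 split project (architect helper68), piece T (racer copy by helper47):
transfer of the Frobenius–Blichfeldt statement to a faithful representation. -/

set_option autoImplicit false

namespace Cfsg.Agent.Lib.helper68.BL

open scoped ComplexConjugate Matrix

universe u

/-- T : transfer to a faithful representation (racer copy). -/
theorem helper47_commute_of_rep {G : Type u} [Group G] [Finite G] {n : ℕ}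
    (ρ : Representation ℂ G (Fin n → ℂ))
    (hfaith : ∀ g : G, ρ.character g = ρ.character 1 → g = 1) (z : G) (ω : ℂ)
    (hω : star ω * ω = 1) (hω1 : ω ≠ 1) (hr : ‖ω - 1‖ < 1)
    (hz : (ρ z - 1) * (ρ z - ω • (1 : Module.End ℂ (Fin n → ℂ))) = 0) (g : G) :
    z * (g * z * g⁻¹) = (g * z * g⁻¹) * z := by
  classical
  obtain ⟨R, hR⟩ : ∃ R : G →* Matrix (Fin n) (Fin n) ℂ,
      ∀ x, R x = LinearMap.toMatrixAlgEquiv' (ρ x) :=
    ⟨(LinearMap.toMatrixAlgEquiv' (R := ℂ) (n := Fin n)).toAlgHom.toRingHom.toMonoidHom.comp ρ,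
      fun _ => rfl⟩
  obtain ⟨C, D, U, hCD, hDC, hUdef, hUu⟩ := exists_unitary_hom R
  have hRz : (R z - 1) * (R z - ω • (1 : Matrix (Fin n) (Fin n) ℂ)) = 0 := by
    have h1 := congrArg (LinearMap.toMatrixAlgEquiv' (R := ℂ) (n := Fin n)) hz
    simpa [hR] using h1
  have hUz : (U z - 1) * (U z - ω • (1 : Matrix (Fin n) (Fin n) ℂ)) = 0 := by
    have e1 : U z - 1 = C * (R z - 1) * D := by
      rw [hUdef, Matrix.mul_sub, Matrix.sub_mul, Matrix.mul_one, hCD]
    have e2 : U z - ω • (1 : Matrix (Fin n) (Fin n) ℂ)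
        = C * (R z - ω • (1 : Matrix (Fin n) (Fin n) ℂ)) * D := by
      rw [hUdef, Matrix.mul_sub, Matrix.sub_mul, Matrix.mul_smul, Matrix.smul_mul, Matrix.mul_one,
        hCD]
    rw [e1, e2]
    calc C * (R z - 1) * D * (C * (R z - ω • (1 : Matrix (Fin n) (Fin n) ℂ)) * D)
        = C * (R z - 1) * (D * C) * (R z - ω • (1 : Matrix (Fin n) (Fin n) ℂ)) * D := by
          simp only [Matrix.mul_assoc]
      _ = C * ((R z - 1) * (R z - ω • (1 : Matrix (Fin n) (Fin n) ℂ))) * D := by
          rw [hDC, Matrix.mul_one, Matrix.mul_assoc C]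
      _ = 0 := by rw [hRz, Matrix.mul_zero, Matrix.zero_mul]
  have hcomm := helper47_fb_commute U hUu z ω hω hω1 hr hUz g
  rw [← map_mul U, ← map_mul U] at hcomm
  -- injectivity of U
  have hinj : ∀ x y : G, U x = U y → x = y := by
    intro x y hxy
    rw [hUdef, hUdef] at hxy
    have h1 : R x = R y := by
      calc R x = D * (C * R x * D) * C := by
            simp only [Matrix.mul_assoc]
            rw [hDC, Matrix.mul_one, ← Matrix.mul_assoc, hDC, Matrix.one_mul]
        _ = D * (C * R y * D) * C := by rw [hxy]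
        _ = R y := by
            simp only [Matrix.mul_assoc]
            rw [hDC, Matrix.mul_one, ← Matrix.mul_assoc, hDC, Matrix.one_mul]
    rw [hR, hR] at h1
    have h2 : ρ x = ρ y := LinearMap.toMatrixAlgEquiv'.injective h1
    have h3 : ρ (x * y⁻¹) = 1 := by
      rw [map_mul, h2, ← map_mul, mul_inv_cancel, map_one]
    have h4 : x * y⁻¹ = 1 := by
      apply hfaith
      unfold Representation.character
      rw [h3, map_one ρ]
    exact mul_inv_eq_one.mp h4
  exact hinj _ _ hcomm

end Cfsg.Agent.Lib.helper68.BL
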