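import Cfsg.Agent.Lib.helper47.D4FINCore
import Cfsg.Agent.Lib.helper48.D4CH
import Cfsg.Agent.Lib.helper23.D4AN
import Cfsg.Agent.Lib.helper23.D4SQ
import Cfsg.Agent.Lib.helper95.D4B

/-!
# S1082 piece FIN (helper47): the commutator subgroup of `Og8` lies in `Eg8`

Exact statement of `tools/S1082_Skel.lean.txt`, from the core `h47_comm_le_Eg8_of` and the landed
pieces B (helper95), CH (helper48), AN and SQ (helper23).
-/

set_option autoImplicit false

namespace Cfsg.Agent.Lib.helper47.D4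

open Matrix Cfsg Cfsg.Lie Cfsg.Agent.Lib.helper95.D4

variable {F : Type*} [Field F]

theorem comm_le_Eg8 (x : ↥(Og8 F)) (hx : x ∈ commutator ↥(Og8 F)) : (x : GL (Fin 8) F) ∈ Eg8 F :=
  h47_comm_le_Eg8_of Cfsg.Agent.Lib.helper95.D4.Eg8_le_Og8
    (fun g hg => Cfsg.Agent.Lib.helper48.D4.Og8_decomp g hg)
    (fun c hc r t => Cfsg.Agent.Lib.helper23.D4.dgc_conj c hc r t)
    (fun r t => Cfsg.Agent.Lib.helper23.D4.sw_conj r t)
    (fun c hc => Cfsg.Agent.Lib.helper23.D4.dgc_sq_mem c hc) x hx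

end Cfsg.Agent.Lib.helper47.D4
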