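import Cfsg.Agent.Lib.helper95.D4Defs

/-!
# S1082 piece FIN, core (helper47): the commutator subgroup of `Og8` lies in `Eg8`

Proved against the statements of the pieces B (`Eg8_le_Og8`), CH (`Og8_decomp`), AN (`dgc_conj`,
`sw_conj`) and SQ (`dgc_sq_mem`) as explicit hypotheses: `Eg8` is normalised by `Og8`, and
`Og8 / Eg8` is commutative because every element of `Og8` is an element of `Eg8` times `dgc c` or
`dgc c * sw`, and these commute modulo the squares `dgc (c * c)`.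
-/

set_option autoImplicit false
set_option linter.unusedSimpArgs false

namespace Cfsg.Agent.Lib.helper47.D4

open Matrix Cfsg Cfsg.Lie Cfsg.Agent.Lib.helper95.D4

variable {F : Type*} [Field F]

theorem h47_dgc_mul (a b : F) : dgc a * dgc b = dgc (a * b) := by
  unfold dgc
  rw [Matrix.diagonal_mul_diagonal]
  congr 1
  funext i
  fin_cases i <;> simp [mul_comm]

theorem h47_sw_dgc (a : F) : (sw : Matrix (Fin 8) (Fin 8) F) * dgc a = dgc a⁻¹ * sw := by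
  unfold dgc
  ext i j
  rw [Matrix.mul_diagonal, Matrix.diagonal_mul]
  fin_cases i <;> fin_cases j <;> simp [sw]

theorem h47_sw_sw : (sw : Matrix (Fin 8) (Fin 8) F) * sw = 1 := by
  ext i j
  fin_cases i <;> fin_cases j <;>
    simp [sw, Matrix.mul_apply, Fin.sum_univ_succ, Matrix.one_apply]

theorem h47_dgc_mul' (a b : F) (X : Matrix (Fin 8) (Fin 8) F) :
    dgc a * (dgc b * X) = dgc (a * b) * X := by
  rw [← mul_assoc, h47_dgc_mul]

theorem h47_sw_dgc' (a : F) (X : Matrix (Fin 8) (Fin 8) F) :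
    sw * (dgc a * X) = dgc a⁻¹ * (sw * X) := by
  rw [← mul_assoc, h47_sw_dgc, mul_assoc]

theorem h47_sw_sw' (X : Matrix (Fin 8) (Fin 8) F) : sw * (sw * X) = X := by
  rw [← mul_assoc, h47_sw_sw, one_mul]

/-- the elements `dgc c` and `dgc c * sw` of `GL₈` -/
def h47IsD (d : GL (Fin 8) F) : Prop :=
  ∃ c : F, c ≠ 0 ∧ ((d : Matrix (Fin 8) (Fin 8) F) = dgc c ∨
    (d : Matrix (Fin 8) (Fin 8) F) = dgc c * sw)

/-- two elements of the class `h47IsD` commute modulo `Eg8` -/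
theorem h47_D_comm
    (hsq : ∀ c : F, c ≠ 0 → ∃ g ∈ Eg8 F, (g : Matrix (Fin 8) (Fin 8) F) = dgc (c * c))
    (d₁ d₂ : GL (Fin 8) F) (h₁ : h47IsD d₁) (h₂ : h47IsD d₂) :
    ∃ n ∈ Eg8 F, d₁ * d₂ = n * (d₂ * d₁) := by
  obtain ⟨a, ha, e₁ | e₁⟩ := h₁ <;> obtain ⟨b, hb, e₂ | e₂⟩ := h₂
  · refine ⟨1, one_mem _, ?_⟩
    apply Units.ext
    rw [one_mul, Units.val_mul, Units.val_mul, e₁, e₂, h47_dgc_mul, h47_dgc_mul, mul_comm]
  · obtain ⟨n, hn, en⟩ := hsq a ha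
    refine ⟨n, hn, ?_⟩
    apply Units.ext
    rw [Units.val_mul, Units.val_mul, Units.val_mul, en, e₁, e₂]
    simp only [mul_assoc, h47_dgc_mul, h47_dgc_mul', h47_sw_dgc, h47_sw_dgc', h47_sw_sw,
      h47_sw_sw']
    congr 2
    field_simp
  · obtain ⟨n, hn, en⟩ := hsq b⁻¹ (inv_ne_zero hb)
    refine ⟨n, hn, ?_⟩
    apply Units.ext
    rw [Units.val_mul, Units.val_mul, Units.val_mul, en, e₁, e₂]
    simp only [mul_assoc, h47_dgc_mul, h47_dgc_mul', h47_sw_dgc, h47_sw_dgc', h47_sw_sw,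
      h47_sw_sw']
    congr 2
    field_simp
  · obtain ⟨n, hn, en⟩ := hsq (a * b⁻¹) (mul_ne_zero ha (inv_ne_zero hb))
    refine ⟨n, hn, ?_⟩
    apply Units.ext
    rw [Units.val_mul, Units.val_mul, Units.val_mul, en, e₁, e₂]
    simp only [mul_assoc, h47_dgc_mul, h47_dgc_mul', h47_sw_dgc, h47_sw_dgc', h47_sw_sw,
      h47_sw_sw', mul_one]
    congr 1
    field_simp

/-- conjugation by an element of the class `h47IsD` preserves `Eg8` -/
theorem h47_D_norm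
    (hconj_d : ∀ (c : F), c ≠ 0 → ∀ (r : Fin 24) (t : F), ∃ s : F, dgc c * X8 r t = X8 r s * dgc c)
    (hconj_s : ∀ (r : Fin 24) (t : F),
      ∃ r' : Fin 24, (sw : Matrix (Fin 8) (Fin 8) F) * X8 r t = X8 r' t * sw)
    (d : GL (Fin 8) F) (hd : h47IsD d) (n : GL (Fin 8) F) (hn : n ∈ Eg8 F) :
    d * n * d⁻¹ ∈ Eg8 F := by
  have key : ∀ (r : Fin 24) (t : F), ∃ (r' : Fin 24) (s : F),
      (d : Matrix (Fin 8) (Fin 8) F) * X8 r t = X8 r' s * (d : Matrix (Fin 8) (Fin 8) F) := by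
    intro r t
    obtain ⟨c, hc, e | e⟩ := hd
    · obtain ⟨s, hs⟩ := hconj_d c hc r t
      exact ⟨r, s, by rw [e, hs]⟩
    · obtain ⟨r', hr'⟩ := hconj_s r t
      obtain ⟨s, hs⟩ := hconj_d c hc r' t
      exact ⟨r', s, by rw [e, mul_assoc, hr', ← mul_assoc, hs, mul_assoc]⟩
  have hle : Eg8 F ≤ (Eg8 F).comap (MulAut.conj d).toMonoidHom := by
    unfold Eg8
    rw [Subgroup.closure_le]
    rintro g ⟨r, t, hg⟩
    rw [SetLike.mem_coe, Subgroup.mem_comap, MulEquiv.coe_toMonoidHom, MulAut.conj_apply]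
    apply Subgroup.subset_closure
    obtain ⟨r', s, hs⟩ := key r t
    refine ⟨r', s, ?_⟩
    rw [Units.val_mul, Units.val_mul, hg, hs, mul_assoc, ← Units.val_mul, mul_inv_cancel,
      Units.val_one, mul_one]
  have := hle hn
  rw [Subgroup.mem_comap] at this
  exact this

/-- `Og8` normalises `Eg8` -/
theorem h47_fin_conj
    (hdec : ∀ (g : GL (Fin 8) F), g ∈ Og8 F → ∃ e ∈ Eg8 F, ∃ c : F, c ≠ 0 ∧
      (((e * g : GL (Fin 8) F) : Matrix (Fin 8) (Fin 8) F) = dgc c ∨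
       ((e * g : GL (Fin 8) F) : Matrix (Fin 8) (Fin 8) F) = dgc c * sw))
    (hconj_d : ∀ (c : F), c ≠ 0 → ∀ (r : Fin 24) (t : F), ∃ s : F, dgc c * X8 r t = X8 r s * dgc c)
    (hconj_s : ∀ (r : Fin 24) (t : F),
      ∃ r' : Fin 24, (sw : Matrix (Fin 8) (Fin 8) F) * X8 r t = X8 r' t * sw)
    (g : GL (Fin 8) F) (hg : g ∈ Og8 F) (x : GL (Fin 8) F) (hx : x ∈ Eg8 F) :
    g * x * g⁻¹ ∈ Eg8 F := by
  obtain ⟨e, he, c, hc, hd⟩ := hdec g hg
  have h1 := h47_D_norm hconj_d hconj_s (e * g) ⟨c, hc, hd⟩ x hx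
  have h2 : g * x * g⁻¹ = e⁻¹ * ((e * g) * x * (e * g)⁻¹) * e := by group
  rw [h2]
  exact mul_mem (mul_mem (inv_mem he) h1) he

/-- piece FIN against the statements of B, CH, AN and SQ as hypotheses -/
theorem h47_comm_le_Eg8_of
    (hle : Eg8 F ≤ Og8 F)
    (hdec : ∀ (g : GL (Fin 8) F), g ∈ Og8 F → ∃ e ∈ Eg8 F, ∃ c : F, c ≠ 0 ∧
      (((e * g : GL (Fin 8) F) : Matrix (Fin 8) (Fin 8) F) = dgc c ∨
       ((e * g : GL (Fin 8) F) : Matrix (Fin 8) (Fin 8) F) = dgc c * sw))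
    (hconj_d : ∀ (c : F), c ≠ 0 → ∀ (r : Fin 24) (t : F), ∃ s : F, dgc c * X8 r t = X8 r s * dgc c)
    (hconj_s : ∀ (r : Fin 24) (t : F),
      ∃ r' : Fin 24, (sw : Matrix (Fin 8) (Fin 8) F) * X8 r t = X8 r' t * sw)
    (hsq : ∀ c : F, c ≠ 0 → ∃ g ∈ Eg8 F, (g : Matrix (Fin 8) (Fin 8) F) = dgc (c * c))
    (x : ↥(Og8 F)) (hx : x ∈ commutator ↥(Og8 F)) : (x : GL (Fin 8) F) ∈ Eg8 F := by
  classical
  obtain ⟨N, hN⟩ : ∃ N : Subgroup ↥(Og8 F), N = (Eg8 F).subgroupOf (Og8 F) := ⟨_, rfl⟩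
  have hNn : N.Normal := by
    refine ⟨fun n hn g => ?_⟩
    rw [hN, Subgroup.mem_subgroupOf] at hn ⊢
    have := h47_fin_conj hdec hconj_d hconj_s (g : GL (Fin 8) F) g.2 (n : GL (Fin 8) F) hn
    simpa using this
  have key : ∀ g h : ↥(Og8 F),
      (QuotientGroup.mk' N g) * (QuotientGroup.mk' N h) =
        (QuotientGroup.mk' N h) * (QuotientGroup.mk' N g) := by
    intro g h
    obtain ⟨e₁, he₁, c₁, hc₁, hd₁⟩ := hdec (g : GL (Fin 8) F) g.2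
    obtain ⟨e₂, he₂, c₂, hc₂, hd₂⟩ := hdec (h : GL (Fin 8) F) h.2
    obtain ⟨E1, hE1⟩ : ∃ E1 : ↥(Og8 F), E1 = ⟨e₁, hle he₁⟩ := ⟨_, rfl⟩
    obtain ⟨E2, hE2⟩ : ∃ E2 : ↥(Og8 F), E2 = ⟨e₂, hle he₂⟩ := ⟨_, rfl⟩
    have hE1N : QuotientGroup.mk' N E1 = 1 := by
      rw [QuotientGroup.mk'_apply, QuotientGroup.eq_one_iff, hN, Subgroup.mem_subgroupOf, hE1]
      exact he₁
    have hE2N : QuotientGroup.mk' N E2 = 1 := by
      rw [QuotientGroup.mk'_apply, QuotientGroup.eq_one_iff, hN, Subgroup.mem_subgroupOf, hE2]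
      exact he₂
    have hg' : QuotientGroup.mk' N g = QuotientGroup.mk' N (E1 * g) := by
      rw [map_mul, hE1N, one_mul]
    have hh' : QuotientGroup.mk' N h = QuotientGroup.mk' N (E2 * h) := by
      rw [map_mul, hE2N, one_mul]
    have e1 : ((E1 * g : ↥(Og8 F)) : GL (Fin 8) F) = e₁ * (g : GL (Fin 8) F) := by
      rw [hE1]; rfl
    have e2 : ((E2 * h : ↥(Og8 F)) : GL (Fin 8) F) = e₂ * (h : GL (Fin 8) F) := by
      rw [hE2]; rfl
    obtain ⟨n, hn, hcomm⟩ := h47_D_comm hsq (e₁ * (g : GL (Fin 8) F)) (e₂ * (h : GL (Fin 8) F))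
      ⟨c₁, hc₁, hd₁⟩ ⟨c₂, hc₂, hd₂⟩
    obtain ⟨Nn, hNn'⟩ : ∃ Nn : ↥(Og8 F), Nn = ⟨n, hle hn⟩ := ⟨_, rfl⟩
    have hNnN : QuotientGroup.mk' N Nn = 1 := by
      rw [QuotientGroup.mk'_apply, QuotientGroup.eq_one_iff, hN, Subgroup.mem_subgroupOf, hNn']
      exact hn
    have hcomm' : (E1 * g) * (E2 * h) = Nn * ((E2 * h) * (E1 * g)) := by
      apply Subtype.ext
      show ((E1 * g : ↥(Og8 F)) : GL (Fin 8) F) * ((E2 * h : ↥(Og8 F)) : GL (Fin 8) F) =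
        (Nn : GL (Fin 8) F) * (((E2 * h : ↥(Og8 F)) : GL (Fin 8) F) *
          ((E1 * g : ↥(Og8 F)) : GL (Fin 8) F))
      rw [e1, e2, hcomm, hNn']
    rw [hg', hh', ← map_mul, ← map_mul, hcomm', map_mul, hNnN, one_mul]
  have hle' : commutator ↥(Og8 F) ≤ N := by
    rw [commutator_def, Subgroup.commutator_le]
    intro g _ h _
    rw [← QuotientGroup.eq_one_iff, ← QuotientGroup.mk'_apply, map_commutatorElement,
      commutatorElement_eq_one_iff_mul_comm]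
    exact key g h
  have := hle' hx
  rwa [hN, Subgroup.mem_subgroupOf] at this

end Cfsg.Agent.Lib.helper47.D4
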