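import Cfsg.Agent.Lib.helper47.D4TM

/-!
# S1082 pieces T1_1, T2_1 (helper47): Bruhat-type reduction, stage 1
-/

set_option autoImplicit false
set_option linter.unusedSimpArgs false

namespace Cfsg.Agent.Lib.helper47.D4

open Matrix Cfsg Cfsg.Lie Cfsg.Agent.Lib.helper95.D4

variable {F : Type*} [Field F]

theorem h47_T2_1 (u : Fin 8 → F) (hQ : Q8 u = 0) (hz0 : u 0 = 0) (hz4 : u 4 = 0) (hp : u 5 = 1) :
    h47Mv (fun i => i = 0 ∨ i = 4 ∨ i = 1) u (Pi.single 5 1) := by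
  apply h47Mv_step 14 (u 6) (by rintro i (rfl | rfl | rfl) <;> decide)
  apply h47Mv_step 16 (-(u 7)) (by rintro i (rfl | rfl | rfl) <;> decide)
  apply h47Mv_step 17 (-(u 2)) (by rintro i (rfl | rfl | rfl) <;> decide)
  apply h47Mv_step 15 (-(u 3)) (by rintro i (rfl | rfl | rfl) <;> decide)
  apply h47Mv_of_eq
  have hQ' : Q8 (X8 15 (-(u 3)) *ᵥ (X8 17 (-(u 2)) *ᵥ (X8 16 (-(u 7)) *ᵥ (X8 14 (u 6) *ᵥ u)))) = 0 := by
    rw [h47_Q, h47_Q, h47_Q, h47_Q]; exact hQ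
  obtain ⟨w, hw⟩ : ∃ w, w = (X8 15 (-(u 3)) *ᵥ (X8 17 (-(u 2)) *ᵥ (X8 16 (-(u 7)) *ᵥ (X8 14 (u 6) *ᵥ u)))) := ⟨_, rfl⟩
  rw [← hw] at hQ' ⊢
  have c0 : w 0 = 0 := by
    rw [hw]; simp only [h47_c14_0, h47_c14_1, h47_c14_2, h47_c14_3, h47_c14_4, h47_c14_5, h47_c14_6, h47_c14_7, h47_c15_0, h47_c15_1, h47_c15_2, h47_c15_3, h47_c15_4, h47_c15_5, h47_c15_6, h47_c15_7, h47_c16_0, h47_c16_1, h47_c16_2, h47_c16_3, h47_c16_4, h47_c16_5, h47_c16_6, h47_c16_7, h47_c17_0, h47_c17_1, h47_c17_2, h47_c17_3, h47_c17_4, h47_c17_5, h47_c17_6, h47_c17_7, hp, hz0, hz4] <;> ring1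
  have c2 : w 2 = 0 := by
    rw [hw]; simp only [h47_c14_0, h47_c14_1, h47_c14_2, h47_c14_3, h47_c14_4, h47_c14_5, h47_c14_6, h47_c14_7, h47_c15_0, h47_c15_1, h47_c15_2, h47_c15_3, h47_c15_4, h47_c15_5, h47_c15_6, h47_c15_7, h47_c16_0, h47_c16_1, h47_c16_2, h47_c16_3, h47_c16_4, h47_c16_5, h47_c16_6, h47_c16_7, h47_c17_0, h47_c17_1, h47_c17_2, h47_c17_3, h47_c17_4, h47_c17_5, h47_c17_6, h47_c17_7, hp, hz0, hz4] <;> ring1
  have c3 : w 3 = 0 := by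
    rw [hw]; simp only [h47_c14_0, h47_c14_1, h47_c14_2, h47_c14_3, h47_c14_4, h47_c14_5, h47_c14_6, h47_c14_7, h47_c15_0, h47_c15_1, h47_c15_2, h47_c15_3, h47_c15_4, h47_c15_5, h47_c15_6, h47_c15_7, h47_c16_0, h47_c16_1, h47_c16_2, h47_c16_3, h47_c16_4, h47_c16_5, h47_c16_6, h47_c16_7, h47_c17_0, h47_c17_1, h47_c17_2, h47_c17_3, h47_c17_4, h47_c17_5, h47_c17_6, h47_c17_7, hp, hz0, hz4] <;> ring1
  have c4 : w 4 = 0 := by
    rw [hw]; simp only [h47_c14_0, h47_c14_1, h47_c14_2, h47_c14_3, h47_c14_4, h47_c14_5, h47_c14_6, h47_c14_7, h47_c15_0, h47_c15_1, h47_c15_2, h47_c15_3, h47_c15_4, h47_c15_5, h47_c15_6, h47_c15_7, h47_c16_0, h47_c16_1, h47_c16_2, h47_c16_3, h47_c16_4, h47_c16_5, h47_c16_6, h47_c16_7, h47_c17_0, h47_c17_1, h47_c17_2, h47_c17_3, h47_c17_4, h47_c17_5, h47_c17_6, h47_c17_7, hp, hz0, hz4] <;> ring1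
  have c5 : w 5 = 1 := by
    rw [hw]; simp only [h47_c14_0, h47_c14_1, h47_c14_2, h47_c14_3, h47_c14_4, h47_c14_5, h47_c14_6, h47_c14_7, h47_c15_0, h47_c15_1, h47_c15_2, h47_c15_3, h47_c15_4, h47_c15_5, h47_c15_6, h47_c15_7, h47_c16_0, h47_c16_1, h47_c16_2, h47_c16_3, h47_c16_4, h47_c16_5, h47_c16_6, h47_c16_7, h47_c17_0, h47_c17_1, h47_c17_2, h47_c17_3, h47_c17_4, h47_c17_5, h47_c17_6, h47_c17_7, hp, hz0, hz4] <;> ring1
  have c6 : w 6 = 0 := by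
    rw [hw]; simp only [h47_c14_0, h47_c14_1, h47_c14_2, h47_c14_3, h47_c14_4, h47_c14_5, h47_c14_6, h47_c14_7, h47_c15_0, h47_c15_1, h47_c15_2, h47_c15_3, h47_c15_4, h47_c15_5, h47_c15_6, h47_c15_7, h47_c16_0, h47_c16_1, h47_c16_2, h47_c16_3, h47_c16_4, h47_c16_5, h47_c16_6, h47_c16_7, h47_c17_0, h47_c17_1, h47_c17_2, h47_c17_3, h47_c17_4, h47_c17_5, h47_c17_6, h47_c17_7, hp, hz0, hz4] <;> ring1
  have c7 : w 7 = 0 := by
    rw [hw]; simp only [h47_c14_0, h47_c14_1, h47_c14_2, h47_c14_3, h47_c14_4, h47_c14_5, h47_c14_6, h47_c14_7, h47_c15_0, h47_c15_1, h47_c15_2, h47_c15_3, h47_c15_4, h47_c15_5, h47_c15_6, h47_c15_7, h47_c16_0, h47_c16_1, h47_c16_2, h47_c16_3, h47_c16_4, h47_c16_5, h47_c16_6, h47_c16_7, h47_c17_0, h47_c17_1, h47_c17_2, h47_c17_3, h47_c17_4, h47_c17_5, h47_c17_6, h47_c17_7, hp, hz0, hz4] <;> ring1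
  have c1 : w 1 = 0 := by simpa [Q8, c0, c2, c3, c4, c5, c6, c7] using hQ'
  funext i; fin_cases i
  · show w 0 = (Pi.single 5 1 : Fin 8 → F) 0
    rw [c0]; exact (h47_single_ne 5 0 (by decide)).symm
  · show w 1 = (Pi.single 5 1 : Fin 8 → F) 1
    rw [c1]; exact (h47_single_ne 5 1 (by decide)).symm
  · show w 2 = (Pi.single 5 1 : Fin 8 → F) 2
    rw [c2]; exact (h47_single_ne 5 2 (by decide)).symm
  · show w 3 = (Pi.single 5 1 : Fin 8 → F) 3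
    rw [c3]; exact (h47_single_ne 5 3 (by decide)).symm
  · show w 4 = (Pi.single 5 1 : Fin 8 → F) 4
    rw [c4]; exact (h47_single_ne 5 4 (by decide)).symm
  · show w 5 = (Pi.single 5 1 : Fin 8 → F) 5
    rw [c5]; exact (h47_single_same _).symm
  · show w 6 = (Pi.single 5 1 : Fin 8 → F) 6
    rw [c6]; exact (h47_single_ne 5 6 (by decide)).symm
  · show w 7 = (Pi.single 5 1 : Fin 8 → F) 7
    rw [c7]; exact (h47_single_ne 5 7 (by decide)).symm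

theorem h47_sc_1 (u : Fin 8 → F) (hz0 : u 0 = 0) (hz2 : u 2 = 0) (hz3 : u 3 = 0) (hz4 : u 4 = 0) (hz5 : u 5 = 0) (hz6 : u 6 = 0) (hz7 : u 7 = 0) (hk : u 1 ≠ 0) :
    h47Mv (fun i => i = 0 ∨ i = 4) u (Pi.single 1 1) := by
  apply h47Mv_step 9 (1 / u 1) (by rintro i (rfl | rfl) <;> decide)
  apply h47Mv_step 14 (1 - u 1) (by rintro i (rfl | rfl) <;> decide)
  apply h47Mv_step 9 (-1) (by rintro i (rfl | rfl) <;> decide)
  apply h47Mv_of_eq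
  obtain ⟨w, hw⟩ : ∃ w, w = (X8 9 (-1) *ᵥ (X8 14 (1 - u 1) *ᵥ (X8 9 (1 / u 1) *ᵥ u))) := ⟨_, rfl⟩
  rw [← hw]
  have c0 : w 0 = 0 := by
    rw [hw]; simp only [h47_c9_0, h47_c9_1, h47_c9_2, h47_c9_3, h47_c9_4, h47_c9_5, h47_c9_6, h47_c9_7, h47_c14_0, h47_c14_1, h47_c14_2, h47_c14_3, h47_c14_4, h47_c14_5, h47_c14_6, h47_c14_7, hz0, hz2, hz3, hz4, hz5, hz6, hz7] <;> first | ring1 | (field_simp; ring1) | field_simp
  have c1 : w 1 = 1 := by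
    rw [hw]; simp only [h47_c9_0, h47_c9_1, h47_c9_2, h47_c9_3, h47_c9_4, h47_c9_5, h47_c9_6, h47_c9_7, h47_c14_0, h47_c14_1, h47_c14_2, h47_c14_3, h47_c14_4, h47_c14_5, h47_c14_6, h47_c14_7, hz0, hz2, hz3, hz4, hz5, hz6, hz7] <;> first | ring1 | (field_simp; ring1) | field_simp
  have c2 : w 2 = 0 := by
    rw [hw]; simp only [h47_c9_0, h47_c9_1, h47_c9_2, h47_c9_3, h47_c9_4, h47_c9_5, h47_c9_6, h47_c9_7, h47_c14_0, h47_c14_1, h47_c14_2, h47_c14_3, h47_c14_4, h47_c14_5, h47_c14_6, h47_c14_7, hz0, hz2, hz3, hz4, hz5, hz6, hz7] <;> first | ring1 | (field_simp; ring1) | field_simp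
  have c3 : w 3 = 0 := by
    rw [hw]; simp only [h47_c9_0, h47_c9_1, h47_c9_2, h47_c9_3, h47_c9_4, h47_c9_5, h47_c9_6, h47_c9_7, h47_c14_0, h47_c14_1, h47_c14_2, h47_c14_3, h47_c14_4, h47_c14_5, h47_c14_6, h47_c14_7, hz0, hz2, hz3, hz4, hz5, hz6, hz7] <;> first | ring1 | (field_simp; ring1) | field_simp
  have c4 : w 4 = 0 := by
    rw [hw]; simp only [h47_c9_0, h47_c9_1, h47_c9_2, h47_c9_3, h47_c9_4, h47_c9_5, h47_c9_6, h47_c9_7, h47_c14_0, h47_c14_1, h47_c14_2, h47_c14_3, h47_c14_4, h47_c14_5, h47_c14_6, h47_c14_7, hz0, hz2, hz3, hz4, hz5, hz6, hz7] <;> first | ring1 | (field_simp; ring1) | field_simp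
  have c5 : w 5 = 0 := by
    rw [hw]; simp only [h47_c9_0, h47_c9_1, h47_c9_2, h47_c9_3, h47_c9_4, h47_c9_5, h47_c9_6, h47_c9_7, h47_c14_0, h47_c14_1, h47_c14_2, h47_c14_3, h47_c14_4, h47_c14_5, h47_c14_6, h47_c14_7, hz0, hz2, hz3, hz4, hz5, hz6, hz7] <;> first | ring1 | (field_simp; ring1) | field_simp
  have c6 : w 6 = 0 := by
    rw [hw]; simp only [h47_c9_0, h47_c9_1, h47_c9_2, h47_c9_3, h47_c9_4, h47_c9_5, h47_c9_6, h47_c9_7, h47_c14_0, h47_c14_1, h47_c14_2, h47_c14_3, h47_c14_4, h47_c14_5, h47_c14_6, h47_c14_7, hz0, hz2, hz3, hz4, hz5, hz6, hz7] <;> first | ring1 | (field_simp; ring1) | field_simp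
  have c7 : w 7 = 0 := by
    rw [hw]; simp only [h47_c9_0, h47_c9_1, h47_c9_2, h47_c9_3, h47_c9_4, h47_c9_5, h47_c9_6, h47_c9_7, h47_c14_0, h47_c14_1, h47_c14_2, h47_c14_3, h47_c14_4, h47_c14_5, h47_c14_6, h47_c14_7, hz0, hz2, hz3, hz4, hz5, hz6, hz7] <;> first | ring1 | (field_simp; ring1) | field_simp
  funext i; fin_cases i
  · show w 0 = (Pi.single 1 1 : Fin 8 → F) 0
    rw [c0]; exact (h47_single_ne 1 0 (by decide)).symm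
  · show w 1 = (Pi.single 1 1 : Fin 8 → F) 1
    rw [c1]; exact (h47_single_same _).symm
  · show w 2 = (Pi.single 1 1 : Fin 8 → F) 2
    rw [c2]; exact (h47_single_ne 1 2 (by decide)).symm
  · show w 3 = (Pi.single 1 1 : Fin 8 → F) 3
    rw [c3]; exact (h47_single_ne 1 3 (by decide)).symm
  · show w 4 = (Pi.single 1 1 : Fin 8 → F) 4
    rw [c4]; exact (h47_single_ne 1 4 (by decide)).symm
  · show w 5 = (Pi.single 1 1 : Fin 8 → F) 5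
    rw [c5]; exact (h47_single_ne 1 5 (by decide)).symm
  · show w 6 = (Pi.single 1 1 : Fin 8 → F) 6
    rw [c6]; exact (h47_single_ne 1 6 (by decide)).symm
  · show w 7 = (Pi.single 1 1 : Fin 8 → F) 7
    rw [c7]; exact (h47_single_ne 1 7 (by decide)).symm

theorem h47_T1c_1 (u : Fin 8 → F) (hQ : Q8 u = 0) (hz0 : u 0 = 0) (hz4 : u 4 = 0) (hk : u 1 ≠ 0) :
    h47Mv (fun i => i = 0 ∨ i = 4) u (Pi.single 1 1) := by
  apply h47Mv_step 9 (-(u 2 / u 1)) (by rintro i (rfl | rfl) <;> decide)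
  apply h47Mv_step 7 (u 3 / u 1) (by rintro i (rfl | rfl) <;> decide)
  apply h47Mv_step 6 (u 6 / u 1) (by rintro i (rfl | rfl) <;> decide)
  apply h47Mv_step 8 (u 7 / u 1) (by rintro i (rfl | rfl) <;> decide)
  have hQ' : Q8 (X8 8 (u 7 / u 1) *ᵥ (X8 6 (u 6 / u 1) *ᵥ (X8 7 (u 3 / u 1) *ᵥ (X8 9 (-(u 2 / u 1)) *ᵥ u)))) = 0 := by
    rw [h47_Q, h47_Q, h47_Q, h47_Q]; exact hQ
  obtain ⟨w, hw⟩ : ∃ w, w = (X8 8 (u 7 / u 1) *ᵥ (X8 6 (u 6 / u 1) *ᵥ (X8 7 (u 3 / u 1) *ᵥ (X8 9 (-(u 2 / u 1)) *ᵥ u)))) := ⟨_, rfl⟩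
  rw [← hw] at hQ' ⊢
  have c0 : w 0 = 0 := by
    rw [hw]; simp only [h47_c6_0, h47_c6_1, h47_c6_2, h47_c6_3, h47_c6_4, h47_c6_5, h47_c6_6, h47_c6_7, h47_c7_0, h47_c7_1, h47_c7_2, h47_c7_3, h47_c7_4, h47_c7_5, h47_c7_6, h47_c7_7, h47_c8_0, h47_c8_1, h47_c8_2, h47_c8_3, h47_c8_4, h47_c8_5, h47_c8_6, h47_c8_7, h47_c9_0, h47_c9_1, h47_c9_2, h47_c9_3, h47_c9_4, h47_c9_5, h47_c9_6, h47_c9_7, hz0, hz4] <;> first | ring1 | (field_simp; ring1) | field_simp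
  have c1 : w 1 = u 1 := by
    rw [hw]; simp only [h47_c6_0, h47_c6_1, h47_c6_2, h47_c6_3, h47_c6_4, h47_c6_5, h47_c6_6, h47_c6_7, h47_c7_0, h47_c7_1, h47_c7_2, h47_c7_3, h47_c7_4, h47_c7_5, h47_c7_6, h47_c7_7, h47_c8_0, h47_c8_1, h47_c8_2, h47_c8_3, h47_c8_4, h47_c8_5, h47_c8_6, h47_c8_7, h47_c9_0, h47_c9_1, h47_c9_2, h47_c9_3, h47_c9_4, h47_c9_5, h47_c9_6, h47_c9_7, hz0, hz4]
  have c2 : w 2 = 0 := by
    rw [hw]; simp only [h47_c6_0, h47_c6_1, h47_c6_2, h47_c6_3, h47_c6_4, h47_c6_5, h47_c6_6, h47_c6_7, h47_c7_0, h47_c7_1, h47_c7_2, h47_c7_3, h47_c7_4, h47_c7_5, h47_c7_6, h47_c7_7, h47_c8_0, h47_c8_1, h47_c8_2, h47_c8_3, h47_c8_4, h47_c8_5, h47_c8_6, h47_c8_7, h47_c9_0, h47_c9_1, h47_c9_2, h47_c9_3, h47_c9_4, h47_c9_5, h47_c9_6, h47_c9_7, hz0, hz4] <;> first | ring1 | (field_simp; ring1) | field_simp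
  have c3 : w 3 = 0 := by
    rw [hw]; simp only [h47_c6_0, h47_c6_1, h47_c6_2, h47_c6_3, h47_c6_4, h47_c6_5, h47_c6_6, h47_c6_7, h47_c7_0, h47_c7_1, h47_c7_2, h47_c7_3, h47_c7_4, h47_c7_5, h47_c7_6, h47_c7_7, h47_c8_0, h47_c8_1, h47_c8_2, h47_c8_3, h47_c8_4, h47_c8_5, h47_c8_6, h47_c8_7, h47_c9_0, h47_c9_1, h47_c9_2, h47_c9_3, h47_c9_4, h47_c9_5, h47_c9_6, h47_c9_7, hz0, hz4] <;> first | ring1 | (field_simp; ring1) | field_simp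
  have c4 : w 4 = 0 := by
    rw [hw]; simp only [h47_c6_0, h47_c6_1, h47_c6_2, h47_c6_3, h47_c6_4, h47_c6_5, h47_c6_6, h47_c6_7, h47_c7_0, h47_c7_1, h47_c7_2, h47_c7_3, h47_c7_4, h47_c7_5, h47_c7_6, h47_c7_7, h47_c8_0, h47_c8_1, h47_c8_2, h47_c8_3, h47_c8_4, h47_c8_5, h47_c8_6, h47_c8_7, h47_c9_0, h47_c9_1, h47_c9_2, h47_c9_3, h47_c9_4, h47_c9_5, h47_c9_6, h47_c9_7, hz0, hz4] <;> first | ring1 | (field_simp; ring1) | field_simp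
  have c6 : w 6 = 0 := by
    rw [hw]; simp only [h47_c6_0, h47_c6_1, h47_c6_2, h47_c6_3, h47_c6_4, h47_c6_5, h47_c6_6, h47_c6_7, h47_c7_0, h47_c7_1, h47_c7_2, h47_c7_3, h47_c7_4, h47_c7_5, h47_c7_6, h47_c7_7, h47_c8_0, h47_c8_1, h47_c8_2, h47_c8_3, h47_c8_4, h47_c8_5, h47_c8_6, h47_c8_7, h47_c9_0, h47_c9_1, h47_c9_2, h47_c9_3, h47_c9_4, h47_c9_5, h47_c9_6, h47_c9_7, hz0, hz4] <;> first | ring1 | (field_simp; ring1) | field_simp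
  have c7 : w 7 = 0 := by
    rw [hw]; simp only [h47_c6_0, h47_c6_1, h47_c6_2, h47_c6_3, h47_c6_4, h47_c6_5, h47_c6_6, h47_c6_7, h47_c7_0, h47_c7_1, h47_c7_2, h47_c7_3, h47_c7_4, h47_c7_5, h47_c7_6, h47_c7_7, h47_c8_0, h47_c8_1, h47_c8_2, h47_c8_3, h47_c8_4, h47_c8_5, h47_c8_6, h47_c8_7, h47_c9_0, h47_c9_1, h47_c9_2, h47_c9_3, h47_c9_4, h47_c9_5, h47_c9_6, h47_c9_7, hz0, hz4] <;> first | ring1 | (field_simp; ring1) | field_simp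
  have c5 : w 5 = 0 := by simpa [Q8, c0, c1, c2, c3, c4, c6, c7, hk] using hQ'
  exact h47_sc_1 w c0 c2 c3 c4 c5 c6 c7 (by rw [c1]; exact hk)

theorem h47_T1_1 (u : Fin 8 → F) (hu : u ≠ 0) (hQ : Q8 u = 0) (hz0 : u 0 = 0) (hz4 : u 4 = 0) :
    h47Mv (fun i => i = 0 ∨ i = 4) u (Pi.single 1 1) := by
  by_cases hx1 : u 1 = 0
  swap
  · exact h47_T1c_1 u hQ hz0 hz4 hx1
  by_cases hx2 : u 2 = 0
  swap
  · apply h47Mv_step 14 1 (by rintro i (rfl | rfl) <;> decide)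
    apply h47_T1c_1
    · rw [h47_Q]; exact hQ
    · simp only [h47_c14_0, h47_c14_1, h47_c14_2, h47_c14_3, h47_c14_4, h47_c14_5, h47_c14_6, h47_c14_7, hz0, hz4]
    · simp only [h47_c14_0, h47_c14_1, h47_c14_2, h47_c14_3, h47_c14_4, h47_c14_5, h47_c14_6, h47_c14_7, hz0, hz4]
    · simpa [h47_c14_1, hx1] using hx2
  by_cases hx3 : u 3 = 0
  swap
  · apply h47Mv_step 16 1 (by rintro i (rfl | rfl) <;> decide)
    apply h47_T1c_1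
    · rw [h47_Q]; exact hQ
    · simp only [h47_c16_0, h47_c16_1, h47_c16_2, h47_c16_3, h47_c16_4, h47_c16_5, h47_c16_6, h47_c16_7, hz0, hz4]
    · simp only [h47_c16_0, h47_c16_1, h47_c16_2, h47_c16_3, h47_c16_4, h47_c16_5, h47_c16_6, h47_c16_7, hz0, hz4]
    · simpa [h47_c16_1, hx1] using hx3
  by_cases hy6 : u 6 = 0
  swap
  · apply h47Mv_step 17 1 (by rintro i (rfl | rfl) <;> decide)
    apply h47_T1c_1
    · rw [h47_Q]; exact hQ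
    · simp only [h47_c17_0, h47_c17_1, h47_c17_2, h47_c17_3, h47_c17_4, h47_c17_5, h47_c17_6, h47_c17_7, hz0, hz4]
    · simp only [h47_c17_0, h47_c17_1, h47_c17_2, h47_c17_3, h47_c17_4, h47_c17_5, h47_c17_6, h47_c17_7, hz0, hz4]
    · simpa [h47_c17_1, hx1] using hy6
  by_cases hy7 : u 7 = 0
  swap
  · apply h47Mv_step 15 1 (by rintro i (rfl | rfl) <;> decide)
    apply h47_T1c_1
    · rw [h47_Q]; exact hQ
    · simp only [h47_c15_0, h47_c15_1, h47_c15_2, h47_c15_3, h47_c15_4, h47_c15_5, h47_c15_6, h47_c15_7, hz0, hz4]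
    · simp only [h47_c15_0, h47_c15_1, h47_c15_2, h47_c15_3, h47_c15_4, h47_c15_5, h47_c15_6, h47_c15_7, hz0, hz4]
    · simpa [h47_c15_1, hx1] using hy7
  have hyk : u 5 ≠ 0 := by
    intro h
    apply hu
    funext i; fin_cases i
    · exact hz0
    · exact hx1
    · exact hx2
    · exact hx3
    · exact hz4
    · exact h
    · exact hy6
    · exact hy7
  apply h47Mv_step 14 1 (by rintro i (rfl | rfl) <;> decide)
  apply h47Mv_step 17 1 (by rintro i (rfl | rfl) <;> decide)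
  apply h47_T1c_1
  · rw [h47_Q, h47_Q]; exact hQ
  · simp only [h47_c14_0, h47_c14_1, h47_c14_2, h47_c14_3, h47_c14_4, h47_c14_5, h47_c14_6, h47_c14_7, h47_c17_0, h47_c17_1, h47_c17_2, h47_c17_3, h47_c17_4, h47_c17_5, h47_c17_6, h47_c17_7, hz0, hz4]
  · simp only [h47_c14_0, h47_c14_1, h47_c14_2, h47_c14_3, h47_c14_4, h47_c14_5, h47_c14_6, h47_c14_7, h47_c17_0, h47_c17_1, h47_c17_2, h47_c17_3, h47_c17_4, h47_c17_5, h47_c17_6, h47_c17_7, hz0, hz4]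
  · simpa [h47_c14_0, h47_c14_1, h47_c14_2, h47_c14_3, h47_c14_4, h47_c14_5, h47_c14_6, h47_c14_7, h47_c17_0, h47_c17_1, h47_c17_2, h47_c17_3, h47_c17_4, h47_c17_5, h47_c17_6, h47_c17_7, hx1, hx2, hx3, hy6, hy7] using hyk

end Cfsg.Agent.Lib.helper47.D4
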