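import Cfsg.Agent.Lib.helper47.D4TM

/-!
# S1082 pieces T1_2, T2_2 (helper47): Bruhat-type reduction, stage 2
-/

set_option autoImplicit false
set_option linter.unusedSimpArgs false

namespace Cfsg.Agent.Lib.helper47.D4

open Matrix Cfsg Cfsg.Lie Cfsg.Agent.Lib.helper95.D4

variable {F : Type*} [Field F]

theorem h47_T2_2 (u : Fin 8 → F) (hQ : Q8 u = 0) (hz0 : u 0 = 0) (hz4 : u 4 = 0) (hz1 : u 1 = 0) (hz5 : u 5 = 0) (hp : u 6 = 1) :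
    h47Mv (fun i => i = 0 ∨ i = 4 ∨ i = 1 ∨ i = 5 ∨ i = 2) u (Pi.single 6 1) := by
  apply h47Mv_step 13 (u 7) (by rintro i (rfl | rfl | rfl | rfl | rfl) <;> decide)
  apply h47Mv_step 12 (u 3) (by rintro i (rfl | rfl | rfl | rfl | rfl) <;> decide)
  apply h47Mv_of_eq
  have hQ' : Q8 (X8 12 (u 3) *ᵥ (X8 13 (u 7) *ᵥ u)) = 0 := by
    rw [h47_Q, h47_Q]; exact hQ
  obtain ⟨w, hw⟩ : ∃ w, w = (X8 12 (u 3) *ᵥ (X8 13 (u 7) *ᵥ u)) := ⟨_, rfl⟩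
  rw [← hw] at hQ' ⊢
  have c0 : w 0 = 0 := by
    rw [hw]; simp only [h47_c12_0, h47_c12_1, h47_c12_2, h47_c12_3, h47_c12_4, h47_c12_5, h47_c12_6, h47_c12_7, h47_c13_0, h47_c13_1, h47_c13_2, h47_c13_3, h47_c13_4, h47_c13_5, h47_c13_6, h47_c13_7, hp, hz0, hz4, hz1, hz5] <;> ring1
  have c1 : w 1 = 0 := by
    rw [hw]; simp only [h47_c12_0, h47_c12_1, h47_c12_2, h47_c12_3, h47_c12_4, h47_c12_5, h47_c12_6, h47_c12_7, h47_c13_0, h47_c13_1, h47_c13_2, h47_c13_3, h47_c13_4, h47_c13_5, h47_c13_6, h47_c13_7, hp, hz0, hz4, hz1, hz5] <;> ring1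
  have c3 : w 3 = 0 := by
    rw [hw]; simp only [h47_c12_0, h47_c12_1, h47_c12_2, h47_c12_3, h47_c12_4, h47_c12_5, h47_c12_6, h47_c12_7, h47_c13_0, h47_c13_1, h47_c13_2, h47_c13_3, h47_c13_4, h47_c13_5, h47_c13_6, h47_c13_7, hp, hz0, hz4, hz1, hz5] <;> ring1
  have c4 : w 4 = 0 := by
    rw [hw]; simp only [h47_c12_0, h47_c12_1, h47_c12_2, h47_c12_3, h47_c12_4, h47_c12_5, h47_c12_6, h47_c12_7, h47_c13_0, h47_c13_1, h47_c13_2, h47_c13_3, h47_c13_4, h47_c13_5, h47_c13_6, h47_c13_7, hp, hz0, hz4, hz1, hz5] <;> ring1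
  have c5 : w 5 = 0 := by
    rw [hw]; simp only [h47_c12_0, h47_c12_1, h47_c12_2, h47_c12_3, h47_c12_4, h47_c12_5, h47_c12_6, h47_c12_7, h47_c13_0, h47_c13_1, h47_c13_2, h47_c13_3, h47_c13_4, h47_c13_5, h47_c13_6, h47_c13_7, hp, hz0, hz4, hz1, hz5] <;> ring1
  have c6 : w 6 = 1 := by
    rw [hw]; simp only [h47_c12_0, h47_c12_1, h47_c12_2, h47_c12_3, h47_c12_4, h47_c12_5, h47_c12_6, h47_c12_7, h47_c13_0, h47_c13_1, h47_c13_2, h47_c13_3, h47_c13_4, h47_c13_5, h47_c13_6, h47_c13_7, hp, hz0, hz4, hz1, hz5] <;> ring1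
  have c7 : w 7 = 0 := by
    rw [hw]; simp only [h47_c12_0, h47_c12_1, h47_c12_2, h47_c12_3, h47_c12_4, h47_c12_5, h47_c12_6, h47_c12_7, h47_c13_0, h47_c13_1, h47_c13_2, h47_c13_3, h47_c13_4, h47_c13_5, h47_c13_6, h47_c13_7, hp, hz0, hz4, hz1, hz5] <;> ring1
  have c2 : w 2 = 0 := by simpa [Q8, c0, c1, c3, c4, c5, c6, c7] using hQ'
  funext i; fin_cases i
  · show w 0 = (Pi.single 6 1 : Fin 8 → F) 0
    rw [c0]; exact (h47_single_ne 6 0 (by decide)).symm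
  · show w 1 = (Pi.single 6 1 : Fin 8 → F) 1
    rw [c1]; exact (h47_single_ne 6 1 (by decide)).symm
  · show w 2 = (Pi.single 6 1 : Fin 8 → F) 2
    rw [c2]; exact (h47_single_ne 6 2 (by decide)).symm
  · show w 3 = (Pi.single 6 1 : Fin 8 → F) 3
    rw [c3]; exact (h47_single_ne 6 3 (by decide)).symm
  · show w 4 = (Pi.single 6 1 : Fin 8 → F) 4
    rw [c4]; exact (h47_single_ne 6 4 (by decide)).symm
  · show w 5 = (Pi.single 6 1 : Fin 8 → F) 5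
    rw [c5]; exact (h47_single_ne 6 5 (by decide)).symm
  · show w 6 = (Pi.single 6 1 : Fin 8 → F) 6
    rw [c6]; exact (h47_single_same _).symm
  · show w 7 = (Pi.single 6 1 : Fin 8 → F) 7
    rw [c7]; exact (h47_single_ne 6 7 (by decide)).symm

theorem h47_sc_2 (u : Fin 8 → F) (hz0 : u 0 = 0) (hz1 : u 1 = 0) (hz3 : u 3 = 0) (hz4 : u 4 = 0) (hz5 : u 5 = 0) (hz6 : u 6 = 0) (hz7 : u 7 = 0) (hk : u 2 ≠ 0) :
    h47Mv (fun i => i = 0 ∨ i = 4 ∨ i = 1 ∨ i = 5) u (Pi.single 2 1) := by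
  apply h47Mv_step 10 (1 / u 2) (by rintro i (rfl | rfl | rfl | rfl) <;> decide)
  apply h47Mv_step 13 (1 - u 2) (by rintro i (rfl | rfl | rfl | rfl) <;> decide)
  apply h47Mv_step 10 (-1) (by rintro i (rfl | rfl | rfl | rfl) <;> decide)
  apply h47Mv_of_eq
  obtain ⟨w, hw⟩ : ∃ w, w = (X8 10 (-1) *ᵥ (X8 13 (1 - u 2) *ᵥ (X8 10 (1 / u 2) *ᵥ u))) := ⟨_, rfl⟩
  rw [← hw]
  have c0 : w 0 = 0 := by
    rw [hw]; simp only [h47_c10_0, h47_c10_1, h47_c10_2, h47_c10_3, h47_c10_4, h47_c10_5, h47_c10_6, h47_c10_7, h47_c13_0, h47_c13_1, h47_c13_2, h47_c13_3, h47_c13_4, h47_c13_5, h47_c13_6, h47_c13_7, hz0, hz1, hz3, hz4, hz5, hz6, hz7] <;> first | ring1 | (field_simp; ring1) | field_simp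
  have c1 : w 1 = 0 := by
    rw [hw]; simp only [h47_c10_0, h47_c10_1, h47_c10_2, h47_c10_3, h47_c10_4, h47_c10_5, h47_c10_6, h47_c10_7, h47_c13_0, h47_c13_1, h47_c13_2, h47_c13_3, h47_c13_4, h47_c13_5, h47_c13_6, h47_c13_7, hz0, hz1, hz3, hz4, hz5, hz6, hz7] <;> first | ring1 | (field_simp; ring1) | field_simp
  have c2 : w 2 = 1 := by
    rw [hw]; simp only [h47_c10_0, h47_c10_1, h47_c10_2, h47_c10_3, h47_c10_4, h47_c10_5, h47_c10_6, h47_c10_7, h47_c13_0, h47_c13_1, h47_c13_2, h47_c13_3, h47_c13_4, h47_c13_5, h47_c13_6, h47_c13_7, hz0, hz1, hz3, hz4, hz5, hz6, hz7] <;> first | ring1 | (field_simp; ring1) | field_simp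
  have c3 : w 3 = 0 := by
    rw [hw]; simp only [h47_c10_0, h47_c10_1, h47_c10_2, h47_c10_3, h47_c10_4, h47_c10_5, h47_c10_6, h47_c10_7, h47_c13_0, h47_c13_1, h47_c13_2, h47_c13_3, h47_c13_4, h47_c13_5, h47_c13_6, h47_c13_7, hz0, hz1, hz3, hz4, hz5, hz6, hz7] <;> first | ring1 | (field_simp; ring1) | field_simp
  have c4 : w 4 = 0 := by
    rw [hw]; simp only [h47_c10_0, h47_c10_1, h47_c10_2, h47_c10_3, h47_c10_4, h47_c10_5, h47_c10_6, h47_c10_7, h47_c13_0, h47_c13_1, h47_c13_2, h47_c13_3, h47_c13_4, h47_c13_5, h47_c13_6, h47_c13_7, hz0, hz1, hz3, hz4, hz5, hz6, hz7] <;> first | ring1 | (field_simp; ring1) | field_simp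
  have c5 : w 5 = 0 := by
    rw [hw]; simp only [h47_c10_0, h47_c10_1, h47_c10_2, h47_c10_3, h47_c10_4, h47_c10_5, h47_c10_6, h47_c10_7, h47_c13_0, h47_c13_1, h47_c13_2, h47_c13_3, h47_c13_4, h47_c13_5, h47_c13_6, h47_c13_7, hz0, hz1, hz3, hz4, hz5, hz6, hz7] <;> first | ring1 | (field_simp; ring1) | field_simp
  have c6 : w 6 = 0 := by
    rw [hw]; simp only [h47_c10_0, h47_c10_1, h47_c10_2, h47_c10_3, h47_c10_4, h47_c10_5, h47_c10_6, h47_c10_7, h47_c13_0, h47_c13_1, h47_c13_2, h47_c13_3, h47_c13_4, h47_c13_5, h47_c13_6, h47_c13_7, hz0, hz1, hz3, hz4, hz5, hz6, hz7] <;> first | ring1 | (field_simp; ring1) | field_simp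
  have c7 : w 7 = 0 := by
    rw [hw]; simp only [h47_c10_0, h47_c10_1, h47_c10_2, h47_c10_3, h47_c10_4, h47_c10_5, h47_c10_6, h47_c10_7, h47_c13_0, h47_c13_1, h47_c13_2, h47_c13_3, h47_c13_4, h47_c13_5, h47_c13_6, h47_c13_7, hz0, hz1, hz3, hz4, hz5, hz6, hz7] <;> first | ring1 | (field_simp; ring1) | field_simp
  funext i; fin_cases i
  · show w 0 = (Pi.single 2 1 : Fin 8 → F) 0
    rw [c0]; exact (h47_single_ne 2 0 (by decide)).symm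
  · show w 1 = (Pi.single 2 1 : Fin 8 → F) 1
    rw [c1]; exact (h47_single_ne 2 1 (by decide)).symm
  · show w 2 = (Pi.single 2 1 : Fin 8 → F) 2
    rw [c2]; exact (h47_single_same _).symm
  · show w 3 = (Pi.single 2 1 : Fin 8 → F) 3
    rw [c3]; exact (h47_single_ne 2 3 (by decide)).symm
  · show w 4 = (Pi.single 2 1 : Fin 8 → F) 4
    rw [c4]; exact (h47_single_ne 2 4 (by decide)).symm
  · show w 5 = (Pi.single 2 1 : Fin 8 → F) 5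
    rw [c5]; exact (h47_single_ne 2 5 (by decide)).symm
  · show w 6 = (Pi.single 2 1 : Fin 8 → F) 6
    rw [c6]; exact (h47_single_ne 2 6 (by decide)).symm
  · show w 7 = (Pi.single 2 1 : Fin 8 → F) 7
    rw [c7]; exact (h47_single_ne 2 7 (by decide)).symm

theorem h47_T1c_2 (u : Fin 8 → F) (hQ : Q8 u = 0) (hz0 : u 0 = 0) (hz4 : u 4 = 0) (hz1 : u 1 = 0) (hz5 : u 5 = 0) (hk : u 2 ≠ 0) :
    h47Mv (fun i => i = 0 ∨ i = 4 ∨ i = 1 ∨ i = 5) u (Pi.single 2 1) := by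
  apply h47Mv_step 10 (-(u 3 / u 2)) (by rintro i (rfl | rfl | rfl | rfl) <;> decide)
  apply h47Mv_step 11 (-(u 7 / u 2)) (by rintro i (rfl | rfl | rfl | rfl) <;> decide)
  have hQ' : Q8 (X8 11 (-(u 7 / u 2)) *ᵥ (X8 10 (-(u 3 / u 2)) *ᵥ u)) = 0 := by
    rw [h47_Q, h47_Q]; exact hQ
  obtain ⟨w, hw⟩ : ∃ w, w = (X8 11 (-(u 7 / u 2)) *ᵥ (X8 10 (-(u 3 / u 2)) *ᵥ u)) := ⟨_, rfl⟩
  rw [← hw] at hQ' ⊢
  have c0 : w 0 = 0 := by
    rw [hw]; simp only [h47_c10_0, h47_c10_1, h47_c10_2, h47_c10_3, h47_c10_4, h47_c10_5, h47_c10_6, h47_c10_7, h47_c11_0, h47_c11_1, h47_c11_2, h47_c11_3, h47_c11_4, h47_c11_5, h47_c11_6, h47_c11_7, hz0, hz4, hz1, hz5] <;> first | ring1 | (field_simp; ring1) | field_simp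
  have c1 : w 1 = 0 := by
    rw [hw]; simp only [h47_c10_0, h47_c10_1, h47_c10_2, h47_c10_3, h47_c10_4, h47_c10_5, h47_c10_6, h47_c10_7, h47_c11_0, h47_c11_1, h47_c11_2, h47_c11_3, h47_c11_4, h47_c11_5, h47_c11_6, h47_c11_7, hz0, hz4, hz1, hz5] <;> first | ring1 | (field_simp; ring1) | field_simp
  have c2 : w 2 = u 2 := by
    rw [hw]; simp only [h47_c10_0, h47_c10_1, h47_c10_2, h47_c10_3, h47_c10_4, h47_c10_5, h47_c10_6, h47_c10_7, h47_c11_0, h47_c11_1, h47_c11_2, h47_c11_3, h47_c11_4, h47_c11_5, h47_c11_6, h47_c11_7, hz0, hz4, hz1, hz5]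
  have c3 : w 3 = 0 := by
    rw [hw]; simp only [h47_c10_0, h47_c10_1, h47_c10_2, h47_c10_3, h47_c10_4, h47_c10_5, h47_c10_6, h47_c10_7, h47_c11_0, h47_c11_1, h47_c11_2, h47_c11_3, h47_c11_4, h47_c11_5, h47_c11_6, h47_c11_7, hz0, hz4, hz1, hz5] <;> first | ring1 | (field_simp; ring1) | field_simp
  have c4 : w 4 = 0 := by
    rw [hw]; simp only [h47_c10_0, h47_c10_1, h47_c10_2, h47_c10_3, h47_c10_4, h47_c10_5, h47_c10_6, h47_c10_7, h47_c11_0, h47_c11_1, h47_c11_2, h47_c11_3, h47_c11_4, h47_c11_5, h47_c11_6, h47_c11_7, hz0, hz4, hz1, hz5] <;> first | ring1 | (field_simp; ring1) | field_simp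
  have c5 : w 5 = 0 := by
    rw [hw]; simp only [h47_c10_0, h47_c10_1, h47_c10_2, h47_c10_3, h47_c10_4, h47_c10_5, h47_c10_6, h47_c10_7, h47_c11_0, h47_c11_1, h47_c11_2, h47_c11_3, h47_c11_4, h47_c11_5, h47_c11_6, h47_c11_7, hz0, hz4, hz1, hz5] <;> first | ring1 | (field_simp; ring1) | field_simp
  have c7 : w 7 = 0 := by
    rw [hw]; simp only [h47_c10_0, h47_c10_1, h47_c10_2, h47_c10_3, h47_c10_4, h47_c10_5, h47_c10_6, h47_c10_7, h47_c11_0, h47_c11_1, h47_c11_2, h47_c11_3, h47_c11_4, h47_c11_5, h47_c11_6, h47_c11_7, hz0, hz4, hz1, hz5] <;> first | ring1 | (field_simp; ring1) | field_simp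
  have c6 : w 6 = 0 := by simpa [Q8, c0, c1, c2, c3, c4, c5, c7, hk] using hQ'
  exact h47_sc_2 w c0 c1 c3 c4 c5 c6 c7 (by rw [c2]; exact hk)

theorem h47_T1_2 (u : Fin 8 → F) (hu : u ≠ 0) (hQ : Q8 u = 0) (hz0 : u 0 = 0) (hz4 : u 4 = 0) (hz1 : u 1 = 0) (hz5 : u 5 = 0) :
    h47Mv (fun i => i = 0 ∨ i = 4 ∨ i = 1 ∨ i = 5) u (Pi.single 2 1) := by
  by_cases hx2 : u 2 = 0
  swap
  · exact h47_T1c_2 u hQ hz0 hz4 hz1 hz5 hx2
  by_cases hx3 : u 3 = 0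
  swap
  · apply h47Mv_step 13 1 (by rintro i (rfl | rfl | rfl | rfl) <;> decide)
    apply h47_T1c_2
    · rw [h47_Q]; exact hQ
    · simp only [h47_c13_0, h47_c13_1, h47_c13_2, h47_c13_3, h47_c13_4, h47_c13_5, h47_c13_6, h47_c13_7, hz0, hz4, hz1, hz5]
    · simp only [h47_c13_0, h47_c13_1, h47_c13_2, h47_c13_3, h47_c13_4, h47_c13_5, h47_c13_6, h47_c13_7, hz0, hz4, hz1, hz5]
    · simp only [h47_c13_0, h47_c13_1, h47_c13_2, h47_c13_3, h47_c13_4, h47_c13_5, h47_c13_6, h47_c13_7, hz0, hz4, hz1, hz5]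
    · simp only [h47_c13_0, h47_c13_1, h47_c13_2, h47_c13_3, h47_c13_4, h47_c13_5, h47_c13_6, h47_c13_7, hz0, hz4, hz1, hz5]
    · simpa [h47_c13_2, hx2] using hx3
  by_cases hy7 : u 7 = 0
  swap
  · apply h47Mv_step 12 1 (by rintro i (rfl | rfl | rfl | rfl) <;> decide)
    apply h47_T1c_2
    · rw [h47_Q]; exact hQ
    · simp only [h47_c12_0, h47_c12_1, h47_c12_2, h47_c12_3, h47_c12_4, h47_c12_5, h47_c12_6, h47_c12_7, hz0, hz4, hz1, hz5]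
    · simp only [h47_c12_0, h47_c12_1, h47_c12_2, h47_c12_3, h47_c12_4, h47_c12_5, h47_c12_6, h47_c12_7, hz0, hz4, hz1, hz5]
    · simp only [h47_c12_0, h47_c12_1, h47_c12_2, h47_c12_3, h47_c12_4, h47_c12_5, h47_c12_6, h47_c12_7, hz0, hz4, hz1, hz5]
    · simp only [h47_c12_0, h47_c12_1, h47_c12_2, h47_c12_3, h47_c12_4, h47_c12_5, h47_c12_6, h47_c12_7, hz0, hz4, hz1, hz5]
    · simpa [h47_c12_2, hx2] using hy7
  have hyk : u 6 ≠ 0 := by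
    intro h
    apply hu
    funext i; fin_cases i
    · exact hz0
    · exact hz1
    · exact hx2
    · exact hx3
    · exact hz4
    · exact hz5
    · exact h
    · exact hy7
  apply h47Mv_step 13 1 (by rintro i (rfl | rfl | rfl | rfl) <;> decide)
  apply h47Mv_step 12 1 (by rintro i (rfl | rfl | rfl | rfl) <;> decide)
  apply h47_T1c_2
  · rw [h47_Q, h47_Q]; exact hQ
  · simp only [h47_c12_0, h47_c12_1, h47_c12_2, h47_c12_3, h47_c12_4, h47_c12_5, h47_c12_6, h47_c12_7, h47_c13_0, h47_c13_1, h47_c13_2, h47_c13_3, h47_c13_4, h47_c13_5, h47_c13_6, h47_c13_7, hz0, hz4, hz1, hz5]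
  · simp only [h47_c12_0, h47_c12_1, h47_c12_2, h47_c12_3, h47_c12_4, h47_c12_5, h47_c12_6, h47_c12_7, h47_c13_0, h47_c13_1, h47_c13_2, h47_c13_3, h47_c13_4, h47_c13_5, h47_c13_6, h47_c13_7, hz0, hz4, hz1, hz5]
  · simp only [h47_c12_0, h47_c12_1, h47_c12_2, h47_c12_3, h47_c12_4, h47_c12_5, h47_c12_6, h47_c12_7, h47_c13_0, h47_c13_1, h47_c13_2, h47_c13_3, h47_c13_4, h47_c13_5, h47_c13_6, h47_c13_7, hz0, hz4, hz1, hz5]
  · simp only [h47_c12_0, h47_c12_1, h47_c12_2, h47_c12_3, h47_c12_4, h47_c12_5, h47_c12_6, h47_c12_7, h47_c13_0, h47_c13_1, h47_c13_2, h47_c13_3, h47_c13_4, h47_c13_5, h47_c13_6, h47_c13_7, hz0, hz4, hz1, hz5]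
  · simpa [h47_c12_0, h47_c12_1, h47_c12_2, h47_c12_3, h47_c12_4, h47_c12_5, h47_c12_6, h47_c12_7, h47_c13_0, h47_c13_1, h47_c13_2, h47_c13_3, h47_c13_4, h47_c13_5, h47_c13_6, h47_c13_7, hx2, hx3, hy7] using hyk

end Cfsg.Agent.Lib.helper47.D4
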