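import Cfsg.Agent.Lib.helper47.D4T0
import Cfsg.Agent.Lib.helper47.D4T1
import Cfsg.Agent.Lib.helper47.D4T2

/-!
# S1082 pieces T1_0, T2_0, T1_1, T2_1, T1_2, T2_2, T5 (helper47)

The Bruhat-type reduction steps in `Og8`, with the exact statements of `tools/S1082_Skel.lean.txt`.
-/

set_option autoImplicit false

namespace Cfsg.Agent.Lib.helper47.D4

open Matrix Cfsg Cfsg.Lie Cfsg.Agent.Lib.helper95.D4

variable {F : Type*} [Field F]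

theorem T1_0 (u : Fin 8 → F) (hu : u ≠ 0) (hQ : Q8 u = 0) :
    ∃ g ∈ Eg8 F, (g : Matrix (Fin 8) (Fin 8) F) *ᵥ u = Pi.single 0 1 := by
  obtain ⟨g, hg, -, e⟩ := h47_T1_0 u hu hQ
  exact ⟨g, hg, e⟩

theorem T2_0 (u : Fin 8 → F) (hQ : Q8 u = 0) (h4 : u 4 = 1) :
    ∃ g ∈ Eg8 F, (g : Matrix (Fin 8) (Fin 8) F) *ᵥ Pi.single 0 1 = Pi.single 0 1 ∧
      (g : Matrix (Fin 8) (Fin 8) F) *ᵥ u = Pi.single 4 1 := by
  obtain ⟨g, hg, hf, e⟩ := h47_T2_0 u hQ h4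
  exact ⟨g, hg, hf 0 rfl, e⟩

theorem T1_1 (u : Fin 8 → F) (hu : u ≠ 0) (hQ : Q8 u = 0) (h0 : u 0 = 0) (h4 : u 4 = 0) :
    ∃ g ∈ Eg8 F, (g : Matrix (Fin 8) (Fin 8) F) *ᵥ Pi.single 0 1 = Pi.single 0 1 ∧
      (g : Matrix (Fin 8) (Fin 8) F) *ᵥ Pi.single 4 1 = Pi.single 4 1 ∧
      (g : Matrix (Fin 8) (Fin 8) F) *ᵥ u = Pi.single 1 1 := by
  obtain ⟨g, hg, hf, e⟩ := h47_T1_1 u hu hQ h0 h4
  exact ⟨g, hg, hf 0 (Or.inl rfl), hf 4 (Or.inr rfl), e⟩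

theorem T2_1 (u : Fin 8 → F) (hQ : Q8 u = 0) (h0 : u 0 = 0) (h4 : u 4 = 0) (h5 : u 5 = 1) :
    ∃ g ∈ Eg8 F, (g : Matrix (Fin 8) (Fin 8) F) *ᵥ Pi.single 0 1 = Pi.single 0 1 ∧
      (g : Matrix (Fin 8) (Fin 8) F) *ᵥ Pi.single 4 1 = Pi.single 4 1 ∧
      (g : Matrix (Fin 8) (Fin 8) F) *ᵥ Pi.single 1 1 = Pi.single 1 1 ∧
      (g : Matrix (Fin 8) (Fin 8) F) *ᵥ u = Pi.single 5 1 := by
  obtain ⟨g, hg, hf, e⟩ := h47_T2_1 u hQ h0 h4 h5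
  exact ⟨g, hg, hf 0 (Or.inl rfl), hf 4 (Or.inr (Or.inl rfl)), hf 1 (Or.inr (Or.inr rfl)), e⟩

theorem T1_2 (u : Fin 8 → F) (hu : u ≠ 0) (hQ : Q8 u = 0) (h0 : u 0 = 0) (h4 : u 4 = 0)
    (h1 : u 1 = 0) (h5 : u 5 = 0) :
    ∃ g ∈ Eg8 F, (g : Matrix (Fin 8) (Fin 8) F) *ᵥ Pi.single 0 1 = Pi.single 0 1 ∧
      (g : Matrix (Fin 8) (Fin 8) F) *ᵥ Pi.single 4 1 = Pi.single 4 1 ∧
      (g : Matrix (Fin 8) (Fin 8) F) *ᵥ Pi.single 1 1 = Pi.single 1 1 ∧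
      (g : Matrix (Fin 8) (Fin 8) F) *ᵥ Pi.single 5 1 = Pi.single 5 1 ∧
      (g : Matrix (Fin 8) (Fin 8) F) *ᵥ u = Pi.single 2 1 := by
  obtain ⟨g, hg, hf, e⟩ := h47_T1_2 u hu hQ h0 h4 h1 h5
  exact ⟨g, hg, hf 0 (Or.inl rfl), hf 4 (Or.inr (Or.inl rfl)), hf 1 (Or.inr (Or.inr (Or.inl rfl))),
    hf 5 (Or.inr (Or.inr (Or.inr rfl))), e⟩

theorem T2_2 (u : Fin 8 → F) (hQ : Q8 u = 0) (h0 : u 0 = 0) (h4 : u 4 = 0)
    (h1 : u 1 = 0) (h5 : u 5 = 0) (h6 : u 6 = 1) :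
    ∃ g ∈ Eg8 F, (g : Matrix (Fin 8) (Fin 8) F) *ᵥ Pi.single 0 1 = Pi.single 0 1 ∧
      (g : Matrix (Fin 8) (Fin 8) F) *ᵥ Pi.single 4 1 = Pi.single 4 1 ∧
      (g : Matrix (Fin 8) (Fin 8) F) *ᵥ Pi.single 1 1 = Pi.single 1 1 ∧
      (g : Matrix (Fin 8) (Fin 8) F) *ᵥ Pi.single 5 1 = Pi.single 5 1 ∧
      (g : Matrix (Fin 8) (Fin 8) F) *ᵥ Pi.single 2 1 = Pi.single 2 1 ∧
      (g : Matrix (Fin 8) (Fin 8) F) *ᵥ u = Pi.single 6 1 := by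
  obtain ⟨g, hg, hf, e⟩ := h47_T2_2 u hQ h0 h4 h1 h5 h6
  exact ⟨g, hg, hf 0 (Or.inl rfl), hf 4 (Or.inr (Or.inl rfl)), hf 1 (Or.inr (Or.inr (Or.inl rfl))),
    hf 5 (Or.inr (Or.inr (Or.inr (Or.inl rfl)))), hf 2 (Or.inr (Or.inr (Or.inr (Or.inr rfl)))), e⟩

/-- isometries of `Q8` preserve the polar form (own copy of piece B's `Og8_B8`) -/
theorem h47_Og8_B8 (g : GL (Fin 8) F) (hg : g ∈ Og8 F) (u v : Fin 8 → F) :
    B8 ((g : Matrix (Fin 8) (Fin 8) F) *ᵥ u) ((g : Matrix (Fin 8) (Fin 8) F) *ᵥ v) = B8 u v := by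
  have h := (mem_Og8 g).1 hg
  have e1 := h (u + v)
  have e2 := h u
  have e3 := h v
  rw [Matrix.mulVec_add] at e1
  simp only [Q8, B8, Pi.add_apply] at *
  linear_combination e1 - e2 - e3

theorem h47_B8_single (x : Fin 8 → F) :
    B8 x (Pi.single 0 1) = x 4 ∧ B8 x (Pi.single 4 1) = x 0 ∧ B8 x (Pi.single 1 1) = x 5 ∧
    B8 x (Pi.single 5 1) = x 1 ∧ B8 x (Pi.single 2 1) = x 6 ∧ B8 x (Pi.single 6 1) = x 2 ∧
    B8 x (Pi.single 3 1) = x 7 ∧ B8 x (Pi.single 7 1) = x 3 := by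
  simp [B8]

theorem T5 (g : GL (Fin 8) F) (hg : g ∈ Og8 F)
    (h0 : (g : Matrix (Fin 8) (Fin 8) F) *ᵥ Pi.single 0 1 = Pi.single 0 1)
    (h4 : (g : Matrix (Fin 8) (Fin 8) F) *ᵥ Pi.single 4 1 = Pi.single 4 1)
    (h1 : (g : Matrix (Fin 8) (Fin 8) F) *ᵥ Pi.single 1 1 = Pi.single 1 1)
    (h5 : (g : Matrix (Fin 8) (Fin 8) F) *ᵥ Pi.single 5 1 = Pi.single 5 1)
    (h2 : (g : Matrix (Fin 8) (Fin 8) F) *ᵥ Pi.single 2 1 = Pi.single 2 1)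
    (h6 : (g : Matrix (Fin 8) (Fin 8) F) *ᵥ Pi.single 6 1 = Pi.single 6 1) :
    ∃ c : F, c ≠ 0 ∧ ((g : Matrix (Fin 8) (Fin 8) F) = dgc c ∨
      (g : Matrix (Fin 8) (Fin 8) F) = dgc c * sw) := by
  have B := h47_Og8_B8 g hg
  have Qg := (mem_Og8 g).1 hg
  obtain ⟨a, ha⟩ : ∃ a, a = (g : Matrix (Fin 8) (Fin 8) F) *ᵥ Pi.single 3 1 := ⟨_, rfl⟩
  obtain ⟨b, hb⟩ : ∃ b, b = (g : Matrix (Fin 8) (Fin 8) F) *ᵥ Pi.single 7 1 := ⟨_, rfl⟩
  -- orthogonality relations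
  have A0 := B (Pi.single 3 1) (Pi.single 0 1)
  have A4 := B (Pi.single 3 1) (Pi.single 4 1)
  have A1 := B (Pi.single 3 1) (Pi.single 1 1)
  have A5 := B (Pi.single 3 1) (Pi.single 5 1)
  have A2 := B (Pi.single 3 1) (Pi.single 2 1)
  have A6 := B (Pi.single 3 1) (Pi.single 6 1)
  have B0 := B (Pi.single 7 1) (Pi.single 0 1)
  have B4 := B (Pi.single 7 1) (Pi.single 4 1)
  have B1 := B (Pi.single 7 1) (Pi.single 1 1)
  have B5 := B (Pi.single 7 1) (Pi.single 5 1)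
  have B2 := B (Pi.single 7 1) (Pi.single 2 1)
  have B6 := B (Pi.single 7 1) (Pi.single 6 1)
  rw [← ha, h0, (h47_B8_single a).1, (h47_B8_single _).1] at A0
  rw [← ha, h4, (h47_B8_single a).2.1, (h47_B8_single _).2.1] at A4
  rw [← ha, h1, (h47_B8_single a).2.2.1, (h47_B8_single _).2.2.1] at A1
  rw [← ha, h5, (h47_B8_single a).2.2.2.1, (h47_B8_single _).2.2.2.1] at A5
  rw [← ha, h2, (h47_B8_single a).2.2.2.2.1, (h47_B8_single _).2.2.2.2.1] at A2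
  rw [← ha, h6, (h47_B8_single a).2.2.2.2.2.1, (h47_B8_single _).2.2.2.2.2.1] at A6
  rw [← hb, h0, (h47_B8_single b).1, (h47_B8_single _).1] at B0
  rw [← hb, h4, (h47_B8_single b).2.1, (h47_B8_single _).2.1] at B4
  rw [← hb, h1, (h47_B8_single b).2.2.1, (h47_B8_single _).2.2.1] at B1
  rw [← hb, h5, (h47_B8_single b).2.2.2.1, (h47_B8_single _).2.2.2.1] at B5
  rw [← hb, h2, (h47_B8_single b).2.2.2.2.1, (h47_B8_single _).2.2.2.2.1] at B2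
  rw [← hb, h6, (h47_B8_single b).2.2.2.2.2.1, (h47_B8_single _).2.2.2.2.2.1] at B6
  have a4 : a 4 = 0 := A0.trans (h47_single_ne 3 4 (by decide))
  have a0 : a 0 = 0 := A4.trans (h47_single_ne 3 0 (by decide))
  have a5 : a 5 = 0 := A1.trans (h47_single_ne 3 5 (by decide))
  have a1 : a 1 = 0 := A5.trans (h47_single_ne 3 1 (by decide))
  have a6 : a 6 = 0 := A2.trans (h47_single_ne 3 6 (by decide))
  have a2 : a 2 = 0 := A6.trans (h47_single_ne 3 2 (by decide))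
  have b4 : b 4 = 0 := B0.trans (h47_single_ne 7 4 (by decide))
  have b0 : b 0 = 0 := B4.trans (h47_single_ne 7 0 (by decide))
  have b5 : b 5 = 0 := B1.trans (h47_single_ne 7 5 (by decide))
  have b1 : b 1 = 0 := B5.trans (h47_single_ne 7 1 (by decide))
  have b6 : b 6 = 0 := B2.trans (h47_single_ne 7 6 (by decide))
  have b2 : b 2 = 0 := B6.trans (h47_single_ne 7 2 (by decide))
  have Qa : a 3 * a 7 = 0 := by
    have := Qg (Pi.single 3 1)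
    rw [← ha] at this
    have e : Q8 (Pi.single 3 1 : Fin 8 → F) = 0 := by simp [Q8]
    rw [e] at this
    simp only [Q8, a0, a1, a2, a4, a5, a6] at this
    linear_combination this
  have Qb : b 3 * b 7 = 0 := by
    have := Qg (Pi.single 7 1)
    rw [← hb] at this
    have e : Q8 (Pi.single 7 1 : Fin 8 → F) = 0 := by simp [Q8]
    rw [e] at this
    simp only [Q8, b0, b1, b2, b4, b5, b6] at this
    linear_combination this
  have Bab : a 3 * b 7 + a 7 * b 3 = 1 := by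
    have := B (Pi.single 3 1) (Pi.single 7 1)
    rw [← ha, ← hb, (h47_B8_single _).2.2.2.2.2.2.2, h47_single_same] at this
    simp only [B8, a0, a1, a2, a4, a5, a6, b0, b1, b2, b4, b5, b6] at this
    linear_combination this
  have hcol : ∀ j i, (g : Matrix (Fin 8) (Fin 8) F) i j =
      ((g : Matrix (Fin 8) (Fin 8) F) *ᵥ Pi.single j 1) i := by
    intro j i
    rw [Matrix.mulVec_single_one]
    rfl
  by_cases a3 : a 3 = 0
  · have hab : a 7 * b 3 = 1 := by rw [a3] at Bab; linear_combination Bab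
    have b3 : b 3 ≠ 0 := right_ne_zero_of_mul_eq_one hab
    have b7 : b 7 = 0 := by
      rcases mul_eq_zero.1 Qb with h | h
      · exact absurd h b3
      · exact h
    have a7 : a 7 = (b 3)⁻¹ := eq_inv_of_mul_eq_one_left hab
    refine ⟨b 3, b3, Or.inr ?_⟩
    ext i j
    rw [hcol j i]
    fin_cases j
    · show ((g : Matrix (Fin 8) (Fin 8) F) *ᵥ Pi.single 0 1) i = ((dgc (b 3) * sw : Matrix (Fin 8) (Fin 8) F)) i 0
      rw [h0]; fin_cases i <;> simp [dgc, sw, Matrix.diagonal_mul]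
    · show ((g : Matrix (Fin 8) (Fin 8) F) *ᵥ Pi.single 1 1) i = ((dgc (b 3) * sw : Matrix (Fin 8) (Fin 8) F)) i 1
      rw [h1]; fin_cases i <;> simp [dgc, sw, Matrix.diagonal_mul]
    · show ((g : Matrix (Fin 8) (Fin 8) F) *ᵥ Pi.single 2 1) i = ((dgc (b 3) * sw : Matrix (Fin 8) (Fin 8) F)) i 2
      rw [h2]; fin_cases i <;> simp [dgc, sw, Matrix.diagonal_mul]
    · show ((g : Matrix (Fin 8) (Fin 8) F) *ᵥ Pi.single 3 1) i = ((dgc (b 3) * sw : Matrix (Fin 8) (Fin 8) F)) i 3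
      rw [← ha]; fin_cases i <;> simp [dgc, sw, Matrix.diagonal_mul, a0, a1, a2, a3, a4, a5, a6, a7]
    · show ((g : Matrix (Fin 8) (Fin 8) F) *ᵥ Pi.single 4 1) i = ((dgc (b 3) * sw : Matrix (Fin 8) (Fin 8) F)) i 4
      rw [h4]; fin_cases i <;> simp [dgc, sw, Matrix.diagonal_mul]
    · show ((g : Matrix (Fin 8) (Fin 8) F) *ᵥ Pi.single 5 1) i = ((dgc (b 3) * sw : Matrix (Fin 8) (Fin 8) F)) i 5
      rw [h5]; fin_cases i <;> simp [dgc, sw, Matrix.diagonal_mul]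
    · show ((g : Matrix (Fin 8) (Fin 8) F) *ᵥ Pi.single 6 1) i = ((dgc (b 3) * sw : Matrix (Fin 8) (Fin 8) F)) i 6
      rw [h6]; fin_cases i <;> simp [dgc, sw, Matrix.diagonal_mul]
    · show ((g : Matrix (Fin 8) (Fin 8) F) *ᵥ Pi.single 7 1) i = ((dgc (b 3) * sw : Matrix (Fin 8) (Fin 8) F)) i 7
      rw [← hb]; fin_cases i <;> simp [dgc, sw, Matrix.diagonal_mul, b0, b1, b2, b4, b5, b6, b7]
  · have a7 : a 7 = 0 := by
      rcases mul_eq_zero.1 Qa with h | h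
      · exact absurd h a3
      · exact h
    have h1' : a 3 * b 7 = 1 := by rw [a7] at Bab; linear_combination Bab
    have b7 : b 7 = (a 3)⁻¹ := eq_inv_of_mul_eq_one_right h1'
    have b7' : b 7 ≠ 0 := right_ne_zero_of_mul_eq_one h1'
    have b3 : b 3 = 0 := by
      rcases mul_eq_zero.1 Qb with h | h
      · exact h
      · exact absurd h b7'
    refine ⟨a 3, a3, Or.inl ?_⟩
    ext i j
    rw [hcol j i]
    fin_cases j
    · show ((g : Matrix (Fin 8) (Fin 8) F) *ᵥ Pi.single 0 1) i = (dgc (a 3)) i 0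
      rw [h0]; fin_cases i <;> simp [dgc]
    · show ((g : Matrix (Fin 8) (Fin 8) F) *ᵥ Pi.single 1 1) i = (dgc (a 3)) i 1
      rw [h1]; fin_cases i <;> simp [dgc]
    · show ((g : Matrix (Fin 8) (Fin 8) F) *ᵥ Pi.single 2 1) i = (dgc (a 3)) i 2
      rw [h2]; fin_cases i <;> simp [dgc]
    · show ((g : Matrix (Fin 8) (Fin 8) F) *ᵥ Pi.single 3 1) i = (dgc (a 3)) i 3
      rw [← ha]; fin_cases i <;> simp [dgc, a0, a1, a2, a4, a5, a6, a7]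
    · show ((g : Matrix (Fin 8) (Fin 8) F) *ᵥ Pi.single 4 1) i = (dgc (a 3)) i 4
      rw [h4]; fin_cases i <;> simp [dgc]
    · show ((g : Matrix (Fin 8) (Fin 8) F) *ᵥ Pi.single 5 1) i = (dgc (a 3)) i 5
      rw [h5]; fin_cases i <;> simp [dgc]
    · show ((g : Matrix (Fin 8) (Fin 8) F) *ᵥ Pi.single 6 1) i = (dgc (a 3)) i 6
      rw [h6]; fin_cases i <;> simp [dgc]
    · show ((g : Matrix (Fin 8) (Fin 8) F) *ᵥ Pi.single 7 1) i = (dgc (a 3)) i 7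
      rw [← hb]; fin_cases i <;> simp [dgc, b0, b1, b2, b3, b4, b5, b6, b7]

end Cfsg.Agent.Lib.helper47.D4
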