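import Cfsg.Agent.Lib.helper47.D4TM

/-!
# S1082 pieces T1_0, T2_0 (helper47): Bruhat-type reduction, stage 0
-/

set_option autoImplicit false
set_option linter.unusedSimpArgs false

namespace Cfsg.Agent.Lib.helper47.D4

open Matrix Cfsg Cfsg.Lie Cfsg.Agent.Lib.helper95.D4

variable {F : Type*} [Field F]

theorem h47_T2_0 (u : Fin 8 → F) (hQ : Q8 u = 0)  (hp : u 4 = 1) :
    h47Mv (fun i => i = 0) u (Pi.single 4 1) := by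
  apply h47Mv_step 18 (u 5) (by rintro i rfl; decide)
  apply h47Mv_step 19 (-(u 6)) (by rintro i rfl; decide)
  apply h47Mv_step 21 (u 7) (by rintro i rfl; decide)
  apply h47Mv_step 23 (u 1) (by rintro i rfl; decide)
  apply h47Mv_step 22 (u 2) (by rintro i rfl; decide)
  apply h47Mv_step 20 (u 3) (by rintro i rfl; decide)
  apply h47Mv_of_eq
  have hQ' : Q8 (X8 20 (u 3) *ᵥ (X8 22 (u 2) *ᵥ (X8 23 (u 1) *ᵥ (X8 21 (u 7) *ᵥ (X8 19 (-(u 6)) *ᵥ (X8 18 (u 5) *ᵥ u)))))) = 0 := by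
    rw [h47_Q, h47_Q, h47_Q, h47_Q, h47_Q, h47_Q]; exact hQ
  obtain ⟨w, hw⟩ : ∃ w, w = (X8 20 (u 3) *ᵥ (X8 22 (u 2) *ᵥ (X8 23 (u 1) *ᵥ (X8 21 (u 7) *ᵥ (X8 19 (-(u 6)) *ᵥ (X8 18 (u 5) *ᵥ u)))))) := ⟨_, rfl⟩
  rw [← hw] at hQ' ⊢
  have c1 : w 1 = 0 := by
    rw [hw]; simp only [h47_c18_0, h47_c18_1, h47_c18_2, h47_c18_3, h47_c18_4, h47_c18_5, h47_c18_6, h47_c18_7, h47_c19_0, h47_c19_1, h47_c19_2, h47_c19_3, h47_c19_4, h47_c19_5, h47_c19_6, h47_c19_7, h47_c20_0, h47_c20_1, h47_c20_2, h47_c20_3, h47_c20_4, h47_c20_5, h47_c20_6, h47_c20_7, h47_c21_0, h47_c21_1, h47_c21_2, h47_c21_3, h47_c21_4, h47_c21_5, h47_c21_6, h47_c21_7, h47_c22_0, h47_c22_1, h47_c22_2, h47_c22_3, h47_c22_4, h47_c22_5, h47_c22_6, h47_c22_7, h47_c23_0, h47_c23_1, h47_c23_2, h47_c23_3, h47_c23_4, h47_c23_5, h47_c23_6, h47_c23_7, hp] <;> ring1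
  have c2 : w 2 = 0 := by
    rw [hw]; simp only [h47_c18_0, h47_c18_1, h47_c18_2, h47_c18_3, h47_c18_4, h47_c18_5, h47_c18_6, h47_c18_7, h47_c19_0, h47_c19_1, h47_c19_2, h47_c19_3, h47_c19_4, h47_c19_5, h47_c19_6, h47_c19_7, h47_c20_0, h47_c20_1, h47_c20_2, h47_c20_3, h47_c20_4, h47_c20_5, h47_c20_6, h47_c20_7, h47_c21_0, h47_c21_1, h47_c21_2, h47_c21_3, h47_c21_4, h47_c21_5, h47_c21_6, h47_c21_7, h47_c22_0, h47_c22_1, h47_c22_2, h47_c22_3, h47_c22_4, h47_c22_5, h47_c22_6, h47_c22_7, h47_c23_0, h47_c23_1, h47_c23_2, h47_c23_3, h47_c23_4, h47_c23_5, h47_c23_6, h47_c23_7, hp] <;> ring1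
  have c3 : w 3 = 0 := by
    rw [hw]; simp only [h47_c18_0, h47_c18_1, h47_c18_2, h47_c18_3, h47_c18_4, h47_c18_5, h47_c18_6, h47_c18_7, h47_c19_0, h47_c19_1, h47_c19_2, h47_c19_3, h47_c19_4, h47_c19_5, h47_c19_6, h47_c19_7, h47_c20_0, h47_c20_1, h47_c20_2, h47_c20_3, h47_c20_4, h47_c20_5, h47_c20_6, h47_c20_7, h47_c21_0, h47_c21_1, h47_c21_2, h47_c21_3, h47_c21_4, h47_c21_5, h47_c21_6, h47_c21_7, h47_c22_0, h47_c22_1, h47_c22_2, h47_c22_3, h47_c22_4, h47_c22_5, h47_c22_6, h47_c22_7, h47_c23_0, h47_c23_1, h47_c23_2, h47_c23_3, h47_c23_4, h47_c23_5, h47_c23_6, h47_c23_7, hp] <;> ring1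
  have c4 : w 4 = 1 := by
    rw [hw]; simp only [h47_c18_0, h47_c18_1, h47_c18_2, h47_c18_3, h47_c18_4, h47_c18_5, h47_c18_6, h47_c18_7, h47_c19_0, h47_c19_1, h47_c19_2, h47_c19_3, h47_c19_4, h47_c19_5, h47_c19_6, h47_c19_7, h47_c20_0, h47_c20_1, h47_c20_2, h47_c20_3, h47_c20_4, h47_c20_5, h47_c20_6, h47_c20_7, h47_c21_0, h47_c21_1, h47_c21_2, h47_c21_3, h47_c21_4, h47_c21_5, h47_c21_6, h47_c21_7, h47_c22_0, h47_c22_1, h47_c22_2, h47_c22_3, h47_c22_4, h47_c22_5, h47_c22_6, h47_c22_7, h47_c23_0, h47_c23_1, h47_c23_2, h47_c23_3, h47_c23_4, h47_c23_5, h47_c23_6, h47_c23_7, hp] <;> ring1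
  have c5 : w 5 = 0 := by
    rw [hw]; simp only [h47_c18_0, h47_c18_1, h47_c18_2, h47_c18_3, h47_c18_4, h47_c18_5, h47_c18_6, h47_c18_7, h47_c19_0, h47_c19_1, h47_c19_2, h47_c19_3, h47_c19_4, h47_c19_5, h47_c19_6, h47_c19_7, h47_c20_0, h47_c20_1, h47_c20_2, h47_c20_3, h47_c20_4, h47_c20_5, h47_c20_6, h47_c20_7, h47_c21_0, h47_c21_1, h47_c21_2, h47_c21_3, h47_c21_4, h47_c21_5, h47_c21_6, h47_c21_7, h47_c22_0, h47_c22_1, h47_c22_2, h47_c22_3, h47_c22_4, h47_c22_5, h47_c22_6, h47_c22_7, h47_c23_0, h47_c23_1, h47_c23_2, h47_c23_3, h47_c23_4, h47_c23_5, h47_c23_6, h47_c23_7, hp] <;> ring1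
  have c6 : w 6 = 0 := by
    rw [hw]; simp only [h47_c18_0, h47_c18_1, h47_c18_2, h47_c18_3, h47_c18_4, h47_c18_5, h47_c18_6, h47_c18_7, h47_c19_0, h47_c19_1, h47_c19_2, h47_c19_3, h47_c19_4, h47_c19_5, h47_c19_6, h47_c19_7, h47_c20_0, h47_c20_1, h47_c20_2, h47_c20_3, h47_c20_4, h47_c20_5, h47_c20_6, h47_c20_7, h47_c21_0, h47_c21_1, h47_c21_2, h47_c21_3, h47_c21_4, h47_c21_5, h47_c21_6, h47_c21_7, h47_c22_0, h47_c22_1, h47_c22_2, h47_c22_3, h47_c22_4, h47_c22_5, h47_c22_6, h47_c22_7, h47_c23_0, h47_c23_1, h47_c23_2, h47_c23_3, h47_c23_4, h47_c23_5, h47_c23_6, h47_c23_7, hp] <;> ring1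
  have c7 : w 7 = 0 := by
    rw [hw]; simp only [h47_c18_0, h47_c18_1, h47_c18_2, h47_c18_3, h47_c18_4, h47_c18_5, h47_c18_6, h47_c18_7, h47_c19_0, h47_c19_1, h47_c19_2, h47_c19_3, h47_c19_4, h47_c19_5, h47_c19_6, h47_c19_7, h47_c20_0, h47_c20_1, h47_c20_2, h47_c20_3, h47_c20_4, h47_c20_5, h47_c20_6, h47_c20_7, h47_c21_0, h47_c21_1, h47_c21_2, h47_c21_3, h47_c21_4, h47_c21_5, h47_c21_6, h47_c21_7, h47_c22_0, h47_c22_1, h47_c22_2, h47_c22_3, h47_c22_4, h47_c22_5, h47_c22_6, h47_c22_7, h47_c23_0, h47_c23_1, h47_c23_2, h47_c23_3, h47_c23_4, h47_c23_5, h47_c23_6, h47_c23_7, hp] <;> ring1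
  have c0 : w 0 = 0 := by simpa [Q8, c1, c2, c3, c4, c5, c6, c7] using hQ'
  funext i; fin_cases i
  · show w 0 = (Pi.single 4 1 : Fin 8 → F) 0
    rw [c0]; exact (h47_single_ne 4 0 (by decide)).symm
  · show w 1 = (Pi.single 4 1 : Fin 8 → F) 1
    rw [c1]; exact (h47_single_ne 4 1 (by decide)).symm
  · show w 2 = (Pi.single 4 1 : Fin 8 → F) 2
    rw [c2]; exact (h47_single_ne 4 2 (by decide)).symm
  · show w 3 = (Pi.single 4 1 : Fin 8 → F) 3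
    rw [c3]; exact (h47_single_ne 4 3 (by decide)).symm
  · show w 4 = (Pi.single 4 1 : Fin 8 → F) 4
    rw [c4]; exact (h47_single_same _).symm
  · show w 5 = (Pi.single 4 1 : Fin 8 → F) 5
    rw [c5]; exact (h47_single_ne 4 5 (by decide)).symm
  · show w 6 = (Pi.single 4 1 : Fin 8 → F) 6
    rw [c6]; exact (h47_single_ne 4 6 (by decide)).symm
  · show w 7 = (Pi.single 4 1 : Fin 8 → F) 7
    rw [c7]; exact (h47_single_ne 4 7 (by decide)).symm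

theorem h47_sc_0 (u : Fin 8 → F) (hz1 : u 1 = 0) (hz2 : u 2 = 0) (hz3 : u 3 = 0) (hz4 : u 4 = 0) (hz5 : u 5 = 0) (hz6 : u 6 = 0) (hz7 : u 7 = 0) (hk : u 0 ≠ 0) :
    h47Mv (fun _ => False) u (Pi.single 0 1) := by
  apply h47Mv_step 5 (1 / u 0) (fun i hi => hi.elim)
  apply h47Mv_step 18 (1 - u 0) (fun i hi => hi.elim)
  apply h47Mv_step 5 (-1) (fun i hi => hi.elim)
  apply h47Mv_of_eq
  obtain ⟨w, hw⟩ : ∃ w, w = (X8 5 (-1) *ᵥ (X8 18 (1 - u 0) *ᵥ (X8 5 (1 / u 0) *ᵥ u))) := ⟨_, rfl⟩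
  rw [← hw]
  have c0 : w 0 = 1 := by
    rw [hw]; simp only [h47_c5_0, h47_c5_1, h47_c5_2, h47_c5_3, h47_c5_4, h47_c5_5, h47_c5_6, h47_c5_7, h47_c18_0, h47_c18_1, h47_c18_2, h47_c18_3, h47_c18_4, h47_c18_5, h47_c18_6, h47_c18_7, hz1, hz2, hz3, hz4, hz5, hz6, hz7] <;> first | ring1 | (field_simp; ring1) | field_simp
  have c1 : w 1 = 0 := by
    rw [hw]; simp only [h47_c5_0, h47_c5_1, h47_c5_2, h47_c5_3, h47_c5_4, h47_c5_5, h47_c5_6, h47_c5_7, h47_c18_0, h47_c18_1, h47_c18_2, h47_c18_3, h47_c18_4, h47_c18_5, h47_c18_6, h47_c18_7, hz1, hz2, hz3, hz4, hz5, hz6, hz7] <;> first | ring1 | (field_simp; ring1) | field_simp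
  have c2 : w 2 = 0 := by
    rw [hw]; simp only [h47_c5_0, h47_c5_1, h47_c5_2, h47_c5_3, h47_c5_4, h47_c5_5, h47_c5_6, h47_c5_7, h47_c18_0, h47_c18_1, h47_c18_2, h47_c18_3, h47_c18_4, h47_c18_5, h47_c18_6, h47_c18_7, hz1, hz2, hz3, hz4, hz5, hz6, hz7] <;> first | ring1 | (field_simp; ring1) | field_simp
  have c3 : w 3 = 0 := by
    rw [hw]; simp only [h47_c5_0, h47_c5_1, h47_c5_2, h47_c5_3, h47_c5_4, h47_c5_5, h47_c5_6, h47_c5_7, h47_c18_0, h47_c18_1, h47_c18_2, h47_c18_3, h47_c18_4, h47_c18_5, h47_c18_6, h47_c18_7, hz1, hz2, hz3, hz4, hz5, hz6, hz7] <;> first | ring1 | (field_simp; ring1) | field_simp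
  have c4 : w 4 = 0 := by
    rw [hw]; simp only [h47_c5_0, h47_c5_1, h47_c5_2, h47_c5_3, h47_c5_4, h47_c5_5, h47_c5_6, h47_c5_7, h47_c18_0, h47_c18_1, h47_c18_2, h47_c18_3, h47_c18_4, h47_c18_5, h47_c18_6, h47_c18_7, hz1, hz2, hz3, hz4, hz5, hz6, hz7] <;> first | ring1 | (field_simp; ring1) | field_simp
  have c5 : w 5 = 0 := by
    rw [hw]; simp only [h47_c5_0, h47_c5_1, h47_c5_2, h47_c5_3, h47_c5_4, h47_c5_5, h47_c5_6, h47_c5_7, h47_c18_0, h47_c18_1, h47_c18_2, h47_c18_3, h47_c18_4, h47_c18_5, h47_c18_6, h47_c18_7, hz1, hz2, hz3, hz4, hz5, hz6, hz7] <;> first | ring1 | (field_simp; ring1) | field_simp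
  have c6 : w 6 = 0 := by
    rw [hw]; simp only [h47_c5_0, h47_c5_1, h47_c5_2, h47_c5_3, h47_c5_4, h47_c5_5, h47_c5_6, h47_c5_7, h47_c18_0, h47_c18_1, h47_c18_2, h47_c18_3, h47_c18_4, h47_c18_5, h47_c18_6, h47_c18_7, hz1, hz2, hz3, hz4, hz5, hz6, hz7] <;> first | ring1 | (field_simp; ring1) | field_simp
  have c7 : w 7 = 0 := by
    rw [hw]; simp only [h47_c5_0, h47_c5_1, h47_c5_2, h47_c5_3, h47_c5_4, h47_c5_5, h47_c5_6, h47_c5_7, h47_c18_0, h47_c18_1, h47_c18_2, h47_c18_3, h47_c18_4, h47_c18_5, h47_c18_6, h47_c18_7, hz1, hz2, hz3, hz4, hz5, hz6, hz7] <;> first | ring1 | (field_simp; ring1) | field_simp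
  funext i; fin_cases i
  · show w 0 = (Pi.single 0 1 : Fin 8 → F) 0
    rw [c0]; exact (h47_single_same _).symm
  · show w 1 = (Pi.single 0 1 : Fin 8 → F) 1
    rw [c1]; exact (h47_single_ne 0 1 (by decide)).symm
  · show w 2 = (Pi.single 0 1 : Fin 8 → F) 2
    rw [c2]; exact (h47_single_ne 0 2 (by decide)).symm
  · show w 3 = (Pi.single 0 1 : Fin 8 → F) 3
    rw [c3]; exact (h47_single_ne 0 3 (by decide)).symm
  · show w 4 = (Pi.single 0 1 : Fin 8 → F) 4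
    rw [c4]; exact (h47_single_ne 0 4 (by decide)).symm
  · show w 5 = (Pi.single 0 1 : Fin 8 → F) 5
    rw [c5]; exact (h47_single_ne 0 5 (by decide)).symm
  · show w 6 = (Pi.single 0 1 : Fin 8 → F) 6
    rw [c6]; exact (h47_single_ne 0 6 (by decide)).symm
  · show w 7 = (Pi.single 0 1 : Fin 8 → F) 7
    rw [c7]; exact (h47_single_ne 0 7 (by decide)).symm

theorem h47_T1c_0 (u : Fin 8 → F) (hQ : Q8 u = 0)  (hk : u 0 ≠ 0) :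
    h47Mv (fun _ => False) u (Pi.single 0 1) := by
  apply h47Mv_step 5 (-(u 1 / u 0)) (fun i hi => hi.elim)
  apply h47Mv_step 4 (u 2 / u 0) (fun i hi => hi.elim)
  apply h47Mv_step 2 (-(u 3 / u 0)) (fun i hi => hi.elim)
  apply h47Mv_step 0 (-(u 5 / u 0)) (fun i hi => hi.elim)
  apply h47Mv_step 1 (-(u 6 / u 0)) (fun i hi => hi.elim)
  apply h47Mv_step 3 (-(u 7 / u 0)) (fun i hi => hi.elim)
  have hQ' : Q8 (X8 3 (-(u 7 / u 0)) *ᵥ (X8 1 (-(u 6 / u 0)) *ᵥ (X8 0 (-(u 5 / u 0)) *ᵥ (X8 2 (-(u 3 / u 0)) *ᵥ (X8 4 (u 2 / u 0) *ᵥ (X8 5 (-(u 1 / u 0)) *ᵥ u)))))) = 0 := by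
    rw [h47_Q, h47_Q, h47_Q, h47_Q, h47_Q, h47_Q]; exact hQ
  obtain ⟨w, hw⟩ : ∃ w, w = (X8 3 (-(u 7 / u 0)) *ᵥ (X8 1 (-(u 6 / u 0)) *ᵥ (X8 0 (-(u 5 / u 0)) *ᵥ (X8 2 (-(u 3 / u 0)) *ᵥ (X8 4 (u 2 / u 0) *ᵥ (X8 5 (-(u 1 / u 0)) *ᵥ u)))))) := ⟨_, rfl⟩
  rw [← hw] at hQ' ⊢
  have c0 : w 0 = u 0 := by
    rw [hw]; simp only [h47_c0_0, h47_c0_1, h47_c0_2, h47_c0_3, h47_c0_4, h47_c0_5, h47_c0_6, h47_c0_7, h47_c1_0, h47_c1_1, h47_c1_2, h47_c1_3, h47_c1_4, h47_c1_5, h47_c1_6, h47_c1_7, h47_c2_0, h47_c2_1, h47_c2_2, h47_c2_3, h47_c2_4, h47_c2_5, h47_c2_6, h47_c2_7, h47_c3_0, h47_c3_1, h47_c3_2, h47_c3_3, h47_c3_4, h47_c3_5, h47_c3_6, h47_c3_7, h47_c4_0, h47_c4_1, h47_c4_2, h47_c4_3, h47_c4_4, h47_c4_5, h47_c4_6, h47_c4_7, h47_c5_0, h47_c5_1, h47_c5_2, h47_c5_3, h47_c5_4, h47_c5_5, h47_c5_6, h47_c5_7]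
  have c1 : w 1 = 0 := by
    rw [hw]; simp only [h47_c0_0, h47_c0_1, h47_c0_2, h47_c0_3, h47_c0_4, h47_c0_5, h47_c0_6, h47_c0_7, h47_c1_0, h47_c1_1, h47_c1_2, h47_c1_3, h47_c1_4, h47_c1_5, h47_c1_6, h47_c1_7, h47_c2_0, h47_c2_1, h47_c2_2, h47_c2_3, h47_c2_4, h47_c2_5, h47_c2_6, h47_c2_7, h47_c3_0, h47_c3_1, h47_c3_2, h47_c3_3, h47_c3_4, h47_c3_5, h47_c3_6, h47_c3_7, h47_c4_0, h47_c4_1, h47_c4_2, h47_c4_3, h47_c4_4, h47_c4_5, h47_c4_6, h47_c4_7, h47_c5_0, h47_c5_1, h47_c5_2, h47_c5_3, h47_c5_4, h47_c5_5, h47_c5_6, h47_c5_7] <;> first | ring1 | (field_simp; ring1) | field_simp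
  have c2 : w 2 = 0 := by
    rw [hw]; simp only [h47_c0_0, h47_c0_1, h47_c0_2, h47_c0_3, h47_c0_4, h47_c0_5, h47_c0_6, h47_c0_7, h47_c1_0, h47_c1_1, h47_c1_2, h47_c1_3, h47_c1_4, h47_c1_5, h47_c1_6, h47_c1_7, h47_c2_0, h47_c2_1, h47_c2_2, h47_c2_3, h47_c2_4, h47_c2_5, h47_c2_6, h47_c2_7, h47_c3_0, h47_c3_1, h47_c3_2, h47_c3_3, h47_c3_4, h47_c3_5, h47_c3_6, h47_c3_7, h47_c4_0, h47_c4_1, h47_c4_2, h47_c4_3, h47_c4_4, h47_c4_5, h47_c4_6, h47_c4_7, h47_c5_0, h47_c5_1, h47_c5_2, h47_c5_3, h47_c5_4, h47_c5_5, h47_c5_6, h47_c5_7] <;> first | ring1 | (field_simp; ring1) | field_simp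
  have c3 : w 3 = 0 := by
    rw [hw]; simp only [h47_c0_0, h47_c0_1, h47_c0_2, h47_c0_3, h47_c0_4, h47_c0_5, h47_c0_6, h47_c0_7, h47_c1_0, h47_c1_1, h47_c1_2, h47_c1_3, h47_c1_4, h47_c1_5, h47_c1_6, h47_c1_7, h47_c2_0, h47_c2_1, h47_c2_2, h47_c2_3, h47_c2_4, h47_c2_5, h47_c2_6, h47_c2_7, h47_c3_0, h47_c3_1, h47_c3_2, h47_c3_3, h47_c3_4, h47_c3_5, h47_c3_6, h47_c3_7, h47_c4_0, h47_c4_1, h47_c4_2, h47_c4_3, h47_c4_4, h47_c4_5, h47_c4_6, h47_c4_7, h47_c5_0, h47_c5_1, h47_c5_2, h47_c5_3, h47_c5_4, h47_c5_5, h47_c5_6, h47_c5_7] <;> first | ring1 | (field_simp; ring1) | field_simp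
  have c5 : w 5 = 0 := by
    rw [hw]; simp only [h47_c0_0, h47_c0_1, h47_c0_2, h47_c0_3, h47_c0_4, h47_c0_5, h47_c0_6, h47_c0_7, h47_c1_0, h47_c1_1, h47_c1_2, h47_c1_3, h47_c1_4, h47_c1_5, h47_c1_6, h47_c1_7, h47_c2_0, h47_c2_1, h47_c2_2, h47_c2_3, h47_c2_4, h47_c2_5, h47_c2_6, h47_c2_7, h47_c3_0, h47_c3_1, h47_c3_2, h47_c3_3, h47_c3_4, h47_c3_5, h47_c3_6, h47_c3_7, h47_c4_0, h47_c4_1, h47_c4_2, h47_c4_3, h47_c4_4, h47_c4_5, h47_c4_6, h47_c4_7, h47_c5_0, h47_c5_1, h47_c5_2, h47_c5_3, h47_c5_4, h47_c5_5, h47_c5_6, h47_c5_7] <;> first | ring1 | (field_simp; ring1) | field_simp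
  have c6 : w 6 = 0 := by
    rw [hw]; simp only [h47_c0_0, h47_c0_1, h47_c0_2, h47_c0_3, h47_c0_4, h47_c0_5, h47_c0_6, h47_c0_7, h47_c1_0, h47_c1_1, h47_c1_2, h47_c1_3, h47_c1_4, h47_c1_5, h47_c1_6, h47_c1_7, h47_c2_0, h47_c2_1, h47_c2_2, h47_c2_3, h47_c2_4, h47_c2_5, h47_c2_6, h47_c2_7, h47_c3_0, h47_c3_1, h47_c3_2, h47_c3_3, h47_c3_4, h47_c3_5, h47_c3_6, h47_c3_7, h47_c4_0, h47_c4_1, h47_c4_2, h47_c4_3, h47_c4_4, h47_c4_5, h47_c4_6, h47_c4_7, h47_c5_0, h47_c5_1, h47_c5_2, h47_c5_3, h47_c5_4, h47_c5_5, h47_c5_6, h47_c5_7] <;> first | ring1 | (field_simp; ring1) | field_simp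
  have c7 : w 7 = 0 := by
    rw [hw]; simp only [h47_c0_0, h47_c0_1, h47_c0_2, h47_c0_3, h47_c0_4, h47_c0_5, h47_c0_6, h47_c0_7, h47_c1_0, h47_c1_1, h47_c1_2, h47_c1_3, h47_c1_4, h47_c1_5, h47_c1_6, h47_c1_7, h47_c2_0, h47_c2_1, h47_c2_2, h47_c2_3, h47_c2_4, h47_c2_5, h47_c2_6, h47_c2_7, h47_c3_0, h47_c3_1, h47_c3_2, h47_c3_3, h47_c3_4, h47_c3_5, h47_c3_6, h47_c3_7, h47_c4_0, h47_c4_1, h47_c4_2, h47_c4_3, h47_c4_4, h47_c4_5, h47_c4_6, h47_c4_7, h47_c5_0, h47_c5_1, h47_c5_2, h47_c5_3, h47_c5_4, h47_c5_5, h47_c5_6, h47_c5_7] <;> first | ring1 | (field_simp; ring1) | field_simp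
  have c4 : w 4 = 0 := by simpa [Q8, c0, c1, c2, c3, c5, c6, c7, hk] using hQ'
  exact h47_sc_0 w c1 c2 c3 c4 c5 c6 c7 (by rw [c0]; exact hk)

theorem h47_T1_0 (u : Fin 8 → F) (hu : u ≠ 0) (hQ : Q8 u = 0)  :
    h47Mv (fun _ => False) u (Pi.single 0 1) := by
  by_cases hx0 : u 0 = 0
  swap
  · exact h47_T1c_0 u hQ  hx0
  by_cases hx1 : u 1 = 0
  swap
  · apply h47Mv_step 18 1 (fun i hi => hi.elim)
    apply h47_T1c_0
    · rw [h47_Q]; exact hQ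
    · simpa [h47_c18_0, hx0] using hx1
  by_cases hx2 : u 2 = 0
  swap
  · apply h47Mv_step 19 1 (fun i hi => hi.elim)
    apply h47_T1c_0
    · rw [h47_Q]; exact hQ
    · simpa [h47_c19_0, hx0] using hx2
  by_cases hx3 : u 3 = 0
  swap
  · apply h47Mv_step 21 1 (fun i hi => hi.elim)
    apply h47_T1c_0
    · rw [h47_Q]; exact hQ
    · simpa [h47_c21_0, hx0] using hx3
  by_cases hy5 : u 5 = 0
  swap
  · apply h47Mv_step 23 1 (fun i hi => hi.elim)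
    apply h47_T1c_0
    · rw [h47_Q]; exact hQ
    · simpa [h47_c23_0, hx0] using hy5
  by_cases hy6 : u 6 = 0
  swap
  · apply h47Mv_step 22 1 (fun i hi => hi.elim)
    apply h47_T1c_0
    · rw [h47_Q]; exact hQ
    · simpa [h47_c22_0, hx0] using hy6
  by_cases hy7 : u 7 = 0
  swap
  · apply h47Mv_step 20 1 (fun i hi => hi.elim)
    apply h47_T1c_0
    · rw [h47_Q]; exact hQ
    · simpa [h47_c20_0, hx0] using hy7
  have hyk : u 4 ≠ 0 := by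
    intro h
    apply hu
    funext i; fin_cases i
    · exact hx0
    · exact hx1
    · exact hx2
    · exact hx3
    · exact h
    · exact hy5
    · exact hy6
    · exact hy7
  apply h47Mv_step 18 1 (fun i hi => hi.elim)
  apply h47Mv_step 23 1 (fun i hi => hi.elim)
  apply h47_T1c_0
  · rw [h47_Q, h47_Q]; exact hQ
  · simpa [h47_c18_0, h47_c18_1, h47_c18_2, h47_c18_3, h47_c18_4, h47_c18_5, h47_c18_6, h47_c18_7, h47_c23_0, h47_c23_1, h47_c23_2, h47_c23_3, h47_c23_4, h47_c23_5, h47_c23_6, h47_c23_7, hx0, hx1, hx2, hx3, hy5, hy6, hy7] using hyk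

end Cfsg.Agent.Lib.helper47.D4
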