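import Cfsg.Agent.Lib.helper95.D4Defs

/-!
# S1082 pieces T (helper47): root moves on the natural module of `Ω₈⁺(F)`

Explicit action of the root elements `X8 r t` on vectors, the units `h47Xu r t`, and the relation
`h47Mv S u v` ("an element of `Eg8 F` fixing the basis vectors `e_i`, `i ∈ S`, maps `u` to `v`").
-/

set_option autoImplicit false

namespace Cfsg.Agent.Lib.helper47.D4

open Matrix Cfsg Cfsg.Lie Cfsg.Agent.Lib.helper95.D4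

variable {F : Type*} [Field F]

theorem h47_single_ne (p i : Fin 8) (h : i ≠ p) : (Pi.single p 1 : Fin 8 → F) i = 0 :=
  Pi.single_eq_of_ne h _

theorem h47_single_same (p : Fin 8) : (Pi.single p 1 : Fin 8 → F) p = 1 :=
  Pi.single_eq_same _ _

theorem h47_mv0 (t : F) (u : Fin 8 → F) :
    X8 0 t *ᵥ u = ![u 0, u 1, u 2, u 3, u 4 - t * u 1, u 5 + t * u 0, u 6, u 7] := by
  funext i; fin_cases i <;> simp [X8, Matrix.mulVec, dotProduct, Fin.sum_univ_succ] <;> ring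

theorem h47_c0_0 (t : F) (u : Fin 8 → F) : (X8 0 t *ᵥ u) 0 = u 0 := by
  rw [h47_mv0]; rfl

theorem h47_c0_1 (t : F) (u : Fin 8 → F) : (X8 0 t *ᵥ u) 1 = u 1 := by
  rw [h47_mv0]; rfl

theorem h47_c0_2 (t : F) (u : Fin 8 → F) : (X8 0 t *ᵥ u) 2 = u 2 := by
  rw [h47_mv0]; rfl

theorem h47_c0_3 (t : F) (u : Fin 8 → F) : (X8 0 t *ᵥ u) 3 = u 3 := by
  rw [h47_mv0]; rfl

theorem h47_c0_4 (t : F) (u : Fin 8 → F) : (X8 0 t *ᵥ u) 4 = u 4 - t * u 1 := by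
  rw [h47_mv0]; rfl

theorem h47_c0_5 (t : F) (u : Fin 8 → F) : (X8 0 t *ᵥ u) 5 = u 5 + t * u 0 := by
  rw [h47_mv0]; rfl

theorem h47_c0_6 (t : F) (u : Fin 8 → F) : (X8 0 t *ᵥ u) 6 = u 6 := by
  rw [h47_mv0]; rfl

theorem h47_c0_7 (t : F) (u : Fin 8 → F) : (X8 0 t *ᵥ u) 7 = u 7 := by
  rw [h47_mv0]; rfl

theorem h47_mv1 (t : F) (u : Fin 8 → F) :
    X8 1 t *ᵥ u = ![u 0, u 1, u 2, u 3, u 4 - t * u 2, u 5, u 6 + t * u 0, u 7] := by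
  funext i; fin_cases i <;> simp [X8, Matrix.mulVec, dotProduct, Fin.sum_univ_succ] <;> ring

theorem h47_c1_0 (t : F) (u : Fin 8 → F) : (X8 1 t *ᵥ u) 0 = u 0 := by
  rw [h47_mv1]; rfl

theorem h47_c1_1 (t : F) (u : Fin 8 → F) : (X8 1 t *ᵥ u) 1 = u 1 := by
  rw [h47_mv1]; rfl

theorem h47_c1_2 (t : F) (u : Fin 8 → F) : (X8 1 t *ᵥ u) 2 = u 2 := by
  rw [h47_mv1]; rfl

theorem h47_c1_3 (t : F) (u : Fin 8 → F) : (X8 1 t *ᵥ u) 3 = u 3 := by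
  rw [h47_mv1]; rfl

theorem h47_c1_4 (t : F) (u : Fin 8 → F) : (X8 1 t *ᵥ u) 4 = u 4 - t * u 2 := by
  rw [h47_mv1]; rfl

theorem h47_c1_5 (t : F) (u : Fin 8 → F) : (X8 1 t *ᵥ u) 5 = u 5 := by
  rw [h47_mv1]; rfl

theorem h47_c1_6 (t : F) (u : Fin 8 → F) : (X8 1 t *ᵥ u) 6 = u 6 + t * u 0 := by
  rw [h47_mv1]; rfl

theorem h47_c1_7 (t : F) (u : Fin 8 → F) : (X8 1 t *ᵥ u) 7 = u 7 := by
  rw [h47_mv1]; rfl

theorem h47_mv2 (t : F) (u : Fin 8 → F) :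
    X8 2 t *ᵥ u = ![u 0, u 1, u 2, u 3 + t * u 0, u 4 - t * u 7, u 5, u 6, u 7] := by
  funext i; fin_cases i <;> simp [X8, Matrix.mulVec, dotProduct, Fin.sum_univ_succ] <;> ring

theorem h47_c2_0 (t : F) (u : Fin 8 → F) : (X8 2 t *ᵥ u) 0 = u 0 := by
  rw [h47_mv2]; rfl

theorem h47_c2_1 (t : F) (u : Fin 8 → F) : (X8 2 t *ᵥ u) 1 = u 1 := by
  rw [h47_mv2]; rfl

theorem h47_c2_2 (t : F) (u : Fin 8 → F) : (X8 2 t *ᵥ u) 2 = u 2 := by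
  rw [h47_mv2]; rfl

theorem h47_c2_3 (t : F) (u : Fin 8 → F) : (X8 2 t *ᵥ u) 3 = u 3 + t * u 0 := by
  rw [h47_mv2]; rfl

theorem h47_c2_4 (t : F) (u : Fin 8 → F) : (X8 2 t *ᵥ u) 4 = u 4 - t * u 7 := by
  rw [h47_mv2]; rfl

theorem h47_c2_5 (t : F) (u : Fin 8 → F) : (X8 2 t *ᵥ u) 5 = u 5 := by
  rw [h47_mv2]; rfl

theorem h47_c2_6 (t : F) (u : Fin 8 → F) : (X8 2 t *ᵥ u) 6 = u 6 := by
  rw [h47_mv2]; rfl

theorem h47_c2_7 (t : F) (u : Fin 8 → F) : (X8 2 t *ᵥ u) 7 = u 7 := by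
  rw [h47_mv2]; rfl

theorem h47_mv3 (t : F) (u : Fin 8 → F) :
    X8 3 t *ᵥ u = ![u 0, u 1, u 2, u 3, u 4 - t * u 3, u 5, u 6, u 7 + t * u 0] := by
  funext i; fin_cases i <;> simp [X8, Matrix.mulVec, dotProduct, Fin.sum_univ_succ] <;> ring

theorem h47_c3_0 (t : F) (u : Fin 8 → F) : (X8 3 t *ᵥ u) 0 = u 0 := by
  rw [h47_mv3]; rfl

theorem h47_c3_1 (t : F) (u : Fin 8 → F) : (X8 3 t *ᵥ u) 1 = u 1 := by
  rw [h47_mv3]; rfl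

theorem h47_c3_2 (t : F) (u : Fin 8 → F) : (X8 3 t *ᵥ u) 2 = u 2 := by
  rw [h47_mv3]; rfl

theorem h47_c3_3 (t : F) (u : Fin 8 → F) : (X8 3 t *ᵥ u) 3 = u 3 := by
  rw [h47_mv3]; rfl

theorem h47_c3_4 (t : F) (u : Fin 8 → F) : (X8 3 t *ᵥ u) 4 = u 4 - t * u 3 := by
  rw [h47_mv3]; rfl

theorem h47_c3_5 (t : F) (u : Fin 8 → F) : (X8 3 t *ᵥ u) 5 = u 5 := by
  rw [h47_mv3]; rfl

theorem h47_c3_6 (t : F) (u : Fin 8 → F) : (X8 3 t *ᵥ u) 6 = u 6 := by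
  rw [h47_mv3]; rfl

theorem h47_c3_7 (t : F) (u : Fin 8 → F) : (X8 3 t *ᵥ u) 7 = u 7 + t * u 0 := by
  rw [h47_mv3]; rfl

theorem h47_mv4 (t : F) (u : Fin 8 → F) :
    X8 4 t *ᵥ u = ![u 0, u 1, u 2 - t * u 0, u 3, u 4 + t * u 6, u 5, u 6, u 7] := by
  funext i; fin_cases i <;> simp [X8, Matrix.mulVec, dotProduct, Fin.sum_univ_succ] <;> ring

theorem h47_c4_0 (t : F) (u : Fin 8 → F) : (X8 4 t *ᵥ u) 0 = u 0 := by
  rw [h47_mv4]; rfl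

theorem h47_c4_1 (t : F) (u : Fin 8 → F) : (X8 4 t *ᵥ u) 1 = u 1 := by
  rw [h47_mv4]; rfl

theorem h47_c4_2 (t : F) (u : Fin 8 → F) : (X8 4 t *ᵥ u) 2 = u 2 - t * u 0 := by
  rw [h47_mv4]; rfl

theorem h47_c4_3 (t : F) (u : Fin 8 → F) : (X8 4 t *ᵥ u) 3 = u 3 := by
  rw [h47_mv4]; rfl

theorem h47_c4_4 (t : F) (u : Fin 8 → F) : (X8 4 t *ᵥ u) 4 = u 4 + t * u 6 := by
  rw [h47_mv4]; rfl

theorem h47_c4_5 (t : F) (u : Fin 8 → F) : (X8 4 t *ᵥ u) 5 = u 5 := by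
  rw [h47_mv4]; rfl

theorem h47_c4_6 (t : F) (u : Fin 8 → F) : (X8 4 t *ᵥ u) 6 = u 6 := by
  rw [h47_mv4]; rfl

theorem h47_c4_7 (t : F) (u : Fin 8 → F) : (X8 4 t *ᵥ u) 7 = u 7 := by
  rw [h47_mv4]; rfl

theorem h47_mv5 (t : F) (u : Fin 8 → F) :
    X8 5 t *ᵥ u = ![u 0, u 1 + t * u 0, u 2, u 3, u 4 - t * u 5, u 5, u 6, u 7] := by
  funext i; fin_cases i <;> simp [X8, Matrix.mulVec, dotProduct, Fin.sum_univ_succ] <;> ring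

theorem h47_c5_0 (t : F) (u : Fin 8 → F) : (X8 5 t *ᵥ u) 0 = u 0 := by
  rw [h47_mv5]; rfl

theorem h47_c5_1 (t : F) (u : Fin 8 → F) : (X8 5 t *ᵥ u) 1 = u 1 + t * u 0 := by
  rw [h47_mv5]; rfl

theorem h47_c5_2 (t : F) (u : Fin 8 → F) : (X8 5 t *ᵥ u) 2 = u 2 := by
  rw [h47_mv5]; rfl

theorem h47_c5_3 (t : F) (u : Fin 8 → F) : (X8 5 t *ᵥ u) 3 = u 3 := by
  rw [h47_mv5]; rfl

theorem h47_c5_4 (t : F) (u : Fin 8 → F) : (X8 5 t *ᵥ u) 4 = u 4 - t * u 5 := by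
  rw [h47_mv5]; rfl

theorem h47_c5_5 (t : F) (u : Fin 8 → F) : (X8 5 t *ᵥ u) 5 = u 5 := by
  rw [h47_mv5]; rfl

theorem h47_c5_6 (t : F) (u : Fin 8 → F) : (X8 5 t *ᵥ u) 6 = u 6 := by
  rw [h47_mv5]; rfl

theorem h47_c5_7 (t : F) (u : Fin 8 → F) : (X8 5 t *ᵥ u) 7 = u 7 := by
  rw [h47_mv5]; rfl

theorem h47_mv6 (t : F) (u : Fin 8 → F) :
    X8 6 t *ᵥ u = ![u 0, u 1, u 2, u 3, u 4, u 5 + t * u 2, u 6 - t * u 1, u 7] := by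
  funext i; fin_cases i <;> simp [X8, Matrix.mulVec, dotProduct, Fin.sum_univ_succ] <;> ring

theorem h47_c6_0 (t : F) (u : Fin 8 → F) : (X8 6 t *ᵥ u) 0 = u 0 := by
  rw [h47_mv6]; rfl

theorem h47_c6_1 (t : F) (u : Fin 8 → F) : (X8 6 t *ᵥ u) 1 = u 1 := by
  rw [h47_mv6]; rfl

theorem h47_c6_2 (t : F) (u : Fin 8 → F) : (X8 6 t *ᵥ u) 2 = u 2 := by
  rw [h47_mv6]; rfl

theorem h47_c6_3 (t : F) (u : Fin 8 → F) : (X8 6 t *ᵥ u) 3 = u 3 := by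
  rw [h47_mv6]; rfl

theorem h47_c6_4 (t : F) (u : Fin 8 → F) : (X8 6 t *ᵥ u) 4 = u 4 := by
  rw [h47_mv6]; rfl

theorem h47_c6_5 (t : F) (u : Fin 8 → F) : (X8 6 t *ᵥ u) 5 = u 5 + t * u 2 := by
  rw [h47_mv6]; rfl

theorem h47_c6_6 (t : F) (u : Fin 8 → F) : (X8 6 t *ᵥ u) 6 = u 6 - t * u 1 := by
  rw [h47_mv6]; rfl

theorem h47_c6_7 (t : F) (u : Fin 8 → F) : (X8 6 t *ᵥ u) 7 = u 7 := by
  rw [h47_mv6]; rfl

theorem h47_mv7 (t : F) (u : Fin 8 → F) :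
    X8 7 t *ᵥ u = ![u 0, u 1, u 2, u 3 - t * u 1, u 4, u 5 + t * u 7, u 6, u 7] := by
  funext i; fin_cases i <;> simp [X8, Matrix.mulVec, dotProduct, Fin.sum_univ_succ] <;> ring

theorem h47_c7_0 (t : F) (u : Fin 8 → F) : (X8 7 t *ᵥ u) 0 = u 0 := by
  rw [h47_mv7]; rfl

theorem h47_c7_1 (t : F) (u : Fin 8 → F) : (X8 7 t *ᵥ u) 1 = u 1 := by
  rw [h47_mv7]; rfl

theorem h47_c7_2 (t : F) (u : Fin 8 → F) : (X8 7 t *ᵥ u) 2 = u 2 := by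
  rw [h47_mv7]; rfl

theorem h47_c7_3 (t : F) (u : Fin 8 → F) : (X8 7 t *ᵥ u) 3 = u 3 - t * u 1 := by
  rw [h47_mv7]; rfl

theorem h47_c7_4 (t : F) (u : Fin 8 → F) : (X8 7 t *ᵥ u) 4 = u 4 := by
  rw [h47_mv7]; rfl

theorem h47_c7_5 (t : F) (u : Fin 8 → F) : (X8 7 t *ᵥ u) 5 = u 5 + t * u 7 := by
  rw [h47_mv7]; rfl

theorem h47_c7_6 (t : F) (u : Fin 8 → F) : (X8 7 t *ᵥ u) 6 = u 6 := by
  rw [h47_mv7]; rfl

theorem h47_c7_7 (t : F) (u : Fin 8 → F) : (X8 7 t *ᵥ u) 7 = u 7 := by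
  rw [h47_mv7]; rfl

theorem h47_mv8 (t : F) (u : Fin 8 → F) :
    X8 8 t *ᵥ u = ![u 0, u 1, u 2, u 3, u 4, u 5 + t * u 3, u 6, u 7 - t * u 1] := by
  funext i; fin_cases i <;> simp [X8, Matrix.mulVec, dotProduct, Fin.sum_univ_succ] <;> ring

theorem h47_c8_0 (t : F) (u : Fin 8 → F) : (X8 8 t *ᵥ u) 0 = u 0 := by
  rw [h47_mv8]; rfl

theorem h47_c8_1 (t : F) (u : Fin 8 → F) : (X8 8 t *ᵥ u) 1 = u 1 := by
  rw [h47_mv8]; rfl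

theorem h47_c8_2 (t : F) (u : Fin 8 → F) : (X8 8 t *ᵥ u) 2 = u 2 := by
  rw [h47_mv8]; rfl

theorem h47_c8_3 (t : F) (u : Fin 8 → F) : (X8 8 t *ᵥ u) 3 = u 3 := by
  rw [h47_mv8]; rfl

theorem h47_c8_4 (t : F) (u : Fin 8 → F) : (X8 8 t *ᵥ u) 4 = u 4 := by
  rw [h47_mv8]; rfl

theorem h47_c8_5 (t : F) (u : Fin 8 → F) : (X8 8 t *ᵥ u) 5 = u 5 + t * u 3 := by
  rw [h47_mv8]; rfl

theorem h47_c8_6 (t : F) (u : Fin 8 → F) : (X8 8 t *ᵥ u) 6 = u 6 := by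
  rw [h47_mv8]; rfl

theorem h47_c8_7 (t : F) (u : Fin 8 → F) : (X8 8 t *ᵥ u) 7 = u 7 - t * u 1 := by
  rw [h47_mv8]; rfl

theorem h47_mv9 (t : F) (u : Fin 8 → F) :
    X8 9 t *ᵥ u = ![u 0, u 1, u 2 + t * u 1, u 3, u 4, u 5 - t * u 6, u 6, u 7] := by
  funext i; fin_cases i <;> simp [X8, Matrix.mulVec, dotProduct, Fin.sum_univ_succ] <;> ring

theorem h47_c9_0 (t : F) (u : Fin 8 → F) : (X8 9 t *ᵥ u) 0 = u 0 := by
  rw [h47_mv9]; rfl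

theorem h47_c9_1 (t : F) (u : Fin 8 → F) : (X8 9 t *ᵥ u) 1 = u 1 := by
  rw [h47_mv9]; rfl

theorem h47_c9_2 (t : F) (u : Fin 8 → F) : (X8 9 t *ᵥ u) 2 = u 2 + t * u 1 := by
  rw [h47_mv9]; rfl

theorem h47_c9_3 (t : F) (u : Fin 8 → F) : (X8 9 t *ᵥ u) 3 = u 3 := by
  rw [h47_mv9]; rfl

theorem h47_c9_4 (t : F) (u : Fin 8 → F) : (X8 9 t *ᵥ u) 4 = u 4 := by
  rw [h47_mv9]; rfl

theorem h47_c9_5 (t : F) (u : Fin 8 → F) : (X8 9 t *ᵥ u) 5 = u 5 - t * u 6 := by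
  rw [h47_mv9]; rfl

theorem h47_c9_6 (t : F) (u : Fin 8 → F) : (X8 9 t *ᵥ u) 6 = u 6 := by
  rw [h47_mv9]; rfl

theorem h47_c9_7 (t : F) (u : Fin 8 → F) : (X8 9 t *ᵥ u) 7 = u 7 := by
  rw [h47_mv9]; rfl

theorem h47_mv10 (t : F) (u : Fin 8 → F) :
    X8 10 t *ᵥ u = ![u 0, u 1, u 2, u 3 + t * u 2, u 4, u 5, u 6 - t * u 7, u 7] := by
  funext i; fin_cases i <;> simp [X8, Matrix.mulVec, dotProduct, Fin.sum_univ_succ] <;> ring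

theorem h47_c10_0 (t : F) (u : Fin 8 → F) : (X8 10 t *ᵥ u) 0 = u 0 := by
  rw [h47_mv10]; rfl

theorem h47_c10_1 (t : F) (u : Fin 8 → F) : (X8 10 t *ᵥ u) 1 = u 1 := by
  rw [h47_mv10]; rfl

theorem h47_c10_2 (t : F) (u : Fin 8 → F) : (X8 10 t *ᵥ u) 2 = u 2 := by
  rw [h47_mv10]; rfl

theorem h47_c10_3 (t : F) (u : Fin 8 → F) : (X8 10 t *ᵥ u) 3 = u 3 + t * u 2 := by
  rw [h47_mv10]; rfl

theorem h47_c10_4 (t : F) (u : Fin 8 → F) : (X8 10 t *ᵥ u) 4 = u 4 := by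
  rw [h47_mv10]; rfl

theorem h47_c10_5 (t : F) (u : Fin 8 → F) : (X8 10 t *ᵥ u) 5 = u 5 := by
  rw [h47_mv10]; rfl

theorem h47_c10_6 (t : F) (u : Fin 8 → F) : (X8 10 t *ᵥ u) 6 = u 6 - t * u 7 := by
  rw [h47_mv10]; rfl

theorem h47_c10_7 (t : F) (u : Fin 8 → F) : (X8 10 t *ᵥ u) 7 = u 7 := by
  rw [h47_mv10]; rfl

theorem h47_mv11 (t : F) (u : Fin 8 → F) :
    X8 11 t *ᵥ u = ![u 0, u 1, u 2, u 3, u 4, u 5, u 6 - t * u 3, u 7 + t * u 2] := by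
  funext i; fin_cases i <;> simp [X8, Matrix.mulVec, dotProduct, Fin.sum_univ_succ] <;> ring

theorem h47_c11_0 (t : F) (u : Fin 8 → F) : (X8 11 t *ᵥ u) 0 = u 0 := by
  rw [h47_mv11]; rfl

theorem h47_c11_1 (t : F) (u : Fin 8 → F) : (X8 11 t *ᵥ u) 1 = u 1 := by
  rw [h47_mv11]; rfl

theorem h47_c11_2 (t : F) (u : Fin 8 → F) : (X8 11 t *ᵥ u) 2 = u 2 := by
  rw [h47_mv11]; rfl

theorem h47_c11_3 (t : F) (u : Fin 8 → F) : (X8 11 t *ᵥ u) 3 = u 3 := by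
  rw [h47_mv11]; rfl

theorem h47_c11_4 (t : F) (u : Fin 8 → F) : (X8 11 t *ᵥ u) 4 = u 4 := by
  rw [h47_mv11]; rfl

theorem h47_c11_5 (t : F) (u : Fin 8 → F) : (X8 11 t *ᵥ u) 5 = u 5 := by
  rw [h47_mv11]; rfl

theorem h47_c11_6 (t : F) (u : Fin 8 → F) : (X8 11 t *ᵥ u) 6 = u 6 - t * u 3 := by
  rw [h47_mv11]; rfl

theorem h47_c11_7 (t : F) (u : Fin 8 → F) : (X8 11 t *ᵥ u) 7 = u 7 + t * u 2 := by
  rw [h47_mv11]; rfl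

theorem h47_mv12 (t : F) (u : Fin 8 → F) :
    X8 12 t *ᵥ u = ![u 0, u 1, u 2 + t * u 7, u 3 - t * u 6, u 4, u 5, u 6, u 7] := by
  funext i; fin_cases i <;> simp [X8, Matrix.mulVec, dotProduct, Fin.sum_univ_succ] <;> ring

theorem h47_c12_0 (t : F) (u : Fin 8 → F) : (X8 12 t *ᵥ u) 0 = u 0 := by
  rw [h47_mv12]; rfl

theorem h47_c12_1 (t : F) (u : Fin 8 → F) : (X8 12 t *ᵥ u) 1 = u 1 := by
  rw [h47_mv12]; rfl

theorem h47_c12_2 (t : F) (u : Fin 8 → F) : (X8 12 t *ᵥ u) 2 = u 2 + t * u 7 := by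
  rw [h47_mv12]; rfl

theorem h47_c12_3 (t : F) (u : Fin 8 → F) : (X8 12 t *ᵥ u) 3 = u 3 - t * u 6 := by
  rw [h47_mv12]; rfl

theorem h47_c12_4 (t : F) (u : Fin 8 → F) : (X8 12 t *ᵥ u) 4 = u 4 := by
  rw [h47_mv12]; rfl

theorem h47_c12_5 (t : F) (u : Fin 8 → F) : (X8 12 t *ᵥ u) 5 = u 5 := by
  rw [h47_mv12]; rfl

theorem h47_c12_6 (t : F) (u : Fin 8 → F) : (X8 12 t *ᵥ u) 6 = u 6 := by
  rw [h47_mv12]; rfl

theorem h47_c12_7 (t : F) (u : Fin 8 → F) : (X8 12 t *ᵥ u) 7 = u 7 := by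
  rw [h47_mv12]; rfl

theorem h47_mv13 (t : F) (u : Fin 8 → F) :
    X8 13 t *ᵥ u = ![u 0, u 1, u 2 + t * u 3, u 3, u 4, u 5, u 6, u 7 - t * u 6] := by
  funext i; fin_cases i <;> simp [X8, Matrix.mulVec, dotProduct, Fin.sum_univ_succ] <;> ring

theorem h47_c13_0 (t : F) (u : Fin 8 → F) : (X8 13 t *ᵥ u) 0 = u 0 := by
  rw [h47_mv13]; rfl

theorem h47_c13_1 (t : F) (u : Fin 8 → F) : (X8 13 t *ᵥ u) 1 = u 1 := by
  rw [h47_mv13]; rfl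

theorem h47_c13_2 (t : F) (u : Fin 8 → F) : (X8 13 t *ᵥ u) 2 = u 2 + t * u 3 := by
  rw [h47_mv13]; rfl

theorem h47_c13_3 (t : F) (u : Fin 8 → F) : (X8 13 t *ᵥ u) 3 = u 3 := by
  rw [h47_mv13]; rfl

theorem h47_c13_4 (t : F) (u : Fin 8 → F) : (X8 13 t *ᵥ u) 4 = u 4 := by
  rw [h47_mv13]; rfl

theorem h47_c13_5 (t : F) (u : Fin 8 → F) : (X8 13 t *ᵥ u) 5 = u 5 := by
  rw [h47_mv13]; rfl

theorem h47_c13_6 (t : F) (u : Fin 8 → F) : (X8 13 t *ᵥ u) 6 = u 6 := by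
  rw [h47_mv13]; rfl

theorem h47_c13_7 (t : F) (u : Fin 8 → F) : (X8 13 t *ᵥ u) 7 = u 7 - t * u 6 := by
  rw [h47_mv13]; rfl

theorem h47_mv14 (t : F) (u : Fin 8 → F) :
    X8 14 t *ᵥ u = ![u 0, u 1 + t * u 2, u 2, u 3, u 4, u 5, u 6 - t * u 5, u 7] := by
  funext i; fin_cases i <;> simp [X8, Matrix.mulVec, dotProduct, Fin.sum_univ_succ] <;> ring

theorem h47_c14_0 (t : F) (u : Fin 8 → F) : (X8 14 t *ᵥ u) 0 = u 0 := by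
  rw [h47_mv14]; rfl

theorem h47_c14_1 (t : F) (u : Fin 8 → F) : (X8 14 t *ᵥ u) 1 = u 1 + t * u 2 := by
  rw [h47_mv14]; rfl

theorem h47_c14_2 (t : F) (u : Fin 8 → F) : (X8 14 t *ᵥ u) 2 = u 2 := by
  rw [h47_mv14]; rfl

theorem h47_c14_3 (t : F) (u : Fin 8 → F) : (X8 14 t *ᵥ u) 3 = u 3 := by
  rw [h47_mv14]; rfl

theorem h47_c14_4 (t : F) (u : Fin 8 → F) : (X8 14 t *ᵥ u) 4 = u 4 := by
  rw [h47_mv14]; rfl

theorem h47_c14_5 (t : F) (u : Fin 8 → F) : (X8 14 t *ᵥ u) 5 = u 5 := by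
  rw [h47_mv14]; rfl

theorem h47_c14_6 (t : F) (u : Fin 8 → F) : (X8 14 t *ᵥ u) 6 = u 6 - t * u 5 := by
  rw [h47_mv14]; rfl

theorem h47_c14_7 (t : F) (u : Fin 8 → F) : (X8 14 t *ᵥ u) 7 = u 7 := by
  rw [h47_mv14]; rfl

theorem h47_mv15 (t : F) (u : Fin 8 → F) :
    X8 15 t *ᵥ u = ![u 0, u 1 - t * u 7, u 2, u 3 + t * u 5, u 4, u 5, u 6, u 7] := by
  funext i; fin_cases i <;> simp [X8, Matrix.mulVec, dotProduct, Fin.sum_univ_succ] <;> ring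

theorem h47_c15_0 (t : F) (u : Fin 8 → F) : (X8 15 t *ᵥ u) 0 = u 0 := by
  rw [h47_mv15]; rfl

theorem h47_c15_1 (t : F) (u : Fin 8 → F) : (X8 15 t *ᵥ u) 1 = u 1 - t * u 7 := by
  rw [h47_mv15]; rfl

theorem h47_c15_2 (t : F) (u : Fin 8 → F) : (X8 15 t *ᵥ u) 2 = u 2 := by
  rw [h47_mv15]; rfl

theorem h47_c15_3 (t : F) (u : Fin 8 → F) : (X8 15 t *ᵥ u) 3 = u 3 + t * u 5 := by
  rw [h47_mv15]; rfl

theorem h47_c15_4 (t : F) (u : Fin 8 → F) : (X8 15 t *ᵥ u) 4 = u 4 := by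
  rw [h47_mv15]; rfl

theorem h47_c15_5 (t : F) (u : Fin 8 → F) : (X8 15 t *ᵥ u) 5 = u 5 := by
  rw [h47_mv15]; rfl

theorem h47_c15_6 (t : F) (u : Fin 8 → F) : (X8 15 t *ᵥ u) 6 = u 6 := by
  rw [h47_mv15]; rfl

theorem h47_c15_7 (t : F) (u : Fin 8 → F) : (X8 15 t *ᵥ u) 7 = u 7 := by
  rw [h47_mv15]; rfl

theorem h47_mv16 (t : F) (u : Fin 8 → F) :
    X8 16 t *ᵥ u = ![u 0, u 1 - t * u 3, u 2, u 3, u 4, u 5, u 6, u 7 + t * u 5] := by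
  funext i; fin_cases i <;> simp [X8, Matrix.mulVec, dotProduct, Fin.sum_univ_succ] <;> ring

theorem h47_c16_0 (t : F) (u : Fin 8 → F) : (X8 16 t *ᵥ u) 0 = u 0 := by
  rw [h47_mv16]; rfl

theorem h47_c16_1 (t : F) (u : Fin 8 → F) : (X8 16 t *ᵥ u) 1 = u 1 - t * u 3 := by
  rw [h47_mv16]; rfl

theorem h47_c16_2 (t : F) (u : Fin 8 → F) : (X8 16 t *ᵥ u) 2 = u 2 := by
  rw [h47_mv16]; rfl

theorem h47_c16_3 (t : F) (u : Fin 8 → F) : (X8 16 t *ᵥ u) 3 = u 3 := by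
  rw [h47_mv16]; rfl

theorem h47_c16_4 (t : F) (u : Fin 8 → F) : (X8 16 t *ᵥ u) 4 = u 4 := by
  rw [h47_mv16]; rfl

theorem h47_c16_5 (t : F) (u : Fin 8 → F) : (X8 16 t *ᵥ u) 5 = u 5 := by
  rw [h47_mv16]; rfl

theorem h47_c16_6 (t : F) (u : Fin 8 → F) : (X8 16 t *ᵥ u) 6 = u 6 := by
  rw [h47_mv16]; rfl

theorem h47_c16_7 (t : F) (u : Fin 8 → F) : (X8 16 t *ᵥ u) 7 = u 7 + t * u 5 := by
  rw [h47_mv16]; rfl

theorem h47_mv17 (t : F) (u : Fin 8 → F) :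
    X8 17 t *ᵥ u = ![u 0, u 1 - t * u 6, u 2 + t * u 5, u 3, u 4, u 5, u 6, u 7] := by
  funext i; fin_cases i <;> simp [X8, Matrix.mulVec, dotProduct, Fin.sum_univ_succ] <;> ring

theorem h47_c17_0 (t : F) (u : Fin 8 → F) : (X8 17 t *ᵥ u) 0 = u 0 := by
  rw [h47_mv17]; rfl

theorem h47_c17_1 (t : F) (u : Fin 8 → F) : (X8 17 t *ᵥ u) 1 = u 1 - t * u 6 := by
  rw [h47_mv17]; rfl

theorem h47_c17_2 (t : F) (u : Fin 8 → F) : (X8 17 t *ᵥ u) 2 = u 2 + t * u 5 := by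
  rw [h47_mv17]; rfl

theorem h47_c17_3 (t : F) (u : Fin 8 → F) : (X8 17 t *ᵥ u) 3 = u 3 := by
  rw [h47_mv17]; rfl

theorem h47_c17_4 (t : F) (u : Fin 8 → F) : (X8 17 t *ᵥ u) 4 = u 4 := by
  rw [h47_mv17]; rfl

theorem h47_c17_5 (t : F) (u : Fin 8 → F) : (X8 17 t *ᵥ u) 5 = u 5 := by
  rw [h47_mv17]; rfl

theorem h47_c17_6 (t : F) (u : Fin 8 → F) : (X8 17 t *ᵥ u) 6 = u 6 := by
  rw [h47_mv17]; rfl

theorem h47_c17_7 (t : F) (u : Fin 8 → F) : (X8 17 t *ᵥ u) 7 = u 7 := by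
  rw [h47_mv17]; rfl

theorem h47_mv18 (t : F) (u : Fin 8 → F) :
    X8 18 t *ᵥ u = ![u 0 + t * u 1, u 1, u 2, u 3, u 4, u 5 - t * u 4, u 6, u 7] := by
  funext i; fin_cases i <;> simp [X8, Matrix.mulVec, dotProduct, Fin.sum_univ_succ] <;> ring

theorem h47_c18_0 (t : F) (u : Fin 8 → F) : (X8 18 t *ᵥ u) 0 = u 0 + t * u 1 := by
  rw [h47_mv18]; rfl

theorem h47_c18_1 (t : F) (u : Fin 8 → F) : (X8 18 t *ᵥ u) 1 = u 1 := by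
  rw [h47_mv18]; rfl

theorem h47_c18_2 (t : F) (u : Fin 8 → F) : (X8 18 t *ᵥ u) 2 = u 2 := by
  rw [h47_mv18]; rfl

theorem h47_c18_3 (t : F) (u : Fin 8 → F) : (X8 18 t *ᵥ u) 3 = u 3 := by
  rw [h47_mv18]; rfl

theorem h47_c18_4 (t : F) (u : Fin 8 → F) : (X8 18 t *ᵥ u) 4 = u 4 := by
  rw [h47_mv18]; rfl

theorem h47_c18_5 (t : F) (u : Fin 8 → F) : (X8 18 t *ᵥ u) 5 = u 5 - t * u 4 := by
  rw [h47_mv18]; rfl

theorem h47_c18_6 (t : F) (u : Fin 8 → F) : (X8 18 t *ᵥ u) 6 = u 6 := by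
  rw [h47_mv18]; rfl

theorem h47_c18_7 (t : F) (u : Fin 8 → F) : (X8 18 t *ᵥ u) 7 = u 7 := by
  rw [h47_mv18]; rfl

theorem h47_mv19 (t : F) (u : Fin 8 → F) :
    X8 19 t *ᵥ u = ![u 0 - t * u 2, u 1, u 2, u 3, u 4, u 5, u 6 + t * u 4, u 7] := by
  funext i; fin_cases i <;> simp [X8, Matrix.mulVec, dotProduct, Fin.sum_univ_succ] <;> ring

theorem h47_c19_0 (t : F) (u : Fin 8 → F) : (X8 19 t *ᵥ u) 0 = u 0 - t * u 2 := by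
  rw [h47_mv19]; rfl

theorem h47_c19_1 (t : F) (u : Fin 8 → F) : (X8 19 t *ᵥ u) 1 = u 1 := by
  rw [h47_mv19]; rfl

theorem h47_c19_2 (t : F) (u : Fin 8 → F) : (X8 19 t *ᵥ u) 2 = u 2 := by
  rw [h47_mv19]; rfl

theorem h47_c19_3 (t : F) (u : Fin 8 → F) : (X8 19 t *ᵥ u) 3 = u 3 := by
  rw [h47_mv19]; rfl

theorem h47_c19_4 (t : F) (u : Fin 8 → F) : (X8 19 t *ᵥ u) 4 = u 4 := by
  rw [h47_mv19]; rfl

theorem h47_c19_5 (t : F) (u : Fin 8 → F) : (X8 19 t *ᵥ u) 5 = u 5 := by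
  rw [h47_mv19]; rfl

theorem h47_c19_6 (t : F) (u : Fin 8 → F) : (X8 19 t *ᵥ u) 6 = u 6 + t * u 4 := by
  rw [h47_mv19]; rfl

theorem h47_c19_7 (t : F) (u : Fin 8 → F) : (X8 19 t *ᵥ u) 7 = u 7 := by
  rw [h47_mv19]; rfl

theorem h47_mv20 (t : F) (u : Fin 8 → F) :
    X8 20 t *ᵥ u = ![u 0 + t * u 7, u 1, u 2, u 3 - t * u 4, u 4, u 5, u 6, u 7] := by
  funext i; fin_cases i <;> simp [X8, Matrix.mulVec, dotProduct, Fin.sum_univ_succ] <;> ring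

theorem h47_c20_0 (t : F) (u : Fin 8 → F) : (X8 20 t *ᵥ u) 0 = u 0 + t * u 7 := by
  rw [h47_mv20]; rfl

theorem h47_c20_1 (t : F) (u : Fin 8 → F) : (X8 20 t *ᵥ u) 1 = u 1 := by
  rw [h47_mv20]; rfl

theorem h47_c20_2 (t : F) (u : Fin 8 → F) : (X8 20 t *ᵥ u) 2 = u 2 := by
  rw [h47_mv20]; rfl

theorem h47_c20_3 (t : F) (u : Fin 8 → F) : (X8 20 t *ᵥ u) 3 = u 3 - t * u 4 := by
  rw [h47_mv20]; rfl

theorem h47_c20_4 (t : F) (u : Fin 8 → F) : (X8 20 t *ᵥ u) 4 = u 4 := by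
  rw [h47_mv20]; rfl

theorem h47_c20_5 (t : F) (u : Fin 8 → F) : (X8 20 t *ᵥ u) 5 = u 5 := by
  rw [h47_mv20]; rfl

theorem h47_c20_6 (t : F) (u : Fin 8 → F) : (X8 20 t *ᵥ u) 6 = u 6 := by
  rw [h47_mv20]; rfl

theorem h47_c20_7 (t : F) (u : Fin 8 → F) : (X8 20 t *ᵥ u) 7 = u 7 := by
  rw [h47_mv20]; rfl

theorem h47_mv21 (t : F) (u : Fin 8 → F) :
    X8 21 t *ᵥ u = ![u 0 + t * u 3, u 1, u 2, u 3, u 4, u 5, u 6, u 7 - t * u 4] := by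
  funext i; fin_cases i <;> simp [X8, Matrix.mulVec, dotProduct, Fin.sum_univ_succ] <;> ring

theorem h47_c21_0 (t : F) (u : Fin 8 → F) : (X8 21 t *ᵥ u) 0 = u 0 + t * u 3 := by
  rw [h47_mv21]; rfl

theorem h47_c21_1 (t : F) (u : Fin 8 → F) : (X8 21 t *ᵥ u) 1 = u 1 := by
  rw [h47_mv21]; rfl

theorem h47_c21_2 (t : F) (u : Fin 8 → F) : (X8 21 t *ᵥ u) 2 = u 2 := by
  rw [h47_mv21]; rfl

theorem h47_c21_3 (t : F) (u : Fin 8 → F) : (X8 21 t *ᵥ u) 3 = u 3 := by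
  rw [h47_mv21]; rfl

theorem h47_c21_4 (t : F) (u : Fin 8 → F) : (X8 21 t *ᵥ u) 4 = u 4 := by
  rw [h47_mv21]; rfl

theorem h47_c21_5 (t : F) (u : Fin 8 → F) : (X8 21 t *ᵥ u) 5 = u 5 := by
  rw [h47_mv21]; rfl

theorem h47_c21_6 (t : F) (u : Fin 8 → F) : (X8 21 t *ᵥ u) 6 = u 6 := by
  rw [h47_mv21]; rfl

theorem h47_c21_7 (t : F) (u : Fin 8 → F) : (X8 21 t *ᵥ u) 7 = u 7 - t * u 4 := by
  rw [h47_mv21]; rfl

theorem h47_mv22 (t : F) (u : Fin 8 → F) :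
    X8 22 t *ᵥ u = ![u 0 + t * u 6, u 1, u 2 - t * u 4, u 3, u 4, u 5, u 6, u 7] := by
  funext i; fin_cases i <;> simp [X8, Matrix.mulVec, dotProduct, Fin.sum_univ_succ] <;> ring

theorem h47_c22_0 (t : F) (u : Fin 8 → F) : (X8 22 t *ᵥ u) 0 = u 0 + t * u 6 := by
  rw [h47_mv22]; rfl

theorem h47_c22_1 (t : F) (u : Fin 8 → F) : (X8 22 t *ᵥ u) 1 = u 1 := by
  rw [h47_mv22]; rfl

theorem h47_c22_2 (t : F) (u : Fin 8 → F) : (X8 22 t *ᵥ u) 2 = u 2 - t * u 4 := by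
  rw [h47_mv22]; rfl

theorem h47_c22_3 (t : F) (u : Fin 8 → F) : (X8 22 t *ᵥ u) 3 = u 3 := by
  rw [h47_mv22]; rfl

theorem h47_c22_4 (t : F) (u : Fin 8 → F) : (X8 22 t *ᵥ u) 4 = u 4 := by
  rw [h47_mv22]; rfl

theorem h47_c22_5 (t : F) (u : Fin 8 → F) : (X8 22 t *ᵥ u) 5 = u 5 := by
  rw [h47_mv22]; rfl

theorem h47_c22_6 (t : F) (u : Fin 8 → F) : (X8 22 t *ᵥ u) 6 = u 6 := by
  rw [h47_mv22]; rfl

theorem h47_c22_7 (t : F) (u : Fin 8 → F) : (X8 22 t *ᵥ u) 7 = u 7 := by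
  rw [h47_mv22]; rfl

theorem h47_mv23 (t : F) (u : Fin 8 → F) :
    X8 23 t *ᵥ u = ![u 0 + t * u 5, u 1 - t * u 4, u 2, u 3, u 4, u 5, u 6, u 7] := by
  funext i; fin_cases i <;> simp [X8, Matrix.mulVec, dotProduct, Fin.sum_univ_succ] <;> ring

theorem h47_c23_0 (t : F) (u : Fin 8 → F) : (X8 23 t *ᵥ u) 0 = u 0 + t * u 5 := by
  rw [h47_mv23]; rfl

theorem h47_c23_1 (t : F) (u : Fin 8 → F) : (X8 23 t *ᵥ u) 1 = u 1 - t * u 4 := by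
  rw [h47_mv23]; rfl

theorem h47_c23_2 (t : F) (u : Fin 8 → F) : (X8 23 t *ᵥ u) 2 = u 2 := by
  rw [h47_mv23]; rfl

theorem h47_c23_3 (t : F) (u : Fin 8 → F) : (X8 23 t *ᵥ u) 3 = u 3 := by
  rw [h47_mv23]; rfl

theorem h47_c23_4 (t : F) (u : Fin 8 → F) : (X8 23 t *ᵥ u) 4 = u 4 := by
  rw [h47_mv23]; rfl

theorem h47_c23_5 (t : F) (u : Fin 8 → F) : (X8 23 t *ᵥ u) 5 = u 5 := by
  rw [h47_mv23]; rfl

theorem h47_c23_6 (t : F) (u : Fin 8 → F) : (X8 23 t *ᵥ u) 6 = u 6 := by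
  rw [h47_mv23]; rfl

theorem h47_c23_7 (t : F) (u : Fin 8 → F) : (X8 23 t *ᵥ u) 7 = u 7 := by
  rw [h47_mv23]; rfl

/-- the root elements preserve `Q8` -/
theorem h47_Q (r : Fin 24) (t : F) (v : Fin 8 → F) : Q8 (X8 r t *ᵥ v) = Q8 v := by
  fin_cases r
  · show Q8 (X8 0 t *ᵥ v) = Q8 v
    rw [h47_mv0]; simp [Q8]; ring
  · show Q8 (X8 1 t *ᵥ v) = Q8 v
    rw [h47_mv1]; simp [Q8]; ring
  · show Q8 (X8 2 t *ᵥ v) = Q8 v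
    rw [h47_mv2]; simp [Q8]; ring
  · show Q8 (X8 3 t *ᵥ v) = Q8 v
    rw [h47_mv3]; simp [Q8]; ring
  · show Q8 (X8 4 t *ᵥ v) = Q8 v
    rw [h47_mv4]; simp [Q8]; ring
  · show Q8 (X8 5 t *ᵥ v) = Q8 v
    rw [h47_mv5]; simp [Q8]; ring
  · show Q8 (X8 6 t *ᵥ v) = Q8 v
    rw [h47_mv6]; simp [Q8]; ring
  · show Q8 (X8 7 t *ᵥ v) = Q8 v
    rw [h47_mv7]; simp [Q8]; ring
  · show Q8 (X8 8 t *ᵥ v) = Q8 v
    rw [h47_mv8]; simp [Q8]; ring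
  · show Q8 (X8 9 t *ᵥ v) = Q8 v
    rw [h47_mv9]; simp [Q8]; ring
  · show Q8 (X8 10 t *ᵥ v) = Q8 v
    rw [h47_mv10]; simp [Q8]; ring
  · show Q8 (X8 11 t *ᵥ v) = Q8 v
    rw [h47_mv11]; simp [Q8]; ring
  · show Q8 (X8 12 t *ᵥ v) = Q8 v
    rw [h47_mv12]; simp [Q8]; ring
  · show Q8 (X8 13 t *ᵥ v) = Q8 v
    rw [h47_mv13]; simp [Q8]; ring
  · show Q8 (X8 14 t *ᵥ v) = Q8 v
    rw [h47_mv14]; simp [Q8]; ring
  · show Q8 (X8 15 t *ᵥ v) = Q8 v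
    rw [h47_mv15]; simp [Q8]; ring
  · show Q8 (X8 16 t *ᵥ v) = Q8 v
    rw [h47_mv16]; simp [Q8]; ring
  · show Q8 (X8 17 t *ᵥ v) = Q8 v
    rw [h47_mv17]; simp [Q8]; ring
  · show Q8 (X8 18 t *ᵥ v) = Q8 v
    rw [h47_mv18]; simp [Q8]; ring
  · show Q8 (X8 19 t *ᵥ v) = Q8 v
    rw [h47_mv19]; simp [Q8]; ring
  · show Q8 (X8 20 t *ᵥ v) = Q8 v
    rw [h47_mv20]; simp [Q8]; ring
  · show Q8 (X8 21 t *ᵥ v) = Q8 v
    rw [h47_mv21]; simp [Q8]; ring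
  · show Q8 (X8 22 t *ᵥ v) = Q8 v
    rw [h47_mv22]; simp [Q8]; ring
  · show Q8 (X8 23 t *ᵥ v) = Q8 v
    rw [h47_mv23]; simp [Q8]; ring

theorem h47_mulVec_inv (r : Fin 24) (t : F) (v : Fin 8 → F) :
    X8 r (-t) *ᵥ (X8 r t *ᵥ v) = v := by
  fin_cases r
  · show X8 0 (-t) *ᵥ (X8 0 t *ᵥ v) = v
    rw [h47_mv0, h47_mv0]
    funext i; fin_cases i <;> simp
  · show X8 1 (-t) *ᵥ (X8 1 t *ᵥ v) = v
    rw [h47_mv1, h47_mv1]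
    funext i; fin_cases i <;> simp
  · show X8 2 (-t) *ᵥ (X8 2 t *ᵥ v) = v
    rw [h47_mv2, h47_mv2]
    funext i; fin_cases i <;> simp
  · show X8 3 (-t) *ᵥ (X8 3 t *ᵥ v) = v
    rw [h47_mv3, h47_mv3]
    funext i; fin_cases i <;> simp
  · show X8 4 (-t) *ᵥ (X8 4 t *ᵥ v) = v
    rw [h47_mv4, h47_mv4]
    funext i; fin_cases i <;> simp
  · show X8 5 (-t) *ᵥ (X8 5 t *ᵥ v) = v
    rw [h47_mv5, h47_mv5]
    funext i; fin_cases i <;> simp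
  · show X8 6 (-t) *ᵥ (X8 6 t *ᵥ v) = v
    rw [h47_mv6, h47_mv6]
    funext i; fin_cases i <;> simp
  · show X8 7 (-t) *ᵥ (X8 7 t *ᵥ v) = v
    rw [h47_mv7, h47_mv7]
    funext i; fin_cases i <;> simp
  · show X8 8 (-t) *ᵥ (X8 8 t *ᵥ v) = v
    rw [h47_mv8, h47_mv8]
    funext i; fin_cases i <;> simp
  · show X8 9 (-t) *ᵥ (X8 9 t *ᵥ v) = v
    rw [h47_mv9, h47_mv9]
    funext i; fin_cases i <;> simp
  · show X8 10 (-t) *ᵥ (X8 10 t *ᵥ v) = v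
    rw [h47_mv10, h47_mv10]
    funext i; fin_cases i <;> simp
  · show X8 11 (-t) *ᵥ (X8 11 t *ᵥ v) = v
    rw [h47_mv11, h47_mv11]
    funext i; fin_cases i <;> simp
  · show X8 12 (-t) *ᵥ (X8 12 t *ᵥ v) = v
    rw [h47_mv12, h47_mv12]
    funext i; fin_cases i <;> simp
  · show X8 13 (-t) *ᵥ (X8 13 t *ᵥ v) = v
    rw [h47_mv13, h47_mv13]
    funext i; fin_cases i <;> simp
  · show X8 14 (-t) *ᵥ (X8 14 t *ᵥ v) = v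
    rw [h47_mv14, h47_mv14]
    funext i; fin_cases i <;> simp
  · show X8 15 (-t) *ᵥ (X8 15 t *ᵥ v) = v
    rw [h47_mv15, h47_mv15]
    funext i; fin_cases i <;> simp
  · show X8 16 (-t) *ᵥ (X8 16 t *ᵥ v) = v
    rw [h47_mv16, h47_mv16]
    funext i; fin_cases i <;> simp
  · show X8 17 (-t) *ᵥ (X8 17 t *ᵥ v) = v
    rw [h47_mv17, h47_mv17]
    funext i; fin_cases i <;> simp
  · show X8 18 (-t) *ᵥ (X8 18 t *ᵥ v) = v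
    rw [h47_mv18, h47_mv18]
    funext i; fin_cases i <;> simp
  · show X8 19 (-t) *ᵥ (X8 19 t *ᵥ v) = v
    rw [h47_mv19, h47_mv19]
    funext i; fin_cases i <;> simp
  · show X8 20 (-t) *ᵥ (X8 20 t *ᵥ v) = v
    rw [h47_mv20, h47_mv20]
    funext i; fin_cases i <;> simp
  · show X8 21 (-t) *ᵥ (X8 21 t *ᵥ v) = v
    rw [h47_mv21, h47_mv21]
    funext i; fin_cases i <;> simp
  · show X8 22 (-t) *ᵥ (X8 22 t *ᵥ v) = v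
    rw [h47_mv22, h47_mv22]
    funext i; fin_cases i <;> simp
  · show X8 23 (-t) *ᵥ (X8 23 t *ᵥ v) = v
    rw [h47_mv23, h47_mv23]
    funext i; fin_cases i <;> simp

/-- first source column of `e_r` -/
def h47s1 : Fin 24 → Fin 8 := ![1, 2, 0, 3, 0, 0, 2, 1, 3, 1, 2, 3, 7, 3, 2, 7, 3, 6, 1, 2, 7, 3, 6, 5]
/-- second source column of `e_r` -/
def h47s2 : Fin 24 → Fin 8 := ![0, 0, 7, 0, 6, 5, 1, 7, 1, 6, 7, 2, 6, 6, 5, 5, 5, 5, 4, 4, 4, 4, 4, 4]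

/-- `X8 r t` fixes the basis vectors outside the two source columns of `e_r` -/
theorem h47_fx (r : Fin 24) (t : F) (i : Fin 8) (h : h47s1 r ≠ i ∧ h47s2 r ≠ i) :
    X8 r t *ᵥ Pi.single i 1 = Pi.single i 1 := by
  fin_cases r
  · show X8 0 t *ᵥ Pi.single i 1 = Pi.single i 1
    have e1 : (Pi.single i 1 : Fin 8 → F) 1 = 0 := Pi.single_eq_of_ne h.1 _
    have e2 : (Pi.single i 1 : Fin 8 → F) 0 = 0 := Pi.single_eq_of_ne h.2 _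
    rw [h47_mv0]
    funext j; fin_cases j <;> simp [e1, e2]
  · show X8 1 t *ᵥ Pi.single i 1 = Pi.single i 1
    have e1 : (Pi.single i 1 : Fin 8 → F) 2 = 0 := Pi.single_eq_of_ne h.1 _
    have e2 : (Pi.single i 1 : Fin 8 → F) 0 = 0 := Pi.single_eq_of_ne h.2 _
    rw [h47_mv1]
    funext j; fin_cases j <;> simp [e1, e2]
  · show X8 2 t *ᵥ Pi.single i 1 = Pi.single i 1
    have e1 : (Pi.single i 1 : Fin 8 → F) 0 = 0 := Pi.single_eq_of_ne h.1 _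
    have e2 : (Pi.single i 1 : Fin 8 → F) 7 = 0 := Pi.single_eq_of_ne h.2 _
    rw [h47_mv2]
    funext j; fin_cases j <;> simp [e1, e2]
  · show X8 3 t *ᵥ Pi.single i 1 = Pi.single i 1
    have e1 : (Pi.single i 1 : Fin 8 → F) 3 = 0 := Pi.single_eq_of_ne h.1 _
    have e2 : (Pi.single i 1 : Fin 8 → F) 0 = 0 := Pi.single_eq_of_ne h.2 _
    rw [h47_mv3]
    funext j; fin_cases j <;> simp [e1, e2]
  · show X8 4 t *ᵥ Pi.single i 1 = Pi.single i 1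
    have e1 : (Pi.single i 1 : Fin 8 → F) 0 = 0 := Pi.single_eq_of_ne h.1 _
    have e2 : (Pi.single i 1 : Fin 8 → F) 6 = 0 := Pi.single_eq_of_ne h.2 _
    rw [h47_mv4]
    funext j; fin_cases j <;> simp [e1, e2]
  · show X8 5 t *ᵥ Pi.single i 1 = Pi.single i 1
    have e1 : (Pi.single i 1 : Fin 8 → F) 0 = 0 := Pi.single_eq_of_ne h.1 _
    have e2 : (Pi.single i 1 : Fin 8 → F) 5 = 0 := Pi.single_eq_of_ne h.2 _
    rw [h47_mv5]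
    funext j; fin_cases j <;> simp [e1, e2]
  · show X8 6 t *ᵥ Pi.single i 1 = Pi.single i 1
    have e1 : (Pi.single i 1 : Fin 8 → F) 2 = 0 := Pi.single_eq_of_ne h.1 _
    have e2 : (Pi.single i 1 : Fin 8 → F) 1 = 0 := Pi.single_eq_of_ne h.2 _
    rw [h47_mv6]
    funext j; fin_cases j <;> simp [e1, e2]
  · show X8 7 t *ᵥ Pi.single i 1 = Pi.single i 1
    have e1 : (Pi.single i 1 : Fin 8 → F) 1 = 0 := Pi.single_eq_of_ne h.1 _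
    have e2 : (Pi.single i 1 : Fin 8 → F) 7 = 0 := Pi.single_eq_of_ne h.2 _
    rw [h47_mv7]
    funext j; fin_cases j <;> simp [e1, e2]
  · show X8 8 t *ᵥ Pi.single i 1 = Pi.single i 1
    have e1 : (Pi.single i 1 : Fin 8 → F) 3 = 0 := Pi.single_eq_of_ne h.1 _
    have e2 : (Pi.single i 1 : Fin 8 → F) 1 = 0 := Pi.single_eq_of_ne h.2 _
    rw [h47_mv8]
    funext j; fin_cases j <;> simp [e1, e2]
  · show X8 9 t *ᵥ Pi.single i 1 = Pi.single i 1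
    have e1 : (Pi.single i 1 : Fin 8 → F) 1 = 0 := Pi.single_eq_of_ne h.1 _
    have e2 : (Pi.single i 1 : Fin 8 → F) 6 = 0 := Pi.single_eq_of_ne h.2 _
    rw [h47_mv9]
    funext j; fin_cases j <;> simp [e1, e2]
  · show X8 10 t *ᵥ Pi.single i 1 = Pi.single i 1
    have e1 : (Pi.single i 1 : Fin 8 → F) 2 = 0 := Pi.single_eq_of_ne h.1 _
    have e2 : (Pi.single i 1 : Fin 8 → F) 7 = 0 := Pi.single_eq_of_ne h.2 _
    rw [h47_mv10]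
    funext j; fin_cases j <;> simp [e1, e2]
  · show X8 11 t *ᵥ Pi.single i 1 = Pi.single i 1
    have e1 : (Pi.single i 1 : Fin 8 → F) 3 = 0 := Pi.single_eq_of_ne h.1 _
    have e2 : (Pi.single i 1 : Fin 8 → F) 2 = 0 := Pi.single_eq_of_ne h.2 _
    rw [h47_mv11]
    funext j; fin_cases j <;> simp [e1, e2]
  · show X8 12 t *ᵥ Pi.single i 1 = Pi.single i 1
    have e1 : (Pi.single i 1 : Fin 8 → F) 7 = 0 := Pi.single_eq_of_ne h.1 _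
    have e2 : (Pi.single i 1 : Fin 8 → F) 6 = 0 := Pi.single_eq_of_ne h.2 _
    rw [h47_mv12]
    funext j; fin_cases j <;> simp [e1, e2]
  · show X8 13 t *ᵥ Pi.single i 1 = Pi.single i 1
    have e1 : (Pi.single i 1 : Fin 8 → F) 3 = 0 := Pi.single_eq_of_ne h.1 _
    have e2 : (Pi.single i 1 : Fin 8 → F) 6 = 0 := Pi.single_eq_of_ne h.2 _
    rw [h47_mv13]
    funext j; fin_cases j <;> simp [e1, e2]
  · show X8 14 t *ᵥ Pi.single i 1 = Pi.single i 1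
    have e1 : (Pi.single i 1 : Fin 8 → F) 2 = 0 := Pi.single_eq_of_ne h.1 _
    have e2 : (Pi.single i 1 : Fin 8 → F) 5 = 0 := Pi.single_eq_of_ne h.2 _
    rw [h47_mv14]
    funext j; fin_cases j <;> simp [e1, e2]
  · show X8 15 t *ᵥ Pi.single i 1 = Pi.single i 1
    have e1 : (Pi.single i 1 : Fin 8 → F) 7 = 0 := Pi.single_eq_of_ne h.1 _
    have e2 : (Pi.single i 1 : Fin 8 → F) 5 = 0 := Pi.single_eq_of_ne h.2 _
    rw [h47_mv15]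
    funext j; fin_cases j <;> simp [e1, e2]
  · show X8 16 t *ᵥ Pi.single i 1 = Pi.single i 1
    have e1 : (Pi.single i 1 : Fin 8 → F) 3 = 0 := Pi.single_eq_of_ne h.1 _
    have e2 : (Pi.single i 1 : Fin 8 → F) 5 = 0 := Pi.single_eq_of_ne h.2 _
    rw [h47_mv16]
    funext j; fin_cases j <;> simp [e1, e2]
  · show X8 17 t *ᵥ Pi.single i 1 = Pi.single i 1
    have e1 : (Pi.single i 1 : Fin 8 → F) 6 = 0 := Pi.single_eq_of_ne h.1 _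
    have e2 : (Pi.single i 1 : Fin 8 → F) 5 = 0 := Pi.single_eq_of_ne h.2 _
    rw [h47_mv17]
    funext j; fin_cases j <;> simp [e1, e2]
  · show X8 18 t *ᵥ Pi.single i 1 = Pi.single i 1
    have e1 : (Pi.single i 1 : Fin 8 → F) 1 = 0 := Pi.single_eq_of_ne h.1 _
    have e2 : (Pi.single i 1 : Fin 8 → F) 4 = 0 := Pi.single_eq_of_ne h.2 _
    rw [h47_mv18]
    funext j; fin_cases j <;> simp [e1, e2]
  · show X8 19 t *ᵥ Pi.single i 1 = Pi.single i 1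
    have e1 : (Pi.single i 1 : Fin 8 → F) 2 = 0 := Pi.single_eq_of_ne h.1 _
    have e2 : (Pi.single i 1 : Fin 8 → F) 4 = 0 := Pi.single_eq_of_ne h.2 _
    rw [h47_mv19]
    funext j; fin_cases j <;> simp [e1, e2]
  · show X8 20 t *ᵥ Pi.single i 1 = Pi.single i 1
    have e1 : (Pi.single i 1 : Fin 8 → F) 7 = 0 := Pi.single_eq_of_ne h.1 _
    have e2 : (Pi.single i 1 : Fin 8 → F) 4 = 0 := Pi.single_eq_of_ne h.2 _
    rw [h47_mv20]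
    funext j; fin_cases j <;> simp [e1, e2]
  · show X8 21 t *ᵥ Pi.single i 1 = Pi.single i 1
    have e1 : (Pi.single i 1 : Fin 8 → F) 3 = 0 := Pi.single_eq_of_ne h.1 _
    have e2 : (Pi.single i 1 : Fin 8 → F) 4 = 0 := Pi.single_eq_of_ne h.2 _
    rw [h47_mv21]
    funext j; fin_cases j <;> simp [e1, e2]
  · show X8 22 t *ᵥ Pi.single i 1 = Pi.single i 1
    have e1 : (Pi.single i 1 : Fin 8 → F) 6 = 0 := Pi.single_eq_of_ne h.1 _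
    have e2 : (Pi.single i 1 : Fin 8 → F) 4 = 0 := Pi.single_eq_of_ne h.2 _
    rw [h47_mv22]
    funext j; fin_cases j <;> simp [e1, e2]
  · show X8 23 t *ᵥ Pi.single i 1 = Pi.single i 1
    have e1 : (Pi.single i 1 : Fin 8 → F) 5 = 0 := Pi.single_eq_of_ne h.1 _
    have e2 : (Pi.single i 1 : Fin 8 → F) 4 = 0 := Pi.single_eq_of_ne h.2 _
    rw [h47_mv23]
    funext j; fin_cases j <;> simp [e1, e2]

theorem h47_mul_neg (r : Fin 24) (t : F) : X8 r (-t) * X8 r t = 1 := by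
  have h : ∀ v : Fin 8 → F, (X8 r (-t) * X8 r t) *ᵥ v = (1 : Matrix (Fin 8) (Fin 8) F) *ᵥ v := by
    intro v
    rw [← Matrix.mulVec_mulVec, h47_mulVec_inv, Matrix.one_mulVec]
  ext i j
  have := congrFun (h (Pi.single j 1)) i
  simpa using this

/-- the unit of `GL₈(F)` with matrix `X8 r t` -/
def h47Xu (r : Fin 24) (t : F) : GL (Fin 8) F :=
  ⟨X8 r t, X8 r (-t), by
    have := h47_mul_neg r (-t)
    rwa [neg_neg] at this, h47_mul_neg r t⟩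

@[simp] theorem h47Xu_val (r : Fin 24) (t : F) :
    ((h47Xu r t : GL (Fin 8) F) : Matrix (Fin 8) (Fin 8) F) = X8 r t := rfl

theorem h47Xu_mem (r : Fin 24) (t : F) : h47Xu r t ∈ Eg8 F :=
  Subgroup.subset_closure ⟨r, t, rfl⟩

/-- an element of `Eg8 F` fixing the basis vectors `e_i` (`S i`) maps `u` to `v` -/
def h47Mv (S : Fin 8 → Prop) (u v : Fin 8 → F) : Prop :=
  ∃ g ∈ Eg8 F, (∀ i, S i → (g : Matrix (Fin 8) (Fin 8) F) *ᵥ Pi.single i 1 = Pi.single i 1) ∧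
    (g : Matrix (Fin 8) (Fin 8) F) *ᵥ u = v

theorem h47Mv_refl (S : Fin 8 → Prop) (u : Fin 8 → F) : h47Mv S u u :=
  ⟨1, one_mem _, fun i _ => by rw [Units.val_one, Matrix.one_mulVec],
    by rw [Units.val_one, Matrix.one_mulVec]⟩

theorem h47Mv_of_eq (S : Fin 8 → Prop) (u v : Fin 8 → F) (h : u = v) : h47Mv S u v :=
  h ▸ h47Mv_refl S u

theorem h47Mv_trans {S : Fin 8 → Prop} {u v w : Fin 8 → F} (h1 : h47Mv S u v) (h2 : h47Mv S v w) :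
    h47Mv S u w := by
  obtain ⟨g1, hg1, hf1, e1⟩ := h1
  obtain ⟨g2, hg2, hf2, e2⟩ := h2
  refine ⟨g2 * g1, mul_mem hg2 hg1, fun i hi => ?_, ?_⟩
  · rw [Units.val_mul, ← Matrix.mulVec_mulVec, hf1 i hi, hf2 i hi]
  · rw [Units.val_mul, ← Matrix.mulVec_mulVec, e1, e2]

/-- one root move -/
theorem h47Mv_step {S : Fin 8 → Prop} (r : Fin 24) (t : F)
    (hr : ∀ i, S i → h47s1 r ≠ i ∧ h47s2 r ≠ i) {u v : Fin 8 → F}
    (h : h47Mv S (X8 r t *ᵥ u) v) : h47Mv S u v := by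
  obtain ⟨g, hg, hf, e⟩ := h
  refine ⟨g * h47Xu r t, mul_mem hg (h47Xu_mem r t), fun i hi => ?_, ?_⟩
  · rw [Units.val_mul, ← Matrix.mulVec_mulVec, h47Xu_val, h47_fx r t i (hr i hi), hf i hi]
  · rw [Units.val_mul, ← Matrix.mulVec_mulVec, h47Xu_val]
    exact e

end Cfsg.Agent.Lib.helper47.D4
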