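import Mathlib
import Cfsg.Agent.Lib.helper47.AutPSL2Basic
import Cfsg.Agent.Lib.helper47.PSL2Cent
import Cfsg.Agent.Lib.helper59.SL2

set_option autoImplicit false
set_option linter.unusedSectionVars false
set_option linter.unusedSimpArgs false
set_option linter.unusedVariables false

/-! Involutions of `PSL₂(q)`, `q` odd: they are all conjugate, and the centralizer of an
involution `z` is "dihedral-like": an abelian subgroup `T` with `z` as its only involution,
every element of `C(z) \ T` being an involution inverting `T`. -/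

namespace Cfsg.Agent.Lib.helper47.PSL2Invol

open Matrix Cfsg.Agent.Lib.helper47.AutPSL2 Cfsg.Agent.Lib.helper59

section abstract

variable {G : Type*} [Group G]

/-- the dihedral-like structure of the centralizer of the involution `z` -/
def InvStruct (z : G) (T : Subgroup G) : Prop :=
  z ∈ T ∧ (∀ a ∈ T, ∀ b ∈ T, a * b = b * a) ∧ (∀ a ∈ T, a * a = 1 → a = 1 ∨ a = z) ∧
    (∀ g : G, g * z = z * g → g ∉ T → g * g = 1 ∧ ∀ a ∈ T, g * a * g⁻¹ = a⁻¹) ∧
    (∀ g h : G, g * z = z * g → h * z = z * h → g ∉ T → h ∉ T → g * h ∈ T) ∧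
    ∃ b : G, b * z = z * b ∧ b ∉ T

theorem mem_map_conj_iff (T : Subgroup G) (g x : G) :
    x ∈ T.map (MulAut.conj g).toMonoidHom ↔ g⁻¹ * x * g ∈ T := by
  rw [Subgroup.mem_map_equiv]
  simp [MulAut.conj_symm_apply]

theorem InvStruct.conj {z : G} {T : Subgroup G} (h : InvStruct z T) (g : G) :
    InvStruct (g * z * g⁻¹) (T.map (MulAut.conj g).toMonoidHom) := by
  obtain ⟨hz, ha, hb, hc, hg, b, hb1, hb2⟩ := h
  have key : ∀ x : G, x * (g * z * g⁻¹) = g * z * g⁻¹ * x →
      g⁻¹ * x * g * z = z * (g⁻¹ * x * g) := by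
    intro x hx
    have : g⁻¹ * (x * (g * z * g⁻¹)) * g = g⁻¹ * (g * z * g⁻¹ * x) * g := by rw [hx]
    simpa [mul_assoc] using this
  refine ⟨?_, ?_, ?_, ?_, ?_, ?_⟩
  · rw [mem_map_conj_iff]
    simpa [mul_assoc] using hz
  · intro a ha' c hc'
    rw [mem_map_conj_iff] at ha' hc'
    have := ha _ ha' _ hc'
    have h2 : g * (g⁻¹ * a * g * (g⁻¹ * c * g)) * g⁻¹ = g * (g⁻¹ * c * g * (g⁻¹ * a * g)) * g⁻¹ := by
      rw [this]
    simpa [mul_assoc] using h2
  · intro a ha' haa
    rw [mem_map_conj_iff] at ha'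
    have h1 : g⁻¹ * a * g * (g⁻¹ * a * g) = 1 := by
      have : g⁻¹ * a * g * (g⁻¹ * a * g) = g⁻¹ * (a * a) * g := by group
      rw [this, haa]; group
    rcases hb _ ha' h1 with h2 | h2
    · left
      have : g * (g⁻¹ * a * g) * g⁻¹ = g * 1 * g⁻¹ := by rw [h2]
      simpa [mul_assoc] using this
    · right
      have : g * (g⁻¹ * a * g) * g⁻¹ = g * z * g⁻¹ := by rw [h2]
      simpa [mul_assoc] using this
  · intro x hx hxT
    rw [mem_map_conj_iff] at hxT
    obtain ⟨h1, h2⟩ := hc _ (key x hx) hxT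
    constructor
    · have : g * (g⁻¹ * x * g * (g⁻¹ * x * g)) * g⁻¹ = g * 1 * g⁻¹ := by rw [h1]
      simpa [mul_assoc] using this
    · intro a ha'
      rw [mem_map_conj_iff] at ha'
      have h3 := h2 _ ha'
      have : g * (g⁻¹ * x * g * (g⁻¹ * a * g) * (g⁻¹ * x * g)⁻¹) * g⁻¹ =
          g * (g⁻¹ * a * g)⁻¹ * g⁻¹ := by rw [h3]
      simpa [mul_assoc] using this
  · intro x y hx hy hxT hyT
    rw [mem_map_conj_iff] at hxT hyT ⊢
    have := hg _ _ (key x hx) (key y hy) hxT hyT
    simpa [mul_assoc] using this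
  · refine ⟨g * b * g⁻¹, ?_, ?_⟩
    · have : g * (b * z) * g⁻¹ = g * (z * b) * g⁻¹ := by rw [hb1]
      simpa [mul_assoc] using this
    · rw [mem_map_conj_iff]
      simpa [mul_assoc] using hb2

end abstract

section psl

variable {F : Type*} [Field F]

/-- the standard involution of `PSL₂(F)` -/
def t0 (F : Type*) [Field F] : ProjectiveSpecialLinearGroup (Fin 2) F := pr (sl2W F)

/-- the standard torus containing `t0` -/
def T0 (F : Type*) [Field F] : Subgroup (ProjectiveSpecialLinearGroup (Fin 2) F) :=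
  (Subgroup.centralizer ({sl2W F} : Set (SpecialLinearGroup (Fin 2) F))).map pr

theorem w_e00 : (sl2W F).1 0 0 = 0 := rfl
theorem w_e01 : (sl2W F).1 0 1 = -1 := rfl
theorem w_e10 : (sl2W F).1 1 0 = 1 := rfl
theorem w_e11 : (sl2W F).1 1 1 = 0 := rfl

theorem mem_cent_w_iff (M : SpecialLinearGroup (Fin 2) F) :
    M ∈ Subgroup.centralizer ({sl2W F} : Set (SpecialLinearGroup (Fin 2) F)) ↔
      M.1 1 1 = M.1 0 0 ∧ M.1 1 0 = -M.1 0 1 := by
  rw [Subgroup.mem_centralizer_singleton_iff]
  constructor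
  · intro h
    have e00 := congrArg (fun X : SpecialLinearGroup (Fin 2) F => X.1 0 0) h
    have e01 := congrArg (fun X : SpecialLinearGroup (Fin 2) F => X.1 0 1) h
    simp only [mul_e00, mul_e01, w_e00, w_e01, w_e10, w_e11] at e00 e01
    exact ⟨by linear_combination e01, by linear_combination e00⟩
  · rintro ⟨h1, h2⟩
    apply sl2_ext <;> simp only [mul_e00, mul_e01, mul_e10, mul_e11, w_e00, w_e01, w_e10, w_e11]
    · linear_combination h2
    · linear_combination h1
    · linear_combination h1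
    · linear_combination (-1 : F) * h2

theorem anti_w_iff (M : SpecialLinearGroup (Fin 2) F) :
    M * sl2W F = -(sl2W F * M) ↔ M.1 1 1 = -M.1 0 0 ∧ M.1 1 0 = M.1 0 1 := by
  constructor
  · intro h
    have e00 := congrArg (fun X : SpecialLinearGroup (Fin 2) F => X.1 0 0) h
    have e01 := congrArg (fun X : SpecialLinearGroup (Fin 2) F => X.1 0 1) h
    simp only [mul_e00, mul_e01, neg_e, w_e00, w_e01, w_e10, w_e11] at e00 e01
    exact ⟨by linear_combination (-1 : F) * e01, by linear_combination (-1 : F) * e00⟩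
  · rintro ⟨h1, h2⟩
    apply sl2_ext <;> simp only [mul_e00, mul_e01, mul_e10, mul_e11, neg_e, w_e00, w_e01, w_e10,
      w_e11]
    · linear_combination (-1 : F) * h2
    · linear_combination (-1 : F) * h1
    · linear_combination h1
    · linear_combination (-1 : F) * h2

theorem mem_T0_iff (a : ProjectiveSpecialLinearGroup (Fin 2) F) :
    a ∈ T0 F ↔ ∃ M : SpecialLinearGroup (Fin 2) F,
      (M.1 1 1 = M.1 0 0 ∧ M.1 1 0 = -M.1 0 1) ∧ pr M = a := by
  unfold T0
  rw [Subgroup.mem_map]
  constructor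
  · rintro ⟨M, hM, rfl⟩
    exact ⟨M, (mem_cent_w_iff M).mp hM, rfl⟩
  · rintro ⟨M, hM, rfl⟩
    exact ⟨M, (mem_cent_w_iff M).mpr hM, rfl⟩

theorem t0_mem : t0 F ∈ T0 F := by
  rw [mem_T0_iff]
  exact ⟨sl2W F, ⟨rfl, by rw [w_e10, w_e01, neg_neg]⟩, rfl⟩

/-- an element of `PSL₂` commuting with `t0` lifts to a matrix commuting or anticommuting
with `W` -/
theorem comm_t0_iff (M : SpecialLinearGroup (Fin 2) F) :
    pr M * t0 F = t0 F * pr M ↔
      (M.1 1 1 = M.1 0 0 ∧ M.1 1 0 = -M.1 0 1) ∨ (M.1 1 1 = -M.1 0 0 ∧ M.1 1 0 = M.1 0 1) := by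
  unfold t0
  rw [← map_mul, ← map_mul, pr_eq_iff, ← mem_cent_w_iff, ← anti_w_iff,
    Subgroup.mem_centralizer_singleton_iff]
  constructor
  · rintro (h | h)
    · left; exact h.symm
    · right; rw [h, neg_neg]
  · rintro (h | h)
    · left; exact h.symm
    · right; rw [h, neg_neg]

theorem T0_comm (a : ProjectiveSpecialLinearGroup (Fin 2) F) (ha : a ∈ T0 F)
    (b : ProjectiveSpecialLinearGroup (Fin 2) F) (hb : b ∈ T0 F) : a * b = b * a := by
  rw [mem_T0_iff] at ha hb
  obtain ⟨M, ⟨h1, h2⟩, rfl⟩ := ha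
  obtain ⟨N, ⟨h3, h4⟩, rfl⟩ := hb
  rw [← map_mul, ← map_mul]
  congr 1
  apply sl2_ext <;> simp only [mul_e00, mul_e01, mul_e10, mul_e11, h1, h2, h3, h4] <;> ring

theorem T0_invol (h2 : (2 : F) ≠ 0) (a : ProjectiveSpecialLinearGroup (Fin 2) F) (ha : a ∈ T0 F)
    (haa : a * a = 1) : a = 1 ∨ a = t0 F := by
  rw [mem_T0_iff] at ha
  obtain ⟨M, ⟨h1, h3⟩, rfl⟩ := ha
  have hd := sl2_det M
  rw [h1, h3] at hd
  rw [← map_mul, ← map_one pr, pr_eq_iff] at haa
  rcases haa with h | h
  · -- M * M = 1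
    left
    have e00 := congrArg (fun X : SpecialLinearGroup (Fin 2) F => X.1 0 0) h
    simp only [mul_e00, one_e00] at e00
    rw [h3] at e00
    have hy : M.1 0 1 = 0 := by
      have : 2 * (M.1 0 1 * M.1 0 1) = 0 := by linear_combination hd + e00
      rcases mul_eq_zero.mp this with h' | h'
      · exact absurd h' h2
      · exact mul_self_eq_zero.mp h'
    rw [hy] at hd h3
    have hx : (M.1 0 0 - 1) * (M.1 0 0 + 1) = 0 := by linear_combination hd
    rcases mul_eq_zero.mp hx with h' | h'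
    · have : M = 1 := by
        apply sl2_ext
        · rw [one_e00]; linear_combination h'
        · rw [one_e01, hy]
        · rw [one_e10, h3]; try simp
        · rw [one_e11, h1]; linear_combination h'
      rw [this, map_one]
    · have : M = -1 := by
        apply sl2_ext <;> simp only [neg_e]
        · rw [one_e00]; linear_combination h'
        · rw [one_e01, hy]; try simp
        · rw [one_e10, h3]; try simp
        · rw [one_e11, h1]; linear_combination h'
      rw [this, pr_neg, map_one]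
  · -- M * M = -1
    right
    have e00 := congrArg (fun X : SpecialLinearGroup (Fin 2) F => X.1 0 0) h
    simp only [mul_e00, one_e00, neg_e] at e00
    rw [h3] at e00
    have hx : M.1 0 0 = 0 := by
      have : 2 * (M.1 0 0 * M.1 0 0) = 0 := by linear_combination hd + e00
      rcases mul_eq_zero.mp this with h' | h'
      · exact absurd h' h2
      · exact mul_self_eq_zero.mp h'
    rw [hx] at hd h1
    have hy : (M.1 0 1 - 1) * (M.1 0 1 + 1) = 0 := by linear_combination hd
    unfold t0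
    rcases mul_eq_zero.mp hy with h' | h'
    · have : M = -sl2W F := by
        apply sl2_ext <;> simp only [neg_e, w_e00, w_e01, w_e10, w_e11]
        · rw [hx]; simp
        · linear_combination h'
        · rw [h3]; linear_combination (-1 : F) * h'
        · rw [h1]; simp
      rw [this, pr_neg]
    · have : M = sl2W F := by
        apply sl2_ext <;> simp only [w_e00, w_e01, w_e10, w_e11]
        · rw [hx]
        · linear_combination h'
        · rw [h3]; linear_combination (-1 : F) * h'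
        · rw [h1]
      rw [this]

theorem T0_outer (g : ProjectiveSpecialLinearGroup (Fin 2) F) (hg : g * t0 F = t0 F * g)
    (hgT : g ∉ T0 F) :
    g * g = 1 ∧ ∀ a ∈ T0 F, g * a * g⁻¹ = a⁻¹ := by
  obtain ⟨M, rfl⟩ := pr_surj g
  rw [comm_t0_iff] at hg
  rcases hg with hg | ⟨h1, h3⟩
  · exact absurd ((mem_T0_iff _).mpr ⟨M, hg, rfl⟩) hgT
  have hd := sl2_det M
  rw [h1, h3] at hd
  constructor
  · rw [← map_mul]
    have : M * M = -1 := by
      apply sl2_ext <;> simp only [mul_e00, mul_e01, mul_e10, mul_e11, neg_e, one_e00, one_e01,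
        one_e10, one_e11, h1, h3]
      · linear_combination (-1 : F) * hd
      · ring
      · ring
      · linear_combination (-1 : F) * hd
    rw [this, pr_neg, map_one]
  · intro a ha
    rw [mem_T0_iff] at ha
    obtain ⟨A, ⟨h4, h5⟩, rfl⟩ := ha
    rw [mul_inv_eq_iff_eq_mul, ← map_inv, ← map_mul, ← map_mul]
    congr 1
    apply sl2_ext <;> simp only [mul_e00, mul_e01, mul_e10, mul_e11, inv_e00, inv_e01, inv_e10,
      inv_e11, h1, h3, h4, h5] <;> ring

theorem T0_outer_mul (g h : ProjectiveSpecialLinearGroup (Fin 2) F)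
    (hg : g * t0 F = t0 F * g) (hh : h * t0 F = t0 F * h) (hgT : g ∉ T0 F) (hhT : h ∉ T0 F) :
    g * h ∈ T0 F := by
  obtain ⟨M, rfl⟩ := pr_surj g
  obtain ⟨N, rfl⟩ := pr_surj h
  rw [comm_t0_iff] at hg hh
  rcases hg with hg | ⟨h1, h2⟩
  · exact absurd ((mem_T0_iff _).mpr ⟨M, hg, rfl⟩) hgT
  rcases hh with hh | ⟨h3, h4⟩
  · exact absurd ((mem_T0_iff _).mpr ⟨N, hh, rfl⟩) hhT
  rw [mem_T0_iff]
  refine ⟨M * N, ⟨?_, ?_⟩, map_mul _ _ _⟩
  · simp only [mul_e00, mul_e11, h1, h2, h3, h4]; ring
  · simp only [mul_e10, mul_e01, h1, h2, h3, h4]; ring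

end psl

section finite

variable {F : Type*} [Field F] [Fintype F]

theorem exists_outer (hF : Odd (Fintype.card F)) :
    ∃ b : ProjectiveSpecialLinearGroup (Fin 2) F, b * t0 F = t0 F * b ∧ b ∉ T0 F := by
  have h2 := two_ne_zero_of_odd_card hF
  obtain ⟨u, v, huv⟩ := exists_sq_add_sq_of_odd_card hF (-1 : F)
  refine ⟨pr (mk2 u v v (-u) (by linear_combination (-1 : F) * huv)), ?_, ?_⟩
  · rw [comm_t0_iff]
    right
    exact ⟨rfl, rfl⟩
  · rw [mem_T0_iff]
    rintro ⟨M, ⟨h1, h3⟩, hM⟩
    rw [pr_eq_iff] at hM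
    have hu : u = 0 := by
      rcases hM with h | h
      · have e00 := congrArg (fun X : SpecialLinearGroup (Fin 2) F => X.1 0 0) h
        have e11 := congrArg (fun X : SpecialLinearGroup (Fin 2) F => X.1 1 1) h
        simp only [mk2_e00, mk2_e11] at e00 e11
        have : 2 * u = 0 := by linear_combination e00 - e11 - h1
        rcases mul_eq_zero.mp this with h' | h'
        · exact absurd h' h2
        · exact h'
      · have e00 := congrArg (fun X : SpecialLinearGroup (Fin 2) F => X.1 0 0) h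
        have e11 := congrArg (fun X : SpecialLinearGroup (Fin 2) F => X.1 1 1) h
        simp only [mk2_e00, mk2_e11, neg_e] at e00 e11
        have : 2 * u = 0 := by linear_combination e00 - e11 + h1
        rcases mul_eq_zero.mp this with h' | h'
        · exact absurd h' h2
        · exact h'
    have hv : v = 0 := by
      rcases hM with h | h
      · have e01 := congrArg (fun X : SpecialLinearGroup (Fin 2) F => X.1 0 1) h
        have e10 := congrArg (fun X : SpecialLinearGroup (Fin 2) F => X.1 1 0) h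
        simp only [mk2_e01, mk2_e10] at e01 e10
        have : 2 * v = 0 := by linear_combination e01 + e10 + h3
        rcases mul_eq_zero.mp this with h' | h'
        · exact absurd h' h2
        · exact h'
      · have e01 := congrArg (fun X : SpecialLinearGroup (Fin 2) F => X.1 0 1) h
        have e10 := congrArg (fun X : SpecialLinearGroup (Fin 2) F => X.1 1 0) h
        simp only [mk2_e01, mk2_e10, neg_e] at e01 e10
        have : 2 * v = 0 := by linear_combination e01 + e10 - h3
        rcases mul_eq_zero.mp this with h' | h'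
        · exact absurd h' h2
        · exact h'
    rw [hu, hv] at huv
    norm_num at huv

theorem invStruct_t0 (hF : Odd (Fintype.card F)) : InvStruct (t0 F) (T0 F) :=
  ⟨t0_mem, T0_comm, T0_invol (two_ne_zero_of_odd_card hF), T0_outer, T0_outer_mul,
    exists_outer hF⟩

/-- all involutions of `PSL₂(q)`, `q` odd, are conjugate to the standard one -/
theorem exists_conj_t0 (hF : Odd (Fintype.card F))
    (x : ProjectiveSpecialLinearGroup (Fin 2) F) (hx : x * x = 1) (hx1 : x ≠ 1) :
    ∃ g : ProjectiveSpecialLinearGroup (Fin 2) F, g * t0 F * g⁻¹ = x := by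
  obtain ⟨X, rfl⟩ := pr_surj x
  rw [← map_mul, ← map_one pr, pr_eq_iff] at hx
  rcases hx with h | h
  · exfalso
    apply hx1
    have h' : X ^ 2 = 1 := by rw [sq]; exact h.symm
    rcases sl2_sq_eq_one hF X h' with h'' | h''
    · rw [h'', map_one]
    · rw [h'', Cfsg.Agent.Lib.helper47.sl2NegOne_eq, pr_neg, map_one]
  · have h' : X ^ 2 = sl2NegOne F := by
      rw [Cfsg.Agent.Lib.helper47.sl2NegOne_eq, sq, h, neg_neg]
    obtain ⟨g, hg⟩ := sl2_conj_of_sq_eq_negOne hF X h'
    refine ⟨pr g, ?_⟩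
    unfold t0
    rw [← map_inv, ← map_mul, ← map_mul, hg]

/-- the dihedral-like structure of the centralizer of any involution of `PSL₂(q)`, `q` odd -/
theorem exists_invStruct (hF : Odd (Fintype.card F))
    (z : ProjectiveSpecialLinearGroup (Fin 2) F) (hz : z * z = 1) (hz1 : z ≠ 1) :
    ∃ T : Subgroup (ProjectiveSpecialLinearGroup (Fin 2) F), InvStruct z T := by
  obtain ⟨g, rfl⟩ := exists_conj_t0 hF z hz hz1
  exact ⟨_, (invStruct_t0 hF).conj g⟩

/-- any two involutions of `PSL₂(q)`, `q` odd, are conjugate -/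
theorem exists_conj_invol (hF : Odd (Fintype.card F))
    (x y : ProjectiveSpecialLinearGroup (Fin 2) F) (hx : x * x = 1) (hx1 : x ≠ 1)
    (hy : y * y = 1) (hy1 : y ≠ 1) :
    ∃ g : ProjectiveSpecialLinearGroup (Fin 2) F, g * y * g⁻¹ = x := by
  obtain ⟨g₁, rfl⟩ := exists_conj_t0 hF x hx hx1
  obtain ⟨g₂, rfl⟩ := exists_conj_t0 hF y hy hy1
  exact ⟨g₁ * g₂⁻¹, by group⟩

end finite

end Cfsg.Agent.Lib.helper47.PSL2Invol
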