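import Mathlib
import Cfsg.Agent.Lib.helper47.PSL2Invol

set_option autoImplicit false
set_option linter.unusedSectionVars false
set_option linter.unusedSimpArgs false
set_option linter.unusedVariables false
set_option linter.style.haveILetI false

/-! Sylow `2`-subgroups of a finite group in which the centralizer of every involution is
dihedral-like (`InvStruct`): they are generated by involutions and are self-normalizing once
their order is at least `8`. -/

namespace Cfsg.Agent.Lib.helper47.DihedralLike

open Cfsg.Agent.Lib.helper47.PSL2Invol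

variable {G : Type*} [Group G]

/-- one-sided normalization suffices for finite subgroups -/
theorem conj_mem_iff_of_finite (H : Subgroup G) [Finite H] (g : G)
    (hg : ∀ x ∈ H, g * x * g⁻¹ ∈ H) (x : G) : x ∈ H ↔ g * x * g⁻¹ ∈ H := by
  constructor
  · exact hg x
  · intro hx
    let f : H → H := fun y => ⟨g * y * g⁻¹, hg y y.2⟩
    have hf : Function.Injective f := by
      intro y y' h
      have h' : g * (y : G) * g⁻¹ = g * (y' : G) * g⁻¹ := congrArg Subtype.val h
      exact Subtype.ext (mul_left_cancel (mul_right_cancel h'))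
    obtain ⟨y, hy⟩ := (Finite.injective_iff_surjective.mp hf) ⟨g * x * g⁻¹, hx⟩
    have h' : g * (y : G) * g⁻¹ = g * x * g⁻¹ := congrArg Subtype.val hy
    have : (y : G) = x := mul_left_cancel (mul_right_cancel h')
    rw [← this]
    exact y.2

/-- a `p`-element normalizing a Sylow `p`-subgroup lies in it -/
theorem mem_sylow_of_normalizes [Finite G] {p : ℕ} [Fact p.Prime] (S : Sylow p G) (g : G)
    (hg : ∀ x ∈ (S : Subgroup G), g * x * g⁻¹ ∈ (S : Subgroup G)) (k : ℕ)
    (hk : g ^ (p ^ k) = 1) : g ∈ (S : Subgroup G) := by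
  have hZ : IsPGroup p (Subgroup.zpowers g) := by
    rintro ⟨x, n, rfl⟩
    refine ⟨k, Subtype.ext ?_⟩
    show (g ^ n) ^ (p ^ k) = 1
    rw [← zpow_natCast, ← zpow_mul, mul_comm, zpow_mul, zpow_natCast, hk, one_zpow]
  have hN : Subgroup.zpowers g ≤ Subgroup.normalizer ((S : Subgroup G) : Set G) := by
    rw [Subgroup.zpowers_le, Subgroup.mem_normalizer_iff]
    exact conj_mem_iff_of_finite _ g hg
  have hsup : IsPGroup p (Subgroup.zpowers g ⊔ (S : Subgroup G) : Subgroup G) :=
    IsPGroup.to_sup_of_normal_right' hZ S.isPGroup' hN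
  have := S.is_maximal' hsup le_sup_right
  rw [← this]
  exact le_sup_left (a := Subgroup.zpowers g) (Subgroup.mem_zpowers g)

/-- Sylow `2`-subgroups of order at least `8` in a group with dihedral-like involution
centralizers are generated by involutions and self-normalizing. -/
theorem sylow_two_facts [Finite G]
    (hI : ∀ z : G, z * z = 1 → z ≠ 1 → ∃ T : Subgroup G, InvStruct z T)
    (S : Sylow 2 G) (h8 : 8 ≤ Nat.card (S : Subgroup G)) :
    (∀ K : Subgroup G, (∀ s ∈ (S : Subgroup G), s ^ 2 = 1 → s ∈ K) → (S : Subgroup G) ≤ K) ∧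
    (∀ g : G, (∀ x ∈ (S : Subgroup G), g * x * g⁻¹ ∈ (S : Subgroup G)) →
      g ∈ (S : Subgroup G)) := by
  classical
  haveI : Fact (Nat.Prime 2) := ⟨Nat.prime_two⟩
  have hSp : IsPGroup 2 (S : Subgroup G) := S.isPGroup'
  haveI : Nontrivial (S : Subgroup G) := by
    rw [← Finite.one_lt_card_iff_nontrivial]; omega
  haveI hcn : Nontrivial (Subgroup.center (S : Subgroup G)) := hSp.center_nontrivial
  have hcp : IsPGroup 2 (Subgroup.center (S : Subgroup G)) := hSp.to_subgroup _
  have hdvd : 2 ∣ Nat.card (Subgroup.center (S : Subgroup G)) := by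
    rcases hcp.card_eq_or_dvd with h | h
    · exfalso
      have := Finite.one_lt_card_iff_nontrivial.mpr hcn
      omega
    · exact h
  obtain ⟨zc, hzc⟩ := exists_prime_orderOf_dvd_card' 2 hdvd
  obtain ⟨z, hz_def⟩ : ∃ z : G, z = ((zc : (S : Subgroup G)) : G) := ⟨_, rfl⟩
  have hzS : z ∈ (S : Subgroup G) := by rw [hz_def]; exact (zc : (S : Subgroup G)).2
  have hzz : z * z = 1 := by
    have h1 := pow_orderOf_eq_one zc
    rw [hzc] at h1
    have h2 := congrArg (fun x : Subgroup.center (S : Subgroup G) => ((x : (S : Subgroup G)) : G)) h1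
    simp only [sq, Subgroup.coe_mul, Subgroup.coe_one] at h2
    rw [hz_def]; exact h2
  have hz1 : z ≠ 1 := by
    intro h
    have : zc = 1 := Subtype.ext (Subtype.ext (hz_def ▸ h))
    rw [this, orderOf_one] at hzc
    norm_num at hzc
  have hzcomm : ∀ s ∈ (S : Subgroup G), s * z = z * s := by
    intro s hs
    have h1 := Subgroup.mem_center_iff.mp zc.2 ⟨s, hs⟩
    have h2 := congrArg Subtype.val h1
    simp only [Subgroup.coe_mul] at h2
    rw [hz_def]; exact h2
  obtain ⟨T, hzT, hTcomm, hTinv, hTout, hTmul, b, hbz, hbT⟩ := hI z hzz hz1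
  -- `S` is not contained in `T`
  obtain ⟨s₀, hs₀S, hs₀T⟩ : ∃ s₀ ∈ (S : Subgroup G), s₀ ∉ T := by
    by_contra hcon
    push Not at hcon
    obtain ⟨hbb, hbinv⟩ := hTout b hbz hbT
    have : b ∈ (S : Subgroup G) := by
      apply mem_sylow_of_normalizes S b _ 1
      · rw [pow_one, sq]; exact hbb
      · intro x hx
        rw [hbinv x (hcon x hx)]
        exact (S : Subgroup G).inv_mem hx
    exact hbT (hcon b this)
  obtain ⟨hs₀s₀, hs₀inv⟩ := hTout s₀ (hzcomm s₀ hs₀S) hs₀T
  have hs₀' : s₀⁻¹ = s₀ := inv_eq_of_mul_eq_one_right hs₀s₀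
  constructor
  · intro K hK s hs
    have hs₀K : s₀ ∈ K := hK s₀ hs₀S (by rw [sq]; exact hs₀s₀)
    by_cases hsT : s ∈ T
    · have h1 : s * s₀ ∉ T := fun h => hs₀T (by
        have := T.mul_mem (T.inv_mem hsT) h
        simpa using this)
      have h2 : s * s₀ ∈ (S : Subgroup G) := (S : Subgroup G).mul_mem hs hs₀S
      have h3 := (hTout (s * s₀) (hzcomm _ h2) h1).1
      have h4 : s * s₀ ∈ K := hK _ h2 (by rw [sq]; exact h3)
      have := K.mul_mem h4 (K.inv_mem hs₀K)
      simpa using this
    · exact hK s hs (by rw [sq]; exact (hTout s (hzcomm s hs) hsT).1)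
  · intro g hg
    -- an element of `S ∩ T` that is not an involution
    obtain ⟨a, haS, haT, haa⟩ : ∃ a ∈ (S : Subgroup G), a ∈ T ∧ a * a ≠ 1 := by
      by_contra hcon
      push Not at hcon
      have hsub : ((S : Subgroup G) : Set G) ⊆ {1, z, s₀, z * s₀} := by
        intro s hs
        simp only [Set.mem_insert_iff, Set.mem_singleton_iff]
        by_cases hsT : s ∈ T
        · rcases hTinv s hsT (hcon s hs hsT) with h | h
          · left; exact h
          · right; left; exact h
        · have h1 : s * s₀ ∈ T := hTmul s s₀ (hzcomm s hs) (hzcomm s₀ hs₀S) hsT hs₀T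
          have h2 : s * s₀ ∈ (S : Subgroup G) := (S : Subgroup G).mul_mem hs hs₀S
          rcases hTinv _ h1 (hcon _ h2 h1) with h | h
          · right; right; left
            have : s = s₀⁻¹ := eq_inv_of_mul_eq_one_left h
            rw [this, hs₀']
          · right; right; right
            have : s = z * s₀⁻¹ := eq_mul_inv_of_mul_eq h
            rw [this, hs₀']
      have h2 : ({1, z, s₀, z * s₀} : Set G).ncard ≤ 4 := by
        have : ({1, z, s₀, z * s₀} : Set G) = ((({1, z, s₀, z * s₀} : Finset G)) : Set G) := by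
          simp
        rw [this, Set.ncard_coe_finset]
        exact Finset.card_le_four
      have hcard : Nat.card (S : Subgroup G) ≤ 4 := by
        have h1 : Nat.card (S : Subgroup G) = ((S : Subgroup G) : Set G).ncard :=
          Nat.card_coe_set_eq _
        rw [h1]
        exact (Set.ncard_le_ncard hsub (Set.toFinite _)).trans h2
      omega
    have ha'S := hg a haS
    have ha'T : g * a * g⁻¹ ∈ T := by
      by_contra h
      have h1 := (hTout _ (hzcomm _ ha'S) h).1
      apply haa
      have h2 : g * a * g⁻¹ * (g * a * g⁻¹) = g * (a * a) * g⁻¹ := by group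
      rw [h2] at h1
      have h3 : a * a = g⁻¹ * (g * (a * a) * g⁻¹) * g := by group
      rw [h3, h1]; group
    -- the involution in `⟨a⟩`
    obtain ⟨k, hk⟩ := (IsPGroup.iff_orderOf.mp hSp) ⟨a, haS⟩
    have hk' : orderOf a = 2 ^ k := by
      rw [← hk]; exact (Subgroup.orderOf_mk a haS).symm
    have hk2 : 2 ≤ k := by
      by_contra hlt
      have hk01 : k = 0 ∨ k = 1 := by omega
      rcases hk01 with rfl | rfl
      · rw [pow_zero, orderOf_eq_one_iff] at hk'
        apply haa; rw [hk']; simp
      · apply haa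
        have := pow_orderOf_eq_one a
        rw [hk', pow_one] at this
        rw [← sq]; exact this
    obtain ⟨j, rfl⟩ : ∃ j, k = j + 1 := ⟨k - 1, by omega⟩
    obtain ⟨w, hw⟩ : ∃ w : G, w = a ^ (2 ^ j) := ⟨_, rfl⟩
    have hw1 : w ≠ 1 := by
      rw [hw]
      apply pow_ne_one_of_lt_orderOf (by positivity)
      rw [hk']
      exact Nat.pow_lt_pow_right (by norm_num) (Nat.lt_succ_self j)
    have hww : w * w = 1 := by
      rw [hw, ← pow_add, ← two_mul, ← pow_succ', ← hk', pow_orderOf_eq_one]
    have hwT : w ∈ T := by rw [hw]; exact T.pow_mem haT _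
    have hwz : w = z := (hTinv w hwT hww).resolve_left hw1
    have hw' : g * w * g⁻¹ = (g * a * g⁻¹) ^ (2 ^ j) := by rw [hw]; exact (conj_pow).symm
    have hw'T : g * w * g⁻¹ ∈ T := by rw [hw']; exact T.pow_mem ha'T _
    have hw'w' : g * w * g⁻¹ * (g * w * g⁻¹) = 1 := by
      have : g * w * g⁻¹ * (g * w * g⁻¹) = g * (w * w) * g⁻¹ := by group
      rw [this, hww]; group
    have hgz : g * z = z * g := by
      rcases hTinv _ hw'T hw'w' with h | h
      · exfalso; apply hw1
        have : w = g⁻¹ * (g * w * g⁻¹) * g := by group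
        rw [this, h]; group
      · rw [hwz] at h
        have := congrArg (fun x => x * g) h
        simpa [mul_assoc] using this
    by_cases hgT : g ∈ T
    · have h1 : s₀ * g⁻¹ * s₀⁻¹ = g := by
        have := hs₀inv g⁻¹ (T.inv_mem hgT)
        rw [inv_inv] at this; exact this
      have h2 : g * s₀ * g⁻¹ = g * g * s₀ := by
        have : s₀ * g⁻¹ = g * s₀ := by
          have := congrArg (fun x => x * s₀) h1
          simpa [mul_assoc] using this
        rw [mul_assoc g s₀, this, mul_assoc]
      have h3 : g * g ∈ (S : Subgroup G) := by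
        have h4 := hg s₀ hs₀S
        rw [h2] at h4
        have := (S : Subgroup G).mul_mem h4 ((S : Subgroup G).inv_mem hs₀S)
        simpa [mul_assoc] using this
      obtain ⟨m, hm⟩ := (IsPGroup.iff_orderOf.mp hSp) ⟨g * g, h3⟩
      have hm' : (g * g) ^ (2 ^ m) = 1 := by
        have := pow_orderOf_eq_one (⟨g * g, h3⟩ : (S : Subgroup G))
        rw [hm] at this
        exact congrArg Subtype.val this
      apply mem_sylow_of_normalizes S g hg (m + 1)
      rw [pow_succ', pow_mul, sq]
      exact hm'
    · apply mem_sylow_of_normalizes S g hg 1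
      rw [pow_one, sq]
      exact (hTout g hgz hgT).1

end Cfsg.Agent.Lib.helper47.DihedralLike
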