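import Mathlib
import Cfsg.Prelude.Def_FusionSystem
import Cfsg.Agent.Lib.helper88.GroupSat

set_option autoImplicit false
set_option linter.unusedSectionVars false
set_option linter.unusedVariables false

/-! A criterion for the fusion system of a finite group on a Sylow `p`-subgroup to be simple:
`N_G(S) = S C_G(S)` and no proper nontrivial strongly closed subgroup. -/

namespace Cfsg.Agent.Lib.helper47.FusionSimple

open Cfsg Cfsg.FusionSystem Cfsg.Agent.Lib.helper88

variable {G : Type*} [Group G]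

/-- If every element normalizing the Sylow `p`-subgroup `S` acts on it as an element of `S`
and every nontrivial strongly closed subgroup is `S`, the fusion system of `G` on `S` is
simple. -/
theorem isSimple_groupFusionSystem [Finite G] {p : ℕ} [Fact p.Prime] (S : Sylow p G)
    (hne : (S : Subgroup G) ≠ ⊥)
    (hnorm : ∀ g : G, (∀ x ∈ (S : Subgroup G), g * x * g⁻¹ ∈ (S : Subgroup G)) →
      ∃ s ∈ (S : Subgroup G), ∀ x ∈ (S : Subgroup G), g * x * g⁻¹ = s * x * s⁻¹)
    (hsc : ∀ T : Subgroup G, (groupFusionSystem (S : Subgroup G)).StronglyClosed T → T ≠ ⊥ →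
      T = S) :
    (groupFusionSystem (S : Subgroup G)).IsSimple p := by
  refine ⟨groupFusionSystem_saturated S, hne, ?_⟩
  intro T E hE
  by_cases hT : T = ⊥
  · exact Or.inl hT
  right
  obtain ⟨⟨hEsat, hFsat, hsub, hstr, hinv, hfrat⟩, hext⟩ := hE
  have hTS : T = S := hsc T hstr hT
  subst hTS
  refine ⟨rfl, fun P => ?_⟩
  apply Set.Subset.antisymm (hsub P)
  intro φ hφ
  have hPS : P ≤ S := ((groupFusionSystem (S : Subgroup G)).le_of_mem hφ).1
  obtain ⟨α, hα, φ₀, hφ₀, h⟩ := hfrat P hPS φ hφ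
  rw [mem_autGroup_groupFusionSystem le_rfl] at hα
  obtain ⟨g, hg⟩ := hα
  obtain ⟨s, hs, hsg⟩ := hnorm g (fun x hx => by
    have := hg ⟨x, hx⟩
    rw [← this]
    exact (α ⟨x, hx⟩).2)
  have hφ₀S : ∀ x : P, φ₀ x ∈ (S : Subgroup G) := (E.le_of_mem hφ₀).2
  have hrange : φ₀.range ≤ S := by
    rintro _ ⟨x, rfl⟩
    exact hφ₀S x
  have hconj := E.conj_mem hrange hs
  have hcomp := E.comp_mem hφ₀ hconj (fun x => ⟨x, rfl⟩)
  have heq : (conjHom φ₀.range s).comp (φ₀.codRestrict φ₀.range (fun x => ⟨x, rfl⟩)) = φ := by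
    ext x
    show s * φ₀ x * s⁻¹ = φ x
    rw [h x (hφ₀S x), hg, hsg _ (hφ₀S x)]
  rw [← heq]
  exact hcomp

/-- If `S` is generated by its elements of order `p` and these are all conjugate in `G`, then
the only nontrivial strongly closed subgroup is `S`. -/
theorem stronglyClosed_eq_of_conj [Finite G] {p : ℕ} [Fact p.Prime] (S : Sylow p G)
    (hgen : ∀ K : Subgroup G, (∀ s ∈ (S : Subgroup G), s ^ p = 1 → s ∈ K) →
      (S : Subgroup G) ≤ K)
    (hconj : ∀ s t : G, s ∈ (S : Subgroup G) → t ∈ (S : Subgroup G) → s ^ p = 1 → s ≠ 1 →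
      t ^ p = 1 → t ≠ 1 → ∃ g : G, g * t * g⁻¹ = s)
    (T : Subgroup G) (hT : (groupFusionSystem (S : Subgroup G)).StronglyClosed T)
    (hne : T ≠ ⊥) : T = S := by
  have hp : p.Prime := Fact.out
  have hTS : T ≤ S := hT.1
  have hTp : IsPGroup p T := S.isPGroup'.to_le hTS
  have hdvd : p ∣ Nat.card T := by
    rcases hTp.card_eq_or_dvd with h | h
    · exact absurd (Subgroup.card_eq_one.mp h) hne
    · exact h
  obtain ⟨t, ht⟩ := exists_prime_orderOf_dvd_card' p hdvd
  have ht1 : (t : G) ≠ 1 := by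
    intro h
    have : t = 1 := Subtype.ext h
    rw [this, orderOf_one] at ht
    exact hp.one_lt.ne ht
  have htp : (t : G) ^ p = 1 := by
    have := pow_orderOf_eq_one t
    rw [ht] at this
    exact congrArg Subtype.val this
  apply le_antisymm hTS
  apply hgen
  intro s hs hsp
  by_cases hs1 : s = 1
  · rw [hs1]; exact T.one_mem
  obtain ⟨g, hg⟩ := hconj s t hs (hTS t.2) hsp hs1 htp ht1
  have hR : Subgroup.zpowers (t : G) ≤ T := by
    rw [Subgroup.zpowers_le]; exact t.2
  have hφ : conjHom (Subgroup.zpowers (t : G)) g ∈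
      (groupFusionSystem (S : Subgroup G)).Hom (Subgroup.zpowers (t : G)) := by
    apply conjHom_mem_groupFusionSystem (hR.trans hTS)
    rintro x ⟨k, rfl⟩
    have : g * (t : G) ^ k * g⁻¹ = (g * t * g⁻¹) ^ k := (conj_zpow).symm
    rw [this, hg]
    exact (S : Subgroup G).zpow_mem hs k
  have := hT.2 _ hR _ hφ ⟨t, Subgroup.mem_zpowers _⟩
  rw [← hg]
  exact this

end Cfsg.Agent.Lib.helper47.FusionSimple
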