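import Mathlib
import Cfsg.Prelude.Def_LieTypeChar
import Cfsg.Agent.Lib.helper44.LODefs
import Cfsg.Agent.S0243

set_option autoImplicit false

namespace Cfsg.Agent.Lib.helper44.LO

open Cfsg

theorem h47_prod_rewrite (q n : ℕ) :
    ∏ i : Fin n, (q ^ n - q ^ (i : ℕ)) =
      q ^ (∑ i ∈ Finset.range n, i) * ∏ i ∈ Finset.range n, (q ^ (i + 1) - 1) := by
  calc ∏ i : Fin n, (q ^ n - q ^ (i : ℕ)) = ∏ i ∈ Finset.range n, (q ^ n - q ^ i) :=
        Fin.prod_univ_eq_prod_range (fun i => q ^ n - q ^ i) n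
    _ = ∏ i ∈ Finset.range n, (q ^ i * (q ^ (n - 1 - i + 1) - 1)) := by
        refine Finset.prod_congr rfl (fun i hi => ?_)
        have hi' : i < n := Finset.mem_range.mp hi
        rw [Nat.mul_sub, mul_one, ← pow_add]
        congr 2
        omega
    _ = (∏ i ∈ Finset.range n, q ^ i) * ∏ i ∈ Finset.range n, (q ^ (n - 1 - i + 1) - 1) :=
        Finset.prod_mul_distrib
    _ = q ^ (∑ i ∈ Finset.range n, i) * ∏ i ∈ Finset.range n, (q ^ (i + 1) - 1) := by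
        rw [Finset.prod_pow_eq_pow_sum, Finset.prod_range_reflect (fun i => q ^ (i + 1) - 1) n]

theorem h47_not_dvd_pow_sub_one {p q : ℕ} (hp : p.Prime) (hpq : p ∣ q) (hq : 1 ≤ q) (j : ℕ) :
    ¬ p ∣ q ^ (j + 1) - 1 := by
  intro h
  have h1 : p ∣ q ^ (j + 1) := dvd_pow hpq (by omega)
  have h2 : 1 ≤ q ^ (j + 1) := Nat.one_le_pow _ _ hq
  have h3 : q ^ (j + 1) = (q ^ (j + 1) - 1) + 1 := by omega
  rw [h3] at h1
  have h4 : p ∣ 1 := (Nat.dvd_add_right h).mp h1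
  exact hp.one_lt.ne' (Nat.dvd_one.mp h4)

theorem h47_lo_psl_ge3_core
    (hgood : ∀ {p : ℕ} (hp : p.Prime) (f : ℕ) (hf : 1 ≤ f) (c n N M e : ℕ)
      (hc : c * n = (p ^ f) ^ N * M) (hcp : ¬ p ∣ c) (hMp : ¬ p ∣ M) (hM : M < c * (p ^ f) ^ e)
      (h1 : e ≤ 2 * N) (h2 : 3 * e ≤ 5 * N), LOGood p n)
    {F : Type} [Field F] [Fintype F] (p : ℕ) (hp : p.Prime) [CharP F p] (n : ℕ) (hn : 3 ≤ n) :
    LOGood p (Nat.card (Matrix.ProjectiveSpecialLinearGroup (Fin n) F)) := by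
  obtain ⟨f, -, hF⟩ := FiniteField.card F p
  have hf : 1 ≤ (f : ℕ) := f.pos
  have hpq : p ∣ p ^ (f : ℕ) := dvd_pow_self p (by omega)
  have hq2 : 2 ≤ p ^ (f : ℕ) := by
    calc 2 ≤ p := hp.two_le
      _ = p ^ 1 := (pow_one p).symm
      _ ≤ p ^ (f : ℕ) := Nat.pow_le_pow_right hp.pos hf
  obtain ⟨k, rfl⟩ : ∃ k, n = k + 1 := ⟨n - 1, by omega⟩
  have hk : 2 ≤ k := by omega
  have hres := Cfsg.Agent.S0243.result (F := F) hF (k + 1) (by omega)
  rw [h47_prod_rewrite] at hres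
  refine hgood hp f hf (Nat.gcd (k + 1) (p ^ (f : ℕ) - 1) * (p ^ (f : ℕ) - 1)) _
    (∑ i ∈ Finset.range (k + 1), i) (∏ i ∈ Finset.range (k + 1), ((p ^ (f : ℕ)) ^ (i + 1) - 1))
    (∑ i ∈ Finset.range k, (i + 2)) ?_ ?_ ?_ ?_ ?_ ?_
  · rw [mul_assoc]; exact hres
  · intro h
    have h0 := h47_not_dvd_pow_sub_one hp hpq (by omega) 0
    rw [zero_add, pow_one] at h0
    rcases (Nat.Prime.dvd_mul hp).mp h with h1 | h1
    · exact h0 (dvd_trans h1 (Nat.gcd_dvd_right _ _))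
    · exact h0 h1
  · intro h
    obtain ⟨i, -, hi⟩ := (Nat.Prime.prime hp).dvd_finsetProd_iff _ |>.mp h
    exact h47_not_dvd_pow_sub_one hp hpq (by omega) i hi
  · rw [Finset.prod_range_succ']
    have hA : ∏ i ∈ Finset.range k, ((p ^ (f : ℕ)) ^ (i + 1 + 1) - 1) <
        (p ^ (f : ℕ)) ^ (∑ i ∈ Finset.range k, (i + 2)) := by
      rw [← Finset.prod_pow_eq_pow_sum]
      apply Finset.prod_lt_prod_of_nonempty
      · intro i _
        have : 2 ≤ (p ^ (f : ℕ)) ^ (i + 1 + 1) := by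
          calc 2 ≤ p ^ (f : ℕ) := hq2
            _ = (p ^ (f : ℕ)) ^ 1 := (pow_one _).symm
            _ ≤ (p ^ (f : ℕ)) ^ (i + 1 + 1) := Nat.pow_le_pow_right (by omega) (by omega)
        omega
      · intro i _
        have : 1 ≤ (p ^ (f : ℕ)) ^ (i + 2) := Nat.one_le_pow _ _ (by omega)
        show (p ^ (f : ℕ)) ^ (i + 2) - 1 < (p ^ (f : ℕ)) ^ (i + 2)
        omega
      · exact ⟨0, Finset.mem_range.mpr (by omega)⟩
    have hg : 1 ≤ Nat.gcd (k + 1) (p ^ (f : ℕ) - 1) := Nat.gcd_pos_of_pos_left _ (by omega)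
    have hq1 : 0 < p ^ (f : ℕ) - 1 := by omega
    calc (∏ i ∈ Finset.range k, ((p ^ (f : ℕ)) ^ (i + 1 + 1) - 1)) * ((p ^ (f : ℕ)) ^ (0 + 1) - 1)
        = (∏ i ∈ Finset.range k, ((p ^ (f : ℕ)) ^ (i + 1 + 1) - 1)) * (p ^ (f : ℕ) - 1) := by
          rw [zero_add, pow_one]
      _ < (p ^ (f : ℕ)) ^ (∑ i ∈ Finset.range k, (i + 2)) * (p ^ (f : ℕ) - 1) :=
          Nat.mul_lt_mul_of_pos_right hA hq1
      _ = 1 * (p ^ (f : ℕ) - 1) * (p ^ (f : ℕ)) ^ (∑ i ∈ Finset.range k, (i + 2)) := by ring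
      _ ≤ Nat.gcd (k + 1) (p ^ (f : ℕ) - 1) * (p ^ (f : ℕ) - 1) *
            (p ^ (f : ℕ)) ^ (∑ i ∈ Finset.range k, (i + 2)) :=
          Nat.mul_le_mul_right _ (Nat.mul_le_mul_right _ hg)
  · have he : ∑ i ∈ Finset.range k, (i + 2) = ∑ i ∈ Finset.range k, i + 2 * k := by
      rw [Finset.sum_add_distrib]; simp [mul_comm]
    have hN : ∑ i ∈ Finset.range (k + 1), i = ∑ i ∈ Finset.range k, i + k :=
      Finset.sum_range_succ _ _
    rw [he, hN]; omega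
  · have he : ∑ i ∈ Finset.range k, (i + 2) = ∑ i ∈ Finset.range k, i + 2 * k := by
      rw [Finset.sum_add_distrib]; simp [mul_comm]
    have hN : ∑ i ∈ Finset.range (k + 1), i = ∑ i ∈ Finset.range k, i + k :=
      Finset.sum_range_succ _ _
    have hS := Finset.sum_range_id_mul_two k
    have h3 : k ≤ k * (k - 1) := by
      calc k = k * 1 := (mul_one k).symm
        _ ≤ k * (k - 1) := Nat.mul_le_mul_left k (by omega)
    rw [he, hN]; omega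

end Cfsg.Agent.Lib.helper44.LO
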