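import Mathlib

set_option autoImplicit false
set_option linter.unusedSectionVars false

namespace Cfsg.Agent.Lib.helper47

open Polynomial

section general

variable {F : Type*} [Field F]

/-- the quadratic `X^2 - t X + 1` -/
noncomputable def cquad (t : F) : F[X] := X ^ 2 - C t * X + 1

/-- the matrix of multiplication by `x + y ω`, `ω^2 = t ω - 1` -/
def cmat (t x y : F) : Matrix (Fin 2) (Fin 2) F := !![x, -y; y, x + t * y]

theorem det_cmat (t x y : F) : (cmat t x y).det = x ^ 2 + t * x * y + y ^ 2 := by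
  rw [cmat, Matrix.det_fin_two_of]
  ring

theorem cmat_injective (t x y x' y' : F) (h : cmat t x y = cmat t x' y') : x = x' ∧ y = y' := by
  have h00 := congrFun (congrFun h 0) 0
  have h10 := congrFun (congrFun h 1) 0
  simp only [cmat, Matrix.of_apply, Matrix.cons_val', Matrix.cons_val_zero, Matrix.cons_val_one,
    Matrix.empty_val', Matrix.cons_val_fin_one] at h00 h10
  exact ⟨h00, h10⟩

theorem cmat_mul (t x y x' y' : F) :
    cmat t x y * cmat t x' y' = cmat t (x * x' - y * y') (x * y' + y * x' + t * y * y') := by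
  rw [cmat, cmat, cmat, Matrix.mul_fin_two]
  congr 1
  ext i j
  fin_cases i <;> fin_cases j <;> simp <;> ring

theorem cquad_natDegree (t : F) : (cquad t).natDegree = 2 := by
  unfold cquad
  compute_degree!

theorem cquad_irreducible {t : F} (hno : ∀ lam : F, lam ^ 2 - t * lam + 1 ≠ 0) :
    Irreducible (cquad t) := by
  apply irreducible_of_degree_le_three_of_not_isRoot
  · rw [cquad_natDegree]
    decide
  · intro lam hl
    rw [IsRoot, cquad] at hl
    simp only [eval_add, eval_sub, eval_mul, eval_pow, eval_X, eval_C, eval_one] at hl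
    exact hno lam hl

theorem aeval_cquad (t : F) : aeval (cmat t 0 1) (cquad t) = 0 := by
  unfold cquad
  simp only [map_add, map_sub, map_mul, map_pow, aeval_X, aeval_C, map_one]
  rw [pow_two, cmat_mul]
  ext i j
  fin_cases i <;> fin_cases j <;>
    simp [cmat, Matrix.algebraMap_matrix_apply, Matrix.mul_apply]

/-- the embedding of `F[ω]` into the matrix ring -/
noncomputable def cphi (t : F) : AdjoinRoot (cquad t) →+* Matrix (Fin 2) (Fin 2) F :=
  Ideal.Quotient.lift (Ideal.span {cquad t}) (aeval (cmat t 0 1)).toRingHom (by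
    intro a ha
    rw [Ideal.mem_span_singleton] at ha
    obtain ⟨b, rfl⟩ := ha
    show aeval (cmat t 0 1) (cquad t * b) = 0
    rw [map_mul, aeval_cquad, zero_mul])

theorem cphi_apply (t x y : F) :
    cphi t (AdjoinRoot.of (cquad t) x + AdjoinRoot.of (cquad t) y * AdjoinRoot.root (cquad t)) =
      cmat t x y := by
  have h1 : AdjoinRoot.of (cquad t) x + AdjoinRoot.of (cquad t) y * AdjoinRoot.root (cquad t) =
      AdjoinRoot.mk (cquad t) (C x + C y * X) := by
    simp [AdjoinRoot.mk_C, AdjoinRoot.mk_X]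
  rw [h1]
  show aeval (cmat t 0 1) (C x + C y * X) = cmat t x y
  simp only [map_add, map_mul, aeval_X, aeval_C]
  ext i j
  fin_cases i <;> fin_cases j <;>
    simp [cmat, Matrix.algebraMap_matrix_apply, Matrix.mul_apply, mul_comm]

/-- the norm homomorphism on units -/
noncomputable def cnu (t : F) : (AdjoinRoot (cquad t))ˣ →* Fˣ :=
  Units.map ((Matrix.detMonoidHom).comp (cphi t).toMonoidHom)

theorem cnu_apply (t : F) (u : (AdjoinRoot (cquad t))ˣ) :
    ((cnu t u : Fˣ) : F) = (cphi t (u : AdjoinRoot (cquad t))).det := rfl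

end general

section finite

variable {F : Type*} [Field F] [Fintype F] (t : F) [hirr : Fact (Irreducible (cquad t))]

theorem cquad_ne_zero : cquad t ≠ 0 := hirr.out.ne_zero

instance finiteCK : Finite (AdjoinRoot (cquad t)) := by
  have : Module.Finite F (AdjoinRoot (cquad t)) :=
    PowerBasis.finite (AdjoinRoot.powerBasis (cquad_ne_zero t))
  exact Module.finite_of_finite F

theorem card_CK : Nat.card (AdjoinRoot (cquad t)) = Fintype.card F ^ 2 := by
  have : Module.Finite F (AdjoinRoot (cquad t)) :=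
    PowerBasis.finite (AdjoinRoot.powerBasis (cquad_ne_zero t))
  rw [Module.natCard_eq_pow_finrank (K := F), (AdjoinRoot.powerBasis (cquad_ne_zero t)).finrank,
    AdjoinRoot.powerBasis_dim, cquad_natDegree, Nat.card_eq_fintype_card]

theorem cnu_surjective (hsurj : ∀ c : F, c ≠ 0 → ∃ x y : F, x ^ 2 + t * x * y + y ^ 2 = c) :
    Function.Surjective (cnu t) := by
  intro c
  obtain ⟨x, y, hxy⟩ := hsurj (c : F) c.ne_zero
  have hne : AdjoinRoot.of (cquad t) x + AdjoinRoot.of (cquad t) y * AdjoinRoot.root (cquad t) ≠ 0 := by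
    intro h
    have h1 := cphi_apply t x y
    rw [h, map_zero] at h1
    have h3 := det_cmat t x y
    rw [← h1, hxy] at h3
    simp at h3
    exact c.ne_zero h3.symm
  refine ⟨Units.mk0 _ hne, ?_⟩
  apply Units.ext
  rw [cnu_apply, Units.val_mk0, cphi_apply, det_cmat, hxy]

theorem card_ker_cnu (hsurj : ∀ c : F, c ≠ 0 → ∃ x y : F, x ^ 2 + t * x * y + y ^ 2 = c) :
    Nat.card (cnu t).ker = Fintype.card F + 1 := by
  have h1 := Subgroup.card_mul_index (cnu t).ker
  rw [Subgroup.index_ker, Nat.card_units, card_CK] at h1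
  have h2 : Nat.card (cnu t).range = Fintype.card F - 1 := by
    rw [MonoidHom.range_eq_top.mpr (cnu_surjective t hsurj), Subgroup.card_top, Nat.card_units,
      Nat.card_eq_fintype_card]
  rw [h2] at h1
  have hq : 2 ≤ Fintype.card F := Fintype.one_lt_card
  have h3 : Fintype.card F ^ 2 - 1 = (Fintype.card F + 1) * (Fintype.card F - 1) := by
    obtain ⟨k, hk⟩ : ∃ k, Fintype.card F = k + 2 := ⟨Fintype.card F - 2, by omega⟩
    rw [hk]
    have h5 : k + 2 - 1 = k + 1 := by omega
    have h6 : (k + 2) ^ 2 = (k + 2 + 1) * (k + 1) + 1 := by ring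
    rw [h5, h6]
    simp
  rw [h3] at h1
  have hpos : 0 < Fintype.card F - 1 := by omega
  exact Nat.eq_of_mul_eq_mul_right hpos h1

theorem exists_crep (k : AdjoinRoot (cquad t)) :
    ∃ x y : F, k = AdjoinRoot.of (cquad t) x +
      AdjoinRoot.of (cquad t) y * AdjoinRoot.root (cquad t) := by
  have hinj : Function.Injective (fun p : F × F => AdjoinRoot.of (cquad t) p.1 +
      AdjoinRoot.of (cquad t) p.2 * AdjoinRoot.root (cquad t)) := by
    intro p p' h
    have h1 := congrArg (cphi t) h
    simp only [cphi_apply] at h1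
    obtain ⟨h2, h3⟩ := cmat_injective t _ _ _ _ h1
    exact Prod.ext h2 h3
  have hbij := hinj.bijective_of_nat_card_le (by
    rw [card_CK, Nat.card_prod, Nat.card_eq_fintype_card, sq])
  obtain ⟨p, hp⟩ := hbij.2 k
  exact ⟨p.1, p.2, hp.symm⟩

end finite

section count

variable {F : Type*} [Field F] [Fintype F]

/-- an anisotropic norm form `x² + t x y + y²` that represents every nonzero element takes the
value `1` exactly `q + 1` times -/
theorem count_aniso (t : F) (hno : ∀ lam : F, lam ^ 2 - t * lam + 1 ≠ 0)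
    (hsurj : ∀ c : F, c ≠ 0 → ∃ x y : F, x ^ 2 + t * x * y + y ^ 2 = c) :
    Nat.card {p : F × F // p.1 ^ 2 + t * p.1 * p.2 + p.2 ^ 2 = 1} = Fintype.card F + 1 := by
  have : Fact (Irreducible (cquad t)) := ⟨cquad_irreducible hno⟩
  rw [← card_ker_cnu t hsurj]
  have hne : ∀ p : {p : F × F // p.1 ^ 2 + t * p.1 * p.2 + p.2 ^ 2 = 1},
      AdjoinRoot.of (cquad t) p.1.1 + AdjoinRoot.of (cquad t) p.1.2 * AdjoinRoot.root (cquad t) ≠ 0 := by
    intro p h
    have h1 := cphi_apply t p.1.1 p.1.2
    rw [h, map_zero] at h1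
    have h3 := det_cmat t p.1.1 p.1.2
    rw [← h1, p.2] at h3
    simp at h3
  have hker : ∀ p : {p : F × F // p.1 ^ 2 + t * p.1 * p.2 + p.2 ^ 2 = 1},
      Units.mk0 _ (hne p) ∈ (cnu t).ker := by
    intro p
    rw [MonoidHom.mem_ker]
    apply Units.ext
    rw [cnu_apply, Units.val_mk0, cphi_apply, det_cmat, p.2]
    rfl
  apply Nat.card_eq_of_bijective
    (fun p : {p : F × F // p.1 ^ 2 + t * p.1 * p.2 + p.2 ^ 2 = 1} =>
      (⟨Units.mk0 _ (hne p), hker p⟩ : (cnu t).ker))
  constructor
  · intro p p' h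
    have h1 : AdjoinRoot.of (cquad t) p.1.1 + AdjoinRoot.of (cquad t) p.1.2 * AdjoinRoot.root (cquad t) =
        AdjoinRoot.of (cquad t) p'.1.1 + AdjoinRoot.of (cquad t) p'.1.2 * AdjoinRoot.root (cquad t) :=
      congrArg (fun z : (cnu t).ker => ((z : (AdjoinRoot (cquad t))ˣ) : AdjoinRoot (cquad t))) h
    have h3 := congrArg (cphi t) h1
    simp only [cphi_apply] at h3
    obtain ⟨h4, h5⟩ := cmat_injective t _ _ _ _ h3
    exact Subtype.ext (Prod.ext h4 h5)
  · rintro ⟨u, hu⟩
    obtain ⟨x, y, hxy⟩ := exists_crep t (u : AdjoinRoot (cquad t))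
    have hN : x ^ 2 + t * x * y + y ^ 2 = 1 := by
      rw [MonoidHom.mem_ker] at hu
      have h1 := congrArg Units.val hu
      rw [cnu_apply, hxy, cphi_apply, det_cmat] at h1
      exact h1
    refine ⟨⟨(x, y), hN⟩, ?_⟩
    apply Subtype.ext
    apply Units.ext
    exact hxy.symm

end count

section counts

variable {F : Type*} [Field F] [Fintype F]

/-- split case: `x² + t x y + y² = 1` has `q - 1` solutions -/
theorem count_split_gen (t lam : F) (ht : t ^ 2 ≠ 4) (hl : lam ^ 2 - t * lam + 1 = 0) :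
    Nat.card {p : F × F // p.1 ^ 2 + t * p.1 * p.2 + p.2 ^ 2 = 1} = Fintype.card F - 1 := by
  have key : ∀ x y : F, (x + lam * y) * (x + (t - lam) * y) =
      x ^ 2 + t * x * y + y ^ 2 - y ^ 2 * (lam ^ 2 - t * lam + 1) := by
    intro x y
    ring
  have hd : 2 * lam - t ≠ 0 := by
    intro h
    apply ht
    linear_combination (2 * lam - t) * h - 4 * hl
  have hne : ∀ p : {p : F × F // p.1 ^ 2 + t * p.1 * p.2 + p.2 ^ 2 = 1},
      p.1.1 + lam * p.1.2 ≠ 0 := by
    intro p h0
    have h1 := key p.1.1 p.1.2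
    rw [h0, zero_mul, p.2, hl] at h1
    simp at h1
  rw [← Nat.card_eq_fintype_card, ← Nat.card_units]
  apply Nat.card_eq_of_bijective
    (fun p : {p : F × F // p.1 ^ 2 + t * p.1 * p.2 + p.2 ^ 2 = 1} =>
      Units.mk0 (p.1.1 + lam * p.1.2) (hne p))
  constructor
  · intro p p' h
    have h1 : p.1.1 + lam * p.1.2 = p'.1.1 + lam * p'.1.2 := congrArg Units.val h
    have h3 : (p.1.1 + lam * p.1.2) * (p.1.1 + (t - lam) * p.1.2) = 1 := by
      rw [key, p.2, hl]
      ring
    have h4 : (p'.1.1 + lam * p'.1.2) * (p'.1.1 + (t - lam) * p'.1.2) = 1 := by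
      rw [key, p'.2, hl]
      ring
    rw [h1] at h3
    have h5 : p.1.1 + (t - lam) * p.1.2 = p'.1.1 + (t - lam) * p'.1.2 :=
      mul_left_cancel₀ (hne p') (h3.trans h4.symm)
    have h6 : (2 * lam - t) * (p.1.2 - p'.1.2) = 0 := by linear_combination h1 - h5
    have h7 : p.1.2 = p'.1.2 := by
      rcases mul_eq_zero.mp h6 with h | h
      · exact absurd h hd
      · exact sub_eq_zero.mp h
    apply Subtype.ext
    apply Prod.ext
    · rw [h7] at h1
      linear_combination h1
    · exact h7
  · intro u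
    have hu : (u : F) ≠ 0 := u.ne_zero
    set y : F := ((u : F) - (u : F)⁻¹) / (2 * lam - t) with hy
    set x : F := (u : F) - lam * y with hx
    have hy1 : (2 * lam - t) * y = (u : F) - (u : F)⁻¹ := by
      rw [hy]
      field_simp
    have hx1 : x + lam * y = (u : F) := by rw [hx]; ring
    have hx2 : x + (t - lam) * y = (u : F)⁻¹ := by
      rw [hx]
      linear_combination (-1 : F) * hy1
    have hN : x ^ 2 + t * x * y + y ^ 2 = 1 := by
      have h1 := key x y
      rw [hx1, hx2, hl, mul_inv_cancel₀ hu] at h1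
      linear_combination -h1
    refine ⟨⟨(x, y), hN⟩, ?_⟩
    apply Units.ext
    exact hx1

/-- degenerate case `t = ±2` in odd characteristic: `2 q` solutions -/
theorem count_degenerate (h2 : (2 : F) ≠ 0) (t : F) (ht : t ^ 2 = 4) :
    Nat.card {p : F × F // p.1 ^ 2 + t * p.1 * p.2 + p.2 ^ 2 = 1} = 2 * Fintype.card F := by
  have key : ∀ x y : F, x ^ 2 + t * x * y + y ^ 2 = (x + t / 2 * y) ^ 2 := by
    intro x y
    field_simp
    linear_combination (-(y ^ 2)) * ht
  have hne : (1 : F) ≠ -1 := by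
    intro h
    apply h2
    linear_combination h
  have hcard : Nat.card (F × Bool) = 2 * Fintype.card F := by
    rw [Nat.card_prod, Nat.card_eq_fintype_card, Nat.card_eq_fintype_card, Fintype.card_bool,
      mul_comm]
  rw [← hcard]
  symm
  apply Nat.card_eq_of_bijective
    (fun a : F × Bool =>
      (⟨((if a.2 then (1 : F) else -1) - t / 2 * a.1, a.1), by
        show ((if a.2 then (1 : F) else -1) - t / 2 * a.1) ^ 2 +
          t * ((if a.2 then (1 : F) else -1) - t / 2 * a.1) * a.1 + a.1 ^ 2 = 1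
        rw [key]
        rcases a with ⟨y, b⟩
        cases b <;> simp⟩ : {p : F × F // p.1 ^ 2 + t * p.1 * p.2 + p.2 ^ 2 = 1}))
  constructor
  · rintro ⟨y, b⟩ ⟨y', b'⟩ h
    have h1 := congrArg (fun z : {p : F × F // p.1 ^ 2 + t * p.1 * p.2 + p.2 ^ 2 = 1} => z.1.2) h
    have h3 := congrArg (fun z : {p : F × F // p.1 ^ 2 + t * p.1 * p.2 + p.2 ^ 2 = 1} => z.1.1) h
    simp only at h1 h3
    subst h1
    have h4 : (if b then (1 : F) else -1) = (if b' then (1 : F) else -1) := by
      linear_combination h3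
    have h5 : b = b' := by
      cases b <;> cases b' <;> simp only [Bool.false_eq_true, if_false, if_true] at h4
      · rfl
      · exact absurd h4.symm hne
      · exact absurd h4 hne
      · rfl
    rw [h5]
  · rintro ⟨⟨x, y⟩, hxy⟩
    simp only at hxy
    rw [key] at hxy
    have h1 : (x + t / 2 * y - 1) * (x + t / 2 * y + 1) = 0 := by linear_combination hxy
    rcases mul_eq_zero.mp h1 with h | h
    · refine ⟨(y, true), ?_⟩
      apply Subtype.ext
      apply Prod.ext
      · simp only [if_true]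
        linear_combination (-1 : F) * h
      · rfl
    · refine ⟨(y, false), ?_⟩
      apply Subtype.ext
      apply Prod.ext
      · simp only [Bool.false_eq_true, if_false]
        linear_combination (-1 : F) * h
      · rfl

theorem two_ne_zero_of_card_odd (hodd : Fintype.card F % 2 = 1) : (2 : F) ≠ 0 := by
  apply Ring.two_ne_zero
  intro h
  have := FiniteField.even_card_of_char_two h
  omega

/-- in odd characteristic a nondegenerate form `x² + t x y + y²` represents everything -/
theorem norm_surj_of_odd (hodd : Fintype.card F % 2 = 1) (t : F) (ht : t ^ 2 ≠ 4) (c : F) :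
    ∃ x y : F, x ^ 2 + t * x * y + y ^ 2 = c := by
  have h2 : (2 : F) ≠ 0 := two_ne_zero_of_card_odd hodd
  have h4 : (4 : F) ≠ 0 := by
    have : (4 : F) = 2 * 2 := by norm_num
    rw [this]
    exact mul_ne_zero h2 h2
  have he : (1 - t ^ 2 / 4 : F) ≠ 0 := by
    intro h
    apply ht
    field_simp at h
    linear_combination -h
  obtain ⟨a, b, hab⟩ := FiniteField.exists_root_sum_quadratic (R := F) (f := X ^ 2 - C c)
    (g := C (1 - t ^ 2 / 4) * X ^ 2) (degree_X_pow_sub_C (by decide) _)
    (degree_C_mul_X_pow 2 he) hodd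
  simp only [eval_sub, eval_pow, eval_X, eval_C, eval_mul] at hab
  refine ⟨a - t * b / 2, b, ?_⟩
  have h5 : (a - t * b / 2) ^ 2 + t * (a - t * b / 2) * b + b ^ 2 =
      a ^ 2 + (1 - t ^ 2 / 4) * b ^ 2 := by
    field_simp
    ring
  rw [h5]
  linear_combination hab

/-- nonsplit case in odd characteristic: `q + 1` solutions -/
theorem count_nonsplit_odd (hodd : Fintype.card F % 2 = 1) (t : F)
    (hno : ∀ lam : F, lam ^ 2 - t * lam + 1 ≠ 0) :
    Nat.card {p : F × F // p.1 ^ 2 + t * p.1 * p.2 + p.2 ^ 2 = 1} = Fintype.card F + 1 := by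
  have h2 : (2 : F) ≠ 0 := two_ne_zero_of_card_odd hodd
  have ht : t ^ 2 ≠ 4 := by
    intro h
    apply hno (t / 2)
    field_simp
    linear_combination -h
  exact count_aniso t hno (fun c _ => norm_surj_of_odd hodd t ht c)

/-- there is a nonzero trace with irreducible characteristic polynomial -/
theorem exists_nonsplit_trace (h5 : 5 ≤ Fintype.card F) :
    ∃ t : F, t ≠ 0 ∧ ∀ lam : F, lam ^ 2 - t * lam + 1 ≠ 0 := by
  classical
  by_contra hcon
  push Not at hcon
  choose! φ hφ using hcon
  have hφ0 : ∀ t : F, t ≠ 0 → φ t ≠ 0 := by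
    intro t ht h0
    have := hφ t ht
    rw [h0] at this
    simp at this
  let ψ : {t : F // t ≠ 0} → Fˣ := fun t => Units.mk0 (φ t.1) (hφ0 t.1 t.2)
  have hψinj : Function.Injective ψ := by
    intro t t' h
    have h1 : φ t.1 = φ t'.1 := congrArg Units.val h
    have h3 := hφ t.1 t.2
    have h4 := hφ t'.1 t'.2
    rw [h1] at h3
    have h6 : (t.1 - t'.1) * φ t'.1 = 0 := by linear_combination h4 - h3
    rcases mul_eq_zero.mp h6 with h | h
    · exact Subtype.ext (sub_eq_zero.mp h)
    · exact absurd h (hφ0 t'.1 t'.2)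
  have hψbij := hψinj.bijective_of_nat_card_le (by
    rw [Nat.card_congr (unitsEquivNeZero (G₀ := F))])
  have hsq : ∀ u : Fˣ, u ^ 2 = 1 := by
    intro u
    obtain ⟨t, ht⟩ := hψbij.2 u
    obtain ⟨t', ht'⟩ := hψbij.2 u⁻¹
    have h1 : φ t.1 = (u : F) := congrArg Units.val ht
    have h3 : φ t'.1 = (u : F)⁻¹ := by
      have := congrArg Units.val ht'
      rw [Units.val_inv_eq_inv_val] at this
      exact this
    have hu : (u : F) ≠ 0 := u.ne_zero
    have h4 := hφ t.1 t.2
    have h5' := hφ t'.1 t'.2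
    rw [h1] at h4
    rw [h3] at h5'
    have h6 : t.1 = t'.1 := by
      field_simp at h5'
      have h7 : (t.1 - t'.1) * (u : F) = 0 := by linear_combination h5' - h4
      rcases mul_eq_zero.mp h7 with h | h
      · exact sub_eq_zero.mp h
      · exact absurd h hu
    have h8 : t = t' := Subtype.ext h6
    rw [h8, ht'] at ht
    have h9 : u * u = 1 := by
      nth_rewrite 1 [← ht]
      exact inv_mul_cancel u
    rw [sq, h9]
  obtain ⟨g, hg⟩ := IsCyclic.exists_ofOrder_eq_natCard (α := Fˣ)
  have h10 : orderOf g ∣ 2 := orderOf_dvd_of_pow_eq_one (hsq g)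
  rw [hg, Nat.card_units, Nat.card_eq_fintype_card] at h10
  have h11 := Nat.le_of_dvd (by norm_num) h10
  omega

end counts

end Cfsg.Agent.Lib.helper47
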