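/-
Orthogonal groups: frame calculus for Eichler transformations (long-root Weyl elements, the
short Weyl element, torus elements) used for two-generation of the groups `PΩ`.
-/
import Mathlib
import Cfsg.Prelude.Def_Classical
import Cfsg.Agent.Lib.helper49.NondegMax

set_option autoImplicit false

namespace Cfsg.Agent.Lib.helper47.OGen

open Cfsg.Agent.Lib.helper49 QuadraticMap

variable {F : Type*} [Field F] {ι : Type} [Fintype ι] [DecidableEq ι]

/-- The long root element: an Eichler transformation with singular second argument. -/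
theorem isoAct_long (Q : QuadraticForm F (ι → F)) (e f' : ι → F) (he : Q e = 0) (hf' : Q f' = 0)
    (hef' : polar Q e f' = 0) (t : F) (x : ι → F) :
    isoAct (⇑Q) (eichG Q e (t • f')) x = x + (t * polar Q f' x) • e - (t * polar Q e x) • f' := by
  rw [isoAct_eichG Q e (t • f') he (by rw [polar_smul_right, hef', smul_zero]),
    QuadraticMap.map_smul, hf', smul_zero, zero_mul, sub_zero, polar_smul_left, smul_eq_mul,
    smul_smul, mul_comm (polar Q e x) t]

/-- Two orthogonal hyperbolic pairs. -/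
structure HypQuad (Q : QuadraticForm F (ι → F)) (e f e' f' : ι → F) : Prop where
  he : Q e = 0
  hf : Q f = 0
  he' : Q e' = 0
  hf' : Q f' = 0
  hef : polar Q e f = 1
  he'f' : polar Q e' f' = 1
  hee' : polar Q e e' = 0
  hef' : polar Q e f' = 0
  hfe' : polar Q f e' = 0
  hff' : polar Q f f' = 0

/-- The long Weyl-type element `n(t)`. -/
noncomputable def wN (Q : QuadraticForm F (ι → F)) (e f e' f' : ι → F) (t : F) :
    ↥(Cfsg.isometryGroup F ⇑Q) :=
  eichG Q e (t • f') * eichG Q e' ((-t⁻¹) • f) * eichG Q e (t • f')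

section quad

variable (Q : QuadraticForm F (ι → F)) (e f e' f' : ι → F) (hq : HypQuad Q e f e' f')
include hq

theorem HypQuad.hfe : polar Q f e = 1 := by rw [polar_comm]; exact hq.hef
theorem HypQuad.hf'e' : polar Q f' e' = 1 := by rw [polar_comm]; exact hq.he'f'
theorem HypQuad.he'e : polar Q e' e = 0 := by rw [polar_comm]; exact hq.hee'
theorem HypQuad.hf'e : polar Q f' e = 0 := by rw [polar_comm]; exact hq.hef'
theorem HypQuad.he'f : polar Q e' f = 0 := by rw [polar_comm]; exact hq.hfe'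
theorem HypQuad.hf'f : polar Q f' f = 0 := by rw [polar_comm]; exact hq.hff'
theorem HypQuad.hee : polar Q e e = 0 := by rw [polar_self, hq.he, smul_zero]
theorem HypQuad.hff : polar Q f f = 0 := by rw [polar_self, hq.hf, smul_zero]
theorem HypQuad.he'e'' : polar Q e' e' = 0 := by rw [polar_self, hq.he', smul_zero]
theorem HypQuad.hf'f'' : polar Q f' f' = 0 := by rw [polar_self, hq.hf', smul_zero]

theorem isoAct_wN_gen (t : F) (x : ι → F) :
    isoAct (⇑Q) (wN Q e f e' f' t) x =
      isoAct (⇑Q) (eichG Q e (t • f')) (isoAct (⇑Q) (eichG Q e' ((-t⁻¹) • f))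
        (isoAct (⇑Q) (eichG Q e (t • f')) x)) := by
  unfold wN
  rw [isoAct_mul, isoAct_mul]

theorem isoAct_wN_e (t : F) (ht : t ≠ 0) :
    isoAct (⇑Q) (wN Q e f e' f' t) e = (-t⁻¹) • e' := by
  rw [isoAct_wN_gen Q e f e' f' hq, isoAct_long Q e f' hq.he hq.hf' hq.hef',
    isoAct_long Q e' f hq.he' hq.hf hq.he'f, isoAct_long Q e f' hq.he hq.hf' hq.hef']
  simp only [polar_add_right, polar_sub_right, polar_smul_right, hq.hee, hq.hf'e, hq.he'e, hq.hfe,
    hq.hef', hq.hf'f'', hq.hf'e', hq.hee', hq.he'e'', hq.hfe', smul_eq_mul, mul_zero, mul_one,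
    zero_smul, add_zero, sub_zero, zero_add, zero_mul]
  ext i
  simp only [Pi.add_apply, Pi.sub_apply, Pi.smul_apply, smul_eq_mul, Pi.neg_apply]
  field_simp
  ring

theorem isoAct_wN_e' (t : F) (ht : t ≠ 0) :
    isoAct (⇑Q) (wN Q e f e' f' t) e' = t • e := by
  rw [isoAct_wN_gen Q e f e' f' hq, isoAct_long Q e f' hq.he hq.hf' hq.hef',
    isoAct_long Q e' f hq.he' hq.hf hq.he'f, isoAct_long Q e f' hq.he hq.hf' hq.hef']
  simp only [polar_add_right, polar_sub_right, polar_smul_right, hq.hee, hq.hf'e, hq.he'e, hq.hfe,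
    hq.hef', hq.hf'f'', hq.hf'e', hq.hee', hq.he'e'', hq.hfe', smul_eq_mul, mul_zero, mul_one,
    zero_smul, add_zero, sub_zero, zero_add, zero_mul]
  ext i
  simp only [Pi.add_apply, Pi.sub_apply, Pi.smul_apply, smul_eq_mul, Pi.neg_apply]
  field_simp
  ring

theorem isoAct_wN_f (t : F) (ht : t ≠ 0) :
    isoAct (⇑Q) (wN Q e f e' f' t) f = (-t) • f' := by
  rw [isoAct_wN_gen Q e f e' f' hq, isoAct_long Q e f' hq.he hq.hf' hq.hef',
    isoAct_long Q e' f hq.he' hq.hf hq.he'f, isoAct_long Q e f' hq.he hq.hf' hq.hef']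
  simp only [polar_add_right, polar_sub_right, polar_smul_right, hq.hef, hq.hf'f, hq.he'f, hq.hff,
    hq.hef', hq.hf'f'', hq.he'f', hq.hff', hq.hee, hq.hf'e, hq.hfe, hq.he'e, hq.hfe', hq.hf'e',
    hq.hee', hq.he'e'', smul_eq_mul, mul_zero, mul_one,
    zero_smul, add_zero, sub_zero, zero_add, zero_mul]
  ext i
  simp only [Pi.add_apply, Pi.sub_apply, Pi.smul_apply, smul_eq_mul, Pi.neg_apply]
  field_simp
  ring

theorem isoAct_wN_f' (t : F) (ht : t ≠ 0) :
    isoAct (⇑Q) (wN Q e f e' f' t) f' = t⁻¹ • f := by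
  rw [isoAct_wN_gen Q e f e' f' hq, isoAct_long Q e f' hq.he hq.hf' hq.hef',
    isoAct_long Q e' f hq.he' hq.hf hq.he'f, isoAct_long Q e f' hq.he hq.hf' hq.hef']
  simp only [polar_add_right, polar_sub_right, polar_smul_right, hq.hef, hq.hf'f, hq.he'f, hq.hff,
    hq.hef', hq.hf'f'', hq.he'f', hq.hff', hq.hee, hq.hf'e, hq.hfe, hq.he'e, hq.hfe', hq.hf'e',
    hq.hee', hq.he'e'', smul_eq_mul, mul_zero, mul_one,
    zero_smul, add_zero, sub_zero, zero_add, zero_mul]
  ext i
  simp only [Pi.add_apply, Pi.sub_apply, Pi.smul_apply, smul_eq_mul, Pi.neg_apply]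
  field_simp
  ring

theorem isoAct_wN_orth (t : F) (x : ι → F) (h1 : polar Q e x = 0) (h2 : polar Q f x = 0)
    (h3 : polar Q e' x = 0) (h4 : polar Q f' x = 0) :
    isoAct (⇑Q) (wN Q e f e' f' t) x = x := by
  rw [isoAct_wN_gen Q e f e' f' hq, isoAct_long Q e f' hq.he hq.hf' hq.hef',
    isoAct_long Q e' f hq.he' hq.hf hq.he'f, isoAct_long Q e f' hq.he hq.hf' hq.hef']
  simp only [h1, h2, h3, h4, mul_zero, zero_smul, add_zero, sub_zero]

end quad

end Cfsg.Agent.Lib.helper47.OGen
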