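/-
Orthogonal groups: the short Weyl element, frames, cyclic monomial elements and torus elements.
-/
import Mathlib
import Cfsg.Prelude.Def_Classical
import Cfsg.Agent.Lib.helper49.NondegMax
import Cfsg.Agent.Lib.helper47.OGenA

set_option autoImplicit false

namespace Cfsg.Agent.Lib.helper47.OGen

open Cfsg.Agent.Lib.helper49 QuadraticMap

variable {F : Type*} [Field F] {ι : Type} [Fintype ι] [DecidableEq ι]

/-- The short Weyl-type element attached to a hyperbolic pair `e, f` and an anisotropic vector `z`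
orthogonal to it. -/
noncomputable def wS (Q : QuadraticForm F (ι → F)) (e f z : ι → F) : ↥(Cfsg.isometryGroup F ⇑Q) :=
  eichG Q e z * eichG Q f ((Q z)⁻¹ • z) * eichG Q e z

section short

variable (Q : QuadraticForm F (ι → F)) (e f z : ι → F) (he : Q e = 0) (hf : Q f = 0)
  (hef : polar Q e f = 1) (hez : polar Q e z = 0) (hfz : polar Q f z = 0) (hz : Q z ≠ 0)
include he hf hef hez hfz hz

theorem isoAct_wS_gen (x : ι → F) :
    isoAct (⇑Q) (wS Q e f z) x =
      isoAct (⇑Q) (eichG Q e z) (isoAct (⇑Q) (eichG Q f ((Q z)⁻¹ • z))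
        (isoAct (⇑Q) (eichG Q e z) x)) := by
  unfold wS
  rw [isoAct_mul, isoAct_mul]

theorem isoAct_wS_orth (x : ι → F) (h1 : polar Q e x = 0) (h2 : polar Q f x = 0) :
    isoAct (⇑Q) (wS Q e f z) x = x - ((Q z)⁻¹ * polar Q z x) • z := by
  have hze : polar Q z e = 0 := by rw [polar_comm]; exact hez
  have hzf : polar Q z f = 0 := by rw [polar_comm]; exact hfz
  have hfe : polar Q f e = 1 := by rw [polar_comm]; exact hef
  have hee : polar Q e e = 0 := by rw [polar_self, he, smul_zero]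
  have hzz : polar Q z z = 2 * Q z := by rw [polar_self]; simp
  rw [isoAct_wS_gen Q e f z he hf hef hez hfz hz, isoAct_eichG Q e z he hez,
    isoAct_eichG Q f _ hf (by rw [polar_smul_right, hfz, smul_zero]), isoAct_eichG Q e z he hez]
  simp only [polar_add_right, polar_sub_right, polar_smul_right, polar_smul_left,
    QuadraticMap.map_smul, h1, h2, hze, hzf, hfe, hee, hzz, hez, hfz, smul_eq_mul, mul_zero,
    mul_one, zero_smul, add_zero, sub_zero, zero_add, zero_mul]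
  ext i
  simp only [Pi.add_apply, Pi.sub_apply, Pi.smul_apply, smul_eq_mul, Pi.neg_apply]
  field_simp
  ring

theorem isoAct_wS_e : isoAct (⇑Q) (wS Q e f z) e = (-(Q z)⁻¹) • f := by
  have hze : polar Q z e = 0 := by rw [polar_comm]; exact hez
  have hzf : polar Q z f = 0 := by rw [polar_comm]; exact hfz
  have hfe : polar Q f e = 1 := by rw [polar_comm]; exact hef
  have hee : polar Q e e = 0 := by rw [polar_self, he, smul_zero]
  have hff : polar Q f f = 0 := by rw [polar_self, hf, smul_zero]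
  have hzz : polar Q z z = 2 * Q z := by rw [polar_self]; simp
  rw [isoAct_wS_gen Q e f z he hf hef hez hfz hz, isoAct_eichG Q e z he hez,
    isoAct_eichG Q f _ hf (by rw [polar_smul_right, hfz, smul_zero]), isoAct_eichG Q e z he hez]
  simp only [polar_add_right, polar_sub_right, polar_smul_right, polar_smul_left,
    QuadraticMap.map_smul, hze, hzf, hfe, hee, hff, hzz, hez, hfz, hef, smul_eq_mul, mul_zero,
    mul_one, zero_smul, add_zero, sub_zero, zero_add, zero_mul]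
  ext i
  simp only [Pi.add_apply, Pi.sub_apply, Pi.smul_apply, smul_eq_mul, Pi.neg_apply]
  field_simp
  ring

theorem isoAct_wS_f : isoAct (⇑Q) (wS Q e f z) f = (-(Q z)) • e := by
  have hze : polar Q z e = 0 := by rw [polar_comm]; exact hez
  have hzf : polar Q z f = 0 := by rw [polar_comm]; exact hfz
  have hfe : polar Q f e = 1 := by rw [polar_comm]; exact hef
  have hee : polar Q e e = 0 := by rw [polar_self, he, smul_zero]
  have hff : polar Q f f = 0 := by rw [polar_self, hf, smul_zero]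
  have hzz : polar Q z z = 2 * Q z := by rw [polar_self]; simp
  rw [isoAct_wS_gen Q e f z he hf hef hez hfz hz, isoAct_eichG Q e z he hez,
    isoAct_eichG Q f _ hf (by rw [polar_smul_right, hfz, smul_zero]), isoAct_eichG Q e z he hez]
  simp only [polar_add_right, polar_sub_right, polar_smul_right, polar_smul_left,
    QuadraticMap.map_smul, hze, hzf, hfe, hee, hff, hzz, hez, hfz, hef, smul_eq_mul, mul_zero,
    mul_one, zero_smul, add_zero, sub_zero, zero_add, zero_mul]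
  ext i
  simp only [Pi.add_apply, Pi.sub_apply, Pi.smul_apply, smul_eq_mul, Pi.neg_apply]
  field_simp
  ring

theorem isoAct_wS_z : isoAct (⇑Q) (wS Q e f z) z = -z := by
  rw [isoAct_wS_orth Q e f z he hf hef hez hfz hz z hez hfz, polar_self]
  ext i
  simp only [Pi.sub_apply, Pi.smul_apply, smul_eq_mul, Pi.neg_apply, nsmul_eq_mul, Nat.cast_ofNat]
  field_simp
  ring

end short

/-- A hyperbolic frame with `m` pairs. -/
structure Frame (Q : QuadraticForm F (ι → F)) (m : ℕ) (e f : ℕ → ι → F) : Prop where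
  he : ∀ i < m, Q (e i) = 0
  hf : ∀ i < m, Q (f i) = 0
  hef : ∀ i < m, polar Q (e i) (f i) = 1
  hee : ∀ i < m, ∀ j < m, polar Q (e i) (e j) = 0
  hff : ∀ i < m, ∀ j < m, polar Q (f i) (f j) = 0
  hef' : ∀ i < m, ∀ j < m, i ≠ j → polar Q (e i) (f j) = 0

omit [Fintype ι] [DecidableEq ι] in
theorem Frame.hfe' {Q : QuadraticForm F (ι → F)} {m : ℕ} {e f : ℕ → ι → F} (hfr : Frame Q m e f)
    {i j : ℕ} (hi : i < m) (hj : j < m) (hij : i ≠ j) : polar Q (f i) (e j) = 0 := by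
  rw [polar_comm]; exact hfr.hef' j hj i hi (Ne.symm hij)

omit [Fintype ι] [DecidableEq ι] in
theorem Frame.hfe {Q : QuadraticForm F (ι → F)} {m : ℕ} {e f : ℕ → ι → F} (hfr : Frame Q m e f)
    {i : ℕ} (hi : i < m) : polar Q (f i) (e i) = 1 := by
  rw [polar_comm]; exact hfr.hef i hi

omit [Fintype ι] [DecidableEq ι] in
theorem Frame.hypQuad {Q : QuadraticForm F (ι → F)} {m : ℕ} {e f : ℕ → ι → F} (hfr : Frame Q m e f)
    {i j : ℕ} (hi : i < m) (hj : j < m) (hij : i ≠ j) : HypQuad Q (e i) (f i) (e j) (f j) where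
  he := hfr.he i hi
  hf := hfr.hf i hi
  he' := hfr.he j hj
  hf' := hfr.hf j hj
  hef := hfr.hef i hi
  he'f' := hfr.hef j hj
  hee' := hfr.hee i hi j hj
  hef' := hfr.hef' i hi j hj hij
  hfe' := hfr.hfe' hi hj hij
  hff' := hfr.hff i hi j hj

theorem wN_mem (Q : QuadraticForm F (ι → F)) (M : Subgroup ↥(Cfsg.isometryGroup F ⇑Q))
    (hM : ∀ e w, eichG Q e w ∈ M) (e f e' f' : ι → F) (t : F) : wN Q e f e' f' t ∈ M :=
  mul_mem (mul_mem (hM _ _) (hM _ _)) (hM _ _)

theorem wS_mem (Q : QuadraticForm F (ι → F)) (M : Subgroup ↥(Cfsg.isometryGroup F ⇑Q))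
    (hM : ∀ e w, eichG Q e w ∈ M) (e f z : ι → F) : wS Q e f z ∈ M :=
  mul_mem (mul_mem (hM _ _) (hM _ _)) (hM _ _)

/-- A monomial element cycling the first `j + 1` pairs of the frame. -/
theorem exists_cyc (Q : QuadraticForm F (ι → F)) (M : Subgroup ↥(Cfsg.isometryGroup F ⇑Q))
    (hM : ∀ e w, eichG Q e w ∈ M) (m : ℕ) (e f : ℕ → ι → F) (hfr : Frame Q m e f) (j : ℕ)
    (hj : j < m) :
    ∃ g ∈ M, (∀ k < j, ∃ c : F, c ≠ 0 ∧ isoAct (⇑Q) g (e k) = c • e (k + 1)) ∧
      (∃ c : F, c ≠ 0 ∧ isoAct (⇑Q) g (e j) = c • e 0) ∧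
      (∀ k < j, ∃ c : F, c ≠ 0 ∧ isoAct (⇑Q) g (f k) = c • f (k + 1)) ∧
      (∃ c : F, c ≠ 0 ∧ isoAct (⇑Q) g (f j) = c • f 0) ∧
      (∀ x, (∀ k ≤ j, polar Q (e k) x = 0 ∧ polar Q (f k) x = 0) → isoAct (⇑Q) g x = x) := by
  induction j with
  | zero =>
    exact ⟨1, one_mem _, by simp, ⟨1, one_ne_zero, by rw [isoAct_one, one_smul]⟩, by simp,
      ⟨1, one_ne_zero, by rw [isoAct_one, one_smul]⟩, fun x _ => isoAct_one _ x⟩
  | succ j ih =>
    obtain ⟨g, hg, h1, ⟨c2, hc2, h2⟩, h3, ⟨c4, hc4, h4⟩, h5⟩ := ih (by omega)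
    have hjm : j < m := by omega
    have hq := hfr.hypQuad hjm hj (Nat.ne_of_lt (Nat.lt_succ_self j))
    refine ⟨g * wN Q (e j) (f j) (e (j + 1)) (f (j + 1)) 1, mul_mem hg (wN_mem Q M hM _ _ _ _ _),
      ?_, ?_, ?_, ?_, ?_⟩
    · intro k hk
      rcases Nat.lt_succ_iff_lt_or_eq.mp hk with hk' | rfl
      · obtain ⟨c, hc, hc'⟩ := h1 k hk'
        refine ⟨c, hc, ?_⟩
        rw [isoAct_mul, isoAct_wN_orth Q _ _ _ _ hq 1 (e k) (hfr.hee j hjm k (by omega))
          (hfr.hfe' hjm (by omega) (by omega)) (hfr.hee (j + 1) hj k (by omega))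
          (hfr.hfe' hj (by omega) (by omega))]
        exact hc'
      · refine ⟨-1, by simp, ?_⟩
        rw [isoAct_mul, isoAct_wN_e Q _ _ _ _ hq 1 one_ne_zero, isoAct_smul, h5 (e (k + 1))]
        · simp
        · intro i hi
          exact ⟨hfr.hee i (by omega) (k + 1) hj, hfr.hfe' (by omega) hj (by omega)⟩
    · refine ⟨c2, hc2, ?_⟩
      rw [isoAct_mul, isoAct_wN_e' Q _ _ _ _ hq 1 one_ne_zero, one_smul]
      exact h2
    · intro k hk
      rcases Nat.lt_succ_iff_lt_or_eq.mp hk with hk' | rfl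
      · obtain ⟨c, hc, hc'⟩ := h3 k hk'
        refine ⟨c, hc, ?_⟩
        rw [isoAct_mul, isoAct_wN_orth Q _ _ _ _ hq 1 (f k) (hfr.hef' j hjm k (by omega) (by omega))
          (hfr.hff j hjm k (by omega)) (hfr.hef' (j + 1) hj k (by omega) (by omega))
          (hfr.hff (j + 1) hj k (by omega))]
        exact hc'
      · refine ⟨-1, by simp, ?_⟩
        rw [isoAct_mul, isoAct_wN_f Q _ _ _ _ hq 1 one_ne_zero, isoAct_smul, h5 (f (k + 1))]
        intro i hi
        exact ⟨hfr.hef' i (by omega) (k + 1) hj (by omega), hfr.hff i (by omega) (k + 1) hj⟩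
    · refine ⟨c4, hc4, ?_⟩
      rw [isoAct_mul, isoAct_wN_f' Q _ _ _ _ hq 1 one_ne_zero, inv_one, one_smul]
      exact h4
    · intro x hx
      rw [isoAct_mul, isoAct_wN_orth Q _ _ _ _ hq 1 x (hx j (by omega)).1 (hx j (by omega)).2
        (hx (j + 1) le_rfl).1 (hx (j + 1) le_rfl).2]
      exact h5 x (fun k hk => hx k (by omega))

/-- The torus element. -/
noncomputable def tor (Q : QuadraticForm F (ι → F)) (e f e' f' : ι → F) (t : F) :
    ↥(Cfsg.isometryGroup F ⇑Q) :=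
  wN Q e f e' f' t * wN Q e f e' f' (-1)

theorem tor_mem (Q : QuadraticForm F (ι → F)) (M : Subgroup ↥(Cfsg.isometryGroup F ⇑Q))
    (hM : ∀ e w, eichG Q e w ∈ M) (e f e' f' : ι → F) (t : F) : tor Q e f e' f' t ∈ M :=
  mul_mem (wN_mem Q M hM _ _ _ _ _) (wN_mem Q M hM _ _ _ _ _)

section torus

variable (Q : QuadraticForm F (ι → F)) (e f e' f' : ι → F) (hq : HypQuad Q e f e' f')
include hq

theorem isoAct_tor_e (t : F) (ht : t ≠ 0) : isoAct (⇑Q) (tor Q e f e' f' t) e = t • e := by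
  unfold tor
  rw [isoAct_mul, isoAct_wN_e Q e f e' f' hq (-1) (by simp), isoAct_smul,
    isoAct_wN_e' Q e f e' f' hq t ht]
  simp

theorem isoAct_tor_e' (t : F) (ht : t ≠ 0) : isoAct (⇑Q) (tor Q e f e' f' t) e' = t⁻¹ • e' := by
  unfold tor
  rw [isoAct_mul, isoAct_wN_e' Q e f e' f' hq (-1) (by simp), isoAct_smul,
    isoAct_wN_e Q e f e' f' hq t ht]
  simp

theorem isoAct_tor_f (t : F) (ht : t ≠ 0) : isoAct (⇑Q) (tor Q e f e' f' t) f = t⁻¹ • f := by
  unfold tor
  rw [isoAct_mul, isoAct_wN_f Q e f e' f' hq (-1) (by simp), isoAct_smul,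
    isoAct_wN_f' Q e f e' f' hq t ht]
  simp

theorem isoAct_tor_f' (t : F) (ht : t ≠ 0) : isoAct (⇑Q) (tor Q e f e' f' t) f' = t • f' := by
  unfold tor
  rw [isoAct_mul, isoAct_wN_f' Q e f e' f' hq (-1) (by simp), isoAct_smul,
    isoAct_wN_f Q e f e' f' hq t ht]
  simp

theorem isoAct_tor_orth (t : F) (x : ι → F) (h1 : polar Q e x = 0) (h2 : polar Q f x = 0)
    (h3 : polar Q e' x = 0) (h4 : polar Q f' x = 0) :
    isoAct (⇑Q) (tor Q e f e' f' t) x = x := by
  unfold tor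
  rw [isoAct_mul, isoAct_wN_orth Q e f e' f' hq (-1) x h1 h2 h3 h4,
    isoAct_wN_orth Q e f e' f' hq t x h1 h2 h3 h4]

end torus

end Cfsg.Agent.Lib.helper47.OGen
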