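/-
Orthogonal groups: root-group bookkeeping (`Lsub`), the Steinberg trick, and generation of `Ω` by a
torus element and a root element times a monomial element (type `B`).
-/
import Mathlib
import Cfsg.Prelude.Def_Classical
import Cfsg.Agent.Lib.helper49.NondegMax
import Cfsg.Agent.Lib.helper47.OGenB

set_option autoImplicit false

namespace Cfsg.Agent.Lib.helper47.OGen

open Cfsg.Agent.Lib.helper49 QuadraticMap

section fill

variable {K : Type*} [Field K]

/-- filling a root group from one nontrivial element and a scaling -/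
theorem field_fill [Fintype K] (P : K → Prop) (hadd : ∀ c c', P c → P c' → P (c + c'))
    (hneg : ∀ c, P c → P (-c)) (h0 : P 0) (θ : K) (hθ : ∀ c, P c → P (θ * c))
    (hB : ∀ B : Subfield K, θ ∈ B → B = ⊤) (c₀ : K) (hc₀ : c₀ ≠ 0) (hP : P c₀) (c : K) :
    P c := by
  classical
  let R : Subring K :=
    { carrier := {b | ∀ a : K, P a → P (b * a)}
      mul_mem' := by
        intro b1 b2 hb1 hb2 a ha
        rw [mul_assoc]
        exact hb1 _ (hb2 _ ha)
      one_mem' := by
        intro a ha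
        rwa [one_mul]
      add_mem' := by
        intro b1 b2 hb1 hb2 a ha
        rw [add_mul]
        exact hadd _ _ (hb1 _ ha) (hb2 _ ha)
      zero_mem' := by
        intro a _
        rw [zero_mul]
        exact h0
      neg_mem' := by
        intro b hb a ha
        rw [neg_mul]
        exact hneg _ (hb _ ha) }
  let B : Subfield K :=
    { R with
      inv_mem' := by
        intro b hb
        by_cases hb0 : b = 0
        · rw [hb0, _root_.inv_zero]
          exact R.zero_mem
        · have h1 := FiniteField.pow_card_sub_one_eq_one b hb0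
          have hcard : 2 ≤ Fintype.card K := Fintype.one_lt_card
          have h2 : b⁻¹ = b ^ (Fintype.card K - 2) := by
            apply inv_eq_of_mul_eq_one_right
            rw [← pow_succ']
            have : Fintype.card K - 2 + 1 = Fintype.card K - 1 := by omega
            rw [this]
            exact h1
          rw [h2]
          exact R.pow_mem hb _ }
  have hθB : θ ∈ B := fun a ha => hθ a ha
  have hB' := hB B hθB
  have hc : c / c₀ ∈ B := by
    rw [hB']
    exact Subfield.mem_top _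
  have := hc c₀ hP
  rwa [div_mul_cancel₀ _ hc₀] at this

/-- a field generator different from `1` -/
theorem exists_field_gen [Fintype K] (h3 : 3 ≤ Fintype.card K) :
    ∃ θ : K, θ ≠ 0 ∧ θ ≠ 1 ∧ ∀ B : Subfield K, θ ∈ B → B = ⊤ := by
  classical
  obtain ⟨g, hg⟩ := IsCyclic.exists_generator (α := Kˣ)
  refine ⟨(g : K), g.ne_zero, ?_, ?_⟩
  · intro h1
    have hg1 : g = 1 := Units.ext h1
    have hall : ∀ u : Kˣ, u = 1 := by
      intro u
      have := hg u
      rw [hg1] at this
      simpa using this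
    have hcard : Fintype.card Kˣ = 1 := by
      rw [Fintype.card_eq_one_iff]
      exact ⟨1, hall⟩
    rw [Fintype.card_units] at hcard
    omega
  · intro B hB
    rw [eq_top_iff]
    intro z _
    by_cases hz : z = 0
    · rw [hz]; exact B.zero_mem
    · have h1 := hg (Units.mk0 z hz)
      rw [← mem_powers_iff_mem_zpowers] at h1
      obtain ⟨j, hj⟩ := h1
      have h2 : (g : K) ^ j = z := by
        have := congrArg Units.val hj
        simpa using this
      rw [← h2]
      exact B.pow_mem hB j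

end fill

variable {F : Type*} [Field F] {ι : Type} [Fintype ι] [DecidableEq ι]

/-- The vectors `x ⊥ e` all of whose root elements `X(e, c x)` lie in `H`. -/
def Lsub (Q : QuadraticForm F (ι → F)) (H : Subgroup ↥(Cfsg.isometryGroup F ⇑Q)) (e : ι → F)
    (he : Q e = 0) : Submodule F (ι → F) where
  carrier := {x | polar Q e x = 0 ∧ ∀ c : F, eichG Q e (c • x) ∈ H}
  add_mem' := by
    rintro x y ⟨hx, hx'⟩ ⟨hy, hy'⟩
    refine ⟨by rw [polar_add_right, hx, hy, add_zero], fun c => ?_⟩
    rw [smul_add, ← eichG_mul Q e _ _ he (by rw [polar_smul_right, hx, smul_zero])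
      (by rw [polar_smul_right, hy, smul_zero])]
    exact mul_mem (hx' c) (hy' c)
  zero_mem' := ⟨by simp, fun c => by rw [smul_zero, eichG_zero]; exact one_mem _⟩
  smul_mem' := by
    rintro d x ⟨hx, hx'⟩
    refine ⟨by rw [polar_smul_right, hx, smul_zero], fun c => ?_⟩
    rw [smul_smul]
    exact hx' _

theorem mem_Lsub (Q : QuadraticForm F (ι → F)) (H : Subgroup ↥(Cfsg.isometryGroup F ⇑Q)) (e : ι → F)
    (he : Q e = 0) (x : ι → F) :
    x ∈ Lsub Q H e he ↔ polar Q e x = 0 ∧ ∀ c : F, eichG Q e (c • x) ∈ H := Iff.rfl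

theorem self_mem_Lsub (Q : QuadraticForm F (ι → F)) (H : Subgroup ↥(Cfsg.isometryGroup F ⇑Q))
    (e : ι → F) (he : Q e = 0) : e ∈ Lsub Q H e he := by
  refine ⟨by rw [polar_self, he, smul_zero], fun c => ?_⟩
  have := eichG_add_smul Q e 0 c he (by simp)
  rw [zero_add] at this
  rw [this, eichG_zero]
  exact one_mem _

theorem Lsub_conj (Q : QuadraticForm F (ι → F)) (H : Subgroup ↥(Cfsg.isometryGroup F ⇑Q))
    (g : ↥(Cfsg.isometryGroup F ⇑Q)) (hg : g ∈ H) (e e' : ι → F) (he : Q e = 0) (he' : Q e' = 0)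
    (d : F) (hd : d ≠ 0) (hge : isoAct (⇑Q) g e = d • e') (x : ι → F) (hx : x ∈ Lsub Q H e he) :
    isoAct (⇑Q) g x ∈ Lsub Q H e' he' := by
  obtain ⟨hx1, hx2⟩ := hx
  have h1 : polar Q e' (isoAct (⇑Q) g x) = 0 := by
    have h := polar_isoAct Q g e x
    rw [hge, polar_smul_left, hx1, smul_eq_mul] at h
    rcases mul_eq_zero.mp h with h | h
    · exact absurd h hd
    · exact h
  refine ⟨h1, fun c => ?_⟩
  have h2 := eichG_conj Q g e ((d⁻¹ * c) • x)
  rw [hge, isoAct_smul, eichG_smul_left Q e' _ d he' (by rw [polar_smul_right, h1, smul_zero]),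
    smul_smul, ← mul_assoc, mul_inv_cancel₀ hd, one_mul] at h2
  rw [← h2]
  exact mul_mem (mul_mem hg (hx2 _)) (inv_mem hg)

/-- Root composition: from two non-orthogonal "short" root vectors one gets a long root. -/
theorem Lsub_A (Q : QuadraticForm F (ι → F)) (H : Subgroup ↥(Cfsg.isometryGroup F ⇑Q))
    (e e' : ι → F) (he : Q e = 0) (he' : Q e' = 0) (hee' : polar Q e e' = 0) (x y : ι → F)
    (hx : x ∈ Lsub Q H e he) (hy : y ∈ Lsub Q H e' he') (he'x : polar Q e' x = 0)
    (hey : polar Q e y = 0) (hyx : polar Q y x ≠ 0) : e' ∈ Lsub Q H e he := by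
  have hg : eichG Q e' y ∈ H := by
    have := hy.2 1
    rwa [one_smul] at this
  have hye : polar Q y e = 0 := by rw [polar_comm]; exact hey
  have he'e : polar Q e' e = 0 := by rw [polar_comm]; exact hee'
  have h1 : isoAct (⇑Q) (eichG Q e' y) e = (1 : F) • e := by
    rw [isoAct_eichG Q e' y he' hy.1, hye, he'e]
    simp
  have h2 : isoAct (⇑Q) (eichG Q e' y) x = x + polar Q y x • e' := by
    rw [isoAct_eichG Q e' y he' hy.1, he'x]
    simp
  have h3 := Lsub_conj Q H _ hg e e he he 1 one_ne_zero h1 x hx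
  rw [h2] at h3
  have h4 : polar Q y x • e' ∈ Lsub Q H e he := by
    have := Submodule.sub_mem _ h3 hx
    rwa [add_sub_cancel_left] at this
  have h5 := Submodule.smul_mem _ (polar Q y x)⁻¹ h4
  rwa [smul_smul, inv_mul_cancel₀ hyx, one_smul] at h5

theorem grp_aux1 {G : Type*} [Group G] (X h' : G) : X * h' * X⁻¹ = X * (h' * X * h'⁻¹)⁻¹ * h' := by
  group

theorem grp_aux2 {G : Type*} [Group G] (h u h' : G) (hc : h * h' = h' * h) :
    h * (u * h') * h⁻¹ * (u * h')⁻¹ = (h * u * h⁻¹) * u⁻¹ := by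
  have h1 : h' * h⁻¹ = h⁻¹ * h' := by
    rw [eq_inv_mul_iff_mul_eq, ← mul_assoc, hc, mul_assoc, mul_inv_cancel, mul_one]
  calc h * (u * h') * h⁻¹ * (u * h')⁻¹ = h * u * (h' * h⁻¹) * h'⁻¹ * u⁻¹ := by group
    _ = h * u * (h⁻¹ * h') * h'⁻¹ * u⁻¹ := by rw [h1]
    _ = (h * u * h⁻¹) * u⁻¹ := by group

theorem grp_aux3 {G : Type*} [Group G] (X w h : G) :
    X * w * h * (X * w)⁻¹ = X * (w * h * w⁻¹) * X⁻¹ := by
  group

/-- The Steinberg trick: a torus element and a root element times a monomial element generate the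
whole root group and the monomial element. -/
theorem steinberg_trick [Fintype F] (Q : QuadraticForm F (ι → F))
    (H : Subgroup ↥(Cfsg.isometryGroup F ⇑Q)) (e z : ι → F) (he : Q e = 0)
    (hez : polar Q e z = 0) (h w : ↥(Cfsg.isometryGroup F ⇑Q)) (θ : F) (hθ1 : θ ≠ 1)
    (hθ : ∀ B : Subfield F, θ ∈ B → B = ⊤)
    (hhe : isoAct (⇑Q) h e = θ • e) (hhz : isoAct (⇑Q) h z = z)
    (hh'e : isoAct (⇑Q) (w * h * w⁻¹) e = θ • e) (hh'z : isoAct (⇑Q) (w * h * w⁻¹) z = z)
    (hcomm : h * (w * h * w⁻¹) = (w * h * w⁻¹) * h)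
    (hh : h ∈ H) (hb : eichG Q e z * w ∈ H) : z ∈ Lsub Q H e he ∧ w ∈ H := by
  have hP : ∀ c : F, eichG Q e (c • z) ∈ H := by
    have hpol : ∀ c : F, polar Q e (c • z) = 0 := fun c => by rw [polar_smul_right, hez, smul_zero]
    -- the element `y = b h b⁻¹`
    have hy : eichG Q e z * w * h * (eichG Q e z * w)⁻¹ ∈ H := mul_mem (mul_mem hb hh) (inv_mem hb)
    have hc1 : (w * h * w⁻¹) * eichG Q e z * (w * h * w⁻¹)⁻¹ = eichG Q e (θ • z) := by
      rw [eichG_conj, hh'e, hh'z, eichG_smul_left Q e z θ he hez]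
    have hu : eichG Q e z * (eichG Q e (θ • z))⁻¹ = eichG Q e ((1 - θ) • z) := by
      rw [eichG_inv Q e _ he (hpol θ), eichG_mul Q e _ _ he hez (by rw [polar_neg_right, hpol θ, neg_zero]),
        sub_smul, one_smul, sub_eq_add_neg]
    rw [grp_aux3, grp_aux1, hc1, hu] at hy
    have hg := mul_mem (mul_mem (mul_mem hh hy) (inv_mem hh)) (inv_mem hy)
    rw [grp_aux2 _ _ _ hcomm, eichG_conj, hhe, isoAct_smul, hhz,
      eichG_smul_left Q e _ θ he (hpol _), eichG_inv Q e _ he (hpol _),
      eichG_mul Q e _ _ he (by rw [polar_smul_right, hpol, smul_zero])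
        (by rw [polar_neg_right, hpol, neg_zero]), smul_smul, ← neg_smul, ← add_smul] at hg
    refine field_fill (fun c => eichG Q e (c • z) ∈ H) ?_ ?_ ?_ θ ?_ hθ _ ?_ hg
    · intro c c' hc hc'
      show eichG Q e ((c + c') • z) ∈ H
      rw [add_smul, ← eichG_mul Q e _ _ he (hpol c) (hpol c')]
      exact mul_mem hc hc'
    · intro c hc
      show eichG Q e ((-c) • z) ∈ H
      rw [neg_smul, ← eichG_inv Q e _ he (hpol c)]
      exact inv_mem hc
    · show eichG Q e ((0 : F) • z) ∈ H
      rw [zero_smul, eichG_zero]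
      exact one_mem _
    · intro c hc
      show eichG Q e ((θ * c) • z) ∈ H
      have h1 := eichG_conj Q h e (c • z)
      rw [hhe, isoAct_smul, hhz, eichG_smul_left Q e _ θ he (hpol c), smul_smul] at h1
      rw [← h1]
      exact mul_mem (mul_mem hh hc) (inv_mem hh)
    · intro h0
      have h1 : (1 - θ) * (1 - θ) = 0 := by linear_combination -h0
      have h2 : 1 - θ = 0 := by
        rcases mul_eq_zero.mp h1 with h | h <;> exact h
      apply hθ1
      linear_combination -h2
  refine ⟨⟨hez, hP⟩, ?_⟩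
  have h1 := hP 1
  rw [one_smul] at h1
  have h2 := mul_mem (inv_mem h1) hb
  rwa [inv_mul_cancel_left] at h2

/-- Two isometries which are diagonal on a common spanning set commute. -/
theorem comm_of_diag (Q : (ι → F) → F) (g₁ g₂ : ↥(Cfsg.isometryGroup F Q)) (S : Set (ι → F))
    (hS : Submodule.span F S = ⊤) (h₁ : ∀ x ∈ S, ∃ c : F, isoAct Q g₁ x = c • x)
    (h₂ : ∀ x ∈ S, ∃ c : F, isoAct Q g₂ x = c • x) : g₁ * g₂ = g₂ * g₁ := by
  apply isoAct_ext
  intro x
  have hx : x ∈ Submodule.span F S := by rw [hS]; trivial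
  induction hx using Submodule.span_induction with
  | mem x hx =>
    obtain ⟨c₁, h1⟩ := h₁ x hx
    obtain ⟨c₂, h2⟩ := h₂ x hx
    rw [isoAct_mul, isoAct_mul, h1, h2, isoAct_smul, isoAct_smul, h1, h2, smul_smul, smul_smul,
      mul_comm]
  | zero => rw [isoAct_zero, isoAct_zero]
  | add x y _ _ hx hy => rw [isoAct_add, isoAct_add, hx, hy]
  | smul c x _ hx => rw [isoAct_smul, isoAct_smul, hx]

/-- Transport of eigenvectors under conjugation. -/
theorem eigen_conj (Q : (ι → F) → F) (w h : ↥(Cfsg.isometryGroup F Q)) (x y : ι → F) (c l : F)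
    (hc : c ≠ 0) (hw : isoAct Q w x = c • y) (hh : isoAct Q h x = l • x) :
    isoAct Q (w * h * w⁻¹) y = l • y := by
  have hy : y = c⁻¹ • isoAct Q w x := by rw [hw, smul_smul, inv_mul_cancel₀ hc, one_smul]
  rw [hy, isoAct_smul, isoAct_mul, isoAct_mul, isoAct_inv_isoAct, hh, isoAct_smul, smul_comm]

end Cfsg.Agent.Lib.helper47.OGen
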