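/-
Orthogonal groups: generation of `Ω` by two elements, type `B` (one anisotropic vector orthogonal to
a hyperbolic frame), odd characteristic-like hypothesis `polar z z ≠ 0`, at least three field elements.
-/
import Mathlib
import Cfsg.Prelude.Def_Classical
import Cfsg.Agent.Lib.helper49.NondegMax
import Cfsg.Agent.Lib.helper47.OGenC

set_option autoImplicit false

namespace Cfsg.Agent.Lib.helper47.OGen

open Cfsg.Agent.Lib.helper49 QuadraticMap

variable {F : Type*} [Field F] [Fintype F] {ι : Type} [Fintype ι] [DecidableEq ι]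

/-- Type `B` two-generation of `Ω`, abstract form. -/
theorem gen_B (Q : QuadraticForm F (ι → F)) (hQ : (QuadraticMap.polarBilin Q).Nondegenerate)
    (hn7 : 7 ≤ Fintype.card ι) (n : ℕ) (hn : 1 ≤ n) (e f : ℕ → ι → F)
    (hfr : Frame Q (n + 1) e f) (z : ι → F) (hz : Q z ≠ 0)
    (hze : ∀ k ≤ n, polar Q (e k) z = 0) (hzf : ∀ k ≤ n, polar Q (f k) z = 0)
    (hzz : polar Q z z ≠ 0)
    (hspan : Submodule.span F ({z} ∪ e '' Set.Iic n ∪ f '' Set.Iic n) = ⊤)
    (hspan0 : ∀ x, polar Q (e 0) x = 0 →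
      x ∈ Submodule.span F ({z} ∪ e '' Set.Iic n ∪ f '' (Set.Iic n \ {0})))
    (hspan1 : ∀ x, polar Q (f 0) x = 0 →
      x ∈ Submodule.span F ({z} ∪ e '' (Set.Iic n \ {0}) ∪ f '' Set.Iic n))
    (θ : F) (hθ0 : θ ≠ 0) (hθ1 : θ ≠ 1) (hθ : ∀ B : Subfield F, θ ∈ B → B = ⊤) :
    ∃ a b : ↥(Cfsg.isometryGroup F ⇑Q), a ∈ Cfsg.Omega F ⇑Q ∧ b ∈ Cfsg.Omega F ⇑Q ∧
      Cfsg.Omega F ⇑Q ≤ Subgroup.closure {a, b} := by
  have hM : ∀ e w, eichG Q e w ∈ Cfsg.Omega F ⇑Q := eichG_mem_Omega Q hQ hn7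
  obtain ⟨g, hgM, h1, ⟨c2, hc2, h2⟩, h3, ⟨c4, hc4, h4⟩, h5⟩ :=
    exists_cyc Q (Cfsg.Omega F ⇑Q) hM (n + 1) e f hfr n (by omega)
  have hn' : n < n + 1 := Nat.lt_succ_self n
  have h0' : 0 < n + 1 := Nat.succ_pos n
  have hen := hfr.he n hn'
  have hfn := hfr.hf n hn'
  have hefn := hfr.hef n hn'
  have hzen : polar Q z (e n) = 0 := by rw [polar_comm]; exact hze n le_rfl
  have hzfn : polar Q z (f n) = 0 := by rw [polar_comm]; exact hzf n le_rfl
  have hze' : ∀ k ≤ n, polar Q z (e k) = 0 := fun k hk => by rw [polar_comm]; exact hze k hk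
  have hzf' : ∀ k ≤ n, polar Q z (f k) = 0 := fun k hk => by rw [polar_comm]; exact hzf k hk
  obtain ⟨s, hs⟩ : ∃ s, s = wS Q (e n) (f n) z := ⟨_, rfl⟩
  have hsM : s ∈ Cfsg.Omega F ⇑Q := by rw [hs]; exact wS_mem Q _ hM _ _ _
  obtain ⟨w, hw⟩ : ∃ w, w = g * s := ⟨_, rfl⟩
  have hwM : w ∈ Cfsg.Omega F ⇑Q := by rw [hw]; exact mul_mem hgM hsM
  -- the action of `w`
  have hw1 : ∀ k < n, ∃ c : F, c ≠ 0 ∧ isoAct (⇑Q) w (e k) = c • e (k + 1) := by
    intro k hk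
    obtain ⟨c, hc, hc'⟩ := h1 k hk
    refine ⟨c, hc, ?_⟩
    rw [hw, hs, isoAct_mul, isoAct_wS_orth Q _ _ z hen hfn hefn (hze n le_rfl) (hzf n le_rfl) hz
      (e k) (hfr.hee n hn' k (by omega)) (hfr.hfe' hn' (by omega) (by omega)), hze' k (by omega),
      mul_zero, zero_smul, sub_zero]
    exact hc'
  have hw2 : ∃ c : F, c ≠ 0 ∧ isoAct (⇑Q) w (e n) = c • f 0 := by
    refine ⟨-(Q z)⁻¹ * c4, mul_ne_zero (neg_ne_zero.mpr (inv_ne_zero hz)) hc4, ?_⟩
    rw [hw, hs, isoAct_mul, isoAct_wS_e Q _ _ z hen hfn hefn (hze n le_rfl) (hzf n le_rfl) hz,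
      isoAct_smul, h4, smul_smul]
  have hw3 : ∀ k < n, ∃ c : F, c ≠ 0 ∧ isoAct (⇑Q) w (f k) = c • f (k + 1) := by
    intro k hk
    obtain ⟨c, hc, hc'⟩ := h3 k hk
    refine ⟨c, hc, ?_⟩
    rw [hw, hs, isoAct_mul, isoAct_wS_orth Q _ _ z hen hfn hefn (hze n le_rfl) (hzf n le_rfl) hz
      (f k) (hfr.hef' n hn' k (by omega) (by omega)) (hfr.hff n hn' k (by omega)),
      hzf' k (by omega), mul_zero, zero_smul, sub_zero]
    exact hc'
  have hw4 : ∃ c : F, c ≠ 0 ∧ isoAct (⇑Q) w (f n) = c • e 0 := by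
    refine ⟨-(Q z) * c2, mul_ne_zero (neg_ne_zero.mpr hz) hc2, ?_⟩
    rw [hw, hs, isoAct_mul, isoAct_wS_f Q _ _ z hen hfn hefn (hze n le_rfl) (hzf n le_rfl) hz,
      isoAct_smul, h2, smul_smul]
  have hw5 : isoAct (⇑Q) w z = (-1 : F) • z := by
    rw [hw, hs, isoAct_mul, isoAct_wS_z Q _ _ z hen hfn hefn (hze n le_rfl) (hzf n le_rfl) hz,
      isoAct_neg, h5 z (fun k hk => ⟨hze k hk, hzf k hk⟩), neg_smul, one_smul]
  -- the torus element
  have hq : HypQuad Q (e 0) (f 0) (e n) (f n) := hfr.hypQuad h0' hn' (by omega)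
  obtain ⟨h, hh⟩ : ∃ h, h = tor Q (e 0) (f 0) (e n) (f n) θ := ⟨_, rfl⟩
  have hhM : h ∈ Cfsg.Omega F ⇑Q := by rw [hh]; exact tor_mem Q _ hM _ _ _ _ _
  have hhe : ∀ k ≤ n, ∃ c : F, isoAct (⇑Q) h (e k) = c • e k := by
    intro k hk
    by_cases hk0 : k = 0
    · subst hk0
      exact ⟨θ, by rw [hh]; exact isoAct_tor_e Q _ _ _ _ hq θ hθ0⟩
    · by_cases hkn : k = n
      · subst hkn
        exact ⟨θ⁻¹, by rw [hh]; exact isoAct_tor_e' Q _ _ _ _ hq θ hθ0⟩
      · refine ⟨1, ?_⟩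
        rw [hh, one_smul]
        exact isoAct_tor_orth Q _ _ _ _ hq θ _ (hfr.hee 0 h0' k (by omega))
          (hfr.hfe' h0' (by omega) (Ne.symm hk0)) (hfr.hee n hn' k (by omega))
          (hfr.hfe' hn' (by omega) (Ne.symm hkn))
  have hhf : ∀ k ≤ n, ∃ c : F, isoAct (⇑Q) h (f k) = c • f k := by
    intro k hk
    by_cases hk0 : k = 0
    · subst hk0
      exact ⟨θ⁻¹, by rw [hh]; exact isoAct_tor_f Q _ _ _ _ hq θ hθ0⟩
    · by_cases hkn : k = n
      · subst hkn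
        exact ⟨θ, by rw [hh]; exact isoAct_tor_f' Q _ _ _ _ hq θ hθ0⟩
      · refine ⟨1, ?_⟩
        rw [hh, one_smul]
        exact isoAct_tor_orth Q _ _ _ _ hq θ _ (hfr.hef' 0 h0' k (by omega) (Ne.symm hk0))
          (hfr.hff 0 h0' k (by omega)) (hfr.hef' n hn' k (by omega) (Ne.symm hkn))
          (hfr.hff n hn' k (by omega))
  have hhz : isoAct (⇑Q) h z = z := by
    rw [hh]
    exact isoAct_tor_orth Q _ _ _ _ hq θ _ (hze 0 (by omega)) (hzf 0 (by omega)) (hze n le_rfl)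
      (hzf n le_rfl)
  have hhe0 : isoAct (⇑Q) h (e 0) = θ • e 0 := by rw [hh]; exact isoAct_tor_e Q _ _ _ _ hq θ hθ0
  have hhfn : isoAct (⇑Q) h (f n) = θ • f n := by rw [hh]; exact isoAct_tor_f' Q _ _ _ _ hq θ hθ0
  -- the conjugate torus element
  have hh'e0 : isoAct (⇑Q) (w * h * w⁻¹) (e 0) = θ • e 0 := by
    obtain ⟨c, hc, hc'⟩ := hw4
    exact eigen_conj _ w h (f n) (e 0) c θ hc hc' hhfn
  have hh'z : isoAct (⇑Q) (w * h * w⁻¹) z = z := by
    have := eigen_conj (⇑Q) w h z z (-1) 1 (by simp) hw5 (by rw [hhz, one_smul])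
    rwa [one_smul] at this
  have hh'e : ∀ k ≤ n, ∃ c : F, isoAct (⇑Q) (w * h * w⁻¹) (e k) = c • e k := by
    intro k hk
    rcases Nat.eq_zero_or_pos k with hk0 | hk0
    · subst hk0
      exact ⟨θ, hh'e0⟩
    · obtain ⟨k', rfl⟩ : ∃ k', k = k' + 1 := ⟨k - 1, by omega⟩
      obtain ⟨c, hc, hc'⟩ := hw1 k' (by omega)
      obtain ⟨l, hl⟩ := hhe k' (by omega)
      exact ⟨l, eigen_conj _ w h (e k') (e (k' + 1)) c l hc hc' hl⟩
  have hh'f : ∀ k ≤ n, ∃ c : F, isoAct (⇑Q) (w * h * w⁻¹) (f k) = c • f k := by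
    intro k hk
    rcases Nat.eq_zero_or_pos k with hk0 | hk0
    · subst hk0
      obtain ⟨c, hc, hc'⟩ := hw2
      obtain ⟨l, hl⟩ := hhe n le_rfl
      exact ⟨l, eigen_conj _ w h (e n) (f 0) c l hc hc' hl⟩
    · obtain ⟨k', rfl⟩ : ∃ k', k = k' + 1 := ⟨k - 1, by omega⟩
      obtain ⟨c, hc, hc'⟩ := hw3 k' (by omega)
      obtain ⟨l, hl⟩ := hhf k' (by omega)
      exact ⟨l, eigen_conj _ w h (f k') (f (k' + 1)) c l hc hc' hl⟩
  have hcomm : h * (w * h * w⁻¹) = (w * h * w⁻¹) * h := by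
    refine comm_of_diag _ _ _ _ hspan ?_ ?_
    · rintro x ((hx | ⟨k, hk, rfl⟩) | ⟨k, hk, rfl⟩)
      · rw [Set.mem_singleton_iff] at hx
        subst hx
        exact ⟨1, by rw [hhz, one_smul]⟩
      · exact hhe k hk
      · exact hhf k hk
    · rintro x ((hx | ⟨k, hk, rfl⟩) | ⟨k, hk, rfl⟩)
      · rw [Set.mem_singleton_iff] at hx
        subst hx
        exact ⟨1, by rw [hh'z, one_smul]⟩
      · exact hh'e k hk
      · exact hh'f k hk
  -- the generators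
  refine ⟨h, eichG Q (e 0) z * w, hhM, mul_mem (hM _ _) hwM, ?_⟩
  obtain ⟨H, hH⟩ : ∃ H, H = Subgroup.closure ({h, eichG Q (e 0) z * w} :
    Set ↥(Cfsg.isometryGroup F ⇑Q)) := ⟨_, rfl⟩
  rw [← hH]
  have hhH : h ∈ H := by rw [hH]; exact Subgroup.subset_closure (by simp)
  have hbH : eichG Q (e 0) z * w ∈ H := by rw [hH]; exact Subgroup.subset_closure (by simp)
  have he0 := hfr.he 0 h0'
  have hf0 := hfr.hf 0 h0'
  obtain ⟨hz0, hwH⟩ := steinberg_trick Q H (e 0) z he0 (hze 0 (by omega)) h w θ hθ1 hθ hhe0 hhz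
    hh'e0 hh'z hcomm hhH hbH
  -- `z` lies in all the `Lsub`
  have hzLe : ∀ k, ∀ hk : k ≤ n, z ∈ Lsub Q H (e k) (hfr.he k (by omega)) := by
    intro k
    induction k with
    | zero => intro _; exact hz0
    | succ k ih =>
      intro hk
      obtain ⟨c, hc, hc'⟩ := hw1 k (by omega)
      have := Lsub_conj Q H w hwH (e k) (e (k + 1)) (hfr.he k (by omega)) (hfr.he (k + 1) (by omega))
        c hc hc' z (ih (by omega))
      rw [hw5] at this
      have h6 := Submodule.smul_mem _ (-1 : F) this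
      rwa [smul_smul, neg_mul_neg, one_mul, one_smul] at h6
  have hzLf : ∀ k, ∀ hk : k ≤ n, z ∈ Lsub Q H (f k) (hfr.hf k (by omega)) := by
    intro k
    induction k with
    | zero =>
      intro _
      obtain ⟨c, hc, hc'⟩ := hw2
      have := Lsub_conj Q H w hwH (e n) (f 0) hen hf0 c hc hc' z (hzLe n le_rfl)
      rw [hw5] at this
      have h6 := Submodule.smul_mem _ (-1 : F) this
      rwa [smul_smul, neg_mul_neg, one_mul, one_smul] at h6
    | succ k ih =>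
      intro hk
      obtain ⟨c, hc, hc'⟩ := hw3 k (by omega)
      have := Lsub_conj Q H w hwH (f k) (f (k + 1)) (hfr.hf k (by omega)) (hfr.hf (k + 1) (by omega))
        c hc hc' z (ih (by omega))
      rw [hw5] at this
      have h6 := Submodule.smul_mem _ (-1 : F) this
      rwa [smul_smul, neg_mul_neg, one_mul, one_smul] at h6
  -- the full root groups at `e 0` and `f 0`
  have hMx : ∀ x, polar Q (e 0) x = 0 → eichG Q (e 0) x ∈ H := by
    intro x hx
    have h6 : Submodule.span F ({z} ∪ e '' Set.Iic n ∪ f '' (Set.Iic n \ {0})) ≤ Lsub Q H (e 0) he0 := by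
      apply Submodule.span_le.mpr
      rintro y ((hy | ⟨k, hk, rfl⟩) | ⟨k, ⟨hk, hk0⟩, rfl⟩)
      · rw [Set.mem_singleton_iff] at hy
        subst hy
        exact hz0
      · by_cases hk0 : k = 0
        · subst hk0
          exact self_mem_Lsub Q H _ he0
        · exact Lsub_A Q H (e 0) (e k) he0 (hfr.he k (by simpa using Nat.lt_succ_of_le hk))
            (hfr.hee 0 h0' k (by simpa using Nat.lt_succ_of_le hk)) z z hz0 (hzLe k hk) (hze k hk)
            (hze 0 (by omega)) hzz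
      · have hk0' : k ≠ 0 := by simpa using hk0
        exact Lsub_A Q H (e 0) (f k) he0 (hfr.hf k (by simpa using Nat.lt_succ_of_le hk))
          (hfr.hef' 0 h0' k (by simpa using Nat.lt_succ_of_le hk) (Ne.symm hk0')) z z hz0 (hzLf k hk)
          (hzf k hk) (hze 0 (by omega)) hzz
    have h7 := (h6 (hspan0 x hx)).2 1
    rwa [one_smul] at h7
  have hMy : ∀ x, polar Q (f 0) x = 0 → eichG Q (f 0) x ∈ H := by
    intro x hx
    have h6 : Submodule.span F ({z} ∪ e '' (Set.Iic n \ {0}) ∪ f '' Set.Iic n) ≤ Lsub Q H (f 0) hf0 := by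
      apply Submodule.span_le.mpr
      rintro y ((hy | ⟨k, ⟨hk, hk0⟩, rfl⟩) | ⟨k, hk, rfl⟩)
      · rw [Set.mem_singleton_iff] at hy
        subst hy
        exact hzLf 0 (by omega)
      · have hk0' : k ≠ 0 := by simpa using hk0
        exact Lsub_A Q H (f 0) (e k) hf0 (hfr.he k (by simpa using Nat.lt_succ_of_le hk))
          (hfr.hfe' h0' (by simpa using Nat.lt_succ_of_le hk) (Ne.symm hk0')) z z (hzLf 0 (by omega))
          (hzLe k hk) (hze k hk) (hzf 0 (by omega)) hzz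
      · by_cases hk0 : k = 0
        · subst hk0
          exact self_mem_Lsub Q H _ hf0
        · exact Lsub_A Q H (f 0) (f k) hf0 (hfr.hf k (by simpa using Nat.lt_succ_of_le hk))
            (hfr.hff 0 h0' k (by simpa using Nat.lt_succ_of_le hk)) z z (hzLf 0 (by omega))
            (hzLf k hk) (hzf k hk) (hzf 0 (by omega)) hzz
    have h7 := (h6 (hspan1 x hx)).2 1
    rwa [one_smul] at h7
  exact Omega_le_of_hyp_pair Q hQ (by omega) H (e 0) (f 0) he0 hf0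
    (by rw [hfr.hef 0 h0']; exact one_ne_zero) hMx hMy

end Cfsg.Agent.Lib.helper47.OGen
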