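/-
Orthogonal groups: the odd-dimensional instance of the two-generation theorem, and the passage to
`PΩ`.
-/
import Mathlib
import Cfsg.Prelude.Def_Classical
import Cfsg.Agent.Lib.helper49.NondegMax
import Cfsg.Agent.Lib.helper49.Forms
import Cfsg.Agent.Lib.helper47.OGenD

set_option autoImplicit false

namespace Cfsg.Agent.Lib.helper47.OGen

open Cfsg.Agent.Lib.helper49 QuadraticMap

/-- Passing from `Ω ≤ ⟨a, b⟩` to two generators of `PΩ`. -/
theorem pomega_two_gen {F : Type*} [Field F] {ι : Type} [Fintype ι] [DecidableEq ι]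
    (Q : (ι → F) → F)
    (h : ∃ a b : ↥(Cfsg.isometryGroup F Q), a ∈ Cfsg.Omega F Q ∧ b ∈ Cfsg.Omega F Q ∧
      Cfsg.Omega F Q ≤ Subgroup.closure {a, b}) :
    ∃ a b : Cfsg.POmega F Q, Subgroup.closure ({a, b} : Set (Cfsg.POmega F Q)) = ⊤ := by
  obtain ⟨a, b, ha, hb, hle⟩ := h
  have h1 : Subgroup.closure ({⟨a, ha⟩, ⟨b, hb⟩} : Set ↥(Cfsg.Omega F Q)) = ⊤ := by
    rw [eq_top_iff]
    intro x _
    have hx := hle x.2
    have h2 : Subgroup.closure ({a, b} : Set ↥(Cfsg.isometryGroup F Q)) =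
        (Subgroup.closure ({⟨a, ha⟩, ⟨b, hb⟩} : Set ↥(Cfsg.Omega F Q))).map
          (Subgroup.subtype _) := by
      rw [MonoidHom.map_closure, Set.image_pair]
      rfl
    rw [h2] at hx
    obtain ⟨y, hy, hyx⟩ := hx
    have h3 : y = x := Subtype.ext hyx
    rwa [← h3]
  refine ⟨QuotientGroup.mk' _ ⟨a, ha⟩, QuotientGroup.mk' _ ⟨b, hb⟩, ?_⟩
  have h2 := congrArg (Subgroup.map (QuotientGroup.mk' (Subgroup.center ↥(Cfsg.Omega F Q)))) h1
  rw [MonoidHom.map_closure, Set.image_pair,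
    Subgroup.map_top_of_surjective _ (QuotientGroup.mk'_surjective _)] at h2
  exact h2

section general

variable {F : Type*} [Field F] {ι : Type} [Fintype ι] [DecidableEq ι]

theorem eq_sum_single (x : ι → F) : x = ∑ i, x i • (Pi.single i (1 : F) : ι → F) := by
  ext j
  simp [Finset.sum_apply, Pi.single_apply]

theorem mem_span_of_single (S : Set (ι → F)) (x : ι → F)
    (h : ∀ i, x i = 0 ∨ (Pi.single i (1 : F) : ι → F) ∈ S) : x ∈ Submodule.span F S := by
  rw [eq_sum_single x]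
  refine Submodule.sum_mem _ (fun i _ => ?_)
  rcases h i with h | h
  · rw [h, zero_smul]; exact Submodule.zero_mem _
  · exact Submodule.smul_mem _ _ (Submodule.subset_span h)

theorem polar_single_left (Q : QuadraticForm F (ι → F)) (G : Matrix ι ι F)
    (hG : ∀ k k', polar Q (Pi.single k 1) (Pi.single k' 1) = G k k') (k : ι) (x : ι → F) :
    polar Q (Pi.single k 1) x = ∑ i, G k i * x i := by
  conv_lhs => rw [eq_sum_single x]
  have := map_sum (QuadraticMap.polarBilin Q (Pi.single k 1))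
    (fun i => x i • (Pi.single i (1 : F) : ι → F)) Finset.univ
  simp only [QuadraticMap.polarBilin_apply_apply] at this
  rw [this]
  refine Finset.sum_congr rfl (fun i _ => ?_)
  rw [polar_smul_right, hG, smul_eq_mul, mul_comm]

end general

section odd

variable {F : Type*} [Field F]

/-- the vectors `e_k` of the standard frame of the odd form -/
def eO (m : ℕ) (F : Type*) [Field F] (k : ℕ) : Unit ⊕ (Fin m ⊕ Fin m) → F :=
  if h : k < m then Pi.single (Sum.inr (Sum.inl ⟨k, h⟩)) 1 else 0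

/-- the vectors `f_k` of the standard frame of the odd form -/
def fO (m : ℕ) (F : Type*) [Field F] (k : ℕ) : Unit ⊕ (Fin m ⊕ Fin m) → F :=
  if h : k < m then Pi.single (Sum.inr (Sum.inr ⟨k, h⟩)) 1 else 0

/-- the anisotropic vector of the odd form -/
def zO (m : ℕ) (F : Type*) [Field F] : Unit ⊕ (Fin m ⊕ Fin m) → F := Pi.single (Sum.inl ()) 1

theorem frame_odd (m : ℕ) : Frame (oddForm m F) m (eO m F) (fO m F) where
  he := fun i hi => by rw [eO, dif_pos hi]; exact oddForm_single_inr m _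
  hf := fun i hi => by rw [fO, dif_pos hi]; exact oddForm_single_inr m _
  hef := fun i hi => by
    rw [eO, fO, dif_pos hi, dif_pos hi, polar_oddForm_single]; simp [gramOdd]
  hee := fun i hi j hj => by
    rw [eO, eO, dif_pos hi, dif_pos hj, polar_oddForm_single]; simp [gramOdd]
  hff := fun i hi j hj => by
    rw [fO, fO, dif_pos hi, dif_pos hj, polar_oddForm_single]; simp [gramOdd]
  hef' := fun i hi j hj hij => by
    rw [eO, fO, dif_pos hi, dif_pos hj, polar_oddForm_single]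
    simp [gramOdd, Matrix.one_apply, hij]

theorem oddForm_zO (m : ℕ) : oddForm m F (zO m F) = 1 := by
  show Cfsg.quadFormOdd m F (Pi.single (Sum.inl ()) 1) = 1
  unfold Cfsg.quadFormOdd
  simp

theorem polar_eO_zO (m k : ℕ) : polar (oddForm m F) (eO m F k) (zO m F) = 0 := by
  unfold eO
  split_ifs with h
  · rw [zO, polar_oddForm_single]; simp [gramOdd]
  · simp

theorem polar_fO_zO (m k : ℕ) : polar (oddForm m F) (fO m F k) (zO m F) = 0 := by
  unfold fO
  split_ifs with h
  · rw [zO, polar_oddForm_single]; simp [gramOdd]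
  · simp

theorem polar_zO_zO (m : ℕ) : polar (oddForm m F) (zO m F) (zO m F) = 2 := by
  rw [zO, polar_oddForm_single]; simp [gramOdd]

theorem polar_eO_left (m k : ℕ) (hk : k < m) (x : Unit ⊕ (Fin m ⊕ Fin m) → F) :
    polar (oddForm m F) (eO m F k) x = x (Sum.inr (Sum.inr ⟨k, hk⟩)) := by
  rw [eO, dif_pos hk, polar_single_left (oddForm m F) (gramOdd m F) (polar_oddForm_single m)]
  simp [gramOdd, Fintype.sum_sum_type, Matrix.one_apply]

theorem polar_fO_left (m k : ℕ) (hk : k < m) (x : Unit ⊕ (Fin m ⊕ Fin m) → F) :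
    polar (oddForm m F) (fO m F k) x = x (Sum.inr (Sum.inl ⟨k, hk⟩)) := by
  rw [fO, dif_pos hk, polar_single_left (oddForm m F) (gramOdd m F) (polar_oddForm_single m)]
  simp [gramOdd, Fintype.sum_sum_type, Matrix.one_apply]

theorem single_inl_mem_eO (n : ℕ) (j : Fin (n + 1)) :
    (Pi.single (Sum.inr (Sum.inl j)) (1 : F) : Unit ⊕ (Fin (n + 1) ⊕ Fin (n + 1)) → F) =
      eO (n + 1) F j.val := by
  rw [eO, dif_pos j.isLt]

theorem single_inr_mem_fO (n : ℕ) (j : Fin (n + 1)) :
    (Pi.single (Sum.inr (Sum.inr j)) (1 : F) : Unit ⊕ (Fin (n + 1) ⊕ Fin (n + 1)) → F) =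
      fO (n + 1) F j.val := by
  rw [fO, dif_pos j.isLt]

/-- `Ω_{2m+1}(q)`, `q` odd, `m ≥ 3`, is generated by two elements. -/
theorem omega_odd_two_gen [Fintype F] (h2 : (2 : F) ≠ 0) (h3 : 3 ≤ Fintype.card F) (n : ℕ)
    (hn : 2 ≤ n) (hQ : (QuadraticMap.polarBilin (oddForm (n + 1) F)).Nondegenerate) :
    ∃ a b : ↥(Cfsg.isometryGroup F ⇑(oddForm (n + 1) F)),
      a ∈ Cfsg.Omega F ⇑(oddForm (n + 1) F) ∧ b ∈ Cfsg.Omega F ⇑(oddForm (n + 1) F) ∧
      Cfsg.Omega F ⇑(oddForm (n + 1) F) ≤ Subgroup.closure {a, b} := by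
  obtain ⟨θ, hθ0, hθ1, hθ⟩ := exists_field_gen (K := F) h3
  have hcard : Fintype.card (Unit ⊕ (Fin (n + 1) ⊕ Fin (n + 1))) = 1 + ((n + 1) + (n + 1)) := by
    simp
  refine gen_B (oddForm (n + 1) F) hQ (by rw [hcard]; omega) n (by omega) (eO (n + 1) F)
    (fO (n + 1) F) (frame_odd (n + 1)) (zO (n + 1) F) (by rw [oddForm_zO]; exact one_ne_zero)
    (fun k _ => polar_eO_zO _ k) (fun k _ => polar_fO_zO _ k)
    (by rw [polar_zO_zO]; exact h2) ?_ ?_ ?_ θ hθ0 hθ1 hθ
  · rw [eq_top_iff]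
    intro x _
    apply mem_span_of_single
    rintro (⟨⟩ | j | j)
    · right
      exact Or.inl (Or.inl rfl)
    · right
      exact Or.inl (Or.inr ⟨j.val, Nat.lt_succ_iff.mp j.isLt, (single_inl_mem_eO n j).symm⟩)
    · right
      exact Or.inr ⟨j.val, Nat.lt_succ_iff.mp j.isLt, (single_inr_mem_fO n j).symm⟩
  · intro x hx
    rw [polar_eO_left (n + 1) 0 (Nat.succ_pos n)] at hx
    apply mem_span_of_single
    rintro (⟨⟩ | j | j)
    · right
      exact Or.inl (Or.inl rfl)
    · right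
      exact Or.inl (Or.inr ⟨j.val, Nat.lt_succ_iff.mp j.isLt, (single_inl_mem_eO n j).symm⟩)
    · by_cases hj : j.val = 0
      · left
        have : j = ⟨0, Nat.succ_pos n⟩ := Fin.ext hj
        rw [this]
        exact hx
      · right
        exact Or.inr ⟨j.val, ⟨Nat.lt_succ_iff.mp j.isLt, hj⟩, (single_inr_mem_fO n j).symm⟩
  · intro x hx
    rw [polar_fO_left (n + 1) 0 (Nat.succ_pos n)] at hx
    apply mem_span_of_single
    rintro (⟨⟩ | j | j)
    · right
      exact Or.inl (Or.inl rfl)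
    · by_cases hj : j.val = 0
      · left
        have : j = ⟨0, Nat.succ_pos n⟩ := Fin.ext hj
        rw [this]
        exact hx
      · right
        exact Or.inl (Or.inr ⟨j.val, ⟨Nat.lt_succ_iff.mp j.isLt, hj⟩, (single_inl_mem_eO n j).symm⟩)
    · right
      exact Or.inr ⟨j.val, Nat.lt_succ_iff.mp j.isLt, (single_inr_mem_fO n j).symm⟩

end odd

end Cfsg.Agent.Lib.helper47.OGen
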