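/-
Orthogonal groups: the cyclic-frame core argument.  From one root vector `z` orthogonal to a cyclic
hyperbolic frame and a monomial element `w` stepping through the frame, with `⟪z, w z⟫ ≠ 0` and
`⟪z, w² z⟫ ≠ 0`, all long root groups of the frame and all root groups `X(R i, w^j z)` are obtained.
-/
import Mathlib
import Cfsg.Prelude.Def_Classical
import Cfsg.Agent.Lib.helper49.NondegMax
import Cfsg.Agent.Lib.helper47.OGenC

set_option autoImplicit false

namespace Cfsg.Agent.Lib.helper47.OGen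

open Cfsg.Agent.Lib.helper49 QuadraticMap

variable {F : Type*} [Field F] {ι : Type} [Fintype ι] [DecidableEq ι]

theorem Lsub_congr (Q : QuadraticForm F (ι → F)) (H : Subgroup ↥(Cfsg.isometryGroup F ⇑Q))
    (e e' : ι → F) (he : Q e = 0) (he' : Q e' = 0) (h : e = e') (x : ι → F)
    (hx : x ∈ Lsub Q H e he) : x ∈ Lsub Q H e' he' := by
  subst h
  exact hx

theorem Lsub_symm (Q : QuadraticForm F (ι → F)) (H : Subgroup ↥(Cfsg.isometryGroup F ⇑Q))
    (e x : ι → F) (he : Q e = 0) (hx : Q x = 0) (h : x ∈ Lsub Q H e he) : e ∈ Lsub Q H x hx := by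
  obtain ⟨h1, h2⟩ := h
  have hxe : polar Q x e = 0 := by rw [polar_comm]; exact h1
  refine ⟨hxe, fun c => ?_⟩
  have key : eichG Q x (c • e) = eichG Q e ((-c) • x) := by
    apply isoAct_ext
    intro v
    rw [isoAct_eichG Q x _ hx (by rw [polar_smul_right, hxe, smul_zero]),
      isoAct_eichG Q e _ he (by rw [polar_smul_right, h1, smul_zero])]
    simp only [polar_smul_left, QuadraticMap.map_smul, he, hx, smul_eq_mul, mul_zero, zero_mul,
      sub_zero]
    ext i
    simp only [Pi.add_apply, Pi.sub_apply, Pi.smul_apply, smul_eq_mul]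
    ring
  rw [key]
  exact h2 _

/-- The general root composition. -/
theorem Lsub_AB (Q : QuadraticForm F (ι → F)) (H : Subgroup ↥(Cfsg.isometryGroup F ⇑Q))
    (e e' : ι → F) (he : Q e = 0) (he' : Q e' = 0) (hee' : polar Q e e' = 0) (x y : ι → F)
    (hx : x ∈ Lsub Q H e he) (hy : y ∈ Lsub Q H e' he') (hey : polar Q e y = 0) :
    (polar Q y x - Q y * polar Q e' x) • e' - polar Q e' x • y ∈ Lsub Q H e he := by
  have hg : eichG Q e' y ∈ H := by
    have := hy.2 1
    rwa [one_smul] at this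
  have hye : polar Q y e = 0 := by rw [polar_comm]; exact hey
  have he'e : polar Q e' e = 0 := by rw [polar_comm]; exact hee'
  have h1 : isoAct (⇑Q) (eichG Q e' y) e = (1 : F) • e := by
    rw [isoAct_eichG Q e' y he' hy.1, hye, he'e]
    simp
  have h3 := Lsub_conj Q H _ hg e e he he 1 one_ne_zero h1 x hx
  rw [isoAct_eichG Q e' y he' hy.1] at h3
  have h4 := Submodule.sub_mem _ h3 hx
  have h5 : x + (polar Q y x - Q y * polar Q e' x) • e' - polar Q e' x • y - x =
      (polar Q y x - Q y * polar Q e' x) • e' - polar Q e' x • y := by abel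
  rwa [h5] at h4

/-- Root composition for two long roots. -/
theorem Lsub_B (Q : QuadraticForm F (ι → F)) (H : Subgroup ↥(Cfsg.isometryGroup F ⇑Q))
    (e e' : ι → F) (he : Q e = 0) (he' : Q e' = 0) (hee' : polar Q e e' = 0) (x y : ι → F)
    (hx : x ∈ Lsub Q H e he) (hy : y ∈ Lsub Q H e' he') (hey : polar Q e y = 0)
    (hyx : polar Q y x = 0) (hQy : Q y = 0) (he'x : polar Q e' x = 1) : y ∈ Lsub Q H e he := by
  have h := Lsub_AB Q H e e' he he' hee' x y hx hy hey
  rw [hyx, hQy, he'x, zero_mul, sub_zero, zero_smul, zero_sub, one_smul] at h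
  have := Submodule.neg_mem _ h
  rwa [neg_neg] at this

/-- The cyclic-frame core argument. -/
theorem cyc_core (Q : QuadraticForm F (ι → F)) (c : ℕ) (hc : 2 ≤ c) (R : ℕ → ι → F)
    (hR0 : ∀ i, Q (R i) = 0)
    (hRper : ∀ i, R (i + 2 * c) = R i)
    (hRorth : ∀ i a, a < 2 * c → a ≠ c → polar Q (R i) (R (i + a)) = 0)
    (hRopp : ∀ i, polar Q (R i) (R (i + c)) = 1)
    (H : Subgroup ↥(Cfsg.isometryGroup F ⇑Q)) (w : ↥(Cfsg.isometryGroup F ⇑Q)) (hw : w ∈ H)
    (hwR : ∀ i, ∃ d : F, d ≠ 0 ∧ isoAct (⇑Q) w (R i) = d • R (i + 1))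
    (z : ι → F) (hzR : ∀ i, polar Q (R i) z = 0) (hz0 : z ∈ Lsub Q H (R 0) (hR0 0))
    (hφ1 : polar Q z (isoAct (⇑Q) w z) ≠ 0)
    (hφ2 : polar Q z (isoAct (⇑Q) w (isoAct (⇑Q) w z)) ≠ 0) :
    (∀ a, 1 ≤ a → a < 2 * c → a ≠ c → ∀ i, R (i + a) ∈ Lsub Q H (R i) (hR0 i)) ∧
    (∀ i j, isoAct (⇑Q) (w ^ j) z ∈ Lsub Q H (R i) (hR0 i)) := by
  -- index bookkeeping
  have hRidx : ∀ i j, (i = j ∨ i = j + 2 * c ∨ j = i + 2 * c) → R i = R j := by
    rintro i j (h | h | h)
    · rw [h]
    · rw [h, hRper]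
    · rw [h, hRper]
  have hRper' : ∀ i t, R (i + 2 * c * t) = R i := by
    intro i t
    induction t with
    | zero => rw [Nat.mul_zero, Nat.add_zero]
    | succ t ih =>
      rw [Nat.mul_succ, ← Nat.add_assoc, hRper, ih]
  -- the orbit of `z`
  have hYsucc : ∀ j, isoAct (⇑Q) (w ^ (j + 1)) z = isoAct (⇑Q) w (isoAct (⇑Q) (w ^ j) z) := by
    intro j
    rw [pow_succ', isoAct_mul]
  have hYR : ∀ j i, polar Q (R i) (isoAct (⇑Q) (w ^ j) z) = 0 := by
    intro j
    induction j with
    | zero =>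
      intro i
      rw [pow_zero, isoAct_one]
      exact hzR i
    | succ j ih =>
      intro i
      obtain ⟨d, hd, hd'⟩ := hwR (i + 2 * c - 1)
      have h1 := polar_isoAct Q w (R (i + 2 * c - 1)) (isoAct (⇑Q) (w ^ j) z)
      rw [hd', ih, polar_smul_left, smul_eq_mul] at h1
      have h2 : R (i + 2 * c - 1 + 1) = R i := hRidx _ _ (Or.inr (Or.inl (by omega)))
      rw [h2] at h1
      rw [hYsucc]
      rcases mul_eq_zero.mp h1 with h | h
      · exact absurd h hd
      · exact h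
  have hYL : ∀ j, isoAct (⇑Q) (w ^ j) z ∈ Lsub Q H (R j) (hR0 j) := by
    intro j
    induction j with
    | zero =>
      rw [pow_zero, isoAct_one]
      exact hz0
    | succ j ih =>
      obtain ⟨d, hd, hd'⟩ := hwR j
      rw [hYsucc]
      exact Lsub_conj Q H w hw (R j) (R (j + 1)) (hR0 j) (hR0 (j + 1)) d hd hd' _ ih
  have hYY1 : ∀ j, polar Q (isoAct (⇑Q) (w ^ (j + 1)) z) (isoAct (⇑Q) (w ^ j) z) ≠ 0 := by
    intro j
    rw [pow_succ, isoAct_mul, polar_isoAct, polar_comm]
    exact hφ1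
  have hYY2 : ∀ j, polar Q (isoAct (⇑Q) (w ^ (j + 2)) z) (isoAct (⇑Q) (w ^ j) z) ≠ 0 := by
    intro j
    rw [pow_add, isoAct_mul, polar_isoAct, polar_comm, pow_two, isoAct_mul]
    exact hφ2
  -- step one
  have S1 : ∀ i, R (i + 1) ∈ Lsub Q H (R i) (hR0 i) := by
    intro i
    exact Lsub_A Q H (R i) (R (i + 1)) (hR0 i) (hR0 (i + 1)) (hRorth i 1 (by omega) (by omega)) _ _
      (hYL i) (hYL (i + 1)) (hYR i (i + 1)) (hYR (i + 1) i) (hYY1 i)
  -- step `2c - 1`
  have SN : ∀ i, R (i + (2 * c - 1)) ∈ Lsub Q H (R i) (hR0 i) := by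
    intro i
    have h1 := S1 (i + (2 * c - 1))
    have h2 : R (i + (2 * c - 1) + 1) = R i := hRidx _ _ (Or.inr (Or.inl (by omega)))
    rw [h2] at h1
    exact Lsub_symm Q H _ _ (hR0 _) (hR0 i) h1
  -- step `c + 1`
  have Sc1 : ∀ i, R (i + (c + 1)) ∈ Lsub Q H (R i) (hR0 i) := by
    intro i
    by_cases hc2 : c = 2
    · have h1 := SN i
      have h2 : R (i + (2 * c - 1)) = R (i + (c + 1)) := hRidx _ _ (Or.inl (by omega))
      rwa [h2] at h1
    · have hc3 : 3 ≤ c := by omega
      have S2 : R (i + 2) ∈ Lsub Q H (R i) (hR0 i) :=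
        Lsub_A Q H (R i) (R (i + 2)) (hR0 i) (hR0 (i + 2)) (hRorth i 2 (by omega) (by omega)) _ _
          (hYL i) (hYL (i + 2)) (hYR i (i + 2)) (hYR (i + 2) i) (hYY2 i)
      have hy := SN (i + (2 + c))
      have h2 : R (i + (2 + c) + (2 * c - 1)) = R (i + (c + 1)) :=
        hRidx _ _ (Or.inr (Or.inl (by omega)))
      rw [h2] at hy
      refine Lsub_B Q H (R i) (R (i + (2 + c))) (hR0 i) (hR0 _) (hRorth i (2 + c) (by omega) (by omega))
        (R (i + 2)) (R (i + (c + 1))) S2 hy (hRorth i (c + 1) (by omega) (by omega)) ?_ (hR0 _) ?_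
      · have h3 := hRorth (i + 2) (c - 1) (by omega) (by omega)
        have h4 : R (i + 2 + (c - 1)) = R (i + (c + 1)) := hRidx _ _ (Or.inl (by omega))
        rw [h4, polar_comm] at h3
        exact h3
      · have h3 := hRopp (i + 2)
        have h4 : R (i + 2 + c) = R (i + (2 + c)) := hRidx _ _ (Or.inl (by omega))
        rw [h4, polar_comm] at h3
        exact h3
  -- the inductive step
  have Sstep : ∀ a b, 1 ≤ a → a + 1 < 2 * c → a + 1 ≠ c → b < 2 * c → (b = a + c ∨ b + c = a) →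
      (∀ i, R (i + a) ∈ Lsub Q H (R i) (hR0 i)) → ∀ i, R (i + (a + 1)) ∈ Lsub Q H (R i) (hR0 i) := by
    intro a b ha1 ha2 ha3 hb hab hS i
    have hy := Sc1 (i + b)
    have h2 : R (i + b + (c + 1)) = R (i + (a + 1)) := by
      rcases hab with h | h
      · exact hRidx _ _ (Or.inr (Or.inl (by omega)))
      · exact hRidx _ _ (Or.inl (by omega))
    rw [h2] at hy
    have hbc : b ≠ c := by omega
    refine Lsub_B Q H (R i) (R (i + b)) (hR0 i) (hR0 _) (hRorth i b hb hbc)
      (R (i + a)) (R (i + (a + 1))) (hS i) hy (hRorth i (a + 1) ha2 ha3) ?_ (hR0 _) ?_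
    · have h3 := hRorth (i + a) 1 (by omega) (by omega)
      have h4 : R (i + a + 1) = R (i + (a + 1)) := hRidx _ _ (Or.inl (by omega))
      rw [h4, polar_comm] at h3
      exact h3
    · rcases hab with h | h
      · have h3 := hRopp (i + a)
        have h4 : R (i + a + c) = R (i + b) := hRidx _ _ (Or.inl (by omega))
        rw [h4, polar_comm] at h3
        exact h3
      · have h3 := hRopp (i + b)
        have h4 : R (i + b + c) = R (i + a) := hRidx _ _ (Or.inl (by omega))
        rw [h4] at h3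
        exact h3
  have range1 : ∀ a, 1 ≤ a → a < c → ∀ i, R (i + a) ∈ Lsub Q H (R i) (hR0 i) := by
    intro a ha
    induction a, ha using Nat.le_induction with
    | base => intro _; exact S1
    | succ a ha ih =>
      intro hac
      exact Sstep a (a + c) ha (by omega) (by omega) (by omega) (Or.inl rfl) (ih (by omega))
  have range2 : ∀ a, c + 1 ≤ a → a < 2 * c → ∀ i, R (i + a) ∈ Lsub Q H (R i) (hR0 i) := by
    intro a ha
    induction a, ha using Nat.le_induction with
    | base => intro _; exact Sc1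
    | succ a ha ih =>
      intro hac
      exact Sstep a (a - c) (by omega) (by omega) (by omega) (by omega) (Or.inr (by omega))
        (ih (by omega))
  have hall : ∀ a, 1 ≤ a → a < 2 * c → a ≠ c → ∀ i, R (i + a) ∈ Lsub Q H (R i) (hR0 i) := by
    intro a ha1 ha2 ha3
    rcases Nat.lt_or_ge a c with h | h
    · exact range1 a ha1 h
    · exact range2 a (by omega) ha2
  refine ⟨hall, ?_⟩
  -- moving vectors orthogonal to the frame along the frame
  have Wfix : ∀ x, (∀ i, polar Q (R i) x = 0) → ∀ i, x ∈ Lsub Q H (R i) (hR0 i) →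
      x ∈ Lsub Q H (R (i + 1)) (hR0 (i + 1)) := by
    intro x hxR i hx
    have hq : HypQuad Q (R (i + 1)) (R (i + 1 + c)) (R i) (R (i + c)) := by
      refine ⟨hR0 _, hR0 _, hR0 _, hR0 _, hRopp (i + 1), hRopp i, ?_, ?_, ?_, ?_⟩
      · rw [polar_comm]; exact hRorth i 1 (by omega) (by omega)
      · have h3 := hRorth (i + 1) (c - 1) (by omega) (by omega)
        have h4 : R (i + 1 + (c - 1)) = R (i + c) := hRidx _ _ (Or.inl (by omega))
        rwa [h4] at h3
      · have h3 := hRorth i (c + 1) (by omega) (by omega)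
        have h4 : R (i + (c + 1)) = R (i + 1 + c) := hRidx _ _ (Or.inl (by omega))
        rw [h4, polar_comm] at h3
        exact h3
      · have h3 := hRorth (i + c) 1 (by omega) (by omega)
        have h4 : R (i + c + 1) = R (i + 1 + c) := hRidx _ _ (Or.inl (by omega))
        rw [h4, polar_comm] at h3
        exact h3
    have hA : ∀ t : F, eichG Q (R (i + 1)) (t • R (i + c)) ∈ H := by
      have h3 := range1 (c - 1) (by omega) (by omega) (i + 1)
      have h4 : R (i + 1 + (c - 1)) = R (i + c) := hRidx _ _ (Or.inl (by omega))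
      rw [h4] at h3
      exact h3.2
    have hB : ∀ t : F, eichG Q (R i) (t • R (i + 1 + c)) ∈ H := by
      have h3 := Sc1 i
      have h4 : R (i + (c + 1)) = R (i + 1 + c) := hRidx _ _ (Or.inl (by omega))
      rw [h4] at h3
      exact h3.2
    have hν : wN Q (R (i + 1)) (R (i + 1 + c)) (R i) (R (i + c)) 1 ∈ H := by
      unfold wN
      exact mul_mem (mul_mem (hA _) (hB _)) (hA _)
    have h5 := Lsub_conj Q H _ hν (R i) (R (i + 1)) (hR0 i) (hR0 (i + 1)) 1 one_ne_zero
      (isoAct_wN_e' Q _ _ _ _ hq 1 one_ne_zero) x hx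
    rwa [isoAct_wN_orth Q _ _ _ _ hq 1 x (hxR _) (hxR _) (hxR _) (hxR _)] at h5
  have Wfix' : ∀ x, (∀ i, polar Q (R i) x = 0) → ∀ i, x ∈ Lsub Q H (R i) (hR0 i) →
      ∀ t, x ∈ Lsub Q H (R (i + t)) (hR0 (i + t)) := by
    intro x hxR i hx t
    induction t with
    | zero => exact hx
    | succ t ih => exact Wfix x hxR (i + t) ih
  intro i j
  have h1 := Wfix' _ (fun i => hYR j i) j (hYL j) (i + (2 * c - 1) * j)
  have h2 : R (j + (i + (2 * c - 1) * j)) = R i := by
    have h3 : j + (i + (2 * c - 1) * j) = i + 2 * c * j := by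
      have h4 : 2 * c = (2 * c - 1) + 1 := by omega
      rw [h4, Nat.add_mul, Nat.one_mul]
      have h5 : 2 * c - 1 + 1 - 1 = 2 * c - 1 := by omega
      rw [h5]
      omega
    rw [h3, hRper']
  exact Lsub_congr Q H _ _ _ _ h2 _ h1

end Cfsg.Agent.Lib.helper47.OGen
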