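/-
Orthogonal groups: the cyclic enumeration of a hyperbolic frame and the generation of `Ω` by a
monomial element and the root elements of one vector orthogonal to the frame.
-/
import Mathlib
import Cfsg.Prelude.Def_Classical
import Cfsg.Agent.Lib.helper49.NondegMax
import Cfsg.Agent.Lib.helper47.OGenF

set_option autoImplicit false

namespace Cfsg.Agent.Lib.helper47.OGen

open Cfsg.Agent.Lib.helper49 QuadraticMap

variable {F : Type*} [Field F] {ι : Type} [Fintype ι] [DecidableEq ι]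

/-- the frame vectors `e_0, …, e_{c-1}, f_0, …, f_{c-1}` in one list -/
def rr (c : ℕ) (e f : ℕ → ι → F) (k : ℕ) : ι → F := if k < c then e k else f (k - c)

/-- the cyclic enumeration of a frame -/
def cycR (c : ℕ) (e f : ℕ → ι → F) (i : ℕ) : ι → F := rr c e f (i % (2 * c))

section cyc

variable {Q : QuadraticForm F (ι → F)} {c : ℕ} {e f : ℕ → ι → F} (hfr : Frame Q c e f)
include hfr

omit [Fintype ι] [DecidableEq ι] in
theorem Q_rr (k : ℕ) (hk : k < 2 * c) : Q (rr c e f k) = 0 := by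
  unfold rr
  split_ifs with h
  · exact hfr.he k h
  · exact hfr.hf _ (by omega)

omit [Fintype ι] [DecidableEq ι] in
theorem polar_rr (k l : ℕ) (hk : k < 2 * c) (hl : l < 2 * c) (h1 : l ≠ k + c) (h2 : k ≠ l + c) :
    polar Q (rr c e f k) (rr c e f l) = 0 := by
  unfold rr
  split_ifs with hk' hl' hl'
  · exact hfr.hee k hk' l hl'
  · exact hfr.hef' k hk' _ (by omega) (by omega)
  · exact hfr.hfe' (by omega) hl' (by omega)
  · exact hfr.hff _ (by omega) _ (by omega)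

omit [Fintype ι] [DecidableEq ι] in
theorem polar_rr_opp (k : ℕ) (hk : k < c) : polar Q (rr c e f k) (rr c e f (k + c)) = 1 := by
  unfold rr
  rw [if_pos hk, if_neg (by omega), Nat.add_sub_cancel]
  exact hfr.hef k hk

omit [Fintype ι] [DecidableEq ι] in
theorem polar_rr_opp' (k : ℕ) (hk : c ≤ k) (hk' : k < 2 * c) :
    polar Q (rr c e f k) (rr c e f (k - c)) = 1 := by
  unfold rr
  rw [if_neg (by omega), if_pos (by omega)]
  exact hfr.hfe (by omega)

omit [Fintype ι] [DecidableEq ι] in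
theorem Q_cycR (hc : 1 ≤ c) (i : ℕ) : Q (cycR c e f i) = 0 :=
  Q_rr hfr _ (Nat.mod_lt _ (by omega))

omit [Fintype ι] [DecidableEq ι] hfr in
theorem cycR_per (i : ℕ) : cycR c e f (i + 2 * c) = cycR c e f i := by
  unfold cycR
  rw [Nat.add_mod_right]

omit [Fintype ι] [DecidableEq ι] hfr in
theorem cycR_add_mod (hc : 1 ≤ c) (i a : ℕ) (ha : a < 2 * c) :
    (i + a) % (2 * c) = i % (2 * c) + a ∧ i % (2 * c) + a < 2 * c ∨
    (i + a) % (2 * c) = i % (2 * c) + a - 2 * c ∧ 2 * c ≤ i % (2 * c) + a := by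
  have h0 : i % (2 * c) < 2 * c := Nat.mod_lt _ (by omega)
  have h1 : (i + a) % (2 * c) = (i % (2 * c) + a) % (2 * c) := by
    rw [Nat.add_mod, Nat.mod_eq_of_lt ha]
  rcases Nat.lt_or_ge (i % (2 * c) + a) (2 * c) with h | h
  · left
    exact ⟨by rw [h1, Nat.mod_eq_of_lt h], h⟩
  · right
    refine ⟨?_, h⟩
    rw [h1, Nat.mod_eq_sub_mod h, Nat.mod_eq_of_lt (by omega)]

omit [Fintype ι] [DecidableEq ι] in
theorem cycR_orth (hc : 1 ≤ c) (i a : ℕ) (ha : a < 2 * c) (hac : a ≠ c) :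
    polar Q (cycR c e f i) (cycR c e f (i + a)) = 0 := by
  have h0 : i % (2 * c) < 2 * c := Nat.mod_lt _ (by omega)
  unfold cycR
  rcases cycR_add_mod hc i a ha with ⟨h1, h2⟩ | ⟨h1, h2⟩
  · rw [h1]
    exact polar_rr hfr _ _ h0 h2 (by omega) (by omega)
  · rw [h1]
    exact polar_rr hfr _ _ h0 (by omega) (by omega) (by omega)

omit [Fintype ι] [DecidableEq ι] in
theorem cycR_opp (hc : 1 ≤ c) (i : ℕ) : polar Q (cycR c e f i) (cycR c e f (i + c)) = 1 := by
  have h0 : i % (2 * c) < 2 * c := Nat.mod_lt _ (by omega)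
  unfold cycR
  rcases cycR_add_mod hc i c (by omega) with ⟨h1, h2⟩ | ⟨h1, h2⟩
  · rw [h1]
    exact polar_rr_opp hfr _ (by omega)
  · rw [h1]
    have h3 : i % (2 * c) + c - 2 * c = i % (2 * c) - c := by omega
    rw [h3]
    exact polar_rr_opp' hfr _ (by omega) h0

omit [Fintype ι] [DecidableEq ι] hfr in
theorem cycR_lt (hc : 1 ≤ c) (k : ℕ) (hk : k < c) : cycR c e f k = e k := by
  unfold cycR rr
  rw [Nat.mod_eq_of_lt (by omega), if_pos hk]

omit [Fintype ι] [DecidableEq ι] hfr in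
theorem cycR_ge (k : ℕ) (hk : k < c) : cycR c e f (c + k) = f k := by
  unfold cycR rr
  rw [Nat.mod_eq_of_lt (by omega), if_neg (by omega), Nat.add_sub_cancel_left]

omit [Fintype ι] [DecidableEq ι] hfr in
theorem polar_cycR_of_orth (hc : 1 ≤ c) (x : ι → F)
    (hx : ∀ k < c, polar Q (e k) x = 0 ∧ polar Q (f k) x = 0) (i : ℕ) :
    polar Q (cycR c e f i) x = 0 := by
  have h0 : i % (2 * c) < 2 * c := Nat.mod_lt _ (by omega)
  unfold cycR rr
  split_ifs with h
  · exact (hx _ h).1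
  · exact (hx _ (by omega)).2

end cyc

/-- the monomial element steps through the cyclic enumeration -/
theorem cycR_step (Q : (ι → F) → F) (n : ℕ) (e f : ℕ → ι → F) (w : ↥(Cfsg.isometryGroup F Q))
    (hw1 : ∀ k < n, ∃ d : F, d ≠ 0 ∧ isoAct Q w (e k) = d • e (k + 1))
    (hw2 : ∃ d : F, d ≠ 0 ∧ isoAct Q w (e n) = d • f 0)
    (hw3 : ∀ k < n, ∃ d : F, d ≠ 0 ∧ isoAct Q w (f k) = d • f (k + 1))
    (hw4 : ∃ d : F, d ≠ 0 ∧ isoAct Q w (f n) = d • e 0) (i : ℕ) :
    ∃ d : F, d ≠ 0 ∧ isoAct Q w (cycR (n + 1) e f i) = d • cycR (n + 1) e f (i + 1) := by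
  have h0 : i % (2 * (n + 1)) < 2 * (n + 1) := Nat.mod_lt _ (by omega)
  unfold cycR rr
  rcases cycR_add_mod (c := n + 1) (by omega) i 1 (by omega) with ⟨h1, h2⟩ | ⟨h1, h2⟩
  · rw [h1]
    by_cases h3 : i % (2 * (n + 1)) + 1 < n + 1
    · rw [if_pos (by omega), if_pos h3]
      exact hw1 _ (by omega)
    · by_cases h4 : i % (2 * (n + 1)) < n + 1
      · rw [if_pos h4, if_neg h3]
        have h5 : i % (2 * (n + 1)) = n := by omega
        rw [h5, Nat.sub_self]
        exact hw2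
      · rw [if_neg h4, if_neg h3]
        have h5 : i % (2 * (n + 1)) + 1 - (n + 1) = i % (2 * (n + 1)) - (n + 1) + 1 := by omega
        rw [h5]
        exact hw3 _ (by omega)
  · rw [h1]
    have h5 : i % (2 * (n + 1)) = 2 * n + 1 := by omega
    rw [h5, if_neg (by omega), if_pos (by omega)]
    have h6 : 2 * n + 1 - (n + 1) = n := by omega
    have h7 : 2 * n + 1 + 1 - 2 * (n + 1) = 0 := by omega
    rw [h6, h7]
    exact hw4

/-- Generation of `Ω` from a monomial element and one root group (cyclic frame form). -/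
theorem gen_cyc [Fintype F] (Q : QuadraticForm F (ι → F))
    (hQ : (QuadraticMap.polarBilin Q).Nondegenerate) (hn5 : 5 ≤ Fintype.card ι) (n : ℕ)
    (hn : 1 ≤ n) (e f : ℕ → ι → F) (hfr : Frame Q (n + 1) e f)
    (H : Subgroup ↥(Cfsg.isometryGroup F ⇑Q)) (w : ↥(Cfsg.isometryGroup F ⇑Q)) (hw : w ∈ H)
    (hw1 : ∀ k < n, ∃ d : F, d ≠ 0 ∧ isoAct (⇑Q) w (e k) = d • e (k + 1))
    (hw2 : ∃ d : F, d ≠ 0 ∧ isoAct (⇑Q) w (e n) = d • f 0)
    (hw3 : ∀ k < n, ∃ d : F, d ≠ 0 ∧ isoAct (⇑Q) w (f k) = d • f (k + 1))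
    (hw4 : ∃ d : F, d ≠ 0 ∧ isoAct (⇑Q) w (f n) = d • e 0)
    (z : ι → F) (hzfr : ∀ k < n + 1, polar Q (e k) z = 0 ∧ polar Q (f k) z = 0)
    (hz0 : z ∈ Lsub Q H (e 0) (hfr.he 0 (Nat.succ_pos n)))
    (hφ1 : polar Q z (isoAct (⇑Q) w z) ≠ 0)
    (hφ2 : polar Q z (isoAct (⇑Q) w (isoAct (⇑Q) w z)) ≠ 0)
    (hspan0 : ∀ x, polar Q (e 0) x = 0 →
      x ∈ Submodule.span F (Set.range (fun j : ℕ => isoAct (⇑Q) (w ^ j) z) ∪ e '' Set.Iic n ∪
        f '' (Set.Iic n \ {0})))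
    (hspan1 : ∀ x, polar Q (f 0) x = 0 →
      x ∈ Submodule.span F (Set.range (fun j : ℕ => isoAct (⇑Q) (w ^ j) z) ∪
        e '' (Set.Iic n \ {0}) ∪ f '' Set.Iic n)) :
    Cfsg.Omega F ⇑Q ≤ H := by
  have hc1 : 1 ≤ n + 1 := by omega
  have h0' : 0 < n + 1 := Nat.succ_pos n
  have he0 := hfr.he 0 h0'
  have hf0 := hfr.hf 0 h0'
  have hR0 : ∀ i, Q (cycR (n + 1) e f i) = 0 := Q_cycR hfr hc1
  have hR_zero : cycR (n + 1) e f 0 = e 0 := cycR_lt hc1 0 h0'
  have hR_c : cycR (n + 1) e f (n + 1) = f 0 := cycR_ge (c := n + 1) 0 h0'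
  obtain ⟨hA, hB⟩ := cyc_core Q (n + 1) (by omega) (cycR (n + 1) e f) hR0 cycR_per
    (cycR_orth hfr hc1) (cycR_opp hfr hc1) H w hw (cycR_step (⇑Q) n e f w hw1 hw2 hw3 hw4) z
    (polar_cycR_of_orth hc1 z hzfr) (Lsub_congr Q H _ _ he0 (hR0 0) hR_zero.symm z hz0) hφ1 hφ2
  have hMx : ∀ x, polar Q (e 0) x = 0 → eichG Q (e 0) x ∈ H := by
    intro x hx
    have h6 : Submodule.span F (Set.range (fun j : ℕ => isoAct (⇑Q) (w ^ j) z) ∪ e '' Set.Iic n ∪
        f '' (Set.Iic n \ {0})) ≤ Lsub Q H (e 0) he0 := by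
      apply Submodule.span_le.mpr
      rintro y ((⟨j, rfl⟩ | ⟨k, hk, rfl⟩) | ⟨k, ⟨hk, hk0⟩, rfl⟩)
      · exact Lsub_congr Q H _ _ (hR0 0) he0 hR_zero _ (hB 0 j)
      · have hk' : k ≤ n := hk
        by_cases hk0 : k = 0
        · subst hk0
          exact self_mem_Lsub Q H _ he0
        · have h7 := hA k (by omega) (by omega) (by omega) 0
          rw [Nat.zero_add, cycR_lt hc1 k (by omega)] at h7
          exact Lsub_congr Q H _ _ (hR0 0) he0 hR_zero _ h7
      · have hk' : k ≤ n := hk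
        have hk0' : k ≠ 0 := by simpa using hk0
        have h7 := hA (n + 1 + k) (by omega) (by omega) (by omega) 0
        rw [Nat.zero_add, cycR_ge k (by omega)] at h7
        exact Lsub_congr Q H _ _ (hR0 0) he0 hR_zero _ h7
    have h7 := (h6 (hspan0 x hx)).2 1
    rwa [one_smul] at h7
  have hMy : ∀ x, polar Q (f 0) x = 0 → eichG Q (f 0) x ∈ H := by
    intro x hx
    have h6 : Submodule.span F (Set.range (fun j : ℕ => isoAct (⇑Q) (w ^ j) z) ∪
        e '' (Set.Iic n \ {0}) ∪ f '' Set.Iic n) ≤ Lsub Q H (f 0) hf0 := by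
      apply Submodule.span_le.mpr
      rintro y ((⟨j, rfl⟩ | ⟨k, ⟨hk, hk0⟩, rfl⟩) | ⟨k, hk, rfl⟩)
      · exact Lsub_congr Q H _ _ (hR0 (n + 1)) hf0 hR_c _ (hB (n + 1) j)
      · have hk' : k ≤ n := hk
        have hk0' : k ≠ 0 := by simpa using hk0
        have h7 := hA (n + 1 + k) (by omega) (by omega) (by omega) (n + 1)
        have h8 : cycR (n + 1) e f (n + 1 + (n + 1 + k)) = e k := by
          have h9 : n + 1 + (n + 1 + k) = k + 2 * (n + 1) := by omega
          rw [h9, cycR_per, cycR_lt hc1 k (by omega)]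
        rw [h8] at h7
        exact Lsub_congr Q H _ _ (hR0 (n + 1)) hf0 hR_c _ h7
      · have hk' : k ≤ n := hk
        by_cases hk0 : k = 0
        · subst hk0
          exact self_mem_Lsub Q H _ hf0
        · have h7 := hA k (by omega) (by omega) (by omega) (n + 1)
          rw [cycR_ge k (by omega)] at h7
          exact Lsub_congr Q H _ _ (hR0 (n + 1)) hf0 hR_c _ h7
    have h7 := (h6 (hspan1 x hx)).2 1
    rwa [one_smul] at h7
  exact Omega_le_of_hyp_pair Q hQ hn5 H (e 0) (f 0) he0 hf0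
    (by rw [hfr.hef 0 h0']; exact one_ne_zero) hMx hMy

end Cfsg.Agent.Lib.helper47.OGen
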