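/-
Orthogonal groups: two-generation of `Ω` from a frame, an element `s` swapping the last hyperbolic
pair of the frame, and a vector `z` orthogonal to the frame with `⟪z, s z⟫ ≠ 0`, `⟪z, s² z⟫ ≠ 0`
whose `s`-orbit spans the orthogonal complement of the frame.
-/
import Mathlib
import Cfsg.Prelude.Def_Classical
import Cfsg.Agent.Lib.helper49.NondegMax
import Cfsg.Agent.Lib.helper47.OGenG

set_option autoImplicit false

namespace Cfsg.Agent.Lib.helper47.OGen

open Cfsg.Agent.Lib.helper49 QuadraticMap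

variable {F : Type*} [Field F] {ι : Type} [Fintype ι] [DecidableEq ι]

theorem eq_zero_or_one_of_card_two [Fintype F] (h : Fintype.card F = 2) (c : F) :
    c = 0 ∨ c = 1 := by
  classical
  by_contra hc
  push Not at hc
  have h3 : ({0, 1, c} : Finset F).card = 3 := by
    rw [Finset.card_insert_of_notMem, Finset.card_insert_of_notMem, Finset.card_singleton]
    · rw [Finset.mem_singleton]
      exact Ne.symm hc.2
    · rw [Finset.mem_insert, Finset.mem_singleton]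
      rintro (h0 | h0)
      · exact zero_ne_one h0
      · exact hc.1 h0.symm
  have := Finset.card_le_univ ({0, 1, c} : Finset F)
  omega

/-- Two-generation of `Ω`, two-step form. -/
theorem gen_two_step [Fintype F] (Q : QuadraticForm F (ι → F))
    (hQ : (QuadraticMap.polarBilin Q).Nondegenerate) (hn7 : 7 ≤ Fintype.card ι) (n : ℕ)
    (hn : 1 ≤ n) (e f : ℕ → ι → F) (hfr : Frame Q (n + 1) e f)
    (s : ↥(Cfsg.isometryGroup F ⇑Q)) (hsΩ : s ∈ Cfsg.Omega F ⇑Q)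
    (hse : ∃ d : F, d ≠ 0 ∧ isoAct (⇑Q) s (e n) = d • f n)
    (hsf : ∃ d : F, d ≠ 0 ∧ isoAct (⇑Q) s (f n) = d • e n)
    (hsfix : ∀ k < n, isoAct (⇑Q) s (e k) = e k ∧ isoAct (⇑Q) s (f k) = f k)
    (z : ι → F) (hzfr : ∀ k < n + 1, polar Q (e k) z = 0 ∧ polar Q (f k) z = 0)
    (hφ1 : polar Q z (isoAct (⇑Q) s z) ≠ 0)
    (hφ2 : polar Q z (isoAct (⇑Q) s (isoAct (⇑Q) s z)) ≠ 0)
    (hspan : Submodule.span F ({x | ∀ k < n + 1, polar Q (e k) x = 0 ∧ polar Q (f k) x = 0} ∪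
      e '' Set.Iic n ∪ f '' Set.Iic n) = ⊤)
    (hspan0 : ∀ x, polar Q (e 0) x = 0 →
      x ∈ Submodule.span F (Set.range (fun j : ℕ => isoAct (⇑Q) (s ^ j) z) ∪ e '' Set.Iic n ∪
        f '' (Set.Iic n \ {0})))
    (hspan1 : ∀ x, polar Q (f 0) x = 0 →
      x ∈ Submodule.span F (Set.range (fun j : ℕ => isoAct (⇑Q) (s ^ j) z) ∪
        e '' (Set.Iic n \ {0}) ∪ f '' Set.Iic n))
    (hgen : (∃ θ : F, θ ≠ 0 ∧ θ ≠ 1 ∧ ∀ B : Subfield F, θ ∈ B → B = ⊤) ∨ Fintype.card F = 2) :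
    ∃ a b : ↥(Cfsg.isometryGroup F ⇑Q), a ∈ Cfsg.Omega F ⇑Q ∧ b ∈ Cfsg.Omega F ⇑Q ∧
      Cfsg.Omega F ⇑Q ≤ Subgroup.closure {a, b} := by
  have hM : ∀ e w, eichG Q e w ∈ Cfsg.Omega F ⇑Q := eichG_mem_Omega Q hQ hn7
  obtain ⟨g, hgM, h1, ⟨c2, hc2, h2⟩, h3, ⟨c4, hc4, h4⟩, h5⟩ :=
    exists_cyc Q (Cfsg.Omega F ⇑Q) hM (n + 1) e f hfr n (by omega)
  have hn' : n < n + 1 := Nat.lt_succ_self n
  have h0' : 0 < n + 1 := Nat.succ_pos n
  have hgW : ∀ x, (∀ k < n + 1, polar Q (e k) x = 0 ∧ polar Q (f k) x = 0) →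
      isoAct (⇑Q) g x = x := fun x hx => h5 x (fun k hk => hx k (by omega))
  obtain ⟨w, hw⟩ : ∃ w, w = g * s := ⟨_, rfl⟩
  have hwM : w ∈ Cfsg.Omega F ⇑Q := by rw [hw]; exact mul_mem hgM hsΩ
  -- `s` preserves the orthogonal complement of the frame
  have hsW : ∀ x, (∀ k < n + 1, polar Q (e k) x = 0 ∧ polar Q (f k) x = 0) →
      ∀ k < n + 1, polar Q (e k) (isoAct (⇑Q) s x) = 0 ∧ polar Q (f k) (isoAct (⇑Q) s x) = 0 := by
    intro x hx k hk
    by_cases hkn : k = n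
    · subst hkn
      obtain ⟨d, hd, hd'⟩ := hse
      obtain ⟨d', hd0', hd''⟩ := hsf
      constructor
      · have := polar_isoAct Q s (f k) x
        rw [hd'', (hx k hk).2, polar_smul_left, smul_eq_mul] at this
        exact (mul_eq_zero.mp this).resolve_left hd0'
      · have := polar_isoAct Q s (e k) x
        rw [hd', (hx k hk).1, polar_smul_left, smul_eq_mul] at this
        exact (mul_eq_zero.mp this).resolve_left hd
    · have hk' : k < n := by omega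
      constructor
      · have := polar_isoAct Q s (e k) x
        rw [(hsfix k hk').1, (hx k hk).1] at this
        exact this
      · have := polar_isoAct Q s (f k) x
        rw [(hsfix k hk').2, (hx k hk).2] at this
        exact this
  have hwW : ∀ x, (∀ k < n + 1, polar Q (e k) x = 0 ∧ polar Q (f k) x = 0) →
      isoAct (⇑Q) w x = isoAct (⇑Q) s x := fun x hx => by
    rw [hw, isoAct_mul, hgW _ (hsW x hx)]
  -- the action of `w` on the frame
  have hw1 : ∀ k < n, ∃ d : F, d ≠ 0 ∧ isoAct (⇑Q) w (e k) = d • e (k + 1) := by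
    intro k hk
    obtain ⟨c, hc, hc'⟩ := h1 k hk
    exact ⟨c, hc, by rw [hw, isoAct_mul, (hsfix k hk).1, hc']⟩
  have hw2 : ∃ d : F, d ≠ 0 ∧ isoAct (⇑Q) w (e n) = d • f 0 := by
    obtain ⟨d, hd, hd'⟩ := hse
    exact ⟨d * c4, mul_ne_zero hd hc4, by rw [hw, isoAct_mul, hd', isoAct_smul, h4, smul_smul]⟩
  have hw3 : ∀ k < n, ∃ d : F, d ≠ 0 ∧ isoAct (⇑Q) w (f k) = d • f (k + 1) := by
    intro k hk
    obtain ⟨c, hc, hc'⟩ := h3 k hk
    exact ⟨c, hc, by rw [hw, isoAct_mul, (hsfix k hk).2, hc']⟩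
  have hw4 : ∃ d : F, d ≠ 0 ∧ isoAct (⇑Q) w (f n) = d • e 0 := by
    obtain ⟨d, hd, hd'⟩ := hsf
    exact ⟨d * c2, mul_ne_zero hd hc2, by rw [hw, isoAct_mul, hd', isoAct_smul, h2, smul_smul]⟩
  -- the orbit of `z`
  have horb : ∀ j, isoAct (⇑Q) (w ^ j) z = isoAct (⇑Q) (s ^ j) z ∧
      ∀ k < n + 1, polar Q (e k) (isoAct (⇑Q) (s ^ j) z) = 0 ∧
        polar Q (f k) (isoAct (⇑Q) (s ^ j) z) = 0 := by
    intro j
    induction j with
    | zero =>
      rw [pow_zero, pow_zero, isoAct_one]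
      exact ⟨rfl, hzfr⟩
    | succ j ih =>
      rw [pow_succ', pow_succ', isoAct_mul, isoAct_mul, ih.1]
      exact ⟨hwW _ ih.2, hsW _ ih.2⟩
  have hrange : (fun j : ℕ => isoAct (⇑Q) (w ^ j) z) = (fun j : ℕ => isoAct (⇑Q) (s ^ j) z) :=
    funext (fun j => (horb j).1)
  have hφ1' : polar Q z (isoAct (⇑Q) w z) ≠ 0 := by rw [hwW z hzfr]; exact hφ1
  have hφ2' : polar Q z (isoAct (⇑Q) w (isoAct (⇑Q) w z)) ≠ 0 := by
    rw [hwW z hzfr, hwW _ (hsW z hzfr)]; exact hφ2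
  have he0 := hfr.he 0 h0'
  have hcore : ∀ H : Subgroup ↥(Cfsg.isometryGroup F ⇑Q), w ∈ H → z ∈ Lsub Q H (e 0) he0 →
      Cfsg.Omega F ⇑Q ≤ H := by
    intro H hwH hz0
    refine gen_cyc Q hQ (by omega) n hn e f hfr H w hwH hw1 hw2 hw3 hw4 z hzfr hz0 hφ1' hφ2' ?_ ?_
    · rw [hrange]; exact hspan0
    · rw [hrange]; exact hspan1
  rcases hgen with ⟨θ, hθ0, hθ1, hθ⟩ | hcard
  · -- the torus element
    have hq : HypQuad Q (e 0) (f 0) (e n) (f n) := hfr.hypQuad h0' hn' (by omega)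
    obtain ⟨h, hh⟩ : ∃ h, h = tor Q (e 0) (f 0) (e n) (f n) θ := ⟨_, rfl⟩
    have hhM : h ∈ Cfsg.Omega F ⇑Q := by rw [hh]; exact tor_mem Q _ hM _ _ _ _ _
    have hhe : ∀ k ≤ n, ∃ c : F, isoAct (⇑Q) h (e k) = c • e k := by
      intro k hk
      by_cases hk0 : k = 0
      · subst hk0
        exact ⟨θ, by rw [hh]; exact isoAct_tor_e Q _ _ _ _ hq θ hθ0⟩
      · by_cases hkn : k = n
        · subst hkn
          exact ⟨θ⁻¹, by rw [hh]; exact isoAct_tor_e' Q _ _ _ _ hq θ hθ0⟩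
        · refine ⟨1, ?_⟩
          rw [hh, one_smul]
          exact isoAct_tor_orth Q _ _ _ _ hq θ _ (hfr.hee 0 h0' k (by omega))
            (hfr.hfe' h0' (by omega) (Ne.symm hk0)) (hfr.hee n hn' k (by omega))
            (hfr.hfe' hn' (by omega) (Ne.symm hkn))
    have hhf : ∀ k ≤ n, ∃ c : F, isoAct (⇑Q) h (f k) = c • f k := by
      intro k hk
      by_cases hk0 : k = 0
      · subst hk0
        exact ⟨θ⁻¹, by rw [hh]; exact isoAct_tor_f Q _ _ _ _ hq θ hθ0⟩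
      · by_cases hkn : k = n
        · subst hkn
          exact ⟨θ, by rw [hh]; exact isoAct_tor_f' Q _ _ _ _ hq θ hθ0⟩
        · refine ⟨1, ?_⟩
          rw [hh, one_smul]
          exact isoAct_tor_orth Q _ _ _ _ hq θ _ (hfr.hef' 0 h0' k (by omega) (Ne.symm hk0))
            (hfr.hff 0 h0' k (by omega)) (hfr.hef' n hn' k (by omega) (Ne.symm hkn))
            (hfr.hff n hn' k (by omega))
    have hhW : ∀ x, (∀ k < n + 1, polar Q (e k) x = 0 ∧ polar Q (f k) x = 0) →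
        isoAct (⇑Q) h x = x := fun x hx => by
      rw [hh]
      exact isoAct_tor_orth Q _ _ _ _ hq θ x (hx 0 h0').1 (hx 0 h0').2 (hx n hn').1 (hx n hn').2
    have hhe0 : isoAct (⇑Q) h (e 0) = θ • e 0 := by rw [hh]; exact isoAct_tor_e Q _ _ _ _ hq θ hθ0
    have hhfn : isoAct (⇑Q) h (f n) = θ • f n := by rw [hh]; exact isoAct_tor_f' Q _ _ _ _ hq θ hθ0
    have hwinvW : ∀ x, (∀ k < n + 1, polar Q (e k) x = 0 ∧ polar Q (f k) x = 0) →
        ∀ k < n + 1, polar Q (e k) (isoAct (⇑Q) w⁻¹ x) = 0 ∧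
          polar Q (f k) (isoAct (⇑Q) w⁻¹ x) = 0 := by
      intro x hx k hk
      constructor
      · rw [← polar_isoAct_left Q w (e k) x]
        by_cases hkn : k = n
        · subst hkn
          obtain ⟨d, hd, hd'⟩ := hw2
          rw [hd', polar_smul_left, (hx 0 h0').2, smul_zero]
        · obtain ⟨d, hd, hd'⟩ := hw1 k (by omega)
          rw [hd', polar_smul_left, (hx (k + 1) (by omega)).1, smul_zero]
      · rw [← polar_isoAct_left Q w (f k) x]
        by_cases hkn : k = n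
        · subst hkn
          obtain ⟨d, hd, hd'⟩ := hw4
          rw [hd', polar_smul_left, (hx 0 h0').1, smul_zero]
        · obtain ⟨d, hd, hd'⟩ := hw3 k (by omega)
          rw [hd', polar_smul_left, (hx (k + 1) (by omega)).2, smul_zero]
    have hh'W : ∀ x, (∀ k < n + 1, polar Q (e k) x = 0 ∧ polar Q (f k) x = 0) →
        isoAct (⇑Q) (w * h * w⁻¹) x = x := fun x hx => by
      rw [isoAct_mul, isoAct_mul, hhW _ (hwinvW x hx), isoAct_isoAct_inv]
    have hh'e0 : isoAct (⇑Q) (w * h * w⁻¹) (e 0) = θ • e 0 := by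
      obtain ⟨c, hc, hc'⟩ := hw4
      exact eigen_conj _ w h (f n) (e 0) c θ hc hc' hhfn
    have hh'e : ∀ k ≤ n, ∃ c : F, isoAct (⇑Q) (w * h * w⁻¹) (e k) = c • e k := by
      intro k hk
      rcases Nat.eq_zero_or_pos k with hk0 | hk0
      · subst hk0
        exact ⟨θ, hh'e0⟩
      · obtain ⟨k', rfl⟩ : ∃ k', k = k' + 1 := ⟨k - 1, by omega⟩
        obtain ⟨c, hc, hc'⟩ := hw1 k' (by omega)
        obtain ⟨l, hl⟩ := hhe k' (by omega)
        exact ⟨l, eigen_conj _ w h (e k') (e (k' + 1)) c l hc hc' hl⟩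
    have hh'f : ∀ k ≤ n, ∃ c : F, isoAct (⇑Q) (w * h * w⁻¹) (f k) = c • f k := by
      intro k hk
      rcases Nat.eq_zero_or_pos k with hk0 | hk0
      · subst hk0
        obtain ⟨c, hc, hc'⟩ := hw2
        obtain ⟨l, hl⟩ := hhe n le_rfl
        exact ⟨l, eigen_conj _ w h (e n) (f 0) c l hc hc' hl⟩
      · obtain ⟨k', rfl⟩ : ∃ k', k = k' + 1 := ⟨k - 1, by omega⟩
        obtain ⟨c, hc, hc'⟩ := hw3 k' (by omega)
        obtain ⟨l, hl⟩ := hhf k' (by omega)
        exact ⟨l, eigen_conj _ w h (f k') (f (k' + 1)) c l hc hc' hl⟩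
    have hcomm : h * (w * h * w⁻¹) = (w * h * w⁻¹) * h := by
      refine comm_of_diag _ _ _ _ hspan ?_ ?_
      · rintro x ((hx | ⟨k, hk, rfl⟩) | ⟨k, hk, rfl⟩)
        · exact ⟨1, by rw [hhW x hx, one_smul]⟩
        · exact hhe k hk
        · exact hhf k hk
      · rintro x ((hx | ⟨k, hk, rfl⟩) | ⟨k, hk, rfl⟩)
        · exact ⟨1, by rw [hh'W x hx, one_smul]⟩
        · exact hh'e k hk
        · exact hh'f k hk
    refine ⟨h, eichG Q (e 0) z * w, hhM, mul_mem (hM _ _) hwM, ?_⟩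
    obtain ⟨H, hH⟩ : ∃ H, H = Subgroup.closure ({h, eichG Q (e 0) z * w} :
      Set ↥(Cfsg.isometryGroup F ⇑Q)) := ⟨_, rfl⟩
    rw [← hH]
    have hhH : h ∈ H := by rw [hH]; exact Subgroup.subset_closure (by simp)
    have hbH : eichG Q (e 0) z * w ∈ H := by rw [hH]; exact Subgroup.subset_closure (by simp)
    obtain ⟨hz0, hwH⟩ := steinberg_trick Q H (e 0) z he0 (hzfr 0 h0').1 h w θ hθ1 hθ hhe0
      (hhW z hzfr) hh'e0 (hh'W z hzfr) hcomm hhH hbH
    exact hcore H hwH hz0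
  · -- the field with two elements
    refine ⟨eichG Q (e 0) z, w, hM _ _, hwM, ?_⟩
    apply hcore
    · exact Subgroup.subset_closure (by simp)
    · refine ⟨(hzfr 0 h0').1, fun c => ?_⟩
      rcases eq_zero_or_one_of_card_two hcard c with rfl | rfl
      · rw [zero_smul, eichG_zero]
        exact one_mem _
      · rw [one_smul]
        exact Subgroup.subset_closure (by simp)

end Cfsg.Agent.Lib.helper47.OGen
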