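/-
Orthogonal groups of minus type: an element swapping a hyperbolic pair `p, q` and acting on the
four-dimensional space spanned by a hyperbolic pair `e', f'` and an anisotropic plane `k₁, k₂` in
such a way that the orbit of `e'` spans that space.
-/
import Mathlib
import Cfsg.Prelude.Def_Classical
import Cfsg.Agent.Lib.helper49.NondegMax
import Cfsg.Agent.Lib.helper47.OGenB

set_option autoImplicit false

namespace Cfsg.Agent.Lib.helper47.OGen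

open Cfsg.Agent.Lib.helper49 QuadraticMap

variable {F : Type*} [Field F] {ι : Type} [Fintype ι] [DecidableEq ι]

/-- A hyperbolic pair `p, q`, a further hyperbolic pair `e', f'` and two vectors `k₁, k₂` with
`Q k₁ = 1`, `Q k₂ = κ ≠ 0`, `⟪k₁, k₂⟫ = π`, all other products being zero. -/
structure MinusData (Q : QuadraticForm F (ι → F)) (p q e' f' k₁ k₂ : ι → F) (κ π : F) : Prop where
  hp : Q p = 0
  hq : Q q = 0
  hpq : polar Q p q = 1
  he' : Q e' = 0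
  hf' : Q f' = 0
  he'f' : polar Q e' f' = 1
  hk1 : Q k₁ = 1
  hk2 : Q k₂ = κ
  hκ : κ ≠ 0
  hk12 : polar Q k₁ k₂ = π
  hpe' : polar Q p e' = 0
  hpf' : polar Q p f' = 0
  hpk1 : polar Q p k₁ = 0
  hpk2 : polar Q p k₂ = 0
  hqe' : polar Q q e' = 0
  hqf' : polar Q q f' = 0
  hqk1 : polar Q q k₁ = 0
  hqk2 : polar Q q k₂ = 0
  he'k1 : polar Q e' k₁ = 0
  he'k2 : polar Q e' k₂ = 0
  hf'k1 : polar Q f' k₁ = 0
  hf'k2 : polar Q f' k₂ = 0

/-- The swapping element. -/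
noncomputable def sM (Q : QuadraticForm F (ι → F)) (p q e' f' k₁ k₂ : ι → F) :
    ↥(Cfsg.isometryGroup F ⇑Q) :=
  wS Q p q (e' + f') * eichG Q e' k₂ * wS Q p q k₁ * wS Q p q k₂

theorem sM_mem (Q : QuadraticForm F (ι → F)) (M : Subgroup ↥(Cfsg.isometryGroup F ⇑Q))
    (hM : ∀ e w, eichG Q e w ∈ M) (p q e' f' k₁ k₂ : ι → F) : sM Q p q e' f' k₁ k₂ ∈ M :=
  mul_mem (mul_mem (mul_mem (wS_mem Q M hM _ _ _) (hM _ _)) (wS_mem Q M hM _ _ _))
    (wS_mem Q M hM _ _ _)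

section data

variable {Q : QuadraticForm F (ι → F)} {p q e' f' k₁ k₂ : ι → F} {κ π : F}
  (d : MinusData Q p q e' f' k₁ k₂ κ π)
include d

theorem MinusData.hv : Q (e' + f') = 1 := by
  rw [QuadraticMap.map_add Q, d.he', d.hf', d.he'f']; simp

theorem MinusData.hf'e' : polar Q f' e' = 1 := by rw [polar_comm]; exact d.he'f'
theorem MinusData.hk21 : polar Q k₂ k₁ = π := by rw [polar_comm]; exact d.hk12
theorem MinusData.hk1e' : polar Q k₁ e' = 0 := by rw [polar_comm]; exact d.he'k1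
theorem MinusData.hk2e' : polar Q k₂ e' = 0 := by rw [polar_comm]; exact d.he'k2
theorem MinusData.hk1f' : polar Q k₁ f' = 0 := by rw [polar_comm]; exact d.hf'k1
theorem MinusData.hk2f' : polar Q k₂ f' = 0 := by rw [polar_comm]; exact d.hf'k2
theorem MinusData.he'e' : polar Q e' e' = 0 := by rw [polar_self, d.he', smul_zero]
theorem MinusData.hf'f' : polar Q f' f' = 0 := by rw [polar_self, d.hf', smul_zero]
theorem MinusData.hk2k2 : polar Q k₂ k₂ = 2 * κ := by rw [polar_self, d.hk2]; simp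
theorem MinusData.hpv : polar Q p (e' + f') = 0 := by
  rw [polar_add_right, d.hpe', d.hpf', add_zero]
theorem MinusData.hqv : polar Q q (e' + f') = 0 := by
  rw [polar_add_right, d.hqe', d.hqf', add_zero]

-- the reflection in `e' + f'`
theorem MinusData.A_p : isoAct (⇑Q) (wS Q p q (e' + f')) p = -q := by
  rw [isoAct_wS_e Q p q _ d.hp d.hq d.hpq d.hpv d.hqv (by rw [d.hv]; exact one_ne_zero), d.hv]
  simp
theorem MinusData.A_q : isoAct (⇑Q) (wS Q p q (e' + f')) q = -p := by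
  rw [isoAct_wS_f Q p q _ d.hp d.hq d.hpq d.hpv d.hqv (by rw [d.hv]; exact one_ne_zero), d.hv]
  simp
theorem MinusData.A_e' : isoAct (⇑Q) (wS Q p q (e' + f')) e' = -f' := by
  rw [isoAct_wS_orth Q p q _ d.hp d.hq d.hpq d.hpv d.hqv (by rw [d.hv]; exact one_ne_zero) e'
    d.hpe' d.hqe', d.hv, polar_add_left, d.he'e', d.hf'e']
  simp
theorem MinusData.A_f' : isoAct (⇑Q) (wS Q p q (e' + f')) f' = -e' := by
  rw [isoAct_wS_orth Q p q _ d.hp d.hq d.hpq d.hpv d.hqv (by rw [d.hv]; exact one_ne_zero) f'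
    d.hpf' d.hqf', d.hv, polar_add_left, d.he'f', d.hf'f']
  simp
theorem MinusData.A_k1 : isoAct (⇑Q) (wS Q p q (e' + f')) k₁ = k₁ := by
  rw [isoAct_wS_orth Q p q _ d.hp d.hq d.hpq d.hpv d.hqv (by rw [d.hv]; exact one_ne_zero) k₁
    d.hpk1 d.hqk1, polar_add_left, d.he'k1, d.hf'k1]
  simp
theorem MinusData.A_k2 : isoAct (⇑Q) (wS Q p q (e' + f')) k₂ = k₂ := by
  rw [isoAct_wS_orth Q p q _ d.hp d.hq d.hpq d.hpv d.hqv (by rw [d.hv]; exact one_ne_zero) k₂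
    d.hpk2 d.hqk2, polar_add_left, d.he'k2, d.hf'k2]
  simp

-- the Eichler transformation `X(e', k₂)`
theorem MinusData.B_p : isoAct (⇑Q) (eichG Q e' k₂) p = p := by
  rw [isoAct_eichG Q e' k₂ d.he' d.he'k2, polar_comm Q k₂ p, d.hpk2, polar_comm Q e' p, d.hpe']
  simp
theorem MinusData.B_q : isoAct (⇑Q) (eichG Q e' k₂) q = q := by
  rw [isoAct_eichG Q e' k₂ d.he' d.he'k2, polar_comm Q k₂ q, d.hqk2, polar_comm Q e' q, d.hqe']
  simp
theorem MinusData.B_e' : isoAct (⇑Q) (eichG Q e' k₂) e' = e' := by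
  rw [isoAct_eichG Q e' k₂ d.he' d.he'k2, d.hk2e', d.he'e']
  simp
theorem MinusData.B_f' : isoAct (⇑Q) (eichG Q e' k₂) f' = f' - κ • e' - k₂ := by
  rw [isoAct_eichG Q e' k₂ d.he' d.he'k2, d.hk2f', d.he'f', d.hk2]
  simp [sub_eq_add_neg]
theorem MinusData.B_k1 : isoAct (⇑Q) (eichG Q e' k₂) k₁ = k₁ + π • e' := by
  rw [isoAct_eichG Q e' k₂ d.he' d.he'k2, d.hk21, d.he'k1]
  simp
theorem MinusData.B_k2 : isoAct (⇑Q) (eichG Q e' k₂) k₂ = k₂ + (2 * κ) • e' := by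
  rw [isoAct_eichG Q e' k₂ d.he' d.he'k2, d.hk2k2, d.he'k2]
  simp

-- the reflection in `k₁`
theorem MinusData.C_p : isoAct (⇑Q) (wS Q p q k₁) p = -q := by
  rw [isoAct_wS_e Q p q _ d.hp d.hq d.hpq d.hpk1 d.hqk1 (by rw [d.hk1]; exact one_ne_zero), d.hk1]
  simp
theorem MinusData.C_q : isoAct (⇑Q) (wS Q p q k₁) q = -p := by
  rw [isoAct_wS_f Q p q _ d.hp d.hq d.hpq d.hpk1 d.hqk1 (by rw [d.hk1]; exact one_ne_zero), d.hk1]
  simp
theorem MinusData.C_e' : isoAct (⇑Q) (wS Q p q k₁) e' = e' := by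
  rw [isoAct_wS_orth Q p q _ d.hp d.hq d.hpq d.hpk1 d.hqk1 (by rw [d.hk1]; exact one_ne_zero) e'
    d.hpe' d.hqe', d.hk1e']
  simp
theorem MinusData.C_f' : isoAct (⇑Q) (wS Q p q k₁) f' = f' := by
  rw [isoAct_wS_orth Q p q _ d.hp d.hq d.hpq d.hpk1 d.hqk1 (by rw [d.hk1]; exact one_ne_zero) f'
    d.hpf' d.hqf', d.hk1f']
  simp
theorem MinusData.C_k2 : isoAct (⇑Q) (wS Q p q k₁) k₂ = k₂ - π • k₁ := by
  rw [isoAct_wS_orth Q p q _ d.hp d.hq d.hpq d.hpk1 d.hqk1 (by rw [d.hk1]; exact one_ne_zero) k₂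
    d.hpk2 d.hqk2, d.hk12, d.hk1]
  simp

-- the reflection in `k₂`
theorem MinusData.D_p : isoAct (⇑Q) (wS Q p q k₂) p = (-κ⁻¹) • q := by
  rw [isoAct_wS_e Q p q _ d.hp d.hq d.hpq d.hpk2 d.hqk2 (by rw [d.hk2]; exact d.hκ), d.hk2]
theorem MinusData.D_q : isoAct (⇑Q) (wS Q p q k₂) q = (-κ) • p := by
  rw [isoAct_wS_f Q p q _ d.hp d.hq d.hpq d.hpk2 d.hqk2 (by rw [d.hk2]; exact d.hκ), d.hk2]
theorem MinusData.D_e' : isoAct (⇑Q) (wS Q p q k₂) e' = e' := by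
  rw [isoAct_wS_orth Q p q _ d.hp d.hq d.hpq d.hpk2 d.hqk2 (by rw [d.hk2]; exact d.hκ) e'
    d.hpe' d.hqe', d.hk2e']
  simp
theorem MinusData.D_f' : isoAct (⇑Q) (wS Q p q k₂) f' = f' := by
  rw [isoAct_wS_orth Q p q _ d.hp d.hq d.hpq d.hpk2 d.hqk2 (by rw [d.hk2]; exact d.hκ) f'
    d.hpf' d.hqf', d.hk2f']
  simp
theorem MinusData.D_k2 : isoAct (⇑Q) (wS Q p q k₂) k₂ = -k₂ :=
  isoAct_wS_z Q p q _ d.hp d.hq d.hpq d.hpk2 d.hqk2 (by rw [d.hk2]; exact d.hκ)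

theorem sM_p : isoAct (⇑Q) (sM Q p q e' f' k₁ k₂) p = (-κ⁻¹) • q := by
  unfold sM
  simp only [isoAct_mul, isoAct_add, isoAct_sub, isoAct_smul, isoAct_neg, d.D_p, d.C_q, d.B_p,
    d.A_p]
  module

theorem sM_q : isoAct (⇑Q) (sM Q p q e' f' k₁ k₂) q = (-κ) • p := by
  unfold sM
  simp only [isoAct_mul, isoAct_add, isoAct_sub, isoAct_smul, isoAct_neg, d.D_q, d.C_p, d.B_q,
    d.A_q]
  module

theorem sM_e' : isoAct (⇑Q) (sM Q p q e' f' k₁ k₂) e' = -f' := by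
  unfold sM
  simp only [isoAct_mul, d.D_e', d.C_e', d.B_e', d.A_e']

theorem sM_f' : isoAct (⇑Q) (sM Q p q e' f' k₁ k₂) f' = -e' + κ • f' - k₂ := by
  unfold sM
  simp only [isoAct_mul, isoAct_add, isoAct_sub, isoAct_smul, isoAct_neg, d.D_f', d.C_f', d.B_f',
    d.A_f', d.A_e', d.A_k2]
  module

theorem sM_k2 : isoAct (⇑Q) (sM Q p q e' f' k₁ k₂) k₂ = -k₂ + π • k₁ - (π ^ 2 - 2 * κ) • f' := by
  unfold sM
  simp only [isoAct_mul, isoAct_add, isoAct_sub, isoAct_smul, isoAct_neg, d.D_k2, d.C_k2, d.B_k2,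
    d.B_k1, d.A_k2, d.A_k1, d.A_e']
  module

theorem sM_orth (x : ι → F) (h1 : polar Q p x = 0) (h2 : polar Q q x = 0) (h3 : polar Q e' x = 0)
    (h4 : polar Q f' x = 0) (h5 : polar Q k₁ x = 0) (h6 : polar Q k₂ x = 0) :
    isoAct (⇑Q) (sM Q p q e' f' k₁ k₂) x = x := by
  have hD : isoAct (⇑Q) (wS Q p q k₂) x = x := by
    rw [isoAct_wS_orth Q p q _ d.hp d.hq d.hpq d.hpk2 d.hqk2 (by rw [d.hk2]; exact d.hκ) x h1 h2, h6]
    simp
  have hC : isoAct (⇑Q) (wS Q p q k₁) x = x := by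
    rw [isoAct_wS_orth Q p q _ d.hp d.hq d.hpq d.hpk1 d.hqk1 (by rw [d.hk1]; exact one_ne_zero) x
      h1 h2, h5]
    simp
  have hB : isoAct (⇑Q) (eichG Q e' k₂) x = x := by
    rw [isoAct_eichG Q e' k₂ d.he' d.he'k2, h6, h3]
    simp
  have hA : isoAct (⇑Q) (wS Q p q (e' + f')) x = x := by
    rw [isoAct_wS_orth Q p q _ d.hp d.hq d.hpq d.hpv d.hqv (by rw [d.hv]; exact one_ne_zero) x
      h1 h2, polar_add_left, h3, h4]
    simp
  unfold sM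
  rw [isoAct_mul, isoAct_mul, isoAct_mul, hD, hC, hB, hA]

/-- the orbit of `e'` -/
theorem sM_orbit1 : isoAct (⇑Q) (sM Q p q e' f' k₁ k₂ ^ 1) e' = -f' := by
  rw [pow_one, sM_e' d]

theorem sM_orbit2 : isoAct (⇑Q) (sM Q p q e' f' k₁ k₂ ^ 2) e' = e' - κ • f' + k₂ := by
  rw [pow_two, isoAct_mul, sM_e' d, isoAct_neg, sM_f' d]
  module

theorem sM_orbit3 : isoAct (⇑Q) (sM Q p q e' f' k₁ k₂ ^ 3) e' =
    κ • e' - (1 + κ ^ 2 + π ^ 2 - 2 * κ) • f' + (κ - 1) • k₂ + π • k₁ := by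
  rw [pow_succ, isoAct_mul, sM_e' d, isoAct_neg, pow_two, isoAct_mul, sM_f' d, isoAct_sub, isoAct_add,
    isoAct_neg, isoAct_smul, sM_e' d, sM_f' d, sM_k2 d]
  module

/-- the orbit of `e'` spans `e', f', k₁, k₂` -/
theorem sM_span (hπ : π ≠ 0) :
    e' ∈ Submodule.span F (Set.range (fun j : ℕ => isoAct (⇑Q) (sM Q p q e' f' k₁ k₂ ^ j) e')) ∧
    f' ∈ Submodule.span F (Set.range (fun j : ℕ => isoAct (⇑Q) (sM Q p q e' f' k₁ k₂ ^ j) e')) ∧
    k₁ ∈ Submodule.span F (Set.range (fun j : ℕ => isoAct (⇑Q) (sM Q p q e' f' k₁ k₂ ^ j) e')) ∧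
    k₂ ∈ Submodule.span F (Set.range (fun j : ℕ => isoAct (⇑Q) (sM Q p q e' f' k₁ k₂ ^ j) e')) := by
  obtain ⟨S, hS⟩ : ∃ S, S = Submodule.span F
    (Set.range (fun j : ℕ => isoAct (⇑Q) (sM Q p q e' f' k₁ k₂ ^ j) e')) := ⟨_, rfl⟩
  rw [← hS]
  have hY : ∀ j : ℕ, isoAct (⇑Q) (sM Q p q e' f' k₁ k₂ ^ j) e' ∈ S := by
    intro j
    rw [hS]
    exact Submodule.subset_span ⟨j, rfl⟩
  have h0 : e' ∈ S := by
    have := hY 0
    rwa [pow_zero, isoAct_one] at this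
  have h1 : f' ∈ S := by
    have := hY 1
    rw [sM_orbit1 d] at this
    have h := Submodule.neg_mem _ this
    rwa [neg_neg] at h
  have h2 : k₂ ∈ S := by
    have := hY 2
    rw [sM_orbit2 d] at this
    have h := Submodule.add_mem _ (Submodule.sub_mem _ this h0) (Submodule.smul_mem _ κ h1)
    have h' : e' - κ • f' + k₂ - e' + κ • f' = k₂ := by module
    rwa [h'] at h
  have h3 : k₁ ∈ S := by
    have := hY 3
    rw [sM_orbit3 d] at this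
    have h := Submodule.sub_mem _ (Submodule.add_mem _ (Submodule.sub_mem _ this
      (Submodule.smul_mem _ κ h0)) (Submodule.smul_mem _ (1 + κ ^ 2 + π ^ 2 - 2 * κ) h1))
      (Submodule.smul_mem _ (κ - 1) h2)
    have h' : κ • e' - (1 + κ ^ 2 + π ^ 2 - 2 * κ) • f' + (κ - 1) • k₂ + π • k₁ - κ • e' +
        (1 + κ ^ 2 + π ^ 2 - 2 * κ) • f' - (κ - 1) • k₂ = π • k₁ := by module
    rw [h'] at h
    have h4 := Submodule.smul_mem _ π⁻¹ h
    rwa [smul_smul, inv_mul_cancel₀ hπ, one_smul] at h4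
  exact ⟨h0, h1, h3, h2⟩

end data

end Cfsg.Agent.Lib.helper47.OGen
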