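/-
Orthogonal groups of minus type: the standard frame of `quadFormMinus` and the two-generation of
`Ω^-`.
-/
import Mathlib
import Cfsg.Prelude.Def_Classical
import Cfsg.Agent.Lib.helper49.NondegMax
import Cfsg.Agent.Lib.helper49.Forms
import Cfsg.Agent.Lib.helper42.FormsNondeg
import Cfsg.Agent.Lib.helper47.OGenE
import Cfsg.Agent.Lib.helper47.OGenH
import Cfsg.Agent.Lib.helper47.OGenI

set_option autoImplicit false

namespace Cfsg.Agent.Lib.helper47.OGen

open Cfsg.Agent.Lib.helper49 QuadraticMap

theorem mem_of_single {F : Type*} [Field F] {ι : Type} [Fintype ι] [DecidableEq ι]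
    (S : Submodule F (ι → F)) (x : ι → F)
    (h : ∀ i, x i = 0 ∨ (Pi.single i (1 : F) : ι → F) ∈ S) : x ∈ S := by
  rw [eq_sum_single x]
  refine Submodule.sum_mem _ (fun i _ => ?_)
  rcases h i with h | h
  · rw [h, zero_smul]; exact Submodule.zero_mem _
  · exact Submodule.smul_mem _ _ h

section minus

variable {F : Type*} [Field F]

/-- the vectors `e_k` of the standard frame of the minus form -/
def eM (m : ℕ) (F : Type*) [Field F] (k : ℕ) : (Fin m ⊕ Fin m) ⊕ Fin 2 → F :=
  if h : k < m then Pi.single (Sum.inl (Sum.inl ⟨k, h⟩)) 1 else 0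

/-- the vectors `f_k` of the standard frame of the minus form -/
def fM (m : ℕ) (F : Type*) [Field F] (k : ℕ) : (Fin m ⊕ Fin m) ⊕ Fin 2 → F :=
  if h : k < m then Pi.single (Sum.inl (Sum.inr ⟨k, h⟩)) 1 else 0

/-- the first anisotropic basis vector -/
def z1M (m : ℕ) (F : Type*) [Field F] : (Fin m ⊕ Fin m) ⊕ Fin 2 → F := Pi.single (Sum.inr 0) 1

/-- the second anisotropic basis vector -/
def z2M (m : ℕ) (F : Type*) [Field F] : (Fin m ⊕ Fin m) ⊕ Fin 2 → F := Pi.single (Sum.inr 1) 1

theorem polar_eM_left (m : ℕ) (a b : F) (k : ℕ) (hk : k < m) (x : (Fin m ⊕ Fin m) ⊕ Fin 2 → F) :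
    polar (minusForm m F a b) (eM m F k) x = x (Sum.inl (Sum.inr ⟨k, hk⟩)) := by
  rw [eM, dif_pos hk, polar_single_left (minusForm m F a b) (gramMinusL m F a b)
    (polar_minusForm_single m a b)]
  simp [gramMinusL, Fintype.sum_sum_type, Matrix.one_apply]

theorem polar_fM_left (m : ℕ) (a b : F) (k : ℕ) (hk : k < m) (x : (Fin m ⊕ Fin m) ⊕ Fin 2 → F) :
    polar (minusForm m F a b) (fM m F k) x = x (Sum.inl (Sum.inl ⟨k, hk⟩)) := by
  rw [fM, dif_pos hk, polar_single_left (minusForm m F a b) (gramMinusL m F a b)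
    (polar_minusForm_single m a b)]
  simp [gramMinusL, Fintype.sum_sum_type, Matrix.one_apply]

theorem polar_z1M_left (m : ℕ) (a b : F) (x : (Fin m ⊕ Fin m) ⊕ Fin 2 → F) :
    polar (minusForm m F a b) (z1M m F) x = 2 * x (Sum.inr 0) + a * x (Sum.inr 1) := by
  rw [z1M, polar_single_left (minusForm m F a b) (gramMinusL m F a b)
    (polar_minusForm_single m a b)]
  simp [gramMinusL, Fintype.sum_sum_type]

theorem polar_z2M_left (m : ℕ) (a b : F) (x : (Fin m ⊕ Fin m) ⊕ Fin 2 → F) :
    polar (minusForm m F a b) (z2M m F) x = a * x (Sum.inr 0) + 2 * b * x (Sum.inr 1) := by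
  rw [z2M, polar_single_left (minusForm m F a b) (gramMinusL m F a b)
    (polar_minusForm_single m a b)]
  simp [gramMinusL, Fintype.sum_sum_type]

theorem minusForm_eM (m : ℕ) (a b : F) (k : ℕ) : minusForm m F a b (eM m F k) = 0 := by
  unfold eM
  split_ifs with h
  · exact minusForm_single_inl m a b _
  · exact QuadraticMap.map_zero _

theorem minusForm_fM (m : ℕ) (a b : F) (k : ℕ) : minusForm m F a b (fM m F k) = 0 := by
  unfold fM
  split_ifs with h
  · exact minusForm_single_inl m a b _
  · exact QuadraticMap.map_zero _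

theorem minusForm_z1M (m : ℕ) (a b : F) : minusForm m F a b (z1M m F) = 1 := by
  show Cfsg.quadFormMinus m F a b (Pi.single (Sum.inr 0) 1) = 1
  unfold Cfsg.quadFormMinus
  simp

theorem minusForm_z2M (m : ℕ) (a b : F) : minusForm m F a b (z2M m F) = b := by
  show Cfsg.quadFormMinus m F a b (Pi.single (Sum.inr 1) 1) = b
  unfold Cfsg.quadFormMinus
  simp

theorem frame_minus (m m' : ℕ) (hm : m' ≤ m) (a b : F) :
    Frame (minusForm m F a b) m' (eM m F) (fM m F) where
  he := fun i _ => minusForm_eM m a b i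
  hf := fun i _ => minusForm_fM m a b i
  hef := fun i hi => by
    rw [polar_eM_left m a b i (by omega), fM, dif_pos (by omega)]; simp
  hee := fun i hi j hj => by
    rw [polar_eM_left m a b i (by omega), eM, dif_pos (by omega)]; simp
  hff := fun i hi j hj => by
    rw [polar_fM_left m a b i (by omega), fM, dif_pos (by omega)]; simp
  hef' := fun i hi j hj hij => by
    rw [polar_eM_left m a b i (by omega), fM, dif_pos (by omega)]
    simp [Pi.single_apply, hij]

end minus

section minus2

variable {F : Type*} [Field F] [Fintype F]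

/-- anisotropy of `z₁² + b z₂²` forces odd characteristic -/
theorem two_ne_zero_of_aniso (b : F)
    (hab : ∀ z₁ z₂ : F, z₁ ^ 2 + 0 * z₁ * z₂ + b * z₂ ^ 2 = 0 → z₁ = 0 ∧ z₂ = 0) : (2 : F) ≠ 0 := by
  intro h2
  have hchar : ringChar F = 2 :=
    CharP.ringChar_of_prime_eq_zero Nat.prime_two (by exact_mod_cast h2)
  obtain ⟨β, hβ⟩ := FiniteField.isSquare_of_char_two hchar b
  have h := hab β 1 (by rw [hβ]; linear_combination (β * β) * h2)
  exact one_ne_zero h.2

omit [Fintype F] in
/-- the data for the swapping element of the minus form -/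
theorem minusData (n : ℕ) (a b t : F) (hκ : t * t + a * t + b ≠ 0) :
    MinusData (minusForm (n + 2) F a b) (eM (n + 2) F n) (fM (n + 2) F n) (eM (n + 2) F (n + 1))
      (fM (n + 2) F (n + 1)) (z1M (n + 2) F) (t • z1M (n + 2) F + z2M (n + 2) F)
      (t * t + a * t + b) (2 * t + a) where
  hp := minusForm_eM _ a b _
  hq := minusForm_fM _ a b _
  hpq := by rw [polar_eM_left _ a b n (by omega), fM, dif_pos (by omega)]; simp
  he' := minusForm_eM _ a b _
  hf' := minusForm_fM _ a b _
  he'f' := by rw [polar_eM_left _ a b (n + 1) (by omega), fM, dif_pos (by omega)]; simp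
  hk1 := minusForm_z1M _ a b
  hk2 := by
    rw [QuadraticMap.map_add (minusForm (n + 2) F a b), QuadraticMap.map_smul, minusForm_z1M,
      minusForm_z2M, polar_smul_left, polar_z1M_left, z2M]
    simp
    ring
  hκ := hκ
  hk12 := by
    rw [polar_z1M_left, z1M, z2M]
    simp
  hpe' := by rw [polar_eM_left _ a b n (by omega), eM, dif_pos (by omega)]; simp
  hpf' := by rw [polar_eM_left _ a b n (by omega), fM, dif_pos (by omega)]; simp
  hpk1 := by rw [polar_eM_left _ a b n (by omega), z1M]; simp
  hpk2 := by rw [polar_eM_left _ a b n (by omega), z1M, z2M]; simp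
  hqe' := by rw [polar_fM_left _ a b n (by omega), eM, dif_pos (by omega)]; simp
  hqf' := by rw [polar_fM_left _ a b n (by omega), fM, dif_pos (by omega)]; simp
  hqk1 := by rw [polar_fM_left _ a b n (by omega), z1M]; simp
  hqk2 := by rw [polar_fM_left _ a b n (by omega), z1M, z2M]; simp
  he'k1 := by rw [polar_eM_left _ a b (n + 1) (by omega), z1M]; simp
  he'k2 := by rw [polar_eM_left _ a b (n + 1) (by omega), z1M, z2M]; simp
  hf'k1 := by rw [polar_fM_left _ a b (n + 1) (by omega), z1M]; simp
  hf'k2 := by rw [polar_fM_left _ a b (n + 1) (by omega), z1M, z2M]; simp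

end minus2

section minus3

variable {F : Type*} [Field F] [Fintype F]

omit [Fintype F] in
theorem single_eM (m : ℕ) (j : Fin m) :
    (Pi.single (Sum.inl (Sum.inl j)) (1 : F) : (Fin m ⊕ Fin m) ⊕ Fin 2 → F) = eM m F j.val := by
  rw [eM, dif_pos j.isLt]

omit [Fintype F] in
theorem single_fM (m : ℕ) (j : Fin m) :
    (Pi.single (Sum.inl (Sum.inr j)) (1 : F) : (Fin m ⊕ Fin m) ⊕ Fin 2 → F) = fM m F j.val := by
  rw [fM, dif_pos j.isLt]

/-- `Ω^-_{2m}(q)`, `m ≥ 4`, is generated by two elements. -/
theorem omega_minus_two_gen (n : ℕ) (hn : 1 ≤ n) (a b : F)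
    (hab : ∀ z₁ z₂ : F, z₁ ^ 2 + a * z₁ * z₂ + b * z₂ ^ 2 = 0 → z₁ = 0 ∧ z₂ = 0) :
    ∃ g h : ↥(Cfsg.isometryGroup F ⇑(minusForm (n + 2) F a b)),
      g ∈ Cfsg.Omega F ⇑(minusForm (n + 2) F a b) ∧ h ∈ Cfsg.Omega F ⇑(minusForm (n + 2) F a b) ∧
      Cfsg.Omega F ⇑(minusForm (n + 2) F a b) ≤ Subgroup.closure {g, h} := by
  classical
  have hQ := Cfsg.Agent.Lib.helper42.minusForm_nondegenerate (n + 2) a b hab
  have hcard : Fintype.card ((Fin (n + 2) ⊕ Fin (n + 2)) ⊕ Fin 2) = (n + 2) + (n + 2) + 2 := by
    simp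
  obtain ⟨t, ht⟩ : ∃ t : F, 2 * t + a ≠ 0 := by
    by_cases ha : a = 0
    · subst ha
      refine ⟨1, ?_⟩
      have := two_ne_zero_of_aniso b hab
      simpa using this
    · exact ⟨0, by simpa using ha⟩
  have hκ : t * t + a * t + b ≠ 0 := by
    intro h
    have := hab t 1 (by linear_combination h)
    exact one_ne_zero this.2
  have d := minusData n a b t hκ
  have hfr := frame_minus (F := F) (n + 2) (n + 1) (by omega) a b
  have hfrB := frame_minus (F := F) (n + 2) (n + 2) le_rfl a b
  have hM := eichG_mem_Omega (minusForm (n + 2) F a b) hQ (by rw [hcard]; omega)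
  have hgen : (∃ θ : F, θ ≠ 0 ∧ θ ≠ 1 ∧ ∀ B : Subfield F, θ ∈ B → B = ⊤) ∨
      Fintype.card F = 2 := by
    by_cases h3 : 3 ≤ Fintype.card F
    · exact Or.inl (exists_field_gen h3)
    · right
      have := Fintype.one_lt_card (α := F)
      omega
  have hz1e : ∀ k, k < n + 2 → polar (minusForm (n + 2) F a b) (z1M (n + 2) F) (eM (n + 2) F k) = 0 := by
    intro k hk
    rw [polar_comm, polar_eM_left _ a b k hk, z1M]; simp
  have hz1f : ∀ k, k < n + 2 → polar (minusForm (n + 2) F a b) (z1M (n + 2) F) (fM (n + 2) F k) = 0 := by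
    intro k hk
    rw [polar_comm, polar_fM_left _ a b k hk, z1M]; simp
  have hk2e : ∀ k, k < n + 2 → polar (minusForm (n + 2) F a b)
      (t • z1M (n + 2) F + z2M (n + 2) F) (eM (n + 2) F k) = 0 := by
    intro k hk
    rw [polar_comm, polar_eM_left _ a b k hk, z1M, z2M]; simp
  have hk2f : ∀ k, k < n + 2 → polar (minusForm (n + 2) F a b)
      (t • z1M (n + 2) F + z2M (n + 2) F) (fM (n + 2) F k) = 0 := by
    intro k hk
    rw [polar_comm, polar_fM_left _ a b k hk, z1M, z2M]; simp
  obtain ⟨he'S, hf'S, hk1S, hk2S⟩ := sM_span d ht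
  have key : ∀ S : Submodule F ((Fin (n + 2) ⊕ Fin (n + 2)) ⊕ Fin 2 → F), z1M (n + 2) F ∈ S →
      t • z1M (n + 2) F + z2M (n + 2) F ∈ S → z2M (n + 2) F ∈ S := by
    intro S h1 h2
    have h3 := Submodule.sub_mem _ h2 (Submodule.smul_mem _ t h1)
    rwa [add_sub_cancel_left] at h3
  refine gen_two_step (minusForm (n + 2) F a b) hQ (by rw [hcard]; omega) n hn (eM (n + 2) F)
    (fM (n + 2) F) hfr
    (sM (minusForm (n + 2) F a b) (eM (n + 2) F n) (fM (n + 2) F n) (eM (n + 2) F (n + 1))
      (fM (n + 2) F (n + 1)) (z1M (n + 2) F) (t • z1M (n + 2) F + z2M (n + 2) F))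
    (sM_mem _ _ hM _ _ _ _ _ _)
    ⟨-(t * t + a * t + b)⁻¹, neg_ne_zero.mpr (inv_ne_zero hκ), sM_p d⟩
    ⟨-(t * t + a * t + b), neg_ne_zero.mpr hκ, sM_q d⟩
    ?_ (eM (n + 2) F (n + 1)) ?_ ?_ ?_ ?_ ?_ ?_ hgen
  · -- `s` fixes the earlier frame vectors
    intro k hk
    constructor
    · exact sM_orth d _ (hfrB.hee n (by omega) k (by omega)) (hfrB.hfe' (by omega) (by omega) (by omega))
        (hfrB.hee (n + 1) (by omega) k (by omega)) (hfrB.hfe' (by omega) (by omega) (by omega))
        (hz1e k (by omega)) (hk2e k (by omega))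
    · exact sM_orth d _ (hfrB.hef' n (by omega) k (by omega) (by omega)) (hfrB.hff n (by omega) k (by omega))
        (hfrB.hef' (n + 1) (by omega) k (by omega) (by omega)) (hfrB.hff (n + 1) (by omega) k (by omega))
        (hz1f k (by omega)) (hk2f k (by omega))
  · intro k hk
    exact ⟨hfrB.hee k (by omega) (n + 1) (by omega), hfrB.hfe' (by omega) (by omega) (by omega)⟩
  · rw [sM_e' d, polar_neg_right, d.he'f']
    exact neg_ne_zero.mpr one_ne_zero
  · rw [sM_e' d, isoAct_neg, sM_f' d]
    simp only [polar_neg_right, polar_sub_right, polar_add_right, polar_smul_right, d.he'e',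
      d.he'f', d.he'k2, smul_eq_mul, mul_one, neg_zero, zero_add, sub_zero]
    exact neg_ne_zero.mpr hκ
  · -- the full span
    rw [eq_top_iff]
    intro x _
    apply mem_of_single
    rintro ((j | j) | j)
    · right
      by_cases hj : j.val ≤ n
      · exact Submodule.subset_span (Or.inl (Or.inr ⟨j.val, hj, (single_eM _ j).symm⟩))
      · have hjv : j.val = n + 1 := by have := j.isLt; omega
        rw [single_eM, hjv]
        exact Submodule.subset_span (Or.inl (Or.inl (fun k hk =>
          ⟨hfrB.hee k (by omega) (n + 1) (by omega), hfrB.hfe' (by omega) (by omega) (by omega)⟩)))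
    · right
      by_cases hj : j.val ≤ n
      · exact Submodule.subset_span (Or.inr ⟨j.val, hj, (single_fM _ j).symm⟩)
      · have hjv : j.val = n + 1 := by have := j.isLt; omega
        rw [single_fM, hjv]
        exact Submodule.subset_span (Or.inl (Or.inl (fun k hk =>
          ⟨hfrB.hef' k (by omega) (n + 1) (by omega) (by omega), hfrB.hff k (by omega) (n + 1) (by omega)⟩)))
    · right
      refine Submodule.subset_span (Or.inl (Or.inl (fun k hk => ⟨?_, ?_⟩)))
      · rw [polar_eM_left _ a b k (by omega)]; simp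
      · rw [polar_fM_left _ a b k (by omega)]; simp
  · -- the span of `e 0 ^⊥`
    intro x hx
    rw [polar_eM_left _ a b 0 (by omega)] at hx
    apply mem_of_single
    rintro ((j | j) | j)
    · right
      by_cases hj : j.val ≤ n
      · exact Submodule.subset_span (Or.inl (Or.inr ⟨j.val, hj, (single_eM _ j).symm⟩))
      · have hjv : j.val = n + 1 := by have := j.isLt; omega
        rw [single_eM, hjv]
        exact Submodule.span_mono (Set.subset_union_left.trans Set.subset_union_left) he'S
    · by_cases hj0 : j.val = 0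
      · left
        have : j = ⟨0, by omega⟩ := Fin.ext hj0
        rw [this]
        exact hx
      · right
        by_cases hj : j.val ≤ n
        · exact Submodule.subset_span (Or.inr ⟨j.val, ⟨hj, hj0⟩, (single_fM _ j).symm⟩)
        · have hjv : j.val = n + 1 := by have := j.isLt; omega
          rw [single_fM, hjv]
          exact Submodule.span_mono (Set.subset_union_left.trans Set.subset_union_left) hf'S
    · right
      fin_cases j
      · exact Submodule.span_mono (Set.subset_union_left.trans Set.subset_union_left) hk1S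
      · exact key _ (Submodule.span_mono (Set.subset_union_left.trans Set.subset_union_left) hk1S)
          (Submodule.span_mono (Set.subset_union_left.trans Set.subset_union_left) hk2S)
  · -- the span of `f 0 ^⊥`
    intro x hx
    rw [polar_fM_left _ a b 0 (by omega)] at hx
    apply mem_of_single
    rintro ((j | j) | j)
    · by_cases hj0 : j.val = 0
      · left
        have : j = ⟨0, by omega⟩ := Fin.ext hj0
        rw [this]
        exact hx
      · right
        by_cases hj : j.val ≤ n
        · exact Submodule.subset_span (Or.inl (Or.inr ⟨j.val, ⟨hj, hj0⟩, (single_eM _ j).symm⟩))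
        · have hjv : j.val = n + 1 := by have := j.isLt; omega
          rw [single_eM, hjv]
          exact Submodule.span_mono (Set.subset_union_left.trans Set.subset_union_left) he'S
    · right
      by_cases hj : j.val ≤ n
      · exact Submodule.subset_span (Or.inr ⟨j.val, hj, (single_fM _ j).symm⟩)
      · have hjv : j.val = n + 1 := by have := j.isLt; omega
        rw [single_fM, hjv]
        exact Submodule.span_mono (Set.subset_union_left.trans Set.subset_union_left) hf'S
    · right
      fin_cases j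
      · exact Submodule.span_mono (Set.subset_union_left.trans Set.subset_union_left) hk1S
      · exact key _ (Submodule.span_mono (Set.subset_union_left.trans Set.subset_union_left) hk1S)
          (Submodule.span_mono (Set.subset_union_left.trans Set.subset_union_left) hk2S)

end minus3

end Cfsg.Agent.Lib.helper47.OGen
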