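/-
Orthogonal groups of plus type: the standard frame of `quadFormPlus` and the two-generation of
`Ω^+` over fields having an element different from `0`, `1`, `-1`.
-/
import Mathlib
import Cfsg.Prelude.Def_Classical
import Cfsg.Agent.Lib.helper49.NondegMax
import Cfsg.Agent.Lib.helper49.Forms
import Cfsg.Agent.Lib.helper42.FormsNondeg
import Cfsg.Agent.Lib.helper47.OGenJ

set_option autoImplicit false

namespace Cfsg.Agent.Lib.helper47.OGen

open Cfsg.Agent.Lib.helper49 QuadraticMap

section plus

variable {F : Type*} [Field F]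

/-- the vectors `e_k` of the standard frame of the plus form -/
def eP (m : ℕ) (F : Type*) [Field F] (k : ℕ) : Fin m ⊕ Fin m → F :=
  if h : k < m then Pi.single (Sum.inl ⟨k, h⟩) 1 else 0

/-- the vectors `f_k` of the standard frame of the plus form -/
def fP (m : ℕ) (F : Type*) [Field F] (k : ℕ) : Fin m ⊕ Fin m → F :=
  if h : k < m then Pi.single (Sum.inr ⟨k, h⟩) 1 else 0

theorem polar_eP_left (m : ℕ) (k : ℕ) (hk : k < m) (x : Fin m ⊕ Fin m → F) :
    polar (plusForm m F) (eP m F k) x = x (Sum.inr ⟨k, hk⟩) := by
  rw [eP, dif_pos hk, polar_single_left (plusForm m F) (gramPlus m F)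
    (polar_plusForm_single m)]
  simp [gramPlus, Fintype.sum_sum_type, Matrix.one_apply]

theorem polar_fP_left (m : ℕ) (k : ℕ) (hk : k < m) (x : Fin m ⊕ Fin m → F) :
    polar (plusForm m F) (fP m F k) x = x (Sum.inl ⟨k, hk⟩) := by
  rw [fP, dif_pos hk, polar_single_left (plusForm m F) (gramPlus m F)
    (polar_plusForm_single m)]
  simp [gramPlus, Fintype.sum_sum_type, Matrix.one_apply]

theorem plusForm_eP (m : ℕ) (k : ℕ) : plusForm m F (eP m F k) = 0 := by
  unfold eP
  split_ifs with h
  · exact plusForm_single m _
  · exact QuadraticMap.map_zero _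

theorem plusForm_fP (m : ℕ) (k : ℕ) : plusForm m F (fP m F k) = 0 := by
  unfold fP
  split_ifs with h
  · exact plusForm_single m _
  · exact QuadraticMap.map_zero _

theorem frame_plus (m m' : ℕ) (hm : m' ≤ m) :
    Frame (plusForm m F) m' (eP m F) (fP m F) where
  he := fun i _ => plusForm_eP m i
  hf := fun i _ => plusForm_fP m i
  hef := fun i hi => by
    rw [polar_eP_left m i (by omega), fP, dif_pos (by omega)]; simp
  hee := fun i hi j hj => by
    rw [polar_eP_left m i (by omega), eP, dif_pos (by omega)]; simp
  hff := fun i hi j hj => by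
    rw [polar_fP_left m i (by omega), fP, dif_pos (by omega)]; simp
  hef' := fun i hi j hj hij => by
    rw [polar_eP_left m i (by omega), fP, dif_pos (by omega)]
    simp [Pi.single_apply, hij]

theorem single_eP (m : ℕ) (j : Fin m) :
    (Pi.single (Sum.inl j) (1 : F) : Fin m ⊕ Fin m → F) = eP m F j.val := by
  rw [eP, dif_pos j.isLt]

theorem single_fP (m : ℕ) (j : Fin m) :
    (Pi.single (Sum.inr j) (1 : F) : Fin m ⊕ Fin m → F) = fP m F j.val := by
  rw [fP, dif_pos j.isLt]

/-- the data for the swapping element of the plus form -/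
theorem plusData (n : ℕ) (θ : F) (hθ : θ ≠ 0) :
    MinusData (plusForm (n + 3) F) (eP (n + 3) F n) (fP (n + 3) F n) (eP (n + 3) F (n + 1))
      (fP (n + 3) F (n + 1)) (eP (n + 3) F (n + 2) + fP (n + 3) F (n + 2))
      (eP (n + 3) F (n + 2) + θ • fP (n + 3) F (n + 2)) θ (θ + 1) where
  hp := plusForm_eP _ _
  hq := plusForm_fP _ _
  hpq := by rw [polar_eP_left _ n (by omega), fP, dif_pos (by omega)]; simp
  he' := plusForm_eP _ _
  hf' := plusForm_fP _ _
  he'f' := by rw [polar_eP_left _ (n + 1) (by omega), fP, dif_pos (by omega)]; simp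
  hk1 := by
    rw [QuadraticMap.map_add (plusForm (n + 3) F), plusForm_eP, plusForm_fP,
      polar_eP_left _ (n + 2) (by omega), fP, dif_pos (by omega)]
    simp
  hk2 := by
    rw [QuadraticMap.map_add (plusForm (n + 3) F), QuadraticMap.map_smul, plusForm_eP, plusForm_fP,
      polar_smul_right, polar_eP_left _ (n + 2) (by omega), fP, dif_pos (by omega)]
    simp
  hκ := hθ
  hk12 := by
    rw [polar_add_left, polar_eP_left _ (n + 2) (by omega), polar_fP_left _ (n + 2) (by omega),
      eP, fP, dif_pos (by omega), dif_pos (by omega)]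
    simp
  hpe' := by rw [polar_eP_left _ n (by omega), eP, dif_pos (by omega)]; simp
  hpf' := by rw [polar_eP_left _ n (by omega), fP, dif_pos (by omega)]; simp
  hpk1 := by
    rw [polar_eP_left _ n (by omega), eP, fP, dif_pos (by omega), dif_pos (by omega)]; simp
  hpk2 := by
    rw [polar_eP_left _ n (by omega), eP, fP, dif_pos (by omega), dif_pos (by omega)]; simp
  hqe' := by rw [polar_fP_left _ n (by omega), eP, dif_pos (by omega)]; simp
  hqf' := by rw [polar_fP_left _ n (by omega), fP, dif_pos (by omega)]; simp
  hqk1 := by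
    rw [polar_fP_left _ n (by omega), eP, fP, dif_pos (by omega), dif_pos (by omega)]; simp
  hqk2 := by
    rw [polar_fP_left _ n (by omega), eP, fP, dif_pos (by omega), dif_pos (by omega)]; simp
  he'k1 := by
    rw [polar_eP_left _ (n + 1) (by omega), eP, fP, dif_pos (by omega), dif_pos (by omega)]; simp
  he'k2 := by
    rw [polar_eP_left _ (n + 1) (by omega), eP, fP, dif_pos (by omega), dif_pos (by omega)]; simp
  hf'k1 := by
    rw [polar_fP_left _ (n + 1) (by omega), eP, fP, dif_pos (by omega), dif_pos (by omega)]; simp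
  hf'k2 := by
    rw [polar_fP_left _ (n + 1) (by omega), eP, fP, dif_pos (by omega), dif_pos (by omega)]; simp

end plus

section plus2

variable {F : Type*} [Field F] [Fintype F]

/-- `Ω^+_{2m}(q)`, `m ≥ 4`, is generated by two elements when the field has an element different
from `0`, `1`, `-1`. -/
theorem omega_plus_gen_A (n : ℕ) (hn : 1 ≤ n) (θ : F) (hθ0 : θ ≠ 0) (hθ1 : θ ≠ 1)
    (hθ2 : θ + 1 ≠ 0) :
    ∃ g h : ↥(Cfsg.isometryGroup F ⇑(plusForm (n + 3) F)),
      g ∈ Cfsg.Omega F ⇑(plusForm (n + 3) F) ∧ h ∈ Cfsg.Omega F ⇑(plusForm (n + 3) F) ∧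
      Cfsg.Omega F ⇑(plusForm (n + 3) F) ≤ Subgroup.closure {g, h} := by
  classical
  have hQ := Cfsg.Agent.Lib.helper42.plusForm_nondegenerate (F := F) (n + 3)
  have hcard : Fintype.card (Fin (n + 3) ⊕ Fin (n + 3)) = (n + 3) + (n + 3) := by
    simp
  have d := plusData n θ hθ0
  have hfr := frame_plus (F := F) (n + 3) (n + 1) (by omega)
  have hfrB := frame_plus (F := F) (n + 3) (n + 3) le_rfl
  have hM := eichG_mem_Omega (plusForm (n + 3) F) hQ (by rw [hcard]; omega)
  have hgen : (∃ θ : F, θ ≠ 0 ∧ θ ≠ 1 ∧ ∀ B : Subfield F, θ ∈ B → B = ⊤) ∨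
      Fintype.card F = 2 := by
    by_cases h3 : 3 ≤ Fintype.card F
    · exact Or.inl (exists_field_gen h3)
    · right
      have := Fintype.one_lt_card (α := F)
      omega
  obtain ⟨he'S, hf'S, hk1S, hk2S⟩ := sM_span d hθ2
  have key : ∀ S : Submodule F (Fin (n + 3) ⊕ Fin (n + 3) → F),
      eP (n + 3) F (n + 2) + fP (n + 3) F (n + 2) ∈ S →
      eP (n + 3) F (n + 2) + θ • fP (n + 3) F (n + 2) ∈ S →
      eP (n + 3) F (n + 2) ∈ S ∧ fP (n + 3) F (n + 2) ∈ S := by
    intro S h1 h2
    have h3 := Submodule.sub_mem _ h2 h1
    have h4 : eP (n + 3) F (n + 2) + θ • fP (n + 3) F (n + 2) -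
        (eP (n + 3) F (n + 2) + fP (n + 3) F (n + 2)) = (θ - 1) • fP (n + 3) F (n + 2) := by
      module
    rw [h4] at h3
    have h5 := Submodule.smul_mem _ (θ - 1)⁻¹ h3
    rw [smul_smul, inv_mul_cancel₀ (sub_ne_zero.mpr hθ1), one_smul] at h5
    have h6 := Submodule.sub_mem _ h1 h5
    rw [add_sub_cancel_right] at h6
    exact ⟨h6, h5⟩
  refine gen_two_step (plusForm (n + 3) F) hQ (by rw [hcard]; omega) n hn (eP (n + 3) F)
    (fP (n + 3) F) hfr
    (sM (plusForm (n + 3) F) (eP (n + 3) F n) (fP (n + 3) F n) (eP (n + 3) F (n + 1))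
      (fP (n + 3) F (n + 1)) (eP (n + 3) F (n + 2) + fP (n + 3) F (n + 2))
      (eP (n + 3) F (n + 2) + θ • fP (n + 3) F (n + 2)))
    (sM_mem _ _ hM _ _ _ _ _ _)
    ⟨-θ⁻¹, neg_ne_zero.mpr (inv_ne_zero hθ0), sM_p d⟩
    ⟨-θ, neg_ne_zero.mpr hθ0, sM_q d⟩
    ?_ (eP (n + 3) F (n + 1)) ?_ ?_ ?_ ?_ ?_ ?_ hgen
  · -- `s` fixes the earlier frame vectors
    intro k hk
    constructor
    · refine sM_orth d _ (hfrB.hee n (by omega) k (by omega))
        (hfrB.hfe' (by omega) (by omega) (by omega))
        (hfrB.hee (n + 1) (by omega) k (by omega)) (hfrB.hfe' (by omega) (by omega) (by omega))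
        ?_ ?_
      · rw [polar_add_left, hfrB.hee (n + 2) (by omega) k (by omega),
          hfrB.hfe' (by omega) (by omega) (by omega), add_zero]
      · rw [polar_add_left, polar_smul_left, hfrB.hee (n + 2) (by omega) k (by omega),
          hfrB.hfe' (by omega) (by omega) (by omega), smul_zero, add_zero]
    · refine sM_orth d _ (hfrB.hef' n (by omega) k (by omega) (by omega))
        (hfrB.hff n (by omega) k (by omega))
        (hfrB.hef' (n + 1) (by omega) k (by omega) (by omega))
        (hfrB.hff (n + 1) (by omega) k (by omega)) ?_ ?_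
      · rw [polar_add_left, hfrB.hef' (n + 2) (by omega) k (by omega) (by omega),
          hfrB.hff (n + 2) (by omega) k (by omega), add_zero]
      · rw [polar_add_left, polar_smul_left, hfrB.hef' (n + 2) (by omega) k (by omega) (by omega),
          hfrB.hff (n + 2) (by omega) k (by omega), smul_zero, add_zero]
  · intro k hk
    exact ⟨hfrB.hee k (by omega) (n + 1) (by omega), hfrB.hfe' (by omega) (by omega) (by omega)⟩
  · rw [sM_e' d, polar_neg_right, d.he'f']
    exact neg_ne_zero.mpr one_ne_zero
  · rw [sM_e' d, isoAct_neg, sM_f' d]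
    simp only [polar_neg_right, polar_sub_right, polar_add_right, polar_smul_right, d.he'e',
      d.he'f', d.he'k2, smul_eq_mul, mul_one, neg_zero, zero_add, sub_zero]
    exact neg_ne_zero.mpr hθ0
  · -- the full span
    rw [eq_top_iff]
    intro x _
    apply mem_of_single
    rintro (j | j)
    · right
      by_cases hj : j.val ≤ n
      · exact Submodule.subset_span (Or.inl (Or.inr ⟨j.val, hj, (single_eP _ j).symm⟩))
      · rw [single_eP]
        exact Submodule.subset_span (Or.inl (Or.inl (fun k hk =>
          ⟨hfrB.hee k (by omega) j.val j.isLt, hfrB.hfe' (by omega) j.isLt (by omega)⟩)))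
    · right
      by_cases hj : j.val ≤ n
      · exact Submodule.subset_span (Or.inr ⟨j.val, hj, (single_fP _ j).symm⟩)
      · rw [single_fP]
        exact Submodule.subset_span (Or.inl (Or.inl (fun k hk =>
          ⟨hfrB.hef' k (by omega) j.val j.isLt (by omega), hfrB.hff k (by omega) j.val j.isLt⟩)))
  · -- the span of `e 0 ^⊥`
    intro x hx
    rw [polar_eP_left _ 0 (by omega)] at hx
    apply mem_of_single
    rintro (j | j)
    · right
      by_cases hj : j.val ≤ n
      · exact Submodule.subset_span (Or.inl (Or.inr ⟨j.val, hj, (single_eP _ j).symm⟩))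
      · by_cases hjv : j.val = n + 1
        · rw [single_eP, hjv]
          exact Submodule.span_mono (Set.subset_union_left.trans Set.subset_union_left) he'S
        · have hjv : j.val = n + 2 := by have := j.isLt; omega
          rw [single_eP, hjv]
          exact (key _ (Submodule.span_mono (Set.subset_union_left.trans Set.subset_union_left)
            hk1S) (Submodule.span_mono (Set.subset_union_left.trans Set.subset_union_left)
            hk2S)).1
    · by_cases hj0 : j.val = 0
      · left
        have : j = ⟨0, by omega⟩ := Fin.ext hj0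
        rw [this]
        exact hx
      · right
        by_cases hj : j.val ≤ n
        · exact Submodule.subset_span (Or.inr ⟨j.val, ⟨hj, hj0⟩, (single_fP _ j).symm⟩)
        · by_cases hjv : j.val = n + 1
          · rw [single_fP, hjv]
            exact Submodule.span_mono (Set.subset_union_left.trans Set.subset_union_left) hf'S
          · have hjv : j.val = n + 2 := by have := j.isLt; omega
            rw [single_fP, hjv]
            exact (key _ (Submodule.span_mono (Set.subset_union_left.trans Set.subset_union_left)
              hk1S) (Submodule.span_mono (Set.subset_union_left.trans Set.subset_union_left)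
              hk2S)).2
  · -- the span of `f 0 ^⊥`
    intro x hx
    rw [polar_fP_left _ 0 (by omega)] at hx
    apply mem_of_single
    rintro (j | j)
    · by_cases hj0 : j.val = 0
      · left
        have : j = ⟨0, by omega⟩ := Fin.ext hj0
        rw [this]
        exact hx
      · right
        by_cases hj : j.val ≤ n
        · exact Submodule.subset_span (Or.inl (Or.inr ⟨j.val, ⟨hj, hj0⟩, (single_eP _ j).symm⟩))
        · by_cases hjv : j.val = n + 1
          · rw [single_eP, hjv]
            exact Submodule.span_mono (Set.subset_union_left.trans Set.subset_union_left) he'S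
          · have hjv : j.val = n + 2 := by have := j.isLt; omega
            rw [single_eP, hjv]
            exact (key _ (Submodule.span_mono (Set.subset_union_left.trans Set.subset_union_left)
              hk1S) (Submodule.span_mono (Set.subset_union_left.trans Set.subset_union_left)
              hk2S)).1
    · right
      by_cases hj : j.val ≤ n
      · exact Submodule.subset_span (Or.inr ⟨j.val, hj, (single_fP _ j).symm⟩)
      · by_cases hjv : j.val = n + 1
        · rw [single_fP, hjv]
          exact Submodule.span_mono (Set.subset_union_left.trans Set.subset_union_left) hf'S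
        · have hjv : j.val = n + 2 := by have := j.isLt; omega
          rw [single_fP, hjv]
          exact (key _ (Submodule.span_mono (Set.subset_union_left.trans Set.subset_union_left)
            hk1S) (Submodule.span_mono (Set.subset_union_left.trans Set.subset_union_left)
            hk2S)).2

end plus2

end Cfsg.Agent.Lib.helper47.OGen
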