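/-
Orthogonal groups of plus type in odd characteristic: an element swapping a hyperbolic pair `p, q`
and acting on the four-dimensional space spanned by two further hyperbolic pairs in such a way that
the orbit of one vector spans that space.
-/
import Mathlib
import Cfsg.Prelude.Def_Classical
import Cfsg.Agent.Lib.helper49.NondegMax
import Cfsg.Agent.Lib.helper47.OGenB

set_option autoImplicit false

namespace Cfsg.Agent.Lib.helper47.OGen

open Cfsg.Agent.Lib.helper49 QuadraticMap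

variable {F : Type*} [Field F] {ι : Type} [Fintype ι] [DecidableEq ι]

/-- Three mutually orthogonal hyperbolic pairs `p, q`, `e', f'`, `e'', f''`. -/
structure HypSix (Q : QuadraticForm F (ι → F)) (p q e' f' e'' f'' : ι → F) : Prop where
  hp : Q p = 0
  hq : Q q = 0
  hpq : polar Q p q = 1
  he' : Q e' = 0
  hf' : Q f' = 0
  he'f' : polar Q e' f' = 1
  he'' : Q e'' = 0
  hf'' : Q f'' = 0
  he''f'' : polar Q e'' f'' = 1
  hpe' : polar Q p e' = 0
  hpf' : polar Q p f' = 0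
  hpe'' : polar Q p e'' = 0
  hpf'' : polar Q p f'' = 0
  hqe' : polar Q q e' = 0
  hqf' : polar Q q f' = 0
  hqe'' : polar Q q e'' = 0
  hqf'' : polar Q q f'' = 0
  he'e'' : polar Q e' e'' = 0
  he'f'' : polar Q e' f'' = 0
  hf'e'' : polar Q f' e'' = 0
  hf'f'' : polar Q f' f'' = 0

/-- The swapping element. -/
noncomputable def sP (Q : QuadraticForm F (ι → F)) (p q e' f' e'' f'' : ι → F) :
    ↥(Cfsg.isometryGroup F ⇑Q) :=
  wS Q p q (f' + -e'' + -f'') * wS Q p q (e' + -f' + e'') * wS Q p q (e' + f')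

theorem sP_mem (Q : QuadraticForm F (ι → F)) (M : Subgroup ↥(Cfsg.isometryGroup F ⇑Q))
    (hM : ∀ e w, eichG Q e w ∈ M) (p q e' f' e'' f'' : ι → F) : sP Q p q e' f' e'' f'' ∈ M :=
  mul_mem (mul_mem (wS_mem Q M hM _ _ _) (wS_mem Q M hM _ _ _)) (wS_mem Q M hM _ _ _)

section data

variable {Q : QuadraticForm F (ι → F)} {p q e' f' e'' f'' : ι → F}
  (d : HypSix Q p q e' f' e'' f'')
include d

omit [Fintype ι] [DecidableEq ι] in
theorem HypSix.hf'e' : polar Q f' e' = 1 := by rw [polar_comm]; exact d.he'f'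
omit [Fintype ι] [DecidableEq ι] in
theorem HypSix.hf''e'' : polar Q f'' e'' = 1 := by rw [polar_comm]; exact d.he''f''
omit [Fintype ι] [DecidableEq ι] in
theorem HypSix.he''e' : polar Q e'' e' = 0 := by rw [polar_comm]; exact d.he'e''
omit [Fintype ι] [DecidableEq ι] in
theorem HypSix.hf''e' : polar Q f'' e' = 0 := by rw [polar_comm]; exact d.he'f''
omit [Fintype ι] [DecidableEq ι] in
theorem HypSix.he''f' : polar Q e'' f' = 0 := by rw [polar_comm]; exact d.hf'e''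
omit [Fintype ι] [DecidableEq ι] in
theorem HypSix.hf''f' : polar Q f'' f' = 0 := by rw [polar_comm]; exact d.hf'f''
omit [Fintype ι] [DecidableEq ι] in
theorem HypSix.hs1 : polar Q e' e' = 0 := by rw [polar_self, d.he', smul_zero]
omit [Fintype ι] [DecidableEq ι] in
theorem HypSix.hs2 : polar Q f' f' = 0 := by rw [polar_self, d.hf', smul_zero]
omit [Fintype ι] [DecidableEq ι] in
theorem HypSix.hs3 : polar Q e'' e'' = 0 := by rw [polar_self, d.he'', smul_zero]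
omit [Fintype ι] [DecidableEq ι] in
theorem HypSix.hs4 : polar Q f'' f'' = 0 := by rw [polar_self, d.hf'', smul_zero]

theorem HypSix.refl_one (v x : ι → F) (hv : Q v = 1) (hpv : polar Q p v = 0)
    (hqv : polar Q q v = 0) (hpx : polar Q p x = 0) (hqx : polar Q q x = 0) :
    isoAct (⇑Q) (wS Q p q v) x = x - polar Q v x • v := by
  rw [isoAct_wS_orth Q p q v d.hp d.hq d.hpq hpv hqv (by rw [hv]; exact one_ne_zero) x hpx hqx, hv,
    inv_one, one_mul]

theorem HypSix.refl_neg_one (v x : ι → F) (hv : Q v = -1) (hpv : polar Q p v = 0)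
    (hqv : polar Q q v = 0) (hpx : polar Q p x = 0) (hqx : polar Q q x = 0) :
    isoAct (⇑Q) (wS Q p q v) x = x + polar Q v x • v := by
  rw [isoAct_wS_orth Q p q v d.hp d.hq d.hpq hpv hqv
    (by rw [hv]; exact neg_ne_zero.mpr one_ne_zero) x hpx hqx, hv, inv_neg_one, neg_one_mul,
    neg_smul, sub_neg_eq_add]

theorem HypSix.swap_one (v : ι → F) (hv : Q v = 1) (hpv : polar Q p v = 0)
    (hqv : polar Q q v = 0) :
    isoAct (⇑Q) (wS Q p q v) p = -q ∧ isoAct (⇑Q) (wS Q p q v) q = -p := by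
  rw [isoAct_wS_e Q p q v d.hp d.hq d.hpq hpv hqv (by rw [hv]; exact one_ne_zero),
    isoAct_wS_f Q p q v d.hp d.hq d.hpq hpv hqv (by rw [hv]; exact one_ne_zero), hv]
  simp

theorem HypSix.swap_neg_one (v : ι → F) (hv : Q v = -1) (hpv : polar Q p v = 0)
    (hqv : polar Q q v = 0) :
    isoAct (⇑Q) (wS Q p q v) p = q ∧ isoAct (⇑Q) (wS Q p q v) q = p := by
  rw [isoAct_wS_e Q p q v d.hp d.hq d.hpq hpv hqv (by rw [hv]; exact neg_ne_zero.mpr one_ne_zero),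
    isoAct_wS_f Q p q v d.hp d.hq d.hpq hpv hqv (by rw [hv]; exact neg_ne_zero.mpr one_ne_zero), hv]
  simp


theorem HypSix.hQ3 : Q (e' + f') = 1 := by
  rw [QuadraticMap.map_add Q]
  simp only [polar_add_left, polar_add_right, polar_neg_left,
    polar_neg_right, d.he', d.hf', d.he'', d.hf'', d.hs1, d.he'f', d.he'e'', d.he'f'', d.hf'e', d.hs2, d.hf'e'', d.hf'f'', d.he''e', d.he''f', d.hs3, d.he''f'', d.hf''e', d.hf''f', d.hf''e'', d.hs4]
  ring

theorem HypSix.hp3 : polar Q p (e' + f') = 0 := by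
  simp only [polar_add_right, polar_neg_right, d.hpe', d.hpf', d.hpe'', d.hpf'']
  ring

theorem HypSix.hq3 : polar Q q (e' + f') = 0 := by
  simp only [polar_add_right, polar_neg_right, d.hqe', d.hqf', d.hqe'', d.hqf'']
  ring

theorem HypSix.R3_p : isoAct (⇑Q) (wS Q p q (e' + f')) p = -q :=
  (d.swap_one _ d.hQ3 d.hp3 d.hq3).1

theorem HypSix.R3_q : isoAct (⇑Q) (wS Q p q (e' + f')) q = -p :=
  (d.swap_one _ d.hQ3 d.hp3 d.hq3).2

theorem HypSix.R3_e1 : isoAct (⇑Q) (wS Q p q (e' + f')) e' = -f' := by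
  rw [d.refl_one _ _ d.hQ3 d.hp3 d.hq3 d.hpe' d.hqe']
  simp only [polar_add_left, polar_neg_left, d.hs1, d.he'f', d.he'e'', d.he'f'', d.hf'e', d.hs2, d.hf'e'', d.hf'f'', d.he''e', d.he''f', d.hs3, d.he''f'', d.hf''e', d.hf''f', d.hf''e'', d.hs4]
  module

theorem HypSix.R3_f1 : isoAct (⇑Q) (wS Q p q (e' + f')) f' = -e' := by
  rw [d.refl_one _ _ d.hQ3 d.hp3 d.hq3 d.hpf' d.hqf']
  simp only [polar_add_left, polar_neg_left, d.hs1, d.he'f', d.he'e'', d.he'f'', d.hf'e', d.hs2, d.hf'e'', d.hf'f'', d.he''e', d.he''f', d.hs3, d.he''f'', d.hf''e', d.hf''f', d.hf''e'', d.hs4]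
  module

theorem HypSix.R3_e2 : isoAct (⇑Q) (wS Q p q (e' + f')) e'' = e'' := by
  rw [d.refl_one _ _ d.hQ3 d.hp3 d.hq3 d.hpe'' d.hqe'']
  simp only [polar_add_left, polar_neg_left, d.hs1, d.he'f', d.he'e'', d.he'f'', d.hf'e', d.hs2, d.hf'e'', d.hf'f'', d.he''e', d.he''f', d.hs3, d.he''f'', d.hf''e', d.hf''f', d.hf''e'', d.hs4]
  module

theorem HypSix.R3_f2 : isoAct (⇑Q) (wS Q p q (e' + f')) f'' = f'' := by
  rw [d.refl_one _ _ d.hQ3 d.hp3 d.hq3 d.hpf'' d.hqf'']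
  simp only [polar_add_left, polar_neg_left, d.hs1, d.he'f', d.he'e'', d.he'f'', d.hf'e', d.hs2, d.hf'e'', d.hf'f'', d.he''e', d.he''f', d.hs3, d.he''f'', d.hf''e', d.hf''f', d.hf''e'', d.hs4]
  module

theorem HypSix.R3_orth (x : ι → F) (h1 : polar Q p x = 0) (h2 : polar Q q x = 0)
    (h3 : polar Q e' x = 0) (h4 : polar Q f' x = 0) (h5 : polar Q e'' x = 0) (h6 : polar Q f'' x = 0) :
    isoAct (⇑Q) (wS Q p q (e' + f')) x = x := by
  rw [d.refl_one _ _ d.hQ3 d.hp3 d.hq3 h1 h2]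
  simp only [polar_add_left, polar_neg_left, h3, h4, h5, h6]
  module

theorem HypSix.hQ2 : Q (e' + -f' + e'') = -1 := by
  rw [QuadraticMap.map_add Q, QuadraticMap.map_add Q, QuadraticMap.map_neg]
  simp only [polar_add_left, polar_add_right, polar_neg_left,
    polar_neg_right, d.he', d.hf', d.he'', d.hf'', d.hs1, d.he'f', d.he'e'', d.he'f'', d.hf'e', d.hs2, d.hf'e'', d.hf'f'', d.he''e', d.he''f', d.hs3, d.he''f'', d.hf''e', d.hf''f', d.hf''e'', d.hs4]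
  ring

theorem HypSix.hp2 : polar Q p (e' + -f' + e'') = 0 := by
  simp only [polar_add_right, polar_neg_right, d.hpe', d.hpf', d.hpe'', d.hpf'']
  ring

theorem HypSix.hq2 : polar Q q (e' + -f' + e'') = 0 := by
  simp only [polar_add_right, polar_neg_right, d.hqe', d.hqf', d.hqe'', d.hqf'']
  ring

theorem HypSix.R2_p : isoAct (⇑Q) (wS Q p q (e' + -f' + e'')) p = q :=
  (d.swap_neg_one _ d.hQ2 d.hp2 d.hq2).1

theorem HypSix.R2_q : isoAct (⇑Q) (wS Q p q (e' + -f' + e'')) q = p :=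
  (d.swap_neg_one _ d.hQ2 d.hp2 d.hq2).2

theorem HypSix.R2_e1 : isoAct (⇑Q) (wS Q p q (e' + -f' + e'')) e' = f' - e'' := by
  rw [d.refl_neg_one _ _ d.hQ2 d.hp2 d.hq2 d.hpe' d.hqe']
  simp only [polar_add_left, polar_neg_left, d.hs1, d.he'f', d.he'e'', d.he'f'', d.hf'e', d.hs2, d.hf'e'', d.hf'f'', d.he''e', d.he''f', d.hs3, d.he''f'', d.hf''e', d.hf''f', d.hf''e'', d.hs4]
  module

theorem HypSix.R2_f1 : isoAct (⇑Q) (wS Q p q (e' + -f' + e'')) f' = e' + e'' := by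
  rw [d.refl_neg_one _ _ d.hQ2 d.hp2 d.hq2 d.hpf' d.hqf']
  simp only [polar_add_left, polar_neg_left, d.hs1, d.he'f', d.he'e'', d.he'f'', d.hf'e', d.hs2, d.hf'e'', d.hf'f'', d.he''e', d.he''f', d.hs3, d.he''f'', d.hf''e', d.hf''f', d.hf''e'', d.hs4]
  module

theorem HypSix.R2_e2 : isoAct (⇑Q) (wS Q p q (e' + -f' + e'')) e'' = e'' := by
  rw [d.refl_neg_one _ _ d.hQ2 d.hp2 d.hq2 d.hpe'' d.hqe'']
  simp only [polar_add_left, polar_neg_left, d.hs1, d.he'f', d.he'e'', d.he'f'', d.hf'e', d.hs2, d.hf'e'', d.hf'f'', d.he''e', d.he''f', d.hs3, d.he''f'', d.hf''e', d.hf''f', d.hf''e'', d.hs4]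
  module

theorem HypSix.R2_f2 : isoAct (⇑Q) (wS Q p q (e' + -f' + e'')) f'' = f'' + e' - f' + e'' := by
  rw [d.refl_neg_one _ _ d.hQ2 d.hp2 d.hq2 d.hpf'' d.hqf'']
  simp only [polar_add_left, polar_neg_left, d.hs1, d.he'f', d.he'e'', d.he'f'', d.hf'e', d.hs2, d.hf'e'', d.hf'f'', d.he''e', d.he''f', d.hs3, d.he''f'', d.hf''e', d.hf''f', d.hf''e'', d.hs4]
  module

theorem HypSix.R2_orth (x : ι → F) (h1 : polar Q p x = 0) (h2 : polar Q q x = 0)
    (h3 : polar Q e' x = 0) (h4 : polar Q f' x = 0) (h5 : polar Q e'' x = 0) (h6 : polar Q f'' x = 0) :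
    isoAct (⇑Q) (wS Q p q (e' + -f' + e'')) x = x := by
  rw [d.refl_neg_one _ _ d.hQ2 d.hp2 d.hq2 h1 h2]
  simp only [polar_add_left, polar_neg_left, h3, h4, h5, h6]
  module

theorem HypSix.hQ1 : Q (f' + -e'' + -f'') = 1 := by
  rw [QuadraticMap.map_add Q, QuadraticMap.map_add Q, QuadraticMap.map_neg, QuadraticMap.map_neg]
  simp only [polar_add_left, polar_add_right, polar_neg_left,
    polar_neg_right, d.he', d.hf', d.he'', d.hf'', d.hs1, d.he'f', d.he'e'', d.he'f'', d.hf'e', d.hs2, d.hf'e'', d.hf'f'', d.he''e', d.he''f', d.hs3, d.he''f'', d.hf''e', d.hf''f', d.hf''e'', d.hs4]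
  ring

theorem HypSix.hp1 : polar Q p (f' + -e'' + -f'') = 0 := by
  simp only [polar_add_right, polar_neg_right, d.hpe', d.hpf', d.hpe'', d.hpf'']
  ring

theorem HypSix.hq1 : polar Q q (f' + -e'' + -f'') = 0 := by
  simp only [polar_add_right, polar_neg_right, d.hqe', d.hqf', d.hqe'', d.hqf'']
  ring

theorem HypSix.R1_p : isoAct (⇑Q) (wS Q p q (f' + -e'' + -f'')) p = -q :=
  (d.swap_one _ d.hQ1 d.hp1 d.hq1).1

theorem HypSix.R1_q : isoAct (⇑Q) (wS Q p q (f' + -e'' + -f'')) q = -p :=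
  (d.swap_one _ d.hQ1 d.hp1 d.hq1).2

theorem HypSix.R1_e1 : isoAct (⇑Q) (wS Q p q (f' + -e'' + -f'')) e' = e' - f' + e'' + f'' := by
  rw [d.refl_one _ _ d.hQ1 d.hp1 d.hq1 d.hpe' d.hqe']
  simp only [polar_add_left, polar_neg_left, d.hs1, d.he'f', d.he'e'', d.he'f'', d.hf'e', d.hs2, d.hf'e'', d.hf'f'', d.he''e', d.he''f', d.hs3, d.he''f'', d.hf''e', d.hf''f', d.hf''e'', d.hs4]
  module

theorem HypSix.R1_f1 : isoAct (⇑Q) (wS Q p q (f' + -e'' + -f'')) f' = f' := by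
  rw [d.refl_one _ _ d.hQ1 d.hp1 d.hq1 d.hpf' d.hqf']
  simp only [polar_add_left, polar_neg_left, d.hs1, d.he'f', d.he'e'', d.he'f'', d.hf'e', d.hs2, d.hf'e'', d.hf'f'', d.he''e', d.he''f', d.hs3, d.he''f'', d.hf''e', d.hf''f', d.hf''e'', d.hs4]
  module

theorem HypSix.R1_e2 : isoAct (⇑Q) (wS Q p q (f' + -e'' + -f'')) e'' = f' - f'' := by
  rw [d.refl_one _ _ d.hQ1 d.hp1 d.hq1 d.hpe'' d.hqe'']
  simp only [polar_add_left, polar_neg_left, d.hs1, d.he'f', d.he'e'', d.he'f'', d.hf'e', d.hs2, d.hf'e'', d.hf'f'', d.he''e', d.he''f', d.hs3, d.he''f'', d.hf''e', d.hf''f', d.hf''e'', d.hs4]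
  module

theorem HypSix.R1_f2 : isoAct (⇑Q) (wS Q p q (f' + -e'' + -f'')) f'' = f' - e'' := by
  rw [d.refl_one _ _ d.hQ1 d.hp1 d.hq1 d.hpf'' d.hqf'']
  simp only [polar_add_left, polar_neg_left, d.hs1, d.he'f', d.he'e'', d.he'f'', d.hf'e', d.hs2, d.hf'e'', d.hf'f'', d.he''e', d.he''f', d.hs3, d.he''f'', d.hf''e', d.hf''f', d.hf''e'', d.hs4]
  module

theorem HypSix.R1_orth (x : ι → F) (h1 : polar Q p x = 0) (h2 : polar Q q x = 0)
    (h3 : polar Q e' x = 0) (h4 : polar Q f' x = 0) (h5 : polar Q e'' x = 0) (h6 : polar Q f'' x = 0) :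
    isoAct (⇑Q) (wS Q p q (f' + -e'' + -f'')) x = x := by
  rw [d.refl_one _ _ d.hQ1 d.hp1 d.hq1 h1 h2]
  simp only [polar_add_left, polar_neg_left, h3, h4, h5, h6]
  module


theorem sP_p : isoAct (⇑Q) (sP Q p q e' f' e'' f'') p = q := by
  unfold sP
  simp only [isoAct_mul, isoAct_neg, d.R3_p, d.R2_q, d.R1_p, neg_neg]

theorem sP_q : isoAct (⇑Q) (sP Q p q e' f' e'' f'') q = p := by
  unfold sP
  simp only [isoAct_mul, isoAct_neg, d.R3_q, d.R2_p, d.R1_q, neg_neg]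

theorem sP_e1 : isoAct (⇑Q) (sP Q p q e' f' e'' f'') e' = -e' - e'' := by
  unfold sP
  simp only [isoAct_mul, isoAct_add, isoAct_sub, isoAct_neg, d.R1_e1, d.R1_f1, d.R1_e2, d.R1_f2, d.R2_e1, d.R2_f1, d.R2_e2, d.R2_f2, d.R3_e1, d.R3_f1, d.R3_e2, d.R3_f2]
  module

theorem sP_f1 : isoAct (⇑Q) (sP Q p q e' f' e'' f'') f' = -f'' := by
  unfold sP
  simp only [isoAct_mul, isoAct_add, isoAct_sub, isoAct_neg, d.R1_e1, d.R1_f1, d.R1_e2, d.R1_f2, d.R2_e1, d.R2_f1, d.R2_e2, d.R2_f2, d.R3_e1, d.R3_f1, d.R3_e2, d.R3_f2]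
  module

theorem sP_e2 : isoAct (⇑Q) (sP Q p q e' f' e'' f'') e'' = f' - f'' := by
  unfold sP
  simp only [isoAct_mul, isoAct_add, isoAct_sub, isoAct_neg, d.R1_e1, d.R1_f1, d.R1_e2, d.R1_f2, d.R2_e1, d.R2_f1, d.R2_e2, d.R2_f2, d.R3_e1, d.R3_f1, d.R3_e2, d.R3_f2]

theorem sP_f2 : isoAct (⇑Q) (sP Q p q e' f' e'' f'') f'' = e' := by
  unfold sP
  simp only [isoAct_mul, isoAct_add, isoAct_sub, isoAct_neg, d.R1_e1, d.R1_f1, d.R1_e2, d.R1_f2, d.R2_e1, d.R2_f1, d.R2_e2, d.R2_f2, d.R3_e1, d.R3_f1, d.R3_e2, d.R3_f2]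
  module

theorem sP_orth (x : ι → F) (h1 : polar Q p x = 0) (h2 : polar Q q x = 0) (h3 : polar Q e' x = 0)
    (h4 : polar Q f' x = 0) (h5 : polar Q e'' x = 0) (h6 : polar Q f'' x = 0) :
    isoAct (⇑Q) (sP Q p q e' f' e'' f'') x = x := by
  unfold sP
  rw [isoAct_mul, isoAct_mul, d.R3_orth x h1 h2 h3 h4 h5 h6, d.R2_orth x h1 h2 h3 h4 h5 h6,
    d.R1_orth x h1 h2 h3 h4 h5 h6]

/-- the orbit of `e' + f' + f''` -/
theorem sP_orbit1 : isoAct (⇑Q) (sP Q p q e' f' e'' f'' ^ 1) (e' + f' + f'') = -e'' - f'' := by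
  rw [pow_one]
  simp only [isoAct_add, sP_e1 d, sP_f1 d, sP_f2 d]
  module

theorem sP_orbit2 :
    isoAct (⇑Q) (sP Q p q e' f' e'' f'' ^ 2) (e' + f' + f'') = -e' - f' + f'' := by
  rw [pow_two, isoAct_mul]
  simp only [isoAct_add, isoAct_sub, isoAct_neg, sP_e1 d, sP_f1 d, sP_e2 d, sP_f2 d]
  module

theorem sP_orbit3 :
    isoAct (⇑Q) (sP Q p q e' f' e'' f'' ^ 3) (e' + f' + f'') = e' + e' + e'' + f'' := by
  rw [pow_succ, pow_two, isoAct_mul, isoAct_mul]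
  simp only [isoAct_add, isoAct_sub, isoAct_neg, sP_e1 d, sP_f1 d, sP_e2 d, sP_f2 d]
  module

/-- the orbit of `e' + f' + f''` spans `e', f', e'', f''` -/
theorem sP_span (h2 : (2 : F) ≠ 0) :
    e' ∈ Submodule.span F
      (Set.range (fun j : ℕ => isoAct (⇑Q) (sP Q p q e' f' e'' f'' ^ j) (e' + f' + f''))) ∧
    f' ∈ Submodule.span F
      (Set.range (fun j : ℕ => isoAct (⇑Q) (sP Q p q e' f' e'' f'' ^ j) (e' + f' + f''))) ∧
    e'' ∈ Submodule.span F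
      (Set.range (fun j : ℕ => isoAct (⇑Q) (sP Q p q e' f' e'' f'' ^ j) (e' + f' + f''))) ∧
    f'' ∈ Submodule.span F
      (Set.range (fun j : ℕ => isoAct (⇑Q) (sP Q p q e' f' e'' f'' ^ j) (e' + f' + f''))) := by
  obtain ⟨S, hS⟩ : ∃ S, S = Submodule.span F
    (Set.range (fun j : ℕ => isoAct (⇑Q) (sP Q p q e' f' e'' f'' ^ j) (e' + f' + f''))) :=
    ⟨_, rfl⟩
  rw [← hS]
  have hY : ∀ j : ℕ, isoAct (⇑Q) (sP Q p q e' f' e'' f'' ^ j) (e' + f' + f'') ∈ S := by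
    intro j
    rw [hS]
    exact Submodule.subset_span ⟨j, rfl⟩
  have h0 : e' + f' + f'' ∈ S := by
    have := hY 0
    rwa [pow_zero, isoAct_one] at this
  have h1 : -e'' - f'' ∈ S := by
    have := hY 1
    rwa [sP_orbit1 d] at this
  have h2' : -e' - f' + f'' ∈ S := by
    have := hY 2
    rwa [sP_orbit2 d] at this
  have h3 : e' + e' + e'' + f'' ∈ S := by
    have := hY 3
    rwa [sP_orbit3 d] at this
  have hf2 : f'' ∈ S := by
    have h := Submodule.smul_mem _ (2 : F)⁻¹ (Submodule.add_mem _ h0 h2')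
    have h' : (2 : F)⁻¹ • (e' + f' + f'' + (-e' - f' + f'')) = ((2 : F)⁻¹ * 2) • f'' := by module
    rwa [h', inv_mul_cancel₀ h2, one_smul] at h
  have he2 : e'' ∈ S := by
    have h := Submodule.neg_mem _ (Submodule.add_mem _ h1 hf2)
    have h' : -(-e'' - f'' + f'') = e'' := by module
    rwa [h'] at h
  have he1 : e' ∈ S := by
    have h := Submodule.smul_mem _ (2 : F)⁻¹ (Submodule.sub_mem _ (Submodule.sub_mem _ h3 he2) hf2)
    have h' : (2 : F)⁻¹ • (e' + e' + e'' + f'' - e'' - f'') = ((2 : F)⁻¹ * 2) • e' := by module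
    rwa [h', inv_mul_cancel₀ h2, one_smul] at h
  have hf1 : f' ∈ S := by
    have h := Submodule.sub_mem _ (Submodule.sub_mem _ h0 he1) hf2
    have h' : e' + f' + f'' - e' - f'' = f' := by module
    rwa [h'] at h
  exact ⟨he1, hf1, he2, hf2⟩

end data

end Cfsg.Agent.Lib.helper47.OGen
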