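/-
Orthogonal groups over the field with two elements: the cyclic-frame argument for a monomial
element stepping through a cyclic hyperbolic frame and swapping a further hyperbolic pair.
-/
import Mathlib
import Cfsg.Prelude.Def_Classical
import Cfsg.Agent.Lib.helper49.NondegMax
import Cfsg.Agent.Lib.helper47.OGenH

set_option autoImplicit false

namespace Cfsg.Agent.Lib.helper47.OGen

open Cfsg.Agent.Lib.helper49 QuadraticMap

variable {F : Type*} [Field F] {ι : Type} [Fintype ι] [DecidableEq ι]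

/-- All long root groups of a cyclic frame from those of step `c + 1`. -/
theorem cyc_steps (Q : QuadraticForm F (ι → F)) (c : ℕ) (hc : 2 ≤ c) (R : ℕ → ι → F)
    (hR0 : ∀ i, Q (R i) = 0)
    (hRper : ∀ i, R (i + 2 * c) = R i)
    (hRorth : ∀ i a, a < 2 * c → a ≠ c → polar Q (R i) (R (i + a)) = 0)
    (hRopp : ∀ i, polar Q (R i) (R (i + c)) = 1)
    (H : Subgroup ↥(Cfsg.isometryGroup F ⇑Q))
    (Sc1 : ∀ i, R (i + (c + 1)) ∈ Lsub Q H (R i) (hR0 i)) :
    ∀ a, 1 ≤ a → a < 2 * c → a ≠ c → ∀ i, R (i + a) ∈ Lsub Q H (R i) (hR0 i) := by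
  have hRidx : ∀ i j, (i = j ∨ i = j + 2 * c ∨ j = i + 2 * c) → R i = R j := by
    rintro i j (h | h | h)
    · rw [h]
    · rw [h, hRper]
    · rw [h, hRper]
  have Sstep : ∀ a b, 1 ≤ a → a + 1 < 2 * c → a + 1 ≠ c → b < 2 * c → (b = a + c ∨ b + c = a) →
      (∀ i, R (i + a) ∈ Lsub Q H (R i) (hR0 i)) → ∀ i, R (i + (a + 1)) ∈ Lsub Q H (R i) (hR0 i) := by
    intro a b ha1 ha2 ha3 hb hab hS i
    have hy := Sc1 (i + b)
    have h2 : R (i + b + (c + 1)) = R (i + (a + 1)) := by
      rcases hab with h | h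
      · exact hRidx _ _ (Or.inr (Or.inl (by omega)))
      · exact hRidx _ _ (Or.inl (by omega))
    rw [h2] at hy
    have hbc : b ≠ c := by omega
    refine Lsub_B Q H (R i) (R (i + b)) (hR0 i) (hR0 _) (hRorth i b hb hbc)
      (R (i + a)) (R (i + (a + 1))) (hS i) hy (hRorth i (a + 1) ha2 ha3) ?_ (hR0 _) ?_
    · have h3 := hRorth (i + a) 1 (by omega) (by omega)
      have h4 : R (i + a + 1) = R (i + (a + 1)) := hRidx _ _ (Or.inl (by omega))
      rw [h4, polar_comm] at h3
      exact h3
    · rcases hab with h | h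
      · have h3 := hRopp (i + a)
        have h4 : R (i + a + c) = R (i + b) := hRidx _ _ (Or.inl (by omega))
        rw [h4, polar_comm] at h3
        exact h3
      · have h3 := hRopp (i + b)
        have h4 : R (i + b + c) = R (i + a) := hRidx _ _ (Or.inl (by omega))
        rw [h4] at h3
        exact h3
  have range2 : ∀ a, c + 1 ≤ a → a < 2 * c → ∀ i, R (i + a) ∈ Lsub Q H (R i) (hR0 i) := by
    intro a ha
    induction a, ha using Nat.le_induction with
    | base => intro _; exact Sc1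
    | succ a ha ih =>
      intro hac
      exact Sstep a (a - c) (by omega) (by omega) (by omega) (by omega) (Or.inr (by omega))
        (ih (by omega))
  intro a ha1 ha2 ha3 i
  rcases Nat.lt_or_ge a c with h | h
  · have h1 := range2 (2 * c - a) (by omega) (by omega) (i + a)
    have h2 : R (i + a + (2 * c - a)) = R i := hRidx _ _ (Or.inr (Or.inl (by omega)))
    exact Lsub_symm Q H _ _ (hR0 _) (hR0 i) (Lsub_congr Q H _ _ (hR0 _) (hR0 _) rfl _
      (by rw [h2] at h1; exact h1))
  · exact range2 a (by omega) ha2 i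

/-- The cyclic-frame argument over the field with two elements. -/
theorem cyc_core_two [Fintype F] (hF : Fintype.card F = 2) (Q : QuadraticForm F (ι → F)) (c : ℕ)
    (hc : 3 ≤ c) (R : ℕ → ι → F)
    (hR0 : ∀ i, Q (R i) = 0)
    (hRper : ∀ i, R (i + 2 * c) = R i)
    (hRorth : ∀ i a, a < 2 * c → a ≠ c → polar Q (R i) (R (i + a)) = 0)
    (hRopp : ∀ i, polar Q (R i) (R (i + c)) = 1)
    (u : ℕ → ι → F) (hu0 : ∀ j, Q (u j) = 0) (huu : ∀ j, polar Q (u (j + 1)) (u j) = 1)
    (hu2 : ∀ j, u (j + 2) = u j) (hRu : ∀ i j, polar Q (R i) (u j) = 0)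
    (H : Subgroup ↥(Cfsg.isometryGroup F ⇑Q)) (w : ↥(Cfsg.isometryGroup F ⇑Q)) (hw : w ∈ H)
    (hwR : ∀ i, isoAct (⇑Q) w (R i) = R (i + 1))
    (hwu : ∀ j, isoAct (⇑Q) w (u j) = u (j + 1))
    (hz0 : R 1 + R (c + 1) + u 0 ∈ Lsub Q H (R 0) (hR0 0)) :
    (∀ a, 1 ≤ a → a < 2 * c → a ≠ c → ∀ i, R (i + a) ∈ Lsub Q H (R i) (hR0 i)) ∧
    (∀ i j, u j ∈ Lsub Q H (R i) (hR0 i)) := by
  have h2 : (2 : F) = 0 := by
    rcases eq_zero_or_one_of_card_two hF (2 : F) with h | h
    · exact h
    · exfalso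
      have : (1 : F) = 0 := by linear_combination h
      exact one_ne_zero this
  have hRidx : ∀ i j, (i = j ∨ i = j + 2 * c ∨ j = i + 2 * c) → R i = R j := by
    rintro i j (h | h | h)
    · rw [h]
    · rw [h, hRper]
    · rw [h, hRper]
  have hpol0 : ∀ i j a, a < 2 * c → a ≠ c → (j = i + a ∨ i = j + a ∨ j = i + a + 2 * c ∨
      i = j + a + 2 * c ∨ j + 2 * c = i + a ∨ i + 2 * c = j + a) → polar Q (R i) (R j) = 0 := by
    intro i j a ha hac h
    rcases h with h | h | h | h | h | h
    · subst h; exact hRorth i a ha hac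
    · subst h; rw [polar_comm]; exact hRorth j a ha hac
    · subst h; rw [hRper]; exact hRorth i a ha hac
    · subst h; rw [hRper, polar_comm]; exact hRorth j a ha hac
    · have h' : R j = R (i + a) := by rw [← h, hRper]
      rw [h']; exact hRorth i a ha hac
    · have h' : R i = R (j + a) := by rw [← h, hRper]
      rw [h', polar_comm]; exact hRorth j a ha hac
  have hpol1 : ∀ i j, (j = i + c ∨ i = j + c) → polar Q (R i) (R j) = 1 := by
    rintro i j (h | h)
    · subst h; exact hRopp i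
    · subst h; rw [polar_comm]; exact hRopp j
  have hRu' : ∀ i j, polar Q (u j) (R i) = 0 := fun i j => by rw [polar_comm]; exact hRu i j
  have huu' : ∀ j, polar Q (u j) (u (j + 1)) = 1 := fun j => by rw [polar_comm]; exact huu j
  have hu_even : ∀ j t, u (j + 2 * t) = u j := by
    intro j t
    induction t with
    | zero => rfl
    | succ t ih => rw [Nat.mul_succ, ← Nat.add_assoc, hu2, ih]
  have hu_mod : ∀ j, u j = u (j % 2) := by
    intro j
    have h := hu_even (j % 2) (j / 2)
    rw [Nat.mod_add_div] at h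
    exact h
  obtain ⟨Y, hY⟩ : ∃ Y : ℕ → ι → F, ∀ j, Y j = R (j + 1) + R (j + 1 + c) + u j :=
    ⟨fun j => _, fun j => rfl⟩
  have hYQ : ∀ j, Q (Y j) = 1 := by
    intro j
    rw [hY, QuadraticMap.map_add Q, QuadraticMap.map_add Q, hR0, hR0, hu0, hRopp (j + 1),
      polar_add_left, hRu, hRu]
    simp
  have hRYgen : ∀ i b, polar Q (R i) (Y b) =
      polar Q (R i) (R (b + 1)) + polar Q (R i) (R (b + 1 + c)) := by
    intro i b
    rw [hY, polar_add_right, polar_add_right, hRu, add_zero]
  have hYYgen : ∀ a b, polar Q (Y a) (Y b) = polar Q (R (a + 1)) (R (b + 1)) +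
      polar Q (R (a + 1)) (R (b + 1 + c)) + polar Q (R (a + 1 + c)) (R (b + 1)) +
      polar Q (R (a + 1 + c)) (R (b + 1 + c)) + polar Q (u a) (u b) := by
    intro a b
    rw [hY a, hY b]
    simp only [polar_add_left, polar_add_right, hRu, hRu']
    ring
  have hRY : ∀ i k, k + 2 ≤ c → polar Q (R i) (Y (i + k)) = 0 := by
    intro i k hk
    rw [hRYgen, hpol0 i (i + k + 1) (k + 1) (by omega) (by omega) (by omega),
      hpol0 i (i + k + 1 + c) (k + 1 + c) (by omega) (by omega) (by omega), add_zero]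
  have hR1Y : ∀ j, polar Q (R (j + 1)) (Y j) = 1 := by
    intro j
    rw [hRYgen, hpol0 (j + 1) (j + 1) 0 (by omega) (by omega) (by omega), hRopp (j + 1), zero_add]
  have hYY1 : ∀ j, polar Q (Y (j + 1)) (Y j) = 1 := by
    intro j
    rw [hYYgen, huu,
      hpol0 (j + 1 + 1) (j + 1) 1 (by omega) (by omega) (by omega),
      hpol0 (j + 1 + 1) (j + 1 + c) (c - 1) (by omega) (by omega) (by omega),
      hpol0 (j + 1 + 1 + c) (j + 1) (c + 1) (by omega) (by omega) (by omega),
      hpol0 (j + 1 + 1 + c) (j + 1 + c) 1 (by omega) (by omega) (by omega)]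
    simp
  have hY1 : ∀ i, Y i ∈ Lsub Q H (R i) (hR0 i) := by
    intro i
    induction i with
    | zero =>
      rw [hY]
      have h' : R (0 + 1 + c) = R (c + 1) := hRidx _ _ (Or.inl (by omega))
      rw [h', Nat.zero_add]
      exact hz0
    | succ i ih =>
      have h1 := Lsub_conj Q H w hw (R i) (R (i + 1)) (hR0 i) (hR0 (i + 1)) 1 one_ne_zero
        (by rw [hwR, one_smul]) (Y i) ih
      have h2' : isoAct (⇑Q) w (Y i) = Y (i + 1) := by
        rw [hY i, hY (i + 1), isoAct_add, isoAct_add, hwR, hwR, hwu]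
        have h' : R (i + 1 + c + 1) = R (i + 1 + 1 + c) := hRidx _ _ (Or.inl (by omega))
        rw [h']
      rw [h2'] at h1
      exact h1
  have hY2 : ∀ k, k + 2 ≤ c → ∀ i, Y (i + k) ∈ Lsub Q H (R i) (hR0 i) := by
    intro k
    induction k with
    | zero => intro _ i; exact hY1 i
    | succ k ih =>
      intro hk i
      have hx := ih (by omega) i
      have hy := hY1 (i + k + 1)
      have hee' : polar Q (R i) (R (i + k + 1)) = 0 :=
        hpol0 i (i + k + 1) (k + 1) (by omega) (by omega) (by omega)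
      have hey : polar Q (R i) (Y (i + k + 1)) = 0 := hRY i (k + 1) (by omega)
      have h := Lsub_AB Q H (R i) (R (i + k + 1)) (hR0 i) (hR0 _) hee' (Y (i + k))
        (Y (i + k + 1)) hx hy hey
      rw [hYY1 (i + k), hYQ, hR1Y (i + k)] at h
      have h' : ((1 : F) - 1 * 1) • R (i + k + 1) - (1 : F) • Y (i + k + 1) = -Y (i + k + 1) := by
        module
      rw [h'] at h
      have h'' := Submodule.neg_mem _ h
      rw [neg_neg] at h''
      exact h''
  have Sc1 : ∀ i, R (i + (c + 1)) ∈ Lsub Q H (R i) (hR0 i) := by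
    intro i
    have hx : Y (i + 1) ∈ Lsub Q H (R i) (hR0 i) := hY2 1 (by omega) i
    have hee' : polar Q (R i) (R (i + (c + 1))) = 0 := hRorth i (c + 1) (by omega) (by omega)
    have he'x : polar Q (R (i + (c + 1))) (Y (i + 1)) = 0 := by
      rw [hRYgen, hpol0 (i + (c + 1)) (i + 1 + 1) (c - 1) (by omega) (by omega) (by omega),
        hpol0 (i + (c + 1)) (i + 1 + 1 + c) 1 (by omega) (by omega) (by omega), add_zero]
    rcases Nat.even_or_odd c with ⟨t, ht⟩ | ⟨t, ht⟩
    · -- `c` even
      have hy : Y (i + (c + 1) + 1) ∈ Lsub Q H (R (i + (c + 1))) (hR0 _) :=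
        hY2 1 (by omega) (i + (c + 1))
      have hu' : u (i + (c + 1) + 1) = u i := by
        have h := hu_even i (t + 1)
        have h' : i + 2 * (t + 1) = i + (c + 1) + 1 := by omega
        rw [h'] at h
        exact h
      have hey : polar Q (R i) (Y (i + (c + 1) + 1)) = 0 := by
        rw [hRYgen, hpol0 i (i + (c + 1) + 1 + 1) (c + 3) (by omega) (by omega) (by omega),
          hpol0 i (i + (c + 1) + 1 + 1 + c) 3 (by omega) (by omega) (by omega), add_zero]
      have hyx : polar Q (Y (i + (c + 1) + 1)) (Y (i + 1)) ≠ 0 := by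
        rw [hYYgen, hu', huu',
          hpol0 (i + (c + 1) + 1 + 1) (i + 1 + 1) (c + 1) (by omega) (by omega) (by omega),
          hpol0 (i + (c + 1) + 1 + 1) (i + 1 + 1 + c) 1 (by omega) (by omega) (by omega),
          hpol0 (i + (c + 1) + 1 + 1 + c) (i + 1 + 1) 1 (by omega) (by omega) (by omega),
          hpol0 (i + (c + 1) + 1 + 1 + c) (i + 1 + 1 + c) (c + 1) (by omega) (by omega) (by omega)]
        simp
      exact Lsub_A Q H (R i) (R (i + (c + 1))) (hR0 i) (hR0 _) hee' _ _ hx hy he'x hey hyx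
    · -- `c` odd
      have hy : Y (i + (c + 1)) ∈ Lsub Q H (R (i + (c + 1))) (hR0 _) := hY1 (i + (c + 1))
      have hu' : u (i + (c + 1)) = u i := by
        have h := hu_even i (t + 1)
        have h' : i + 2 * (t + 1) = i + (c + 1) := by omega
        rw [h'] at h
        exact h
      have hey : polar Q (R i) (Y (i + (c + 1))) = 0 := by
        rw [hRYgen, hpol0 i (i + (c + 1) + 1) (c + 2) (by omega) (by omega) (by omega),
          hpol0 i (i + (c + 1) + 1 + c) 2 (by omega) (by omega) (by omega), add_zero]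
      have hyx : polar Q (Y (i + (c + 1))) (Y (i + 1)) ≠ 0 := by
        rw [hYYgen, hu', huu',
          hpol1 (i + (c + 1) + 1) (i + 1 + 1) (by omega),
          hpol0 (i + (c + 1) + 1) (i + 1 + 1 + c) 0 (by omega) (by omega) (by omega),
          hpol0 (i + (c + 1) + 1 + c) (i + 1 + 1) 0 (by omega) (by omega) (by omega),
          hpol1 (i + (c + 1) + 1 + c) (i + 1 + 1 + c) (by omega)]
        intro h
        have : (1 : F) = 0 := by linear_combination h - h2
        exact one_ne_zero this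
      exact Lsub_A Q H (R i) (R (i + (c + 1))) (hR0 i) (hR0 _) hee' _ _ hx hy he'x hey hyx
  have hsteps := cyc_steps Q c (by omega) R hR0 hRper hRorth hRopp H Sc1
  refine ⟨hsteps, ?_⟩
  have hu_i : ∀ i, u i ∈ Lsub Q H (R i) (hR0 i) := by
    intro i
    have h1 := hsteps 1 (by omega) (by omega) (by omega) i
    have h2' := hsteps (c + 1) (by omega) (by omega) (by omega) i
    have h3 : R (i + (c + 1)) = R (i + 1 + c) := hRidx _ _ (Or.inl (by omega))
    rw [h3] at h2'
    have h4 := Submodule.sub_mem _ (Submodule.sub_mem _ (hY1 i) h1) h2'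
    rw [hY] at h4
    have h5 : R (i + 1) + R (i + 1 + c) + u i - R (i + 1) - R (i + 1 + c) = u i := by abel
    rw [h5] at h4
    exact h4
  have hu_i1 : ∀ i, u (i + 1) ∈ Lsub Q H (R i) (hR0 i) := by
    intro i
    have h1 := hsteps 2 (by omega) (by omega) (by omega) i
    have h2' := hsteps (c + 2) (by omega) (by omega) (by omega) i
    have h3 : R (i + (c + 2)) = R (i + 1 + 1 + c) := hRidx _ _ (Or.inl (by omega))
    have h3' : R (i + 2) = R (i + 1 + 1) := hRidx _ _ (Or.inl (by omega))
    rw [h3] at h2'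
    rw [h3'] at h1
    have h4 := Submodule.sub_mem _ (Submodule.sub_mem _ (hY2 1 (by omega) i) h1) h2'
    rw [hY] at h4
    have h5 : R (i + 1 + 1) + R (i + 1 + 1 + c) + u (i + 1) - R (i + 1 + 1) - R (i + 1 + 1 + c) =
        u (i + 1) := by abel
    rw [h5] at h4
    exact h4
  intro i j
  have hj := hu_mod j
  have hi := hu_mod i
  have hi1 := hu_mod (i + 1)
  rcases (by omega : j % 2 = i % 2 ∨ j % 2 = (i + 1) % 2) with h | h
  · have h' : u j = u i := by rw [hj, h, ← hi]
    rw [h']
    exact hu_i i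
  · have h' : u j = u (i + 1) := by rw [hj, h, ← hi1]
    rw [h']
    exact hu_i1 i

end Cfsg.Agent.Lib.helper47.OGen
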