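/-
Orthogonal groups of plus type: the two-generation of `Ω^+` in odd characteristic.
-/
import Mathlib
import Cfsg.Prelude.Def_Classical
import Cfsg.Agent.Lib.helper49.NondegMax
import Cfsg.Agent.Lib.helper49.Forms
import Cfsg.Agent.Lib.helper42.FormsNondeg
import Cfsg.Agent.Lib.helper47.OGenK
import Cfsg.Agent.Lib.helper47.OGenL

set_option autoImplicit false

namespace Cfsg.Agent.Lib.helper47.OGen

open Cfsg.Agent.Lib.helper49 QuadraticMap

section plus3

variable {F : Type*} [Field F]

/-- the last three hyperbolic pairs of the standard frame of the plus form -/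
theorem hypSix_plus (n : ℕ) :
    HypSix (plusForm (n + 3) F) (eP (n + 3) F n) (fP (n + 3) F n) (eP (n + 3) F (n + 1))
      (fP (n + 3) F (n + 1)) (eP (n + 3) F (n + 2)) (fP (n + 3) F (n + 2)) := by
  have h := frame_plus (F := F) (n + 3) (n + 3) le_rfl
  exact
  { hp := h.he _ (by omega)
    hq := h.hf _ (by omega)
    hpq := h.hef _ (by omega)
    he' := h.he _ (by omega)
    hf' := h.hf _ (by omega)
    he'f' := h.hef _ (by omega)
    he'' := h.he _ (by omega)
    hf'' := h.hf _ (by omega)
    he''f'' := h.hef _ (by omega)
    hpe' := h.hee _ (by omega) _ (by omega)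
    hpf' := h.hef' _ (by omega) _ (by omega) (by omega)
    hpe'' := h.hee _ (by omega) _ (by omega)
    hpf'' := h.hef' _ (by omega) _ (by omega) (by omega)
    hqe' := h.hfe' (by omega) (by omega) (by omega)
    hqf' := h.hff _ (by omega) _ (by omega)
    hqe'' := h.hfe' (by omega) (by omega) (by omega)
    hqf'' := h.hff _ (by omega) _ (by omega)
    he'e'' := h.hee _ (by omega) _ (by omega)
    he'f'' := h.hef' _ (by omega) _ (by omega) (by omega)
    hf'e'' := h.hfe' (by omega) (by omega) (by omega)
    hf'f'' := h.hff _ (by omega) _ (by omega) }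

end plus3

section plus4

variable {F : Type*} [Field F] [Fintype F]

/-- `Ω^+_{2m}(q)`, `m ≥ 4`, is generated by two elements when `q` is odd. -/
theorem omega_plus_gen_B (n : ℕ) (hn : 1 ≤ n) (h2 : (2 : F) ≠ 0) :
    ∃ g h : ↥(Cfsg.isometryGroup F ⇑(plusForm (n + 3) F)),
      g ∈ Cfsg.Omega F ⇑(plusForm (n + 3) F) ∧ h ∈ Cfsg.Omega F ⇑(plusForm (n + 3) F) ∧
      Cfsg.Omega F ⇑(plusForm (n + 3) F) ≤ Subgroup.closure {g, h} := by
  classical
  have hQ := Cfsg.Agent.Lib.helper42.plusForm_nondegenerate (F := F) (n + 3)
  have hcard : Fintype.card (Fin (n + 3) ⊕ Fin (n + 3)) = (n + 3) + (n + 3) := by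
    simp
  have d := hypSix_plus (F := F) n
  have hfr := frame_plus (F := F) (n + 3) (n + 1) (by omega)
  have hfrB := frame_plus (F := F) (n + 3) (n + 3) le_rfl
  have hM := eichG_mem_Omega (plusForm (n + 3) F) hQ (by rw [hcard]; omega)
  have hgen : (∃ θ : F, θ ≠ 0 ∧ θ ≠ 1 ∧ ∀ B : Subfield F, θ ∈ B → B = ⊤) ∨
      Fintype.card F = 2 := by
    by_cases h3 : 3 ≤ Fintype.card F
    · exact Or.inl (exists_field_gen h3)
    · right
      have := Fintype.one_lt_card (α := F)
      omega
  obtain ⟨he1S, hf1S, he2S, hf2S⟩ := sP_span d h2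
  refine gen_two_step (plusForm (n + 3) F) hQ (by rw [hcard]; omega) n hn (eP (n + 3) F)
    (fP (n + 3) F) hfr
    (sP (plusForm (n + 3) F) (eP (n + 3) F n) (fP (n + 3) F n) (eP (n + 3) F (n + 1))
      (fP (n + 3) F (n + 1)) (eP (n + 3) F (n + 2)) (fP (n + 3) F (n + 2)))
    (sP_mem _ _ hM _ _ _ _ _ _)
    ⟨1, one_ne_zero, by rw [sP_p d, one_smul]⟩
    ⟨1, one_ne_zero, by rw [sP_q d, one_smul]⟩
    ?_ (eP (n + 3) F (n + 1) + fP (n + 3) F (n + 1) + fP (n + 3) F (n + 2)) ?_ ?_ ?_ ?_ ?_ ?_ hgen
  · -- `s` fixes the earlier frame vectors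
    intro k hk
    constructor
    · exact sP_orth d _ (hfrB.hee n (by omega) k (by omega))
        (hfrB.hfe' (by omega) (by omega) (by omega))
        (hfrB.hee (n + 1) (by omega) k (by omega)) (hfrB.hfe' (by omega) (by omega) (by omega))
        (hfrB.hee (n + 2) (by omega) k (by omega)) (hfrB.hfe' (by omega) (by omega) (by omega))
    · exact sP_orth d _ (hfrB.hef' n (by omega) k (by omega) (by omega))
        (hfrB.hff n (by omega) k (by omega))
        (hfrB.hef' (n + 1) (by omega) k (by omega) (by omega))
        (hfrB.hff (n + 1) (by omega) k (by omega))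
        (hfrB.hef' (n + 2) (by omega) k (by omega) (by omega))
        (hfrB.hff (n + 2) (by omega) k (by omega))
  · intro k hk
    constructor
    · rw [polar_add_right, polar_add_right, hfrB.hee k (by omega) (n + 1) (by omega),
        hfrB.hef' k (by omega) (n + 1) (by omega) (by omega),
        hfrB.hef' k (by omega) (n + 2) (by omega) (by omega), add_zero, add_zero]
    · rw [polar_add_right, polar_add_right, hfrB.hfe' (by omega) (by omega) (by omega),
        hfrB.hff k (by omega) (n + 1) (by omega),
        hfrB.hff k (by omega) (n + 2) (by omega), add_zero, add_zero]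
  · have h := sP_orbit1 d
    rw [pow_one] at h
    rw [h]
    simp only [polar_add_left, polar_sub_right, polar_neg_right, d.hs1, d.he'f', d.he'e'',
      d.he'f'', d.hf'e', d.hs2, d.hf'e'', d.hf'f'', d.he''e', d.he''f', d.hs3, d.he''f'', d.hf''e',
      d.hf''f', d.hf''e'', d.hs4]
    simp
  · have h := sP_orbit2 d
    rw [pow_two, isoAct_mul] at h
    rw [h]
    simp only [polar_add_left, polar_add_right, polar_sub_right, polar_neg_right, d.hs1, d.he'f',
      d.he'e'', d.he'f'', d.hf'e', d.hs2, d.hf'e'', d.hf'f'', d.he''e', d.he''f', d.hs3,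
      d.he''f'', d.hf''e', d.hf''f', d.hf''e'', d.hs4]
    intro h0
    apply h2
    linear_combination -h0
  · -- the full span
    rw [eq_top_iff]
    intro x _
    apply mem_of_single
    rintro (j | j)
    · right
      by_cases hj : j.val ≤ n
      · exact Submodule.subset_span (Or.inl (Or.inr ⟨j.val, hj, (single_eP _ j).symm⟩))
      · rw [single_eP]
        exact Submodule.subset_span (Or.inl (Or.inl (fun k hk =>
          ⟨hfrB.hee k (by omega) j.val j.isLt, hfrB.hfe' (by omega) j.isLt (by omega)⟩)))
    · right
      by_cases hj : j.val ≤ n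
      · exact Submodule.subset_span (Or.inr ⟨j.val, hj, (single_fP _ j).symm⟩)
      · rw [single_fP]
        exact Submodule.subset_span (Or.inl (Or.inl (fun k hk =>
          ⟨hfrB.hef' k (by omega) j.val j.isLt (by omega), hfrB.hff k (by omega) j.val j.isLt⟩)))
  · -- the span of `e 0 ^⊥`
    intro x hx
    rw [polar_eP_left _ 0 (by omega)] at hx
    apply mem_of_single
    rintro (j | j)
    · right
      by_cases hj : j.val ≤ n
      · exact Submodule.subset_span (Or.inl (Or.inr ⟨j.val, hj, (single_eP _ j).symm⟩))
      · by_cases hjv : j.val = n + 1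
        · rw [single_eP, hjv]
          exact Submodule.span_mono (Set.subset_union_left.trans Set.subset_union_left) he1S
        · have hjv : j.val = n + 2 := by have := j.isLt; omega
          rw [single_eP, hjv]
          exact Submodule.span_mono (Set.subset_union_left.trans Set.subset_union_left) he2S
    · by_cases hj0 : j.val = 0
      · left
        have : j = ⟨0, by omega⟩ := Fin.ext hj0
        rw [this]
        exact hx
      · right
        by_cases hj : j.val ≤ n
        · exact Submodule.subset_span (Or.inr ⟨j.val, ⟨hj, hj0⟩, (single_fP _ j).symm⟩)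
        · by_cases hjv : j.val = n + 1
          · rw [single_fP, hjv]
            exact Submodule.span_mono (Set.subset_union_left.trans Set.subset_union_left) hf1S
          · have hjv : j.val = n + 2 := by have := j.isLt; omega
            rw [single_fP, hjv]
            exact Submodule.span_mono (Set.subset_union_left.trans Set.subset_union_left) hf2S
  · -- the span of `f 0 ^⊥`
    intro x hx
    rw [polar_fP_left _ 0 (by omega)] at hx
    apply mem_of_single
    rintro (j | j)
    · by_cases hj0 : j.val = 0
      · left
        have : j = ⟨0, by omega⟩ := Fin.ext hj0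
        rw [this]
        exact hx
      · right
        by_cases hj : j.val ≤ n
        · exact Submodule.subset_span (Or.inl (Or.inr ⟨j.val, ⟨hj, hj0⟩, (single_eP _ j).symm⟩))
        · by_cases hjv : j.val = n + 1
          · rw [single_eP, hjv]
            exact Submodule.span_mono (Set.subset_union_left.trans Set.subset_union_left) he1S
          · have hjv : j.val = n + 2 := by have := j.isLt; omega
            rw [single_eP, hjv]
            exact Submodule.span_mono (Set.subset_union_left.trans Set.subset_union_left) he2S
    · right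
      by_cases hj : j.val ≤ n
      · exact Submodule.subset_span (Or.inr ⟨j.val, hj, (single_fP _ j).symm⟩)
      · by_cases hjv : j.val = n + 1
        · rw [single_fP, hjv]
          exact Submodule.span_mono (Set.subset_union_left.trans Set.subset_union_left) hf1S
        · have hjv : j.val = n + 2 := by have := j.isLt; omega
          rw [single_fP, hjv]
          exact Submodule.span_mono (Set.subset_union_left.trans Set.subset_union_left) hf2S

end plus4

end Cfsg.Agent.Lib.helper47.OGen
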