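/-
Orthogonal groups over the field with two elements: two-generation of `Ω` from a hyperbolic frame
whose orthogonal complement is trivial.
-/
import Mathlib
import Cfsg.Prelude.Def_Classical
import Cfsg.Agent.Lib.helper49.NondegMax
import Cfsg.Agent.Lib.helper47.OGenM

set_option autoImplicit false

namespace Cfsg.Agent.Lib.helper47.OGen

open Cfsg.Agent.Lib.helper49 QuadraticMap

variable {F : Type*} [Field F] {ι : Type} [Fintype ι] [DecidableEq ι]

omit [Fintype ι] [DecidableEq ι] in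
theorem Frame.mono {Q : QuadraticForm F (ι → F)} {m m' : ℕ} {e f : ℕ → ι → F}
    (hfr : Frame Q m e f) (h : m' ≤ m) : Frame Q m' e f where
  he := fun i hi => hfr.he i (by omega)
  hf := fun i hi => hfr.hf i (by omega)
  hef := fun i hi => hfr.hef i (by omega)
  hee := fun i hi j hj => hfr.hee i (by omega) j (by omega)
  hff := fun i hi j hj => hfr.hff i (by omega) j (by omega)
  hef' := fun i hi j hj hij => hfr.hef' i (by omega) j (by omega) hij

/-- Generation of `Ω` over the field with two elements from a monomial element stepping through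
the frame and swapping a further hyperbolic pair, and one root element. -/
theorem gen_cyc_two [Fintype F] (hF : Fintype.card F = 2) (Q : QuadraticForm F (ι → F))
    (hQ : (QuadraticMap.polarBilin Q).Nondegenerate) (hn5 : 5 ≤ Fintype.card ι) (n : ℕ)
    (hn : 2 ≤ n) (e f : ℕ → ι → F) (hfr : Frame Q (n + 1) e f)
    (e' f' : ι → F) (he' : Q e' = 0) (hf' : Q f' = 0) (he'f' : polar Q e' f' = 1)
    (he'fr : ∀ k < n + 1, polar Q (e k) e' = 0 ∧ polar Q (f k) e' = 0)
    (hf'fr : ∀ k < n + 1, polar Q (e k) f' = 0 ∧ polar Q (f k) f' = 0)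
    (H : Subgroup ↥(Cfsg.isometryGroup F ⇑Q)) (w : ↥(Cfsg.isometryGroup F ⇑Q)) (hw : w ∈ H)
    (hw1 : ∀ k < n, ∃ d : F, d ≠ 0 ∧ isoAct (⇑Q) w (e k) = d • e (k + 1))
    (hw2 : ∃ d : F, d ≠ 0 ∧ isoAct (⇑Q) w (e n) = d • f 0)
    (hw3 : ∀ k < n, ∃ d : F, d ≠ 0 ∧ isoAct (⇑Q) w (f k) = d • f (k + 1))
    (hw4 : ∃ d : F, d ≠ 0 ∧ isoAct (⇑Q) w (f n) = d • e 0)
    (hwe' : isoAct (⇑Q) w e' = f') (hwf' : isoAct (⇑Q) w f' = e')
    (hz0 : e 1 + f 1 + e' ∈ Lsub Q H (e 0) (hfr.he 0 (Nat.succ_pos n)))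
    (hspan0 : ∀ x, polar Q (e 0) x = 0 →
      x ∈ Submodule.span F ({e', f'} ∪ e '' Set.Iic n ∪ f '' (Set.Iic n \ {0})))
    (hspan1 : ∀ x, polar Q (f 0) x = 0 →
      x ∈ Submodule.span F ({e', f'} ∪ e '' (Set.Iic n \ {0}) ∪ f '' Set.Iic n)) :
    Cfsg.Omega F ⇑Q ≤ H := by
  have hc1 : 1 ≤ n + 1 := by omega
  have h0' : 0 < n + 1 := Nat.succ_pos n
  have he0 := hfr.he 0 h0'
  have hf0 := hfr.hf 0 h0'
  have hR0 : ∀ i, Q (cycR (n + 1) e f i) = 0 := Q_cycR hfr hc1
  have hR_zero : cycR (n + 1) e f 0 = e 0 := cycR_lt hc1 0 h0'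
  have hR_c : cycR (n + 1) e f (n + 1) = f 0 := cycR_ge (c := n + 1) 0 h0'
  have hR_one : cycR (n + 1) e f 1 = e 1 := cycR_lt hc1 1 (by omega)
  have hR_c1 : cycR (n + 1) e f (n + 1 + 1) = f 1 := cycR_ge (c := n + 1) 1 (by omega)
  obtain ⟨u, hu⟩ : ∃ u : ℕ → ι → F, ∀ j, u j = if j % 2 = 0 then e' else f' :=
    ⟨fun j => _, fun j => rfl⟩
  have hu_even : ∀ j, j % 2 = 0 → u j = e' := fun j hj => by rw [hu, if_pos hj]
  have hu_odd : ∀ j, j % 2 = 1 → u j = f' := fun j hj => by rw [hu, if_neg (by omega)]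
  have hwR : ∀ i, isoAct (⇑Q) w (cycR (n + 1) e f i) = cycR (n + 1) e f (i + 1) := by
    intro i
    obtain ⟨d, hd, hd'⟩ := cycR_step (⇑Q) n e f w hw1 hw2 hw3 hw4 i
    rcases eq_zero_or_one_of_card_two hF d with h | h
    · exact absurd h hd
    · rw [hd', h, one_smul]
  have hu0 : ∀ j, Q (u j) = 0 := by
    intro j
    rw [hu]
    split_ifs
    · exact he'
    · exact hf'
  have huu : ∀ j, polar Q (u (j + 1)) (u j) = 1 := by
    intro j
    rcases Nat.mod_two_eq_zero_or_one j with h | h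
    · rw [hu_even j h, hu_odd (j + 1) (by omega), polar_comm]
      exact he'f'
    · rw [hu_odd j h, hu_even (j + 1) (by omega)]
      exact he'f'
  have hu2 : ∀ j, u (j + 2) = u j := by
    intro j
    rw [hu (j + 2), hu j, Nat.add_mod_right]
  have hRu : ∀ i j, polar Q (cycR (n + 1) e f i) (u j) = 0 := by
    intro i j
    rw [hu]
    split_ifs
    · exact polar_cycR_of_orth hc1 e' he'fr i
    · exact polar_cycR_of_orth hc1 f' hf'fr i
  have hwu : ∀ j, isoAct (⇑Q) w (u j) = u (j + 1) := by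
    intro j
    rcases Nat.mod_two_eq_zero_or_one j with h | h
    · rw [hu_even j h, hu_odd (j + 1) (by omega)]
      exact hwe'
    · rw [hu_odd j h, hu_even (j + 1) (by omega)]
      exact hwf'
  have hz0' : cycR (n + 1) e f 1 + cycR (n + 1) e f (n + 1 + 1) + u 0 ∈
      Lsub Q H (cycR (n + 1) e f 0) (hR0 0) := by
    rw [hR_one, hR_c1, hu_even 0 rfl]
    exact Lsub_congr Q H _ _ he0 (hR0 0) hR_zero.symm _ hz0
  obtain ⟨hA, hB⟩ := cyc_core_two hF Q (n + 1) (by omega) (cycR (n + 1) e f) hR0 cycR_per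
    (cycR_orth hfr hc1) (cycR_opp hfr hc1) u hu0 huu hu2 hRu H w hw hwR hwu hz0'
  have hMx : ∀ x, polar Q (e 0) x = 0 → eichG Q (e 0) x ∈ H := by
    intro x hx
    have h6 : Submodule.span F ({e', f'} ∪ e '' Set.Iic n ∪ f '' (Set.Iic n \ {0})) ≤
        Lsub Q H (e 0) he0 := by
      apply Submodule.span_le.mpr
      rintro y ((hy | ⟨k, hk, rfl⟩) | ⟨k, ⟨hk, hk0⟩, rfl⟩)
      · simp only [Set.mem_insert_iff, Set.mem_singleton_iff] at hy
        rcases hy with h | h
        · have h7 := hB 0 0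
          rw [hu_even 0 rfl] at h7
          rw [h]
          exact Lsub_congr Q H _ _ (hR0 0) he0 hR_zero _ h7
        · have h7 := hB 0 1
          rw [hu_odd 1 rfl] at h7
          rw [h]
          exact Lsub_congr Q H _ _ (hR0 0) he0 hR_zero _ h7
      · have hk' : k ≤ n := hk
        by_cases hk0 : k = 0
        · subst hk0
          exact self_mem_Lsub Q H _ he0
        · have h7 := hA k (by omega) (by omega) (by omega) 0
          rw [Nat.zero_add, cycR_lt hc1 k (by omega)] at h7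
          exact Lsub_congr Q H _ _ (hR0 0) he0 hR_zero _ h7
      · have hk' : k ≤ n := hk
        have hk0' : k ≠ 0 := by simpa using hk0
        have h7 := hA (n + 1 + k) (by omega) (by omega) (by omega) 0
        rw [Nat.zero_add, cycR_ge k (by omega)] at h7
        exact Lsub_congr Q H _ _ (hR0 0) he0 hR_zero _ h7
    have h7 := (h6 (hspan0 x hx)).2 1
    rwa [one_smul] at h7
  have hMy : ∀ x, polar Q (f 0) x = 0 → eichG Q (f 0) x ∈ H := by
    intro x hx
    have h6 : Submodule.span F ({e', f'} ∪ e '' (Set.Iic n \ {0}) ∪ f '' Set.Iic n) ≤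
        Lsub Q H (f 0) hf0 := by
      apply Submodule.span_le.mpr
      rintro y ((hy | ⟨k, ⟨hk, hk0⟩, rfl⟩) | ⟨k, hk, rfl⟩)
      · simp only [Set.mem_insert_iff, Set.mem_singleton_iff] at hy
        rcases hy with h | h
        · have h7 := hB (n + 1) 0
          rw [hu_even 0 rfl] at h7
          rw [h]
          exact Lsub_congr Q H _ _ (hR0 (n + 1)) hf0 hR_c _ h7
        · have h7 := hB (n + 1) 1
          rw [hu_odd 1 rfl] at h7
          rw [h]
          exact Lsub_congr Q H _ _ (hR0 (n + 1)) hf0 hR_c _ h7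
      · have hk' : k ≤ n := hk
        have hk0' : k ≠ 0 := by simpa using hk0
        have h7 := hA (n + 1 + k) (by omega) (by omega) (by omega) (n + 1)
        have h8 : cycR (n + 1) e f (n + 1 + (n + 1 + k)) = e k := by
          have h9 : n + 1 + (n + 1 + k) = k + 2 * (n + 1) := by omega
          rw [h9, cycR_per, cycR_lt hc1 k (by omega)]
        rw [h8] at h7
        exact Lsub_congr Q H _ _ (hR0 (n + 1)) hf0 hR_c _ h7
      · have hk' : k ≤ n := hk
        by_cases hk0 : k = 0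
        · subst hk0
          exact self_mem_Lsub Q H _ hf0
        · have h7 := hA k (by omega) (by omega) (by omega) (n + 1)
          rw [cycR_ge k (by omega)] at h7
          exact Lsub_congr Q H _ _ (hR0 (n + 1)) hf0 hR_c _ h7
    have h7 := (h6 (hspan1 x hx)).2 1
    rwa [one_smul] at h7
  exact Omega_le_of_hyp_pair Q hQ hn5 H (e 0) (f 0) he0 hf0
    (by rw [hfr.hef 0 h0']; exact one_ne_zero) hMx hMy

/-- Two-generation of `Ω` over the field with two elements, from a hyperbolic frame with trivial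
orthogonal complement. -/
theorem gen_F2 [Fintype F] (hF : Fintype.card F = 2) (Q : QuadraticForm F (ι → F))
    (hQ : (QuadraticMap.polarBilin Q).Nondegenerate) (hn7 : 7 ≤ Fintype.card ι) (n : ℕ)
    (hn : 2 ≤ n) (e f : ℕ → ι → F) (hfr : Frame Q (n + 2) e f)
    (hspan0 : ∀ x, polar Q (e 0) x = 0 →
      x ∈ Submodule.span F ({e (n + 1), f (n + 1)} ∪ e '' Set.Iic n ∪ f '' (Set.Iic n \ {0})))
    (hspan1 : ∀ x, polar Q (f 0) x = 0 →
      x ∈ Submodule.span F ({e (n + 1), f (n + 1)} ∪ e '' (Set.Iic n \ {0}) ∪ f '' Set.Iic n)) :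
    ∃ a b : ↥(Cfsg.isometryGroup F ⇑Q), a ∈ Cfsg.Omega F ⇑Q ∧ b ∈ Cfsg.Omega F ⇑Q ∧
      Cfsg.Omega F ⇑Q ≤ Subgroup.closure {a, b} := by
  have hM : ∀ e w, eichG Q e w ∈ Cfsg.Omega F ⇑Q := eichG_mem_Omega Q hQ hn7
  have hfr' : Frame Q (n + 1) e f := hfr.mono (by omega)
  have h2 : (2 : F) = 0 := by
    rcases eq_zero_or_one_of_card_two hF (2 : F) with h | h
    · exact h
    · exfalso
      have : (1 : F) = 0 := by linear_combination h
      exact one_ne_zero this
  have hneg : ∀ x : ι → F, -x = x := by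
    intro x
    have h : x + x = 0 := by rw [← two_smul F x, h2, zero_smul]
    exact neg_eq_of_add_eq_zero_left h
  obtain ⟨g, hgM, h1, ⟨c2, hc2, h2'⟩, h3, ⟨c4, hc4, h4⟩, h5⟩ :=
    exists_cyc Q (Cfsg.Omega F ⇑Q) hM (n + 1) e f hfr' n (by omega)
  -- the swapping element
  obtain ⟨z, hz⟩ : ∃ z, z = e (n + 1) + f (n + 1) := ⟨_, rfl⟩
  have hQz : Q z = 1 := by
    rw [hz, QuadraticMap.map_add Q, hfr.he _ (by omega), hfr.hf _ (by omega),
      hfr.hef _ (by omega)]
    simp
  have hez : polar Q (e n) z = 0 := by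
    rw [hz, polar_add_right, hfr.hee n (by omega) (n + 1) (by omega),
      hfr.hef' n (by omega) (n + 1) (by omega) (by omega), add_zero]
  have hfz : polar Q (f n) z = 0 := by
    rw [hz, polar_add_right, hfr.hfe' (by omega) (by omega) (by omega),
      hfr.hff n (by omega) (n + 1) (by omega), add_zero]
  have hen := hfr.he n (by omega)
  have hfn := hfr.hf n (by omega)
  have henfn := hfr.hef n (by omega)
  have hQz0 : Q z ≠ 0 := by rw [hQz]; exact one_ne_zero
  obtain ⟨s, hs⟩ : ∃ s, s = wS Q (e n) (f n) z := ⟨_, rfl⟩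
  have hsΩ : s ∈ Cfsg.Omega F ⇑Q := by rw [hs]; exact wS_mem Q _ hM _ _ _
  have hse : isoAct (⇑Q) s (e n) = f n := by
    rw [hs, isoAct_wS_e Q (e n) (f n) z hen hfn henfn hez hfz hQz0, hQz, inv_one, neg_smul,
      one_smul, hneg]
  have hsf : isoAct (⇑Q) s (f n) = e n := by
    rw [hs, isoAct_wS_f Q (e n) (f n) z hen hfn henfn hez hfz hQz0, hQz, neg_smul, one_smul, hneg]
  have hsorth : ∀ x, polar Q (e n) x = 0 → polar Q (f n) x = 0 →
      isoAct (⇑Q) s x = x - polar Q z x • z := by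
    intro x hx1 hx2
    rw [hs, isoAct_wS_orth Q (e n) (f n) z hen hfn henfn hez hfz hQz0 x hx1 hx2, hQz, inv_one,
      one_mul]
  have hsfix : ∀ k < n, isoAct (⇑Q) s (e k) = e k ∧ isoAct (⇑Q) s (f k) = f k := by
    intro k hk
    constructor
    · rw [hsorth _ (hfr.hee n (by omega) k (by omega)) (hfr.hfe' (by omega) (by omega) (by omega)),
        hz, polar_add_left, hfr.hee (n + 1) (by omega) k (by omega),
        hfr.hfe' (by omega) (by omega) (by omega), add_zero, zero_smul, sub_zero]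
    · rw [hsorth _ (hfr.hef' n (by omega) k (by omega) (by omega))
        (hfr.hff n (by omega) k (by omega)),
        hz, polar_add_left, hfr.hef' (n + 1) (by omega) k (by omega) (by omega),
        hfr.hff (n + 1) (by omega) k (by omega), add_zero, zero_smul, sub_zero]
  have hse' : isoAct (⇑Q) s (e (n + 1)) = f (n + 1) := by
    rw [hsorth _ (hfr.hee n (by omega) (n + 1) (by omega))
      (hfr.hfe' (by omega) (by omega) (by omega))]
    have h : polar Q z (e (n + 1)) = 1 := by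
      rw [hz, polar_add_left, polar_self, hfr.he _ (by omega), smul_zero, zero_add,
        hfr.hfe (by omega)]
    rw [h, one_smul, hz]
    have h' : e (n + 1) - (e (n + 1) + f (n + 1)) = -f (n + 1) := by abel
    rw [h', hneg]
  have hsf' : isoAct (⇑Q) s (f (n + 1)) = e (n + 1) := by
    rw [hsorth _ (hfr.hef' n (by omega) (n + 1) (by omega) (by omega))
      (hfr.hff n (by omega) (n + 1) (by omega))]
    have h : polar Q z (f (n + 1)) = 1 := by
      rw [hz, polar_add_left, polar_self, hfr.hf _ (by omega), smul_zero, add_zero,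
        hfr.hef _ (by omega)]
    rw [h, one_smul, hz]
    have h' : f (n + 1) - (e (n + 1) + f (n + 1)) = -e (n + 1) := by abel
    rw [h', hneg]
  obtain ⟨w, hw⟩ : ∃ w, w = g * s := ⟨_, rfl⟩
  have hwM : w ∈ Cfsg.Omega F ⇑Q := by rw [hw]; exact mul_mem hgM hsΩ
  have hgW : ∀ x, (∀ k < n + 1, polar Q (e k) x = 0 ∧ polar Q (f k) x = 0) →
      isoAct (⇑Q) g x = x := fun x hx => h5 x (fun k hk => hx k (by omega))
  have hw1 : ∀ k < n, ∃ d : F, d ≠ 0 ∧ isoAct (⇑Q) w (e k) = d • e (k + 1) := by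
    intro k hk
    obtain ⟨c, hc, hc'⟩ := h1 k hk
    exact ⟨c, hc, by rw [hw, isoAct_mul, (hsfix k hk).1, hc']⟩
  have hw2 : ∃ d : F, d ≠ 0 ∧ isoAct (⇑Q) w (e n) = d • f 0 :=
    ⟨c4, hc4, by rw [hw, isoAct_mul, hse, h4]⟩
  have hw3 : ∀ k < n, ∃ d : F, d ≠ 0 ∧ isoAct (⇑Q) w (f k) = d • f (k + 1) := by
    intro k hk
    obtain ⟨c, hc, hc'⟩ := h3 k hk
    exact ⟨c, hc, by rw [hw, isoAct_mul, (hsfix k hk).2, hc']⟩
  have hw4 : ∃ d : F, d ≠ 0 ∧ isoAct (⇑Q) w (f n) = d • e 0 :=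
    ⟨c2, hc2, by rw [hw, isoAct_mul, hsf, h2']⟩
  have he'fr : ∀ k < n + 1, polar Q (e k) (e (n + 1)) = 0 ∧ polar Q (f k) (e (n + 1)) = 0 :=
    fun k hk => ⟨hfr.hee k (by omega) (n + 1) (by omega),
      hfr.hfe' (by omega) (by omega) (by omega)⟩
  have hf'fr : ∀ k < n + 1, polar Q (e k) (f (n + 1)) = 0 ∧ polar Q (f k) (f (n + 1)) = 0 :=
    fun k hk => ⟨hfr.hef' k (by omega) (n + 1) (by omega) (by omega),
      hfr.hff k (by omega) (n + 1) (by omega)⟩
  have hwe' : isoAct (⇑Q) w (e (n + 1)) = f (n + 1) := by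
    rw [hw, isoAct_mul, hse', hgW _ hf'fr]
  have hwf' : isoAct (⇑Q) w (f (n + 1)) = e (n + 1) := by
    rw [hw, isoAct_mul, hsf', hgW _ he'fr]
  refine ⟨eichG Q (e 0) (e 1 + f 1 + e (n + 1)), w, hM _ _, hwM, ?_⟩
  refine gen_cyc_two hF Q hQ (by omega) n hn e f hfr' (e (n + 1)) (f (n + 1))
    (hfr.he _ (by omega)) (hfr.hf _ (by omega)) (hfr.hef _ (by omega)) he'fr hf'fr _ w
    (Subgroup.subset_closure (by simp)) hw1 hw2 hw3 hw4 hwe' hwf' ?_ hspan0 hspan1
  refine ⟨?_, fun c => ?_⟩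
  · rw [polar_add_right, polar_add_right, hfr.hee 0 (by omega) 1 (by omega),
      hfr.hef' 0 (by omega) 1 (by omega) (by omega), hfr.hee 0 (by omega) (n + 1) (by omega),
      add_zero, add_zero]
  · rcases eq_zero_or_one_of_card_two hF c with rfl | rfl
    · rw [zero_smul, eichG_zero]
      exact one_mem _
    · rw [one_smul]
      exact Subgroup.subset_closure (by simp)

end Cfsg.Agent.Lib.helper47.OGen
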