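/-
Orthogonal groups of plus type: the two-generation of `Ω^+_{2m}(q)`, `m ≥ 4`, for all `q`.
-/
import Mathlib
import Cfsg.Prelude.Def_Classical
import Cfsg.Agent.Lib.helper49.NondegMax
import Cfsg.Agent.Lib.helper49.Forms
import Cfsg.Agent.Lib.helper42.FormsNondeg
import Cfsg.Agent.Lib.helper47.OGenK
import Cfsg.Agent.Lib.helper47.OGenN
import Cfsg.Agent.Lib.helper47.OGenO

set_option autoImplicit false

namespace Cfsg.Agent.Lib.helper47.OGen

open Cfsg.Agent.Lib.helper49 QuadraticMap

section plus5

variable {F : Type*} [Field F] [Fintype F]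

/-- `Ω^+_{2m}(2)`, `m ≥ 4`, is generated by two elements. -/
theorem omega_plus_gen_C (n : ℕ) (hn : 2 ≤ n) (hF : Fintype.card F = 2) :
    ∃ g h : ↥(Cfsg.isometryGroup F ⇑(plusForm (n + 2) F)),
      g ∈ Cfsg.Omega F ⇑(plusForm (n + 2) F) ∧ h ∈ Cfsg.Omega F ⇑(plusForm (n + 2) F) ∧
      Cfsg.Omega F ⇑(plusForm (n + 2) F) ≤ Subgroup.closure {g, h} := by
  classical
  have hQ := Cfsg.Agent.Lib.helper42.plusForm_nondegenerate (F := F) (n + 2)
  have hcard : Fintype.card (Fin (n + 2) ⊕ Fin (n + 2)) = (n + 2) + (n + 2) := by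
    simp
  have hfrB := frame_plus (F := F) (n + 2) (n + 2) le_rfl
  refine gen_F2 hF (plusForm (n + 2) F) hQ (by rw [hcard]; omega) n hn (eP (n + 2) F)
    (fP (n + 2) F) hfrB ?_ ?_
  · intro x hx
    rw [polar_eP_left _ 0 (by omega)] at hx
    apply mem_of_single
    rintro (j | j)
    · right
      by_cases hj : j.val ≤ n
      · exact Submodule.subset_span (Or.inl (Or.inr ⟨j.val, hj, (single_eP _ j).symm⟩))
      · have hjv : j.val = n + 1 := by have := j.isLt; omega
        rw [single_eP, hjv]
        exact Submodule.subset_span (Or.inl (Or.inl (by simp)))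
    · by_cases hj0 : j.val = 0
      · left
        have : j = ⟨0, by omega⟩ := Fin.ext hj0
        rw [this]
        exact hx
      · right
        by_cases hj : j.val ≤ n
        · exact Submodule.subset_span (Or.inr ⟨j.val, ⟨hj, hj0⟩, (single_fP _ j).symm⟩)
        · have hjv : j.val = n + 1 := by have := j.isLt; omega
          rw [single_fP, hjv]
          exact Submodule.subset_span (Or.inl (Or.inl (by simp)))
  · intro x hx
    rw [polar_fP_left _ 0 (by omega)] at hx
    apply mem_of_single
    rintro (j | j)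
    · by_cases hj0 : j.val = 0
      · left
        have : j = ⟨0, by omega⟩ := Fin.ext hj0
        rw [this]
        exact hx
      · right
        by_cases hj : j.val ≤ n
        · exact Submodule.subset_span (Or.inl (Or.inr ⟨j.val, ⟨hj, hj0⟩, (single_eP _ j).symm⟩))
        · have hjv : j.val = n + 1 := by have := j.isLt; omega
          rw [single_eP, hjv]
          exact Submodule.subset_span (Or.inl (Or.inl (by simp)))
    · right
      by_cases hj : j.val ≤ n
      · exact Submodule.subset_span (Or.inr ⟨j.val, hj, (single_fP _ j).symm⟩)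
      · have hjv : j.val = n + 1 := by have := j.isLt; omega
        rw [single_fP, hjv]
        exact Submodule.subset_span (Or.inl (Or.inl (by simp)))

/-- `Ω^+_{2m}(q)`, `m ≥ 4`, is generated by two elements. -/
theorem omega_plus_two_gen (m : ℕ) (hm : 4 ≤ m) :
    ∃ g h : ↥(Cfsg.isometryGroup F ⇑(plusForm m F)),
      g ∈ Cfsg.Omega F ⇑(plusForm m F) ∧ h ∈ Cfsg.Omega F ⇑(plusForm m F) ∧
      Cfsg.Omega F ⇑(plusForm m F) ≤ Subgroup.closure {g, h} := by
  by_cases h2 : (2 : F) = 0
  · by_cases h3 : 3 ≤ Fintype.card F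
    · obtain ⟨θ, hθ0, hθ1, -⟩ := exists_field_gen h3
      obtain ⟨n, rfl⟩ : ∃ n, m = n + 3 := ⟨m - 3, by omega⟩
      refine omega_plus_gen_A n (by omega) θ hθ0 hθ1 ?_
      intro h
      apply hθ1
      linear_combination h - h2
    · have hF : Fintype.card F = 2 := by
        have := Fintype.one_lt_card (α := F)
        omega
      obtain ⟨n, rfl⟩ : ∃ n, m = n + 2 := ⟨m - 2, by omega⟩
      exact omega_plus_gen_C n (by omega) hF
  · obtain ⟨n, rfl⟩ : ∃ n, m = n + 3 := ⟨m - 3, by omega⟩
    exact omega_plus_gen_B n (by omega) h2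

end plus5

end Cfsg.Agent.Lib.helper47.OGen
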