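import Mathlib
import Cfsg.Prelude.Def_FusionSystem

set_option autoImplicit false

/-!
S5238 (pearls), BLOCK F, piece FC (racer copy by helper47): a nonabelian subgroup `E` of order
`p³` and exponent `p` with `C_G(E) ≤ E` in a `p`-group `G` contains an element `x` with
`|C_G(x)| = p²`.
-/

namespace Cfsg.Agent.Lib.helper88.PearlF

/-- relative index of a centralizer when the relevant commutators are central -/
theorem h47_relIndex_centralizer_le {G : Type*} [Group G] [Finite G] (K : Subgroup G) (x : G)
    (h : ∀ g ∈ K, g * x * g⁻¹ * x⁻¹ ∈ Subgroup.center G) :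
    (Subgroup.centralizer ({x} : Set G)).relIndex K ≤ Nat.card (Subgroup.center G) := by
  classical
  let φ : ↥K →* ↥(Subgroup.center G) :=
    { toFun := fun g => ⟨g.1 * x * g.1⁻¹ * x⁻¹, h g.1 g.2⟩
      map_one' := by
        apply Subtype.ext
        simp
      map_mul' := by
        intro g k
        apply Subtype.ext
        have hc := Subgroup.mem_center_iff.1 (h k.1 k.2)
        show (g.1 * k.1) * x * (g.1 * k.1)⁻¹ * x⁻¹
          = (g.1 * x * g.1⁻¹ * x⁻¹) * (k.1 * x * k.1⁻¹ * x⁻¹)
        calc (g.1 * k.1) * x * (g.1 * k.1)⁻¹ * x⁻¹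
            = g.1 * (k.1 * x * k.1⁻¹ * x⁻¹) * (x * g.1⁻¹ * x⁻¹) := by group
          _ = (k.1 * x * k.1⁻¹ * x⁻¹) * g.1 * (x * g.1⁻¹ * x⁻¹) := by rw [hc g.1]
          _ = (k.1 * x * k.1⁻¹ * x⁻¹) * (g.1 * x * g.1⁻¹ * x⁻¹) := by group
          _ = (g.1 * x * g.1⁻¹ * x⁻¹) * (k.1 * x * k.1⁻¹ * x⁻¹) := (hc _).symm }
  have hker : φ.ker = (Subgroup.centralizer ({x} : Set G)).subgroupOf K := by
    ext g
    rw [MonoidHom.mem_ker, Subgroup.mem_subgroupOf, Subgroup.mem_centralizer_iff]
    constructor
    · intro hg y hy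
      rw [Set.mem_singleton_iff] at hy
      subst hy
      have h1 : g.1 * y * g.1⁻¹ * y⁻¹ = 1 := congrArg Subtype.val hg
      have h2 : g.1 * y = y * g.1 := by
        calc g.1 * y = (g.1 * y * g.1⁻¹ * y⁻¹) * (y * g.1) := by group
          _ = y * g.1 := by rw [h1, one_mul]
      exact h2.symm
    · intro hg
      apply Subtype.ext
      have h1 := hg x (Set.mem_singleton x)
      show g.1 * x * g.1⁻¹ * x⁻¹ = 1
      rw [← h1]
      group
  rw [Subgroup.relIndex, ← hker, Subgroup.index_ker]
  exact Subgroup.card_le_card_group _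

theorem h47_card_eq_inf_mul_relIndex {G : Type*} [Group G] (H K : Subgroup G) :
    Nat.card K = Nat.card (H ⊓ K : Subgroup G) * H.relIndex K := by
  rw [← Subgroup.inf_relIndex_right, Subgroup.relIndex,
    ← Subgroup.card_mul_index ((H ⊓ K).subgroupOf K)]
  congr 1
  exact Nat.card_congr (Subgroup.subgroupOfEquivOfLe inf_le_right).toEquiv

theorem h47_comm_of_card_le_sq {H : Type*} [Group H] [Finite H] (p : ℕ) [Fact p.Prime] (j : ℕ)
    (hj : j ≤ 2) (h : Nat.card H = p ^ j) : ∀ a b : H, a * b = b * a := by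
  interval_cases j
  · intro a b
    haveI : Subsingleton H := (Nat.card_eq_one_iff_unique.1 (by simpa using h)).1
    exact Subsingleton.elim _ _
  · haveI : IsCyclic H := isCyclic_of_prime_card (p := p) (by simpa using h)
    intro a b
    letI := IsCyclic.commGroup (α := H)
    exact mul_comm a b
  · exact IsPGroup.commutative_of_card_eq_prime_sq h

theorem h47_closure_pair_eq {G : Type*} [Group G] [Finite G] (p : ℕ) [Fact p.Prime]
    (E : Subgroup G) (hE : Nat.card E = p ^ 3) (a b : G) (ha : a ∈ E) (hb : b ∈ E)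
    (hab : a * b ≠ b * a) : Subgroup.closure ({a, b} : Set G) = E := by
  have hp : p.Prime := Fact.out
  have hle : Subgroup.closure ({a, b} : Set G) ≤ E := by
    rw [Subgroup.closure_le]
    intro y hy
    rcases hy with rfl | rfl
    · exact ha
    · exact hb
  obtain ⟨j, hj3, hj⟩ := (Nat.dvd_prime_pow hp).1 (hE ▸ Subgroup.card_dvd_of_le hle)
  by_cases h3 : j = 3
  · subst h3
    exact Subgroup.eq_of_le_of_card_ge hle (by rw [hE, hj])
  · exfalso
    have hcomm := h47_comm_of_card_le_sq (H := ↥(Subgroup.closure ({a, b} : Set G))) p j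
      (by omega) hj
    have h1 := hcomm ⟨a, Subgroup.subset_closure (by simp)⟩ ⟨b, Subgroup.subset_closure (by simp)⟩
    exact hab (congrArg Subtype.val h1)

theorem h47_comm_mem_center_iff {G : Type*} [Group G] (g e : G) :
    g * e * g⁻¹ * e⁻¹ ∈ Subgroup.center G ↔
      (QuotientGroup.mk g : G ⧸ Subgroup.center G) * QuotientGroup.mk e
        = QuotientGroup.mk e * QuotientGroup.mk g := by
  rw [← QuotientGroup.eq_one_iff, QuotientGroup.mk_mul, QuotientGroup.mk_mul,
    QuotientGroup.mk_mul, QuotientGroup.mk_inv, QuotientGroup.mk_inv]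
  constructor
  · intro h
    calc (QuotientGroup.mk g : G ⧸ Subgroup.center G) * QuotientGroup.mk e
        = ((QuotientGroup.mk g : G ⧸ Subgroup.center G) * QuotientGroup.mk e
            * (QuotientGroup.mk g)⁻¹ * (QuotientGroup.mk e)⁻¹)
            * (QuotientGroup.mk e * QuotientGroup.mk g) := by group
      _ = QuotientGroup.mk e * QuotientGroup.mk g := by rw [h, one_mul]
  · intro h
    rw [h]
    group

/-- FC (racer copy by helper47): nonabelian pearl of exponent `p`. -/
theorem h47_pearl_x_nonab {G : Type*} [Group G] [Finite G] (p : ℕ) [Fact p.Prime] (n : ℕ)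
    (hG : Nat.card G = p ^ n) (E : Subgroup G) (hE : Nat.card E = p ^ 3)
    (hna : ¬ IsMulCommutative E) (hexp : ∀ x ∈ E, x ^ p = 1)
    (hC : Subgroup.centralizer (E : Set G) ≤ E) :
    ∃ x : G, x ^ p = 1 ∧ Nat.card (Subgroup.centralizer ({x} : Set G)) = p ^ 2 := by
  classical
  have hp : p.Prime := Fact.out
  -- noncommuting a b in E
  obtain ⟨a, ha, b, hb, hab⟩ : ∃ a ∈ E, ∃ b ∈ E, a * b ≠ b * a := by
    by_contra hcon
    push Not at hcon
    exact hna ⟨⟨fun x y => Subtype.ext (hcon x.1 x.2 y.1 y.2)⟩⟩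
  have hPG : IsPGroup p G := IsPGroup.of_card hG
  haveI : Nontrivial G := ⟨⟨a * b, b * a, hab⟩⟩
  -- generation
  have hgen : ∀ u ∈ E, ∀ v ∈ E, u * v ≠ v * u →
      Subgroup.centralizer ({u} : Set G) ⊓ Subgroup.centralizer ({v} : Set G)
        ≤ Subgroup.centralizer (E : Set G) := by
    intro u hu v hv huv g hg
    have hcl := h47_closure_pair_eq p E hE u v hu hv huv
    rw [Subgroup.mem_inf, Subgroup.mem_centralizer_iff, Subgroup.mem_centralizer_iff] at hg
    have h1 : Subgroup.closure ({u, v} : Set G) ≤ Subgroup.centralizer ({g} : Set G) := by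
      rw [Subgroup.closure_le]
      intro y hy
      rw [SetLike.mem_coe, Subgroup.mem_centralizer_iff]
      intro z hz
      rw [Set.mem_singleton_iff] at hz
      rw [hz]
      rcases hy with hy | hy
      · rw [hy]
        exact (hg.1 u (Set.mem_singleton u)).symm
      · rw [Set.mem_singleton_iff] at hy
        rw [hy]
        exact (hg.2 v (Set.mem_singleton v)).symm
    rw [Subgroup.mem_centralizer_iff]
    intro e he
    have he' : e ∈ Subgroup.closure ({u, v} : Set G) := by
      rw [hcl]
      exact he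
    have h2 := h1 he'
    rw [Subgroup.mem_centralizer_iff] at h2
    exact (h2 g (Set.mem_singleton g)).symm
  -- the centralizer of E has order dividing p
  have hZD : Subgroup.center G ≤ Subgroup.centralizer (E : Set G) :=
    Subgroup.center_le_centralizer _
  have hDcard : Nat.card (Subgroup.centralizer (E : Set G)) ∣ p := by
    obtain ⟨j, hj3, hj⟩ := (Nat.dvd_prime_pow hp).1 (hE ▸ Subgroup.card_dvd_of_le hC)
    have hM : Subgroup.centralizer (E : Set G) ≤ Subgroup.centralizer ({a} : Set G) ⊓ E := by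
      refine le_inf ?_ hC
      exact Subgroup.centralizer_le (by simpa using ha)
    obtain ⟨i, hi3, hi⟩ := (Nat.dvd_prime_pow hp).1 (hE ▸ Subgroup.card_dvd_of_le
      (inf_le_right : Subgroup.centralizer ({a} : Set G) ⊓ E ≤ E))
    have hi2 : i ≠ 3 := by
      intro hi3'
      rw [hi3'] at hi
      have h1 : Subgroup.centralizer ({a} : Set G) ⊓ E = E :=
        Subgroup.eq_of_le_of_card_ge inf_le_right (by rw [hE, hi])
      have hb' : b ∈ Subgroup.centralizer ({a} : Set G) ⊓ E := by
        rw [h1]
        exact hb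
      have hb'' := (Subgroup.mem_inf.1 hb').1
      rw [Subgroup.mem_centralizer_iff] at hb''
      exact hab (hb'' a (Set.mem_singleton a))
    have hji : j ≤ i := by
      have h1 := Subgroup.card_dvd_of_le hM
      rw [hj, hi] at h1
      exact (Nat.pow_dvd_pow_iff_le_right hp.one_lt).1 h1
    have hj1 : j ≠ 2 := by
      intro hj2
      have hi' : i = 2 := by omega
      rw [hj2] at hj
      rw [hi'] at hi
      have h1 : Subgroup.centralizer (E : Set G) = Subgroup.centralizer ({a} : Set G) ⊓ E :=
        Subgroup.eq_of_le_of_card_ge hM (by rw [hj, hi])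
      have haD : a ∈ Subgroup.centralizer (E : Set G) := by
        rw [h1, Subgroup.mem_inf]
        refine ⟨?_, ha⟩
        rw [Subgroup.mem_centralizer_iff]
        intro y hy
        rw [Set.mem_singleton_iff] at hy
        rw [hy]
      rw [Subgroup.mem_centralizer_iff] at haD
      exact hab (haD b hb).symm
    have hj' : j ≤ 1 := by omega
    rw [hj]
    calc p ^ j ∣ p ^ 1 := pow_dvd_pow p hj'
      _ = p := pow_one p
  have hZnt : Nontrivial (Subgroup.center G) := hPG.center_nontrivial
  have hZcard : Nat.card (Subgroup.center G) = p := by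
    have h1 : Nat.card (Subgroup.center G) ∣ p := (Subgroup.card_dvd_of_le hZD).trans hDcard
    rcases (Nat.dvd_prime hp).1 h1 with h | h
    · exfalso
      have h2 := Finite.one_lt_card_iff_nontrivial.2 hZnt
      omega
    · exact h
  have hDeq : Subgroup.centralizer (E : Set G) = Subgroup.center G := by
    symm
    apply Subgroup.eq_of_le_of_card_ge hZD
    rw [hZcard]
    exact Nat.le_of_dvd hp.pos hDcard
  have hZE : Subgroup.center G ≤ E := hZD.trans hC
  -- commutators of E are central
  have hCC : ∀ u ∈ E, ∀ v ∈ E, u * v * u⁻¹ * v⁻¹ ∈ Subgroup.center G := by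
    intro u hu v hv
    haveI hNn : ((Subgroup.center G).subgroupOf E).Normal := Subgroup.normal_subgroupOf
    have hNcard : Nat.card ((Subgroup.center G).subgroupOf E) = p := by
      rw [← hZcard]
      exact Nat.card_congr (Subgroup.subgroupOfEquivOfLe hZE).toEquiv
    have hQ : Nat.card (↥E ⧸ (Subgroup.center G).subgroupOf E) = p ^ 2 := by
      have h1 := Subgroup.card_eq_card_quotient_mul_card_subgroup
        ((Subgroup.center G).subgroupOf E)
      rw [hE, hNcard] at h1
      exact Nat.eq_of_mul_eq_mul_right hp.pos (by rw [← h1]; ring)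
    have hcomm := IsPGroup.commutative_of_card_eq_prime_sq hQ
    have h1 := hcomm (QuotientGroup.mk ⟨v⁻¹, E.inv_mem hv⟩) (QuotientGroup.mk ⟨u⁻¹, E.inv_mem hu⟩)
    rw [← QuotientGroup.mk_mul, ← QuotientGroup.mk_mul, QuotientGroup.eq] at h1
    have h2 : (v⁻¹ * u⁻¹)⁻¹ * (u⁻¹ * v⁻¹) ∈ Subgroup.center G := h1
    have h3 : u * v * u⁻¹ * v⁻¹ = (v⁻¹ * u⁻¹)⁻¹ * (u⁻¹ * v⁻¹) := by group
    rw [h3]
    exact h2
  -- an element of the second center
  haveI : Nontrivial (G ⧸ Subgroup.center G) := by
    rw [QuotientGroup.nontrivial_iff]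
    intro htop
    have h1 : a ∈ Subgroup.center G := htop ▸ Subgroup.mem_top a
    exact hab ((Subgroup.mem_center_iff.1 h1 b).symm)
  have hQP : IsPGroup p (G ⧸ Subgroup.center G) := hPG.to_quotient _
  haveI hQnt : Nontrivial (Subgroup.center (G ⧸ Subgroup.center G)) := hQP.center_nontrivial
  obtain ⟨q, hq⟩ := exists_ne (1 : Subgroup.center (G ⧸ Subgroup.center G))
  obtain ⟨w, hw⟩ := QuotientGroup.mk_surjective q.1
  have hwZ : w ∉ Subgroup.center G := by
    intro hmem
    apply hq
    apply Subtype.ext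
    rw [← hw]
    exact (QuotientGroup.eq_one_iff w).2 hmem
  have hwq : ∀ g : G, (QuotientGroup.mk g : G ⧸ Subgroup.center G) * QuotientGroup.mk w
      = QuotientGroup.mk w * QuotientGroup.mk g := by
    intro g
    rw [hw]
    exact Subgroup.mem_center_iff.1 q.2 (QuotientGroup.mk g)
  have hwc : ∀ g : G, g * w * g⁻¹ * w⁻¹ ∈ Subgroup.center G := fun g =>
    (h47_comm_mem_center_iff g w).2 (hwq g)
  -- w lies in E
  have hwE : w ∈ E := by
    by_contra hwE
    have hEE1 : E ≤ E ⊔ Subgroup.zpowers w := le_sup_left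
    have hwE1 : w ∈ E ⊔ Subgroup.zpowers w :=
      (le_sup_right : Subgroup.zpowers w ≤ E ⊔ Subgroup.zpowers w) (Subgroup.mem_zpowers w)
    obtain ⟨m, hm, hm'⟩ := (Nat.dvd_prime_pow hp).1
      (hG ▸ Subgroup.card_subgroup_dvd_card (E ⊔ Subgroup.zpowers w))
    have hm4 : 4 ≤ m := by
      have h1 := Subgroup.card_dvd_of_le hEE1
      rw [hE, hm'] at h1
      have h3 : 3 ≤ m := (Nat.pow_dvd_pow_iff_le_right hp.one_lt).1 h1
      rcases Nat.lt_or_ge 3 m with h | h
      · exact h
      · exfalso
        have hm3 : m = 3 := le_antisymm h h3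
        have h4 : E = E ⊔ Subgroup.zpowers w :=
          Subgroup.eq_of_le_of_card_ge hEE1 (by rw [hE, hm', hm3])
        apply hwE
        rw [h4]
        exact hwE1
    have hcen : ∀ e ∈ E, ∀ g ∈ E ⊔ Subgroup.zpowers w,
        g * e * g⁻¹ * e⁻¹ ∈ Subgroup.center G := by
      intro e he g hg
      have hT : E ⊔ Subgroup.zpowers w ≤ Subgroup.comap (QuotientGroup.mk' (Subgroup.center G))
          (Subgroup.centralizer ({(QuotientGroup.mk e : G ⧸ Subgroup.center G)} : Set _)) := by
        apply sup_le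
        · intro u hu
          rw [Subgroup.mem_comap, Subgroup.mem_centralizer_iff]
          intro y hy
          rw [Set.mem_singleton_iff] at hy
          rw [hy]
          exact ((h47_comm_mem_center_iff u e).1 (hCC u hu e he)).symm
        · rw [Subgroup.zpowers_le, Subgroup.mem_comap, Subgroup.mem_centralizer_iff]
          intro y hy
          rw [Set.mem_singleton_iff] at hy
          rw [hy]
          exact hwq e
      have h1 := hT hg
      rw [Subgroup.mem_comap, Subgroup.mem_centralizer_iff] at h1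
      exact (h47_comm_mem_center_iff g e).2 (h1 _ (Set.mem_singleton _)).symm
    have hra := h47_relIndex_centralizer_le (E ⊔ Subgroup.zpowers w) a (hcen a ha)
    have hrb := h47_relIndex_centralizer_le (E ⊔ Subgroup.zpowers w) b (hcen b hb)
    rw [hZcard] at hra hrb
    have hrab : (Subgroup.centralizer ({a} : Set G) ⊓ Subgroup.centralizer ({b} : Set G)).relIndex
        (E ⊔ Subgroup.zpowers w) ≤ p * p :=
      le_trans Subgroup.relIndex_inf_le (Nat.mul_le_mul hra hrb)
    have hcardE1 := h47_card_eq_inf_mul_relIndex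
      (Subgroup.centralizer ({a} : Set G) ⊓ Subgroup.centralizer ({b} : Set G))
      (E ⊔ Subgroup.zpowers w)
    have hle : Nat.card ((Subgroup.centralizer ({a} : Set G) ⊓ Subgroup.centralizer ({b} : Set G))
        ⊓ (E ⊔ Subgroup.zpowers w) : Subgroup G) ≤ p := by
      calc _ ≤ Nat.card (Subgroup.centralizer (E : Set G)) :=
            Subgroup.card_le_of_le (inf_le_left.trans (hgen a ha b hb hab))
        _ = p := by rw [hDeq, hZcard]
    have h5 : p ^ m ≤ p * (p * p) := by
      rw [← hm', hcardE1]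
      exact Nat.mul_le_mul hle hrab
    have h4 : p ^ 4 ≤ p ^ m := Nat.pow_le_pow_right hp.pos hm4
    have h6 : p ^ 3 < p ^ 4 := Nat.pow_lt_pow_right hp.one_lt (by norm_num)
    have h7 : p * (p * p) = p ^ 3 := by ring
    omega
  -- pick x in E not commuting with w
  obtain ⟨x, hx, hxw⟩ : ∃ x ∈ E, x * w ≠ w * x := by
    by_contra hcon
    push Not at hcon
    apply hwZ
    rw [← hDeq, Subgroup.mem_centralizer_iff]
    exact fun e he => hcon e he
  refine ⟨x, hexp x hx, ?_⟩
  have hr := h47_relIndex_centralizer_le (Subgroup.centralizer ({x} : Set G)) w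
    (fun g _ => hwc g)
  rw [hZcard] at hr
  have hcard := h47_card_eq_inf_mul_relIndex (Subgroup.centralizer ({w} : Set G))
    (Subgroup.centralizer ({x} : Set G))
  have hle : Nat.card (Subgroup.centralizer ({w} : Set G) ⊓ Subgroup.centralizer ({x} : Set G)
      : Subgroup G) ≤ p := by
    calc _ ≤ Nat.card (Subgroup.centralizer (E : Set G)) :=
          Subgroup.card_le_of_le (hgen w hwE x hx (Ne.symm hxw))
      _ = p := by rw [hDeq, hZcard]
  have hub : Nat.card (Subgroup.centralizer ({x} : Set G)) ≤ p * p := by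
    rw [hcard]
    exact Nat.mul_le_mul hle hr
  obtain ⟨j, hj, hj'⟩ := (Nat.dvd_prime_pow hp).1
    (hG ▸ Subgroup.card_subgroup_dvd_card (Subgroup.centralizer ({x} : Set G)))
  have hj2 : j ≤ 2 := by
    by_contra hcon
    push Not at hcon
    have h1 : p ^ 3 ≤ p ^ j := Nat.pow_le_pow_right hp.pos hcon
    rw [hj'] at hub
    have h3 : p ^ 2 < p ^ 3 := Nat.pow_lt_pow_right hp.one_lt (by norm_num)
    have h4 : p * p = p ^ 2 := by ring
    omega
  have hj1 : 2 ≤ j := by
    by_contra hcon
    push Not at hcon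
    have hZx : Subgroup.center G ≤ Subgroup.centralizer ({x} : Set G) :=
      Subgroup.center_le_centralizer _
    have hxc : Nat.card (Subgroup.centralizer ({x} : Set G)) ≤ Nat.card (Subgroup.center G) := by
      rw [hj', hZcard]
      calc p ^ j ≤ p ^ 1 := Nat.pow_le_pow_right hp.pos (by omega)
        _ = p := pow_one p
    have heq := Subgroup.eq_of_le_of_card_ge hZx hxc
    have hxZ : x ∈ Subgroup.center G := by
      rw [heq, Subgroup.mem_centralizer_iff]
      intro y hy
      rw [Set.mem_singleton_iff] at hy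
      rw [hy]
    exact hxw ((Subgroup.mem_center_iff.1 hxZ w).symm)
  have hj3 : j = 2 := le_antisymm hj2 hj1
  rw [hj', hj3]

end Cfsg.Agent.Lib.helper88.PearlF
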