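import Mathlib
import Cfsg.Agent.Lib.helper57.SfoBINCNT

set_option autoImplicit false

namespace Cfsg.Agent.Lib.helper2

open Cfsg.Geo Matrix

theorem h47_qfc_bin_minus_count {F : Type*} [Field F] [Fintype F] (h2 : (2 : F) ≠ 0) (a b : F)
    (hab : ∀ x y : F, x ^ 2 + a * x * y + b * y ^ 2 = 0 → x = 0 ∧ y = 0) :
    Nat.card {z : Fin 2 → F // z 0 ^ 2 + a * z 0 * z 1 + b * z 1 ^ 2 = 1} = Fintype.card F + 1 := by
  classical
  obtain ⟨h, hh⟩ : ∃ h : F, a = 2 * h := ⟨a / 2, by field_simp⟩
  subst hh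
  obtain ⟨c, hc⟩ : ∃ c : F, c = b - h ^ 2 := ⟨_, rfl⟩
  have hc0 : c ≠ 0 := by
    intro h0
    have h1 := (hab (-h) 1 (by rw [hc] at h0; linear_combination h0)).2
    exact one_ne_zero h1
  obtain ⟨e, he, hcnt, hzero⟩ := Cfsg.Agent.Lib.helper24.sfo_bin_count h2 1 c one_ne_zero hc0
  have hz1 : (Finset.univ.filter (fun p : F × F => 1 * p.1 ^ 2 + c * p.2 ^ 2 = 0)) = {(0, 0)} := by
    ext ⟨x, y⟩
    simp only [Finset.mem_filter, Finset.mem_univ, true_and, Finset.mem_singleton, Prod.mk.injEq]
    constructor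
    · intro hxy
      obtain ⟨h1, h3⟩ := hab (x - h * y) y (by rw [hc] at hxy; linear_combination hxy)
      subst h3
      refine ⟨?_, rfl⟩
      simpa using h1
    · rintro ⟨rfl, rfl⟩
      simp
  rw [hz1, Finset.card_singleton] at hzero
  have hq : 2 ≤ Fintype.card F := Fintype.one_lt_card
  have he' : e = -1 := by
    rcases he with he | he
    · exfalso
      rw [he] at hzero
      have : ((Fintype.card F : ℕ) : ℤ) = 1 := by push_cast at hzero ⊢; linarith
      have h5 : Fintype.card F = 1 := by exact_mod_cast this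
      omega
    · exact he
  have h1 := hcnt 1 one_ne_zero
  rw [he'] at h1
  have h6 : (Finset.univ.filter (fun p : F × F => 1 * p.1 ^ 2 + c * p.2 ^ 2 = 1)).card =
      Fintype.card F + 1 := by
    have : (((Finset.univ.filter (fun p : F × F => 1 * p.1 ^ 2 + c * p.2 ^ 2 = 1)).card : ℕ) : ℤ) =
        ((Fintype.card F + 1 : ℕ) : ℤ) := by
      rw [h1]; push_cast; ring
    exact_mod_cast this
  rw [← h6, ← Fintype.card_subtype, ← Nat.card_eq_fintype_card]
  refine Nat.card_congr
    { toFun := fun z => ⟨(z.1 0 + h * z.1 1, z.1 1), by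
        have := z.2
        show 1 * (z.1 0 + h * z.1 1) ^ 2 + c * (z.1 1) ^ 2 = 1
        rw [hc]; linear_combination this⟩
      invFun := fun p => ⟨![p.1.1 - h * p.1.2, p.1.2], by
        have := p.2
        simp only [Matrix.cons_val_zero, Matrix.cons_val_one]
        linear_combination this - p.1.2 ^ 2 * hc⟩
      left_inv := ?_
      right_inv := ?_ }
  · intro z
    apply Subtype.ext
    funext i
    fin_cases i <;> simp
  · intro p
    apply Subtype.ext
    ext <;> simp

end Cfsg.Agent.Lib.helper2
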