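import Mathlib
import Cfsg.Agent.Lib.helper24.SfoDefs

/-!
# S5981, piece BINCNT (racer copy by helper47): the number of solutions of `a x² + b y² = t`
over a finite field of odd characteristic, via the quadratic character and the Jacobi sum.
-/

set_option autoImplicit false

namespace Cfsg.Agent.Lib.helper24

open Module Matrix Cfsg.Geo

theorem h47_ringChar_ne_two {F : Type*} [Field F] (h2 : (2 : F) ≠ 0) : ringChar F ≠ 2 := by
  intro h
  apply h2
  have h0 := ringChar.Nat.cast_ringChar (R := F)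
  rw [h] at h0
  exact_mod_cast h0

theorem h47_card_sq {F : Type*} [Field F] [Fintype F] [DecidableEq F] (hF : ringChar F ≠ 2)
    (u : F) :
    ((Finset.univ.filter (fun x : F => x ^ 2 = u)).card : ℤ) = quadraticChar F u + 1 := by
  rw [← quadraticChar_card_sqrts hF u]
  congr 2
  ext x
  simp

theorem h47_sum_sq {F : Type*} [Field F] [Fintype F] [DecidableEq F] (hF : ringChar F ≠ 2)
    (g : F → ℤ) :
    ∑ x : F, g (x ^ 2) = ∑ u : F, (quadraticChar F u + 1) * g u := by
  rw [← Finset.sum_fiberwise_of_maps_to (s := Finset.univ) (t := Finset.univ)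
    (g := fun x : F => x ^ 2) (fun x _ => Finset.mem_univ _) (fun x => g (x ^ 2))]
  refine Finset.sum_congr rfl (fun u _ => ?_)
  have h1 : ∀ x ∈ Finset.univ.filter (fun x : F => x ^ 2 = u), g (x ^ 2) = g u := by
    intro x hx
    rw [(Finset.mem_filter.1 hx).2]
  rw [Finset.sum_congr rfl h1, Finset.sum_const, nsmul_eq_mul, h47_card_sq hF u]

theorem h47_card_y {F : Type*} [Field F] [Fintype F] [DecidableEq F] (hF : ringChar F ≠ 2)
    (b : F) (hb : b ≠ 0) (c : F) :
    ((Finset.univ.filter (fun y : F => b * y ^ 2 = c)).card : ℤ) =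
      quadraticChar F (c / b) + 1 := by
  rw [← h47_card_sq hF (c / b)]
  congr 2
  ext y
  simp only [Finset.mem_filter, Finset.mem_univ, true_and]
  rw [eq_div_iff hb, mul_comm]

theorem h47_count_eq {F : Type*} [Field F] [Fintype F] [DecidableEq F] (hF : ringChar F ≠ 2)
    (a b : F) (hb : b ≠ 0) (t : F) :
    ((Finset.univ.filter (fun p : F × F => a * p.1 ^ 2 + b * p.2 ^ 2 = t)).card : ℤ) =
      ∑ u : F, (quadraticChar F u + 1) * (quadraticChar F ((t - a * u) / b) + 1) := by
  have h := h47_sum_sq hF (fun u => quadraticChar F ((t - a * u) / b) + 1)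
  beta_reduce at h
  rw [← h, Finset.card_filter, Fintype.sum_prod_type]
  push_cast
  refine Finset.sum_congr rfl (fun x _ => ?_)
  rw [← h47_card_y hF b hb (t - a * x ^ 2), Finset.card_filter]
  push_cast
  refine Finset.sum_congr rfl (fun y _ => ?_)
  have hiff : (a * x ^ 2 + b * y ^ 2 = t) ↔ (b * y ^ 2 = t - a * x ^ 2) := by
    constructor <;> intro h <;> linear_combination h
  show (if a * x ^ 2 + b * y ^ 2 = t then (1 : ℤ) else 0) =
    if b * y ^ 2 = t - a * x ^ 2 then 1 else 0
  by_cases h' : a * x ^ 2 + b * y ^ 2 = t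
  · rw [if_pos h', if_pos (hiff.1 h')]
  · rw [if_neg h', if_neg (fun h'' => h' (hiff.2 h''))]

/-- BINCNT (racer copy, verbatim statement) -/
theorem h47_sfo_bin_count {F : Type*} [Field F] [Fintype F] [DecidableEq F] (h2 : (2 : F) ≠ 0)
    (a b : F) (ha : a ≠ 0) (hb : b ≠ 0) :
    ∃ e : ℤ, (e = 1 ∨ e = -1) ∧
      (∀ t : F, t ≠ 0 →
        ((Finset.univ.filter (fun p : F × F => a * p.1 ^ 2 + b * p.2 ^ 2 = t)).card : ℤ) =
          (Fintype.card F : ℤ) - e) ∧
      ((Finset.univ.filter (fun p : F × F => a * p.1 ^ 2 + b * p.2 ^ 2 = 0)).card : ℤ) =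
        (Fintype.card F : ℤ) + ((Fintype.card F : ℤ) - 1) * e := by
  have hF := h47_ringChar_ne_two h2
  obtain ⟨χ, hχ⟩ : ∃ χ : MulChar F ℤ, χ = quadraticChar F := ⟨_, rfl⟩
  have hsum0 : ∑ u : F, χ u = 0 := by rw [hχ]; exact quadraticChar_sum_zero hF
  have hsq : ∀ w : F, w ≠ 0 → χ w * χ w = 1 := by
    intro w hw
    have := quadraticChar_sq_one hw
    rw [hχ, ← pow_two]
    exact this
  have hz : χ 0 = 0 := by rw [hχ]; exact MulChar.map_zero _
  have hJ : ∑ x : F, χ x * χ (1 - x) = - χ (-1) := by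
    have h := jacobiSum_nontrivial_inv (quadraticChar_ne_one hF)
    rw [(quadraticChar_isQuadratic F).inv] at h
    rw [hχ]
    exact h
  have hdich : ∀ w : F, w ≠ 0 → χ w = 1 ∨ χ w = -1 := by
    intro w hw
    rw [hχ]
    exact quadraticChar_dichotomy hw
  have hexp : ∀ t : F,
      ((Finset.univ.filter (fun p : F × F => a * p.1 ^ 2 + b * p.2 ^ 2 = t)).card : ℤ) =
        χ a⁻¹ * χ b⁻¹ * (∑ w : F, χ w * χ (t - w)) + Fintype.card F := by
    intro t
    rw [h47_count_eq hF a b hb t, ← hχ]
    have e1 : ∀ u : F, (χ u + 1) * (χ ((t - a * u) / b) + 1) =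
        χ u * χ ((t - a * u) / b) + χ u + χ ((t - a * u) / b) + 1 := by
      intro u; ring
    rw [Finset.sum_congr rfl (fun u _ => e1 u)]
    rw [Finset.sum_add_distrib, Finset.sum_add_distrib, Finset.sum_add_distrib, hsum0]
    have e2 : ∑ u : F, χ ((t - a * u) / b) = 0 := by
      rw [← hsum0]
      refine Fintype.sum_bijective (fun u : F => (t - a * u) / b) ?_ _ _ (fun u => rfl)
      refine Function.bijective_iff_has_inverse.2 ⟨fun w => (t - b * w) / a, ?_, ?_⟩
      · intro u
        show (t - b * ((t - a * u) / b)) / a = u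
        field_simp
        ring
      · intro w
        show (t - a * ((t - b * w) / a)) / b = w
        field_simp
        ring
    have e3 : ∑ u : F, χ u * χ ((t - a * u) / b) =
        χ a⁻¹ * χ b⁻¹ * ∑ w : F, χ w * χ (t - w) := by
      rw [Finset.mul_sum]
      refine Fintype.sum_bijective (fun u : F => a * u) ?_ _ _ (fun u => ?_)
      · refine Function.bijective_iff_has_inverse.2 ⟨fun w => w / a, ?_, ?_⟩
        · intro u
          show a * u / a = u
          field_simp
        · intro w
          show a * (w / a) = w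
          field_simp
      · show χ u * χ ((t - a * u) / b) = χ a⁻¹ * χ b⁻¹ * (χ (a * u) * χ (t - a * u))
        rw [div_eq_mul_inv, map_mul, map_mul]
        have h1 : χ a⁻¹ * χ a = 1 := by rw [← map_mul, inv_mul_cancel₀ ha, map_one]
        linear_combination (-(χ u * χ (t - a * u) * χ b⁻¹)) * h1
    rw [e2, e3, Finset.sum_const, Finset.card_univ, nsmul_eq_mul]
    ring
  have hT0 : ∑ w : F, χ w * χ (0 - w) = χ (-1) * ((Fintype.card F : ℤ) - 1) := by
    have e1 : ∀ w ∈ (Finset.univ : Finset F).erase 0, χ w * χ (0 - w) = χ (-1) := by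
      intro w hw
      have hw0 : w ≠ 0 := Finset.ne_of_mem_erase hw
      have h1 : (0 : F) - w = -1 * w := by ring
      rw [h1, map_mul]
      have h3 := hsq w hw0
      linear_combination χ (-1) * h3
    have h0 : χ 0 * χ (0 - 0) = 0 := by rw [hz, zero_mul]
    have h3 : ∑ w : F, χ w * χ (0 - w) =
        ∑ w ∈ (Finset.univ : Finset F).erase 0, χ w * χ (0 - w) :=
      (Finset.sum_erase (s := Finset.univ) (f := fun w : F => χ w * χ (0 - w)) (a := (0 : F))
        h0).symm
    rw [h3, Finset.sum_congr rfl e1, Finset.sum_const,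
      Finset.card_erase_of_mem (Finset.mem_univ _), Finset.card_univ, nsmul_eq_mul]
    have hpos : 1 ≤ Fintype.card F := Fintype.card_pos
    push_cast [Nat.cast_sub hpos]
    ring
  have hT : ∀ t : F, t ≠ 0 → ∑ w : F, χ w * χ (t - w) = - χ (-1) := by
    intro t ht
    rw [← hJ]
    symm
    refine Fintype.sum_bijective (fun x : F => t * x) ?_ _ _ (fun x => ?_)
    · refine Function.bijective_iff_has_inverse.2 ⟨fun w => w / t, ?_, ?_⟩
      · intro x
        show t * x / t = x
        field_simp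
      · intro w
        show t * (w / t) = w
        field_simp
    · show χ x * χ (1 - x) = χ (t * x) * χ (t - t * x)
      have h1 : t - t * x = t * (1 - x) := by ring
      rw [h1, map_mul, map_mul]
      have h3 := hsq t ht
      linear_combination (-(χ x * χ (1 - x))) * h3
  have he : χ a⁻¹ * χ b⁻¹ * χ (-1) = χ (a⁻¹ * b⁻¹ * (-1)) := by rw [map_mul, map_mul]
  refine ⟨χ a⁻¹ * χ b⁻¹ * χ (-1), ?_, ?_, ?_⟩
  · rw [he]
    exact hdich _ (mul_ne_zero (mul_ne_zero (inv_ne_zero ha) (inv_ne_zero hb))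
      (neg_ne_zero.2 one_ne_zero))
  · intro t ht
    rw [hexp t, hT t ht]
    ring
  · rw [hexp 0, hT0]
    ring

end Cfsg.Agent.Lib.helper24
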