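import Mathlib
import Cfsg.Prelude.Def_GeometricClasses
import Cfsg.Agent.Lib.helper24.SfoDefs
import Cfsg.Agent.Lib.helper47.SfoBINCNT

set_option autoImplicit false

namespace Cfsg.Agent.Lib.helper2

open Cfsg.Geo Matrix Cfsg.Agent.Lib.helper24

theorem h47_qfu_split_last {E : Type*} [Field E] [Fintype E] [DecidableEq E] {m : ℕ} (c : E) :
    sfoCount (fun x : Fin (m + 1) → E => ∑ j, (if j = Fin.last m then c else 1) * x j ^ 2) 1 =
      ∑ y : Fin m → E, (Finset.univ.filter (fun t : E => c * t ^ 2 = 1 - ∑ i, y i ^ 2)).card := by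
  unfold sfoCount
  rw [Nat.card_eq_fintype_card, Fintype.card_subtype, Finset.card_filter]
  rw [← Equiv.sum_comp (Fin.snocEquiv (fun _ : Fin (m + 1) => E))]
  rw [Fintype.sum_prod_type, Finset.sum_comm]
  refine Finset.sum_congr rfl (fun y _ => ?_)
  rw [Finset.card_filter]
  refine Finset.sum_congr rfl (fun t _ => ?_)
  have h1 : (∑ j, (if j = Fin.last m then c else 1) *
      (Fin.snocEquiv (fun _ : Fin (m + 1) => E) (t, y)) j ^ 2) = ∑ i, y i ^ 2 + c * t ^ 2 := by
    rw [Fin.sum_univ_castSucc]
    simp [Fin.snocEquiv, Fin.castSucc_ne_last]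
  dsimp only
  rw [h1]
  by_cases h : c * t ^ 2 = 1 - ∑ i, y i ^ 2
  · rw [if_pos h, if_pos (by rw [h]; ring)]
  · rw [if_neg h, if_neg (fun h' => h (by rw [← h']; ring))]

theorem h47_qfu_diag_count_sum {E : Type*} [Field E] [Fintype E] {m : ℕ} (h2 : (2 : E) ≠ 0)
    (c c' : E) (hc : c ≠ 0) (hc' : c' ≠ 0) (hns : ∀ s : E, c ≠ s ^ 2 * c') :
    sfoCount (fun x : Fin (m + 1) → E => ∑ j, (if j = Fin.last m then c else 1) * x j ^ 2) 1 +
      sfoCount (fun x : Fin (m + 1) → E => ∑ j, (if j = Fin.last m then c' else 1) * x j ^ 2) 1 =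
      2 * Fintype.card E ^ m := by
  classical
  have hF : ringChar E ≠ 2 := by
    intro h
    apply h2
    have h3 := CharP.cast_eq_zero E (ringChar E)
    rw [h] at h3
    exact_mod_cast h3
  have hχ : quadraticChar E c + quadraticChar E c' = 0 := by
    have h1 : ¬ IsSquare (c / c') := by
      rintro ⟨s, hs⟩
      apply hns s
      rw [div_eq_iff hc'] at hs
      rw [hs]; ring
    have h3 : quadraticChar E (c / c') = -1 := quadraticChar_neg_one_iff_not_isSquare.mpr h1
    have h4 : c = c / c' * c' := by field_simp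
    have h5 : quadraticChar E c = quadraticChar E (c / c') * quadraticChar E c' := by
      rw [← map_mul, ← h4]
    rw [h5, h3]; ring
  have hdiv : ∀ (a : E), a ≠ 0 → ∀ u : E,
      ((Finset.univ.filter (fun t : E => a * t ^ 2 = u)).card : ℤ) =
        quadraticChar E u * quadraticChar E a + 1 := by
    intro a ha u
    have e1 : (Finset.univ.filter (fun t : E => a * t ^ 2 = u)) =
        (Finset.univ.filter (fun t : E => t ^ 2 = u / a)) := by
      ext t
      simp only [Finset.mem_filter, Finset.mem_univ, true_and]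
      rw [eq_div_iff ha, mul_comm]
    rw [e1, Cfsg.Agent.Lib.helper24.h47_card_sq hF]
    have e2 : u / a = u * a * (a⁻¹) ^ 2 := by field_simp
    rw [e2, map_mul, map_mul, quadraticChar_sq_one' (inv_ne_zero ha), mul_one]
  have key : ∀ u : E, (Finset.univ.filter (fun t : E => c * t ^ 2 = u)).card +
      (Finset.univ.filter (fun t : E => c' * t ^ 2 = u)).card = 2 := by
    intro u
    have h1 := hdiv c hc u
    have h3 := hdiv c' hc' u
    have h4 : (((Finset.univ.filter (fun t : E => c * t ^ 2 = u)).card +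
        (Finset.univ.filter (fun t : E => c' * t ^ 2 = u)).card : ℕ) : ℤ) = ((2 : ℕ) : ℤ) := by
      push_cast
      rw [h1, h3]
      linear_combination quadraticChar E u * hχ
    exact_mod_cast h4
  rw [h47_qfu_split_last c, h47_qfu_split_last c', ← Finset.sum_add_distrib]
  simp only [key]
  simp [Finset.sum_const, Finset.card_univ]
  ring

end Cfsg.Agent.Lib.helper2
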