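import Mathlib

/-! S2113 split project (architect helper51), piece TWOC (racer copy by helper47): the preimage of a
`2^3` with a fixed-point-free element of order 7 in a central extension is abelian. -/

set_option autoImplicit false

namespace Cfsg.Agent.Lib.helper47.S2113

open scoped commutatorElement

theorem helper47_comm_mul_left_id {Γ : Type*} [Group Γ] (a b c : Γ) :
    ⁅a * b, c⁆ = a * ⁅b, c⁆ * a⁻¹ * ⁅a, c⁆ := by
  simp only [commutatorElement_def]; group

theorem helper47_comm_mul_right_id {Γ : Type*} [Group Γ] (a b c : Γ) :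
    ⁅a, b * c⁆ = ⁅a, b⁆ * (b * ⁅a, c⁆ * b⁻¹) := by
  simp only [commutatorElement_def]; group

theorem helper47_comm_conj_id {Γ : Type*} [Group Γ] (c a b : Γ) :
    ⁅c * a * c⁻¹, c * b * c⁻¹⁆ = c * ⁅a, b⁆ * c⁻¹ := by
  simp only [commutatorElement_def]; group

/-- PIECE TWOC: the preimage of such a `2³` in a central extension is abelian. -/
theorem helper47_two_comm {G Γ : Type*} [Group G] [Group Γ] (σ : Γ →* G) (hsurj : Function.Surjective σ)
    (hc : σ.ker ≤ Subgroup.center Γ) (S : Subgroup G) (hcard : Nat.card S = 8)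
    (hexp : ∀ x ∈ S, x * x = 1) (g : G) (hg : ∀ x ∈ S, g * x * g⁻¹ ∈ S) (hg7 : g ^ 7 = 1)
    (hfix : ∀ x ∈ S, g * x * g⁻¹ = x → x = 1)
    (hF : ∀ (f : ZMod 7 → Γ) (j : ZMod 7), (∀ a b, f a * f b = f b * f a) → f 0 = 1 →
      (∀ k, f k * f k = 1) → (∀ k, f (-k) = f k) → j ≠ 0 → j ≠ 1 →
      (∀ i, f (i + j) = f i * f (i + 1)) → ∀ k, f k = 1)
    (x y : Γ) (hx : σ x ∈ S) (hy : σ y ∈ S) : x * y = y * x := by
  classical
  have : Fact (Nat.Prime 7) := ⟨by norm_num⟩
  have hSfin : Finite S := Nat.finite_of_card_ne_zero (by rw [hcard]; norm_num)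
  -- S is abelian
  have hSinv : ∀ a ∈ S, a⁻¹ = a := fun a ha => inv_eq_of_mul_eq_one_left (hexp a ha)
  have hSab : ∀ a ∈ S, ∀ b ∈ S, a * b = b * a := by
    intro a ha b hb
    have h1 := hSinv (a * b) (S.mul_mem ha hb)
    rw [mul_inv_rev, hSinv a ha, hSinv b hb] at h1
    exact h1.symm
  -- central elements
  have hker : ∀ z : Γ, σ z = 1 → ∀ w : Γ, w * z = z * w := fun z hz w =>
    (Subgroup.mem_center_iff.mp (hc (MonoidHom.mem_ker.mpr hz))) w
  have hcen : ∀ x y : Γ, σ x ∈ S → σ y ∈ S → ∀ w : Γ, w * ⁅x, y⁆ = ⁅x, y⁆ * w := by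
    intro x y hx hy
    apply hker
    rw [map_commutatorElement, commutatorElement_eq_one_iff_mul_comm]
    exact hSab _ hx _ hy
  have hconjc : ∀ x y : Γ, σ x ∈ S → σ y ∈ S → ∀ w : Γ, w * ⁅x, y⁆ * w⁻¹ = ⁅x, y⁆ := by
    intro x y hx hy w
    rw [hcen x y hx hy w, mul_inv_cancel_right]
  -- independence of the lifts
  have hlift : ∀ x x' y y' : Γ, σ x = σ x' → σ y = σ y' → ⁅x', y'⁆ = ⁅x, y⁆ := by
    intro x x' y y' hx hy
    have hz : ∀ w : Γ, w * (x⁻¹ * x') = (x⁻¹ * x') * w :=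
      hker _ (by rw [map_mul, map_inv, hx, inv_mul_cancel])
    have hw : ∀ v : Γ, v * (y⁻¹ * y') = (y⁻¹ * y') * v :=
      hker _ (by rw [map_mul, map_inv, hy, inv_mul_cancel])
    have e1 : x' = x * (x⁻¹ * x') := by group
    have e2 : y' = y * (y⁻¹ * y') := by group
    have c1 : ⁅x⁻¹ * x', y'⁆ = 1 := by
      rw [commutatorElement_eq_one_iff_mul_comm]; exact (hz y').symm
    have c2 : ⁅x, y⁻¹ * y'⁆ = 1 := by
      rw [commutatorElement_eq_one_iff_mul_comm]; exact hw x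
    calc ⁅x', y'⁆ = ⁅x * (x⁻¹ * x'), y'⁆ := by rw [← e1]
      _ = ⁅x, y'⁆ := by rw [helper47_comm_mul_left_id, c1]; group
      _ = ⁅x, y * (y⁻¹ * y')⁆ := by rw [← e2]
      _ = ⁅x, y⁆ := by rw [helper47_comm_mul_right_id, c2]; group
  -- the pairing on G through a section
  obtain ⟨ℓ, hℓ⟩ : ∃ ℓ : G → Γ, ∀ a, σ (ℓ a) = a :=
    ⟨Function.surjInv hsurj, Function.surjInv_eq hsurj⟩
  obtain ⟨β, hβdef⟩ : ∃ β : G → G → Γ, ∀ a b, β a b = ⁅ℓ a, ℓ b⁆ := ⟨_, fun _ _ => rfl⟩
  have hβ : ∀ x y : Γ, ⁅x, y⁆ = β (σ x) (σ y) := by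
    intro x y
    rw [hβdef]
    exact hlift _ _ _ _ (hℓ _) (hℓ _)
  have hβcen : ∀ a ∈ S, ∀ b ∈ S, ∀ w : Γ, w * β a b = β a b * w := by
    intro a ha b hb
    rw [hβdef]
    exact hcen _ _ (by rw [hℓ]; exact ha) (by rw [hℓ]; exact hb)
  have hβone : ∀ a, β a 1 = 1 := by
    intro a
    rw [hβdef, commutatorElement_eq_one_iff_mul_comm]
    exact hker (ℓ 1) (hℓ 1) (ℓ a)
  have hβone' : ∀ a, β 1 a = 1 := by
    intro a
    rw [hβdef, commutatorElement_eq_one_iff_mul_comm]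
    exact (hker (ℓ 1) (hℓ 1) (ℓ a)).symm
  have hβmul : ∀ a ∈ S, ∀ b ∈ S, ∀ c ∈ S, β a (b * c) = β a b * β a c := by
    intro a ha b hb c hc'
    have h1 : β a (b * c) = ⁅ℓ a, ℓ b * ℓ c⁆ := by
      rw [hβdef]
      exact (hlift _ _ _ _ rfl (by rw [map_mul, hℓ, hℓ, hℓ])).symm
    rw [h1, helper47_comm_mul_right_id,
      hconjc (ℓ a) (ℓ c) (by rw [hℓ]; exact ha) (by rw [hℓ]; exact hc'), hβdef, hβdef]
  have hβsq : ∀ a ∈ S, ∀ b ∈ S, β a b * β a b = 1 := by
    intro a ha b hb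
    rw [← hβmul a ha b hb b hb, hexp b hb, hβone]
  have hβsymm : ∀ a ∈ S, ∀ b ∈ S, β b a = β a b := by
    intro a ha b hb
    have h1 : β b a = (β a b)⁻¹ := by rw [hβdef, hβdef, commutatorElement_inv]
    rw [h1]
    exact inv_eq_of_mul_eq_one_left (hβsq a ha b hb)
  have hβconj : ∀ h : G, ∀ a ∈ S, ∀ b ∈ S, β (h * a * h⁻¹) (h * b * h⁻¹) = β a b := by
    intro h a ha b hb
    have h1 : β (h * a * h⁻¹) (h * b * h⁻¹) = ⁅ℓ h * ℓ a * (ℓ h)⁻¹, ℓ h * ℓ b * (ℓ h)⁻¹⁆ := by
      rw [hβdef]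
      exact (hlift _ _ _ _ (by simp [hℓ]) (by simp [hℓ])).symm
    rw [h1, helper47_comm_conj_id,
      hconjc (ℓ a) (ℓ b) (by rw [hℓ]; exact ha) (by rw [hℓ]; exact hb), hβdef]
  -- the powers of g indexed by ZMod 7
  obtain ⟨u, hudef⟩ : ∃ u : ZMod 7 → G, ∀ k, u k = g ^ k.val := ⟨_, fun _ => rfl⟩
  have hu0 : u 0 = 1 := by rw [hudef, ZMod.val_zero, pow_zero]
  have hu1 : u 1 = g := by rw [hudef, ZMod.val_one, pow_one]
  have hu_add : ∀ i j, u (i + j) = u i * u j := by
    intro i j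
    rw [hudef, hudef, hudef, ZMod.val_add, ← pow_add]
    exact (pow_eq_pow_mod _ hg7).symm
  have hu_neg : ∀ k, u k * u (-k) = 1 := by
    intro k
    rw [← hu_add, add_neg_cancel, hu0]
  have hu_nsmul : ∀ (n : ℕ) (d : ZMod 7), u (n • d) = u d ^ n := by
    intro n d
    induction n with
    | zero => rw [zero_nsmul, hu0, pow_zero]
    | succ n ih => rw [succ_nsmul, hu_add, ih, pow_succ]
  have hgS : ∀ n : ℕ, ∀ s ∈ S, g ^ n * s * (g ^ n)⁻¹ ∈ S := by
    intro n
    induction n with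
    | zero => intro s hs; simpa using hs
    | succ n ih =>
      intro s hs
      have h1 := hg _ (ih s hs)
      have e : g ^ (n + 1) * s * (g ^ (n + 1))⁻¹ = g * (g ^ n * s * (g ^ n)⁻¹) * g⁻¹ := by
        rw [pow_succ']; group
      rw [e]; exact h1
  have huS : ∀ k, ∀ s ∈ S, u k * s * (u k)⁻¹ ∈ S := by
    intro k s hs
    rw [hudef]; exact hgS _ s hs
  -- main claim: β a s = 1 for a ≠ 1
  have hmain : ∀ a ∈ S, a ≠ 1 → ∀ s ∈ S, β a s = 1 := by
    intro a ha ha1
    obtain ⟨A, hAdef⟩ : ∃ A : ZMod 7 → G, ∀ k, A k = u k * a * (u k)⁻¹ := ⟨_, fun _ => rfl⟩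
    have hAS : ∀ k, A k ∈ S := fun k => by rw [hAdef]; exact huS k a ha
    have hA0 : A 0 = a := by rw [hAdef, hu0]; group
    have hAadd : ∀ i k, A (i + k) = u i * A k * (u i)⁻¹ := by
      intro i k
      rw [hAdef, hAdef, hu_add]; group
    have hA1 : ∀ k, A k ≠ 1 := by
      intro k hk
      rw [hAdef] at hk
      apply ha1
      have : a = (u k)⁻¹ * (u k * a * (u k)⁻¹) * u k := by group
      rw [this, hk]; group
    have hAinj : Function.Injective A := by
      intro i k hik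
      by_contra hne
      have hd : i - k ≠ 0 := sub_ne_zero.mpr hne
      have h1 : u (i - k) * A k * (u (i - k))⁻¹ = A k := by
        rw [← hAadd, sub_add_cancel, hik]
      have h2 : ∀ n : ℕ, u (i - k) ^ n * A k * (u (i - k) ^ n)⁻¹ = A k := by
        intro n
        induction n with
        | zero => group
        | succ n ih =>
          have e : u (i - k) ^ (n + 1) * A k * (u (i - k) ^ (n + 1))⁻¹
              = u (i - k) * (u (i - k) ^ n * A k * (u (i - k) ^ n)⁻¹) * (u (i - k))⁻¹ := by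
            rw [pow_succ']; group
          rw [e, ih, h1]
      have h3 : g = u (i - k) ^ ((i - k)⁻¹).val := by
        rw [← hu_nsmul, nsmul_eq_mul, ZMod.natCast_zmod_val, inv_mul_cancel₀ hd, hu1]
      have h4 := h2 ((i - k)⁻¹).val
      rw [← h3] at h4
      exact hA1 k (hfix _ (hAS k) h4)
    -- the 8 elements 1, A 0, ..., A 6 exhaust S
    obtain ⟨ψ, hψn, hψs⟩ : ∃ ψ : Option (ZMod 7) → S, (ψ none : G) = 1 ∧ ∀ k, (ψ (some k) : G) = A k :=
      ⟨fun o => Option.rec (1 : S) (fun k => ⟨A k, hAS k⟩) o, rfl, fun _ => rfl⟩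
    have hψinj : Function.Injective ψ := by
      intro o o' h
      have h' : (ψ o : G) = ψ o' := congrArg Subtype.val h
      rcases o with _ | k <;> rcases o' with _ | k'
      · rfl
      · rw [hψn, hψs] at h'; exact absurd h'.symm (hA1 k')
      · rw [hψn, hψs] at h'; exact absurd h' (hA1 k)
      · rw [hψs, hψs] at h'; rw [hAinj h']
    have hψbij : Function.Bijective ψ :=
      hψinj.bijective_of_nat_card_le (by rw [hcard]; simp [Nat.card_eq_fintype_card])
    have hcover : ∀ s ∈ S, s = 1 ∨ ∃ k, s = A k := by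
      intro s hs
      obtain ⟨o, ho⟩ := hψbij.2 ⟨s, hs⟩
      have ho' : (ψ o : G) = s := congrArg Subtype.val ho
      rcases o with _ | k
      · left; rw [← ho', hψn]
      · right; exact ⟨k, by rw [← ho', hψs]⟩
    -- the relation a * A 1 = A j
    have haA1 : a * A 1 ∈ S := S.mul_mem ha (hAS 1)
    have hj : ∃ j : ZMod 7, a * A 1 = A j ∧ j ≠ 0 ∧ j ≠ 1 := by
      rcases hcover _ haA1 with h | ⟨j, hj⟩
      · exfalso
        have h1 : A 1 = a := by
          have : A 1 = a⁻¹ := eq_inv_of_mul_eq_one_right h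
          rw [this, hSinv a ha]
        rw [← hA0] at h1
        exact one_ne_zero (hAinj h1)
      · refine ⟨j, hj, ?_, ?_⟩
        · rintro rfl
          rw [hA0] at hj
          exact hA1 1 (mul_left_cancel (a := a) (by rw [hj, mul_one]))
        · rintro rfl
          exact ha1 (mul_right_cancel (b := A 1) (by rw [hj, one_mul]))
    obtain ⟨j, hj, hj0, hj1⟩ := hj
    have hrelA : ∀ i, A (i + j) = A i * A (i + 1) := by
      intro i
      rw [hAadd i j, ← hj, hAadd i 1, hAdef i]; group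
    have hf := hF (fun k => β a (A k)) j
      (fun p q => hβcen a ha (A q) (hAS q) (β a (A p)))
      (by show β a (A 0) = 1; rw [hA0, hβdef, commutatorElement_self])
      (fun k => hβsq a ha (A k) (hAS k))
      (by
        intro k
        show β a (A (-k)) = β a (A k)
        have h1 : β (u k * a * (u k)⁻¹) (u k * A (-k) * (u k)⁻¹) = β a (A (-k)) :=
          hβconj (u k) a ha (A (-k)) (hAS _)
        have h2 : u k * A (-k) * (u k)⁻¹ = a := by
          rw [← hAadd, add_neg_cancel, hA0]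
        rw [← h1, h2, ← hAdef, hβsymm a ha (A k) (hAS k)])
      hj0 hj1
      (by
        intro i
        show β a (A (i + j)) = β a (A i) * β a (A (i + 1))
        rw [hrelA, hβmul a ha _ (hAS i) _ (hAS (i + 1))])
    intro s hs
    rcases hcover s hs with rfl | ⟨k, rfl⟩
    · exact hβone a
    · exact hf k
  -- conclusion
  rw [← commutatorElement_eq_one_iff_mul_comm, hβ]
  by_cases h1 : σ x = 1
  · rw [h1]; exact hβone' _
  · exact hmain _ hx h1 _ hy

end Cfsg.Agent.Lib.helper47.S2113
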