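import Mathlib
import Cfsg.Prelude.Def_Classical
import Cfsg.Agent.Lib.helper64.RsSp
import Cfsg.Agent.S0245
import Cfsg.Agent.S0246

/-!
# S3664, piece P (helper47): the prime graph of `PSp(6,3)`

Read off the landed arithmetic criteria of `helper64.RsSp` and the order formulas S0245 / S0246.
-/

set_option autoImplicit false

namespace Cfsg.Agent.Lib.helper47.S3664

open Cfsg.Agent.Lib.helper64.RsSp

theorem h47_prime_dvd_card {p : ℕ} (hp : p.Prime) (h : p ∣ 2 ^ 9 * 3 ^ 9 * 5 * 7 * 13) :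
    p = 2 ∨ p = 3 ∨ p = 5 ∨ p = 7 ∨ p = 13 := by
  rcases (Nat.Prime.dvd_mul hp).mp h with h | h
  · rcases (Nat.Prime.dvd_mul hp).mp h with h | h
    · rcases (Nat.Prime.dvd_mul hp).mp h with h | h
      · rcases (Nat.Prime.dvd_mul hp).mp h with h | h
        · exact Or.inl ((Nat.prime_dvd_prime_iff_eq hp Nat.prime_two).mp (hp.dvd_of_dvd_pow h))
        · exact Or.inr (Or.inl
            ((Nat.prime_dvd_prime_iff_eq hp Nat.prime_three).mp (hp.dvd_of_dvd_pow h)))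
      · exact Or.inr (Or.inr (Or.inl ((Nat.prime_dvd_prime_iff_eq hp (by norm_num)).mp h)))
    · exact Or.inr (Or.inr (Or.inr (Or.inl ((Nat.prime_dvd_prime_iff_eq hp (by norm_num)).mp h))))
  · exact Or.inr (Or.inr (Or.inr (Or.inr ((Nat.prime_dvd_prime_iff_eq hp (by norm_num)).mp h))))

theorem h47_card_psp {F : Type*} [Field F] [Fintype F] (hF : Fintype.card F = 3) :
    Nat.card (Cfsg.PSp 3 F) = 2 ^ 9 * 3 ^ 9 * 5 * 7 * 13 := by
  have h1 := Cfsg.Agent.S0245.result hF 3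
  have h2 := Cfsg.Agent.S0246.result hF 3 (by norm_num)
  have h3 := Subgroup.card_eq_card_quotient_mul_card_subgroup
    (Subgroup.center (Matrix.symplecticGroup (Fin 3) F))
  rw [h1, h2] at h3
  have e1 : (3 : ℕ) ^ (3 ^ 2) * ∏ i ∈ Finset.range 3, (3 ^ (2 * (i + 1)) - 1)
      = 2 ^ 9 * 3 ^ 9 * 5 * 7 * 13 * 2 := by
    simp [Finset.prod_range_succ]
  have e2 : Nat.gcd 2 (3 - 1) = 2 := by norm_num
  rw [e1, e2] at h3
  exact (Nat.eq_of_mul_eq_mul_right (by norm_num) h3).symm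

theorem h47_ord5 : (4 : ℕ) = orderOf (((3 : ℕ) : ZMod 5)) := by
  symm
  rw [orderOf_eq_iff (by norm_num)]
  decide

theorem h47_ord7 : (6 : ℕ) = orderOf (((3 : ℕ) : ZMod 7)) := by
  symm
  rw [orderOf_eq_iff (by norm_num)]
  decide

theorem h47_ord13 : (3 : ℕ) = orderOf (((3 : ℕ) : ZMod 13)) := by
  symm
  rw [orderOf_eq_iff (by norm_num)]
  decide

theorem psp_graph {F : Type*} [Field F] [Fintype F] (hF : Fintype.card F = 3) :
    (∀ p : ℕ, p.Prime → (p ∣ Nat.card (Cfsg.PSp 3 F) ↔ (p = 2 ∨ p = 3 ∨ p = 5 ∨ p = 7 ∨ p = 13))) ∧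
    (∀ p q : ℕ, p.Prime → q.Prime → p ≠ q →
      ((∃ g : Cfsg.PSp 3 F, orderOf g = p * q) ↔
        (p * q = 6 ∨ p * q = 10 ∨ p * q = 15 ∨ p * q = 14))) := by
  have : Fact (Nat.Prime 3) := ⟨Nat.prime_three⟩
  have : CharP F 3 := charP_of_card_eq_prime hF
  have hk5 : (4 : ℕ) = orderOf ((Fintype.card F : ℕ) : ZMod 5) := by rw [hF]; exact h47_ord5
  have hk7 : (6 : ℕ) = orderOf ((Fintype.card F : ℕ) : ZMod 7) := by rw [hF]; exact h47_ord7
  have hk13 : (3 : ℕ) = orderOf ((Fintype.card F : ℕ) : ZMod 13) := by rw [hF]; exact h47_ord13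
  have p5 : Nat.Prime 5 := by norm_num
  have p7 : Nat.Prime 7 := by norm_num
  have p13 : Nat.Prime 13 := by norm_num
  have e4 : (Odd 4 ∧ 2 = 4) ∨ (Even 4 ∧ 2 * 2 = 4) := Or.inr ⟨by decide, rfl⟩
  have e6 : (Odd 6 ∧ 3 = 6) ∨ (Even 6 ∧ 2 * 3 = 6) := Or.inr ⟨by decide, rfl⟩
  have e3 : (Odd 3 ∧ 3 = 3) ∨ (Even 3 ∧ 2 * 3 = 3) := Or.inl ⟨by decide, rfl⟩
  -- the first part
  have part1 : ∀ p : ℕ, p.Prime →
      (p ∣ Nat.card (Cfsg.PSp 3 F) ↔ (p = 2 ∨ p = 3 ∨ p = 5 ∨ p = 7 ∨ p = 13)) := by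
    intro p hp
    rw [h47_card_psp hF]
    constructor
    · exact h47_prime_dvd_card hp
    · rintro (rfl | rfl | rfl | rfl | rfl) <;> norm_num
  -- the edges
  have h6 : ∃ g : Cfsg.PSp 3 F, orderOf g = 6 := by
    have h : 2 * 3 ∈ Set.range (orderOf : Cfsg.PSp 3 F → ℕ) :=
      psp_two_p 3 (by norm_num) 3 (by norm_num)
    obtain ⟨g, hg⟩ := h
    exact ⟨g, hg⟩
  have h10 : ∃ g : Cfsg.PSp 3 F, orderOf g = 10 := by
    have h : 2 * 5 ∈ Set.range (orderOf : Cfsg.PSp 3 F → ℕ) :=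
      (psp_two_r_iff 3 (by norm_num) 3 (by norm_num) 5 p5 (by norm_num) (by norm_num) 4 2 hk5
        e4).mpr (Or.inl (by norm_num))
    obtain ⟨g, hg⟩ := h
    exact ⟨g, hg⟩
  have h14 : ∃ g : Cfsg.PSp 3 F, orderOf g = 14 := by
    have h : 2 * 7 ∈ Set.range (orderOf : Cfsg.PSp 3 F → ℕ) :=
      (psp_two_r_iff 3 (by norm_num) 3 (by norm_num) 7 p7 (by norm_num) (by norm_num) 6 3 hk7
        e6).mpr (Or.inr (Or.inr ⟨rfl, by decide, by rw [hF]; norm_num⟩))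
    obtain ⟨g, hg⟩ := h
    exact ⟨g, hg⟩
  have h15 : ∃ g : Cfsg.PSp 3 F, orderOf g = 15 := by
    have h : 5 * 3 ∈ Set.range (orderOf : Cfsg.PSp 3 F → ℕ) :=
      (psp_rp_iff 3 (by norm_num) 3 (by norm_num) 5 p5 (by norm_num) (by norm_num) 4 2 hk5
        e4).mpr (by norm_num)
    obtain ⟨g, hg⟩ := h
    exact ⟨g, hg⟩
  -- the non-edges
  have h26 : ¬ ∃ g : Cfsg.PSp 3 F, orderOf g = 26 := by
    rintro ⟨g, hg⟩
    have h : 2 * 13 ∈ Set.range (orderOf : Cfsg.PSp 3 F → ℕ) := ⟨g, hg⟩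
    rcases (psp_two_r_iff 3 (by norm_num) 3 (by norm_num) 13 p13 (by norm_num) (by norm_num) 3 3
      hk13 e3).mp h with h | ⟨-, -, h⟩ | ⟨-, h, -⟩
    · omega
    · rw [hF] at h
      norm_num at h
    · exact absurd h (by decide)
  have h21 : ¬ ∃ g : Cfsg.PSp 3 F, orderOf g = 21 := by
    rintro ⟨g, hg⟩
    have h : 7 * 3 ∈ Set.range (orderOf : Cfsg.PSp 3 F → ℕ) := ⟨g, hg⟩
    have := (psp_rp_iff 3 (by norm_num) 3 (by norm_num) 7 p7 (by norm_num) (by norm_num) 6 3 hk7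
      e6).mp h
    omega
  have h39 : ¬ ∃ g : Cfsg.PSp 3 F, orderOf g = 39 := by
    rintro ⟨g, hg⟩
    have h : 13 * 3 ∈ Set.range (orderOf : Cfsg.PSp 3 F → ℕ) := ⟨g, hg⟩
    have := (psp_rp_iff 3 (by norm_num) 3 (by norm_num) 13 p13 (by norm_num) (by norm_num) 3 3
      hk13 e3).mp h
    omega
  have h35 : ¬ ∃ g : Cfsg.PSp 3 F, orderOf g = 35 := by
    rintro ⟨g, hg⟩
    have h : 5 * 7 ∈ Set.range (orderOf : Cfsg.PSp 3 F → ℕ) := ⟨g, hg⟩
    rcases (psp_rs_iff 3 3 (by norm_num) 5 7 p5 p7 (by norm_num) (by norm_num) (by norm_num)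
      (by norm_num) (by norm_num) 4 6 2 3 hk5 hk7 e4 e6 (by norm_num)).mp h with h | ⟨-, t, -, h⟩
    · omega
    · omega
  have h65 : ¬ ∃ g : Cfsg.PSp 3 F, orderOf g = 65 := by
    rintro ⟨g, hg⟩
    have h : 5 * 13 ∈ Set.range (orderOf : Cfsg.PSp 3 F → ℕ) := ⟨g, hg⟩
    rcases (psp_rs_iff 3 3 (by norm_num) 5 13 p5 p13 (by norm_num) (by norm_num) (by norm_num)
      (by norm_num) (by norm_num) 4 3 2 3 hk5 hk13 e4 e3 (by norm_num)).mp h with h | ⟨-, t, -, h⟩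
    · omega
    · omega
  have h91 : ¬ ∃ g : Cfsg.PSp 3 F, orderOf g = 91 := by
    rintro ⟨g, hg⟩
    have h : 7 * 13 ∈ Set.range (orderOf : Cfsg.PSp 3 F → ℕ) := ⟨g, hg⟩
    rcases (psp_rs_iff 3 3 (by norm_num) 7 13 p7 p13 (by norm_num) (by norm_num) (by norm_num)
      (by norm_num) (by norm_num) 6 3 3 3 hk7 hk13 e6 e3 (by norm_num)).mp h with h | ⟨-, t, -, h⟩
    · omega
    · omega
  refine ⟨part1, ?_⟩
  intro p q hp hq hpq
  constructor
  · rintro ⟨g, hg⟩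
    have hdp : p ∣ Nat.card (Cfsg.PSp 3 F) :=
      (Dvd.intro _ hg.symm).trans (orderOf_dvd_natCard g)
    have hdq : q ∣ Nat.card (Cfsg.PSp 3 F) :=
      (Dvd.intro_left _ hg.symm).trans (orderOf_dvd_natCard g)
    have hp' := (part1 p hp).mp hdp
    have hq' := (part1 q hq).mp hdq
    rcases hp' with rfl | rfl | rfl | rfl | rfl <;> rcases hq' with rfl | rfl | rfl | rfl | rfl <;>
      first
        | exact absurd rfl hpq
        | decide
        | (exfalso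
           norm_num at hg
           first
             | exact h26 ⟨g, hg⟩
             | exact h21 ⟨g, hg⟩
             | exact h39 ⟨g, hg⟩
             | exact h35 ⟨g, hg⟩
             | exact h65 ⟨g, hg⟩
             | exact h91 ⟨g, hg⟩)
  · rintro (h | h | h | h)
    · rw [h]; exact h6
    · rw [h]; exact h10
    · rw [h]; exact h15
    · rw [h]; exact h14

end Cfsg.Agent.Lib.helper47.S3664
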