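import Mathlib
import Cfsg.Agent.S5084
import Cfsg.Agent.Lib.helper88.Saturated2
import Cfsg.Agent.Lib.helper89.FusionSat
import Cfsg.Agent.Lib.helper60.S1238B3a

/-!
# S5213, piece FC: the fusion-theoretic input in the case of a unique central involution

`S` a finite 2-group of 2-rank at most 2 with a unique central involution `z`, `F` a saturated
fusion system over `S` with trivial centre.  Then there are an involution `u ≠ z` of `S` and an
automorphism of `C_S(u)` with `z ↦ u ↦ z u`.  Direct proof from the characterisation of central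
subgroups (S5084) and receptivity of fully normalized subgroups.
-/

set_option autoImplicit false

namespace Cfsg.Agent.Lib.helper47.S5213

open Cfsg Cfsg.FusionSystem

variable {Ω : Type*} [Group Ω] {S : Subgroup Ω}

/-- Elements of the cyclic group generated by an involution. -/
theorem h47_zp_cases {z : Ω} (hzz : z * z = 1) {x : Ω} (hx : x ∈ Subgroup.zpowers z) :
    x = 1 ∨ x = z := by
  rw [Subgroup.zpowers_eq_closure] at hx
  induction hx using Subgroup.closure_induction with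
  | mem x hx => right; simpa using hx
  | one => left; rfl
  | mul x y _ _ ihx ihy =>
    rcases ihx with rfl | rfl <;> rcases ihy with rfl | rfl
    · left; simp
    · right; simp
    · right; simp
    · left; exact hzz
  | inv x _ ih =>
    rcases ih with rfl | rfl
    · left; simp
    · right; exact inv_eq_of_mul_eq_one_left hzz

/-- The rank two argument in the ambient group. -/
theorem h47_r4 [Finite S] (h2 : PRankLE 2 2 ↥S) {a b c : Ω} (ha : a ∈ S) (hb : b ∈ S) (hc : c ∈ S)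
    (haa : a * a = 1) (hbb : b * b = 1) (hcc : c * c = 1) (hab : a * b = b * a)
    (hac : a * c = c * a) (hbc : b * c = c * b) (ha1 : a ≠ 1) (hb1 : b ≠ 1) (hne : a ≠ b) :
    c = 1 ∨ c = a ∨ c = b ∨ c = a * b := by
  have := Cfsg.Agent.Lib.helper60.S1238.rank_two_four h2 (⟨a, ha⟩ : ↥S) ⟨b, hb⟩ ⟨c, hc⟩
    (Subtype.ext haa) (Subtype.ext hbb) (Subtype.ext hcc) (Subtype.ext hab) (Subtype.ext hac)
    (Subtype.ext hbc) (fun h => ha1 (congrArg Subtype.val h))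
    (fun h => hb1 (congrArg Subtype.val h)) (fun h => hne (congrArg Subtype.val h))
  rcases this with h | h | h | h
  · left; exact congrArg Subtype.val h
  · right; left; exact congrArg Subtype.val h
  · right; right; left; exact congrArg Subtype.val h
  · right; right; right; exact congrArg Subtype.val h

/-- A central involution of `S` is moved by some map of a saturated system with trivial centre. -/
theorem h47_exists_conj_ne [Finite S] (hS : IsPGroup 2 S) (F : FusionSystem S)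
    (hF : F.IsSaturated 2) (hZ : F.center = ⊥) {z : Ω} (hzS : z ∈ S) (hz1 : z ≠ 1)
    (hzz : z * z = 1) :
    ∃ φ ∈ F.Hom (Subgroup.zpowers z), φ ⟨z, Subgroup.mem_zpowers z⟩ ≠ z := by
  by_contra hcon
  push_neg at hcon
  have hc : F.IsCentral (Subgroup.zpowers z) := by
    refine (Cfsg.Agent.S5084.result 2 hS F hF _).2 ⟨(Subgroup.zpowers_le).2 hzS, ?_⟩
    intro x hx y hxy
    rcases h47_zp_cases hzz hx with rfl | rfl
    · obtain ⟨φ, -, hφy⟩ := hxy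
      rw [← hφy]
      exact map_one φ
    · obtain ⟨φ, hφ, hφy⟩ := hxy
      rw [← hφy]
      exact hcon φ hφ
  have hle : Subgroup.zpowers z ≤ F.center := le_sSup hc
  rw [hZ] at hle
  exact hz1 ((Subgroup.mem_bot).1 (hle (Subgroup.mem_zpowers z)))

/-- A fully normalized four-group containing `z` and another conjugate of `z`. -/
theorem h47_exists_W [Finite S] (hS : IsPGroup 2 S) (F : FusionSystem S) (hF : F.IsSaturated 2)
    (h2 : PRankLE 2 2 ↥S) (hZ : F.center = ⊥) {z : Ω} (hzS : z ∈ S) (hz1 : z ≠ 1)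
    (hzz : z * z = 1) (hzc : ∀ g ∈ S, g * z = z * g) :
    ∃ (W : Subgroup Ω) (u : Ω), F.IsFullyNormalized W ∧ z ∈ W ∧ u ∈ W ∧ u ≠ 1 ∧ u ≠ z ∧
      (∀ w ∈ W, w * w = 1) ∧ (∀ w ∈ W, ∀ w' ∈ W, w * w' = w' * w) ∧
      ∃ μ ∈ F.Hom (Subgroup.zpowers z), μ ⟨z, Subgroup.mem_zpowers z⟩ = u := by
  obtain ⟨φ₀, hφ₀, hφ₀z⟩ := h47_exists_conj_ne hS F hF hZ hzS hz1 hzz
  obtain ⟨y, hy⟩ : ∃ y, y = φ₀ ⟨z, Subgroup.mem_zpowers z⟩ := ⟨_, rfl⟩
  rw [← hy] at hφ₀z
  have hyS : y ∈ S := hy ▸ (F.le_of_mem hφ₀).2 _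
  have hzz' : (⟨z, Subgroup.mem_zpowers z⟩ * ⟨z, Subgroup.mem_zpowers z⟩ : Subgroup.zpowers z) = 1 :=
    Subtype.ext hzz
  have hyy : y * y = 1 := by rw [hy, ← map_mul, hzz', map_one]
  have hy1 : y ≠ 1 := by
    intro h
    have h' : φ₀ ⟨z, Subgroup.mem_zpowers z⟩ = φ₀ 1 := by rw [map_one, ← hy, h]
    exact hz1 (congrArg Subtype.val (F.injective_of_mem hφ₀ h'))
  have hzy : z * y = y * z := (hzc y hyS).symm
  have hW₀S : Subgroup.closure ({z, y} : Set Ω) ≤ S := by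
    rw [Subgroup.closure_le]
    intro x hx
    rcases hx with rfl | rfl
    · exact hzS
    · exact hyS
  have hcS : ∀ x ∈ ({z, y} : Set Ω), ∀ x' ∈ ({z, y} : Set Ω), x * x' = x' * x := by
    intro x hx x' hx'
    rcases hx with rfl | rfl <;> rcases hx' with rfl | rfl
    · rfl
    · exact hzy
    · exact hzy.symm
    · rfl
  have hsqS : ∀ x ∈ ({z, y} : Set Ω), x * x = 1 := by
    intro x hx
    rcases hx with rfl | rfl
    · exact hzz
    · exact hyy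
  have hW₀c := Cfsg.Agent.Lib.helper60.S1238.comm_of_mem_closure hcS
  have hW₀sq := Cfsg.Agent.Lib.helper60.S1238.sq_of_mem_closure hcS hsqS
  have zW₀ : z ∈ Subgroup.closure ({z, y} : Set Ω) := Subgroup.subset_closure (Set.mem_insert _ _)
  have yW₀ : y ∈ Subgroup.closure ({z, y} : Set Ω) :=
    Subgroup.subset_closure (Set.mem_insert_of_mem _ rfl)
  obtain ⟨W, ⟨ρ, hρ, hρR⟩, hWn⟩ := Cfsg.Agent.Lib.helper88.exists_fullyNormalized_conj F hW₀S
  subst hρR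
  have hWS : ρ.range ≤ S := hWn.1
  have hWsq : ∀ w ∈ ρ.range, w * w = 1 := by
    rintro _ ⟨x, rfl⟩
    have : x * x = 1 := Subtype.ext (hW₀sq x x.2)
    rw [← map_mul, this, map_one]
  have hWc : ∀ w ∈ ρ.range, ∀ w' ∈ ρ.range, w * w' = w' * w := by
    rintro _ ⟨x, rfl⟩ _ ⟨x', rfl⟩
    have : x * x' = x' * x := Subtype.ext (hW₀c x x.2 x' x'.2)
    rw [← map_mul, ← map_mul, this]
  have hinj := F.injective_of_mem hρ
  have hu₁₂ : ρ ⟨z, zW₀⟩ ≠ ρ ⟨y, yW₀⟩ := fun h => hφ₀z (congrArg Subtype.val (hinj h)).symm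
  have hu₁1 : ρ ⟨z, zW₀⟩ ≠ 1 := by
    intro h
    have h' : ρ ⟨z, zW₀⟩ = ρ 1 := by rw [map_one, h]
    exact hz1 (congrArg Subtype.val (hinj h'))
  have hu₂1 : ρ ⟨y, yW₀⟩ ≠ 1 := by
    intro h
    have h' : ρ ⟨y, yW₀⟩ = ρ 1 := by rw [map_one, h]
    exact hy1 (congrArg Subtype.val (hinj h'))
  have hu₁W : ρ ⟨z, zW₀⟩ ∈ ρ.range := ⟨_, rfl⟩
  have hu₂W : ρ ⟨y, yW₀⟩ ∈ ρ.range := ⟨_, rfl⟩
  have hzW : z ∈ ρ.range := by
    rcases h47_r4 h2 (hWS hu₁W) (hWS hu₂W) hzS (hWsq _ hu₁W) (hWsq _ hu₂W) hzz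
      (hWc _ hu₁W _ hu₂W) (hzc _ (hWS hu₁W)) (hzc _ (hWS hu₂W)) hu₁1 hu₂1 hu₁₂ with h | h | h | h
    · exact absurd h hz1
    · have := hu₁W; rwa [← h] at this
    · have := hu₂W; rwa [← h] at this
    · have := Subgroup.mul_mem _ hu₁W hu₂W; rwa [← h] at this
  by_cases h1 : ρ ⟨z, zW₀⟩ = z
  · -- take `u = ρ y`
    have hφ₀W₀ : ∀ x : Subgroup.zpowers z, φ₀ x ∈ Subgroup.closure ({z, y} : Set Ω) := by
      intro x
      rcases h47_zp_cases hzz x.2 with h | h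
      · have : x = 1 := Subtype.ext h
        rw [this, map_one]; exact Subgroup.one_mem _
      · have : x = ⟨z, Subgroup.mem_zpowers z⟩ := Subtype.ext h
        rw [this, ← hy]; exact yW₀
    refine ⟨ρ.range, ρ ⟨y, yW₀⟩, hWn, hzW, hu₂W, hu₂1, ?_, hWsq, hWc,
      ρ.comp (φ₀.codRestrict _ hφ₀W₀), F.comp_mem hφ₀ hρ hφ₀W₀, ?_⟩
    · intro h; exact hu₁₂ (h1.trans h.symm)
    · show ρ ⟨φ₀ ⟨z, Subgroup.mem_zpowers z⟩, _⟩ = ρ ⟨y, yW₀⟩
      congr 1
      exact Subtype.ext hy.symm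
  · have hZW₀ : Subgroup.zpowers z ≤ Subgroup.closure ({z, y} : Set Ω) :=
      (Subgroup.zpowers_le).2 zW₀
    exact ⟨ρ.range, ρ ⟨z, zW₀⟩, hWn, hzW, hu₁W, hu₁1, h1, hWsq, hWc,
      ρ.comp (Subgroup.inclusion hZW₀), Cfsg.Agent.Lib.helper88.restrict_mem F hZW₀ hρ, rfl⟩

/-- The four elements of `W`. -/
theorem h47_w4 [Finite S] (h2 : PRankLE 2 2 ↥S) {z : Ω} (hzS : z ∈ S) (hz1 : z ≠ 1)
    (hzz : z * z = 1) (hzc : ∀ g ∈ S, g * z = z * g) {W : Subgroup Ω} (hWS : W ≤ S)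
    {u : Ω} (huW : u ∈ W) (hu1 : u ≠ 1) (huz : u ≠ z) (hWsq : ∀ w ∈ W, w * w = 1)
    (hWc : ∀ w ∈ W, ∀ w' ∈ W, w * w' = w' * w) {w : Ω} (hw : w ∈ W) :
    w = 1 ∨ w = z ∨ w = u ∨ w = z * u :=
  h47_r4 h2 hzS (hWS huW) (hWS hw) hzz (hWsq u huW) (hWsq w hw) (hzc u (hWS huW)).symm
    (hzc w (hWS hw)).symm (hWc u huW w hw) hz1 hu1 (fun h => huz h.symm)

/-- Some automorphism of `W` in the system moves `z`. -/
theorem h47_exists_moving [Finite S] (hS : IsPGroup 2 S) (F : FusionSystem S)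
    (hF : F.IsSaturated 2) (h2 : PRankLE 2 2 ↥S) {z : Ω} (hzS : z ∈ S) (hz1 : z ≠ 1)
    (hzz : z * z = 1) (hzc : ∀ g ∈ S, g * z = z * g)
    (huniq : ∀ v ∈ S, v * v = 1 → v ≠ 1 → (∀ g ∈ S, g * v = v * g) → v = z)
    {W : Subgroup Ω} (hWn : F.IsFullyNormalized W) (hzW : z ∈ W) {u : Ω} (huW : u ∈ W)
    (hu1 : u ≠ 1) (huz : u ≠ z) (hWsq : ∀ w ∈ W, w * w = 1)
    (hWc : ∀ w ∈ W, ∀ w' ∈ W, w * w' = w' * w)
    (μ : Subgroup.zpowers z →* Ω) (hμ : μ ∈ F.Hom (Subgroup.zpowers z))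
    (hμz : μ ⟨z, Subgroup.mem_zpowers z⟩ = u) :
    ∃ a ∈ F.autGroup W, a ⟨z, hzW⟩ ≠ ⟨z, hzW⟩ := by
  by_contra hcon
  push_neg at hcon
  have hWS : W ≤ S := hWn.1
  have hZS : Subgroup.zpowers z ≤ S := (Subgroup.zpowers_le).2 hzS
  -- `⟨z⟩` is fully centralized, hence receptive
  have hZcent : centralizerIn S (Subgroup.zpowers z) = S := by
    refine le_antisymm inf_le_left (le_inf le_rfl ?_)
    intro g hg
    rw [Subgroup.mem_centralizer_iff]
    intro x hx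
    rcases h47_zp_cases hzz hx with rfl | rfl
    · simp
    · exact (hzc g hg).symm
  have hZfc : F.IsFullyCentralized (Subgroup.zpowers z) := by
    refine ⟨hZS, fun Q _ => ?_⟩
    rw [hZcent]
    exact Subgroup.card_le_of_le inf_le_left
  have hZrec : F.IsReceptive (Subgroup.zpowers z) :=
    Cfsg.Agent.Lib.helper88.receptive_of_fullyCentralized hS F hF hZfc
  -- the inverse `χ` of `μ`
  obtain ⟨χ, hχ, hχ1, hχ2⟩ := Cfsg.Agent.Lib.helper89.exists_inv_hom F hμ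
  have hUel : ∀ x ∈ μ.range, x = 1 ∨ x = u := by
    rintro _ ⟨w, rfl⟩
    rcases h47_zp_cases hzz w.2 with h | h
    · left
      have : w = 1 := Subtype.ext h
      rw [this, map_one]
    · right
      have : w = ⟨z, Subgroup.mem_zpowers z⟩ := Subtype.ext h
      rw [this, hμz]
  have hχR : χ.range = Subgroup.zpowers z := by
    refine le_antisymm ?_ ?_
    · rintro _ ⟨y, rfl⟩
      exact hχ2 y
    · intro x hx
      exact ⟨⟨μ ⟨x, hx⟩, ⟨_, rfl⟩⟩, hχ1 ⟨x, hx⟩⟩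
  have huU : u ∈ μ.range := ⟨⟨z, Subgroup.mem_zpowers z⟩, hμz⟩
  have hχu : χ ⟨u, huU⟩ = z := by
    have e : (⟨u, huU⟩ : μ.range) = ⟨μ ⟨z, Subgroup.mem_zpowers z⟩, ⟨_, rfl⟩⟩ :=
      Subtype.ext hμz.symm
    rw [e]
    exact hχ1 ⟨z, Subgroup.mem_zpowers z⟩
  -- extension of `χ` to `T = C_S(W)`
  have hWT : W ≤ centralizerIn S W := fun w hw =>
    ⟨hWS hw, Subgroup.mem_centralizer_iff.2 (fun x hx => hWc x hx w hw)⟩
  have hTu : ∀ g ∈ centralizerIn S W, g * u * g⁻¹ = u := by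
    intro g hg
    have := Subgroup.mem_centralizer_iff.1 hg.2 u huW
    rw [← this, mul_inv_cancel_right]
  have hTU : ∀ g ∈ centralizerIn S W, ∀ x ∈ μ.range, g * x * g⁻¹ = x := by
    intro g hg x hx
    rcases hUel x hx with rfl | rfl
    · simp
    · exact hTu g hg
  have : Finite ↥μ.range :=
    Cfsg.Agent.Lib.helper88.finite_of_le (fun x hx => by
      obtain ⟨w, rfl⟩ := hx
      exact (F.le_of_mem hμ).2 w)
  have hN : ∀ g ∈ centralizerIn S W, g ∈ S ∧ g ∈ Subgroup.normalizer (μ.range : Set Ω) ∧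
      ∃ h ∈ S, ∀ (x : μ.range) (hx : g * (x : Ω) * g⁻¹ ∈ μ.range),
        χ ⟨g * x * g⁻¹, hx⟩ = h * χ x * h⁻¹ := by
    intro g hg
    refine ⟨hg.1, ?_, 1, S.one_mem, ?_⟩
    · apply Cfsg.Agent.Lib.helper88.mem_normalizer_of_conj_mem
      intro x hx
      rw [hTU g hg x hx]
      exact hx
    · intro x hx
      have e : (⟨g * x * g⁻¹, hx⟩ : μ.range) = x := Subtype.ext (hTU g hg x x.2)
      rw [e]
      simp
  obtain ⟨χt, hχt, hχte⟩ :=
    Cfsg.Agent.Lib.helper89.exists_extension F hZrec hχ hχR (centralizerIn S W) hN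
  have huT : u ∈ centralizerIn S W := hWT huW
  have hzT : z ∈ centralizerIn S W := hWT hzW
  have hχtu : χt ⟨u, huT⟩ = z := by rw [hχte u huU huT]; exact hχu
  have hχtinj := F.injective_of_mem hχt
  obtain ⟨v, hv⟩ : ∃ v, v = χt ⟨z, hzT⟩ := ⟨_, rfl⟩
  have hvS : v ∈ S := hv ▸ (F.le_of_mem hχt).2 _
  have hvv : v * v = 1 := by
    have : (⟨z, hzT⟩ * ⟨z, hzT⟩ : ↥(centralizerIn S W)) = 1 := Subtype.ext hzz
    rw [hv, ← map_mul, this, map_one]
  have hvz : v ≠ z := by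
    intro h
    have h' : χt ⟨u, huT⟩ = χt ⟨z, hzT⟩ := by rw [hχtu, ← hv, h]
    exact huz (congrArg Subtype.val (hχtinj h'))
  have hv1 : v ≠ 1 := by
    intro h
    have h' : χt ⟨z, hzT⟩ = χt 1 := by rw [map_one, ← hv, h]
    exact hz1 (congrArg Subtype.val (hχtinj h'))
  -- `W' = χt(W)` and the map `ψ : N_S(W') → S` with `ψ(W') = W`
  have hconj : F.IsConj W ((W.subgroupOf (centralizerIn S W)).map χt) :=
    Cfsg.Agent.Lib.helper88.isConj_map F hWT hχt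
  obtain ⟨W', hW'⟩ : ∃ W', W' = (W.subgroupOf (centralizerIn S W)).map χt := ⟨_, rfl⟩
  rw [← hW'] at hconj
  have hW'S : W' ≤ S := Cfsg.Agent.Lib.helper88.isConj_le F hconj
  have hW'N : W' ≤ normalizerIn S W' := Cfsg.Agent.Lib.helper88.le_normalizerIn hW'S
  obtain ⟨ψ, hψ, hψW⟩ :=
    Cfsg.Agent.Lib.helper88.exists_map_normalizer_of_fullyNormalized hS F hF hWn
      (Cfsg.Agent.Lib.helper88.isConj_symm F hconj)
  have hzW' : z ∈ W' := by
    rw [hW']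
    exact ⟨⟨u, huT⟩, huW, hχtu⟩
  have hvW' : v ∈ W' := by
    rw [hW']
    exact ⟨⟨z, hzT⟩, hzW, hv.symm⟩
  have hχW' : ∀ (w : Ω) (hw : w ∈ W), χt ⟨w, hWT hw⟩ ∈ W' := by
    intro w hw
    rw [hW']
    exact ⟨⟨w, hWT hw⟩, hw, rfl⟩
  -- the composite automorphism of `W`
  have hχw : χt.comp (Subgroup.inclusion hWT) ∈ F.Hom W :=
    Cfsg.Agent.Lib.helper88.restrict_mem F hWT hχt
  have hχwN : ∀ x : W, (χt.comp (Subgroup.inclusion hWT)) x ∈ normalizerIn S W' :=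
    fun x => hW'N (hχW' x x.2)
  have hb := F.comp_mem hχw hψ hχwN
  have hbW : ∀ x : W, (ψ.comp ((χt.comp (Subgroup.inclusion hWT)).codRestrict _ hχwN)) x ∈ W := by
    intro x
    have : (ψ.comp ((χt.comp (Subgroup.inclusion hWT)).codRestrict _ hχwN)) x ∈
        (W'.subgroupOf (normalizerIn S W')).map ψ :=
      ⟨(χt.comp (Subgroup.inclusion hWT)).codRestrict _ hχwN x, hχW' x x.2, rfl⟩
    rwa [hψW] at this
  obtain ⟨β, hβ⟩ := Cfsg.Agent.Lib.helper89.exists_aut_of_mem F hb hbW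
  have hβmem : β ∈ F.autGroup W := by
    rw [Cfsg.Agent.Lib.helper89.mem_autGroup_iff F hWS]
    have : W.subtype.comp β.toMonoidHom =
        ψ.comp ((χt.comp (Subgroup.inclusion hWT)).codRestrict _ hχwN) :=
      MonoidHom.ext (fun x => hβ x)
    rw [this]
    exact hb
  have hψv : ψ ⟨v, hW'N hvW'⟩ = z := by
    have h1 := hcon β hβmem
    have h2' := hβ ⟨z, hzW⟩
    rw [h1] at h2'
    refine Eq.trans ?_ h2'.symm
    show ψ ⟨v, _⟩ = ψ ⟨χt ⟨z, _⟩, _⟩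
    congr 1
    exact Subtype.ext hv
  -- `v` is not central in `S`
  have hnc : ∃ s ∈ S, s * v ≠ v * s := by
    by_contra h
    push_neg at h
    exact hvz (huniq v hvS hvv hv1 h)
  obtain ⟨s, hsS, hsv⟩ := hnc
  have hDlt : S ⊓ Subgroup.centralizer ({v} : Set Ω) < S := by
    refine lt_of_le_of_ne inf_le_left (fun h => hsv ?_)
    have hs : s ∈ S ⊓ Subgroup.centralizer ({v} : Set Ω) := by rw [h]; exact hsS
    exact Subgroup.mem_centralizer_singleton_iff.1 hs.2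
  obtain ⟨g, hgN, hgD⟩ := Cfsg.Agent.Lib.helper89.exists_mem_normalizerIn_not_mem hS hDlt
  have hgS : g ∈ S := hgN.1
  have hvD : v ∈ S ⊓ Subgroup.centralizer ({v} : Set Ω) :=
    ⟨hvS, Subgroup.mem_centralizer_singleton_iff.2 rfl⟩
  have hv'D : g * v * g⁻¹ ∈ S ⊓ Subgroup.centralizer ({v} : Set Ω) :=
    (Subgroup.mem_normalizer_iff.1 hgN.2 v).1 hvD
  have hv'S : g * v * g⁻¹ ∈ S := hv'D.1
  have hv'c : v * (g * v * g⁻¹) = g * v * g⁻¹ * v :=
    (Subgroup.mem_centralizer_singleton_iff.1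
      (show g * v * g⁻¹ ∈ Subgroup.centralizer ({v} : Set Ω) from hv'D.2)).symm
  have hv'sq : g * v * g⁻¹ * (g * v * g⁻¹) = 1 := by
    have : g * v * g⁻¹ * (g * v * g⁻¹) = g * (v * v) * g⁻¹ := by group
    rw [this, hvv]; group
  have hv'ne : g * v * g⁻¹ ≠ v := by
    intro h
    apply hgD
    refine ⟨hgS, Subgroup.mem_centralizer_singleton_iff.2 ?_⟩
    have : g * v = v * g := by
      calc g * v = g * v * g⁻¹ * g := by group
        _ = v * g := by rw [h]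
    exact this
  have hgz : g * z * g⁻¹ = z := by rw [hzc g hgS, mul_inv_cancel_right]
  have hv'W' : g * v * g⁻¹ ∈ W' := by
    rcases h47_r4 h2 hzS hvS hv'S hzz hvv hv'sq (hzc v hvS).symm (hzc _ hv'S).symm hv'c hz1 hv1
      (fun h => hvz h.symm) with h | h | h | h
    · rw [h]; exact W'.one_mem
    · rw [h]; exact hzW'
    · rw [h]; exact hvW'
    · rw [h]; exact W'.mul_mem hzW' hvW'
  have : Finite ↥W' := Cfsg.Agent.Lib.helper88.finite_of_le hW'S
  have hgW' : g ∈ Subgroup.normalizer (W' : Set Ω) := by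
    apply Cfsg.Agent.Lib.helper88.mem_normalizer_of_conj_mem
    intro x hx
    rw [hW'] at hx
    obtain ⟨⟨w, hwT⟩, hwW, rfl⟩ := hx
    have hwW' : w ∈ W := hwW
    rcases h47_w4 h2 hzS hz1 hzz hzc hWS huW hu1 huz hWsq hWc hwW' with h | h | h | h
    · have e : (⟨w, hwT⟩ : ↥(centralizerIn S W)) = 1 := Subtype.ext h
      rw [e, map_one]; simp
    · have e : (⟨w, hwT⟩ : ↥(centralizerIn S W)) = ⟨z, hzT⟩ := Subtype.ext h
      rw [e, ← hv]; exact hv'W'
    · have e : (⟨w, hwT⟩ : ↥(centralizerIn S W)) = ⟨u, huT⟩ := Subtype.ext h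
      rw [e, hχtu, hgz]; exact hzW'
    · have e : (⟨w, hwT⟩ : ↥(centralizerIn S W)) = ⟨z, hzT⟩ * ⟨u, huT⟩ := Subtype.ext h
      rw [e, map_mul, ← hv, hχtu]
      have : g * (v * z) * g⁻¹ = g * v * g⁻¹ * (g * z * g⁻¹) := by group
      rw [this, hgz]
      exact W'.mul_mem hv'W' hzW'
  have hgNW' : g ∈ normalizerIn S W' := ⟨hgS, hgW'⟩
  have hψg : ψ ⟨g, hgNW'⟩ ∈ S := (F.le_of_mem hψ).2 _
  have e : ψ (⟨g, hgNW'⟩ * ⟨v, hW'N hvW'⟩ * ⟨g, hgNW'⟩⁻¹) = ψ ⟨v, hW'N hvW'⟩ := by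
    rw [map_mul, map_mul, map_inv, hψv, hzc _ hψg, mul_inv_cancel_right]
  exact hv'ne (congrArg Subtype.val (F.injective_of_mem hψ e))

/-- Some automorphism of `W` in the system acts as a 3-cycle starting at `z`. -/
theorem h47_exists_three [Finite S] (F : FusionSystem S) (h2 : PRankLE 2 2 ↥S) {z : Ω}
    (hzS : z ∈ S) (hz1 : z ≠ 1) (hzz : z * z = 1) (hzc : ∀ g ∈ S, g * z = z * g)
    {W : Subgroup Ω} (hfa : F.IsFullyAutomized 2 W) (hzW : z ∈ W)
    (hWsq : ∀ w ∈ W, w * w = 1) (hWc : ∀ w ∈ W, ∀ w' ∈ W, w * w' = w' * w)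
    (a : MulAut W) (ha : a ∈ F.autGroup W) (haz : a ⟨z, hzW⟩ ≠ ⟨z, hzW⟩) :
    ∃ γ ∈ F.autGroup W, γ ⟨z, hzW⟩ ≠ ⟨z, hzW⟩ ∧ γ (γ ⟨z, hzW⟩) ≠ ⟨z, hzW⟩ := by
  have hWS : W ≤ S := hfa.1
  by_cases h : a (a ⟨z, hzW⟩) = ⟨z, hzW⟩
  · obtain ⟨zW, hzWdef⟩ : ∃ zW : W, zW = ⟨z, hzW⟩ := ⟨_, rfl⟩
    rw [← hzWdef] at h haz ⊢
    have hzW1 : zW ≠ 1 := fun h' => hz1 (by rw [hzWdef] at h'; exact congrArg Subtype.val h')
    have hw1 : a zW ≠ 1 := by
      intro h'
      have : a zW = a 1 := by rw [map_one, h']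
      exact hzW1 (a.injective this)
    have hzWv : (zW : Ω) = z := by rw [hzWdef]
    have hall : ∀ x : W, x = 1 ∨ x = zW ∨ x = a zW ∨ x = zW * a zW := by
      intro x
      have := h47_w4 h2 hzS hz1 hzz hzc hWS (a zW).2 (fun h' => hw1 (Subtype.ext h'))
        (fun h' => haz (Subtype.ext (h'.trans hzWv.symm))) hWsq hWc x.2
      rcases this with h' | h' | h' | h'
      · left; exact Subtype.ext h'
      · right; left; exact Subtype.ext (h'.trans hzWv.symm)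
      · right; right; left; exact Subtype.ext h'
      · right; right; right
        apply Subtype.ext
        rw [h', ← hzWv]
        rfl
    have haa : a * a = 1 := by
      refine MulEquiv.ext (fun x => ?_)
      show a (a x) = x
      rcases hall x with hx | hx | hx | hx
      · rw [hx, map_one, map_one]
      · rw [hx, h]
      · rw [hx, h]
      · rw [hx, map_mul, h, map_mul, h]
    have hHA : Subgroup.zpowers a ≤ F.autGroup W := (Subgroup.zpowers_le).2 ha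
    have hH : IsPGroup 2 (Subgroup.zpowers a) := by
      intro g
      refine ⟨1, Subtype.ext ?_⟩
      obtain ⟨n, hn⟩ := Subgroup.mem_zpowers_iff.1 g.2
      have : (g : MulAut W) ^ 2 = 1 := by
        rw [← hn, ← zpow_natCast, ← zpow_mul, mul_comm, zpow_mul, zpow_natCast, pow_two, haa,
          one_zpow]
      simpa using this
    obtain ⟨b, hb, hbH⟩ := Cfsg.Agent.Lib.helper89.exists_conj_into_autS F hfa _ hHA hH
    have hba := hbH a (Subgroup.mem_zpowers a)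
    rw [Cfsg.Agent.Lib.helper89.mem_autInducedBy_iff] at hba
    obtain ⟨g, hgS, hg⟩ := hba
    have h3 : b (a (b⁻¹ zW)) = zW := by
      apply Subtype.ext
      have := hg zW
      rw [hzWdef] at this ⊢
      refine this.trans ?_
      show g * z * g⁻¹ = z
      rw [hzc g hgS, mul_inv_cancel_right]
    have haw : a (b⁻¹ zW) = b⁻¹ zW := by
      have h4 : b⁻¹ (b (a (b⁻¹ zW))) = b⁻¹ zW := by rw [h3]
      rwa [MulAut.inv_apply_self] at h4
    have hbw : b (b⁻¹ zW) = zW := MulAut.apply_inv_self _ b zW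
    have hw : b⁻¹ zW = zW * a zW := by
      rcases hall (b⁻¹ zW) with hx | hx | hx | hx
      · exfalso; rw [hx, map_one] at hbw; exact hzW1 hbw.symm
      · exfalso; rw [hx] at haw; exact haz haw
      · exfalso; rw [hx, h] at haw; exact haz haw.symm
      · exact hx
    have hne : zW * a zW ≠ zW := by
      intro h5
      exact hw1 (mul_left_cancel (h5.trans (mul_one zW).symm))
    by_cases hb2 : b (b zW) = zW
    · have hbz : b zW = zW * a zW := by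
        have : b (b zW) = b (b⁻¹ zW) := by rw [hb2, hbw]
        rw [← hw]; exact b.injective this
      refine ⟨a * b, Subgroup.mul_mem _ ha hb, ?_, ?_⟩
      · show a (b zW) ≠ zW
        rw [hbz, ← hw, haw, hw]
        exact hne
      · show a (b (a (b zW))) ≠ zW
        rw [hbz, ← hw, haw, hbw]
        exact haz
    · refine ⟨b, hb, ?_, hb2⟩
      intro h5
      have : b⁻¹ zW = zW := b.injective (hbw.trans h5.symm)
      rw [hw] at this
      exact hne this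
  · exact ⟨a, ha, haz, h⟩

/-- An automorphism of the abelian receptive subgroup `W` extends to `C_S(W)`. -/
theorem h47_extend_aut [Finite S] (F : FusionSystem S) {W : Subgroup Ω} (hWS : W ≤ S)
    (hrec : F.IsReceptive W) (hWc : ∀ w ∈ W, ∀ w' ∈ W, w * w' = w' * w) (γ : MulAut W)
    (hγ : γ ∈ F.autGroup W) :
    ∃ α : MulAut ↥(centralizerIn S W), ∀ (x : Ω) (hx : x ∈ W) (hxT : x ∈ centralizerIn S W),
      ((α ⟨x, hxT⟩ : ↥(centralizerIn S W)) : Ω) = ((γ ⟨x, hx⟩ : W) : Ω) := by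
  have hφ : W.subtype.comp γ.toMonoidHom ∈ F.Hom W :=
    (Cfsg.Agent.Lib.helper89.mem_autGroup_iff F hWS γ).1 hγ
  have hφR : (W.subtype.comp γ.toMonoidHom).range = W := by
    refine le_antisymm ?_ ?_
    · rintro _ ⟨x, rfl⟩
      exact (γ x).2
    · intro w hw
      refine ⟨γ⁻¹ ⟨w, hw⟩, ?_⟩
      show ((γ (γ⁻¹ ⟨w, hw⟩) : W) : Ω) = w
      rw [MulAut.apply_inv_self]
  have hWT : W ≤ centralizerIn S W := fun w hw =>
    ⟨hWS hw, Subgroup.mem_centralizer_iff.2 (fun x hx => hWc x hx w hw)⟩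
  have hconj : ∀ g ∈ centralizerIn S W, ∀ x ∈ W, g * x * g⁻¹ = x := by
    intro g hg x hx
    have := Subgroup.mem_centralizer_iff.1 hg.2 x hx
    rw [← this, mul_inv_cancel_right]
  have : Finite ↥W := Cfsg.Agent.Lib.helper88.finite_of_le hWS
  have hN : ∀ g ∈ centralizerIn S W, g ∈ S ∧ g ∈ Subgroup.normalizer (W : Set Ω) ∧
      ∃ h ∈ S, ∀ (x : W) (hx : g * (x : Ω) * g⁻¹ ∈ W),
        (W.subtype.comp γ.toMonoidHom) ⟨g * x * g⁻¹, hx⟩ =
          h * (W.subtype.comp γ.toMonoidHom) x * h⁻¹ := by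
    intro g hg
    refine ⟨hg.1, ?_, 1, S.one_mem, ?_⟩
    · apply Cfsg.Agent.Lib.helper88.mem_normalizer_of_conj_mem
      intro x hx
      rw [hconj g hg x hx]
      exact hx
    · intro x hx
      have e : (⟨g * x * g⁻¹, hx⟩ : W) = x := Subtype.ext (hconj g hg x x.2)
      rw [e]
      simp
  obtain ⟨ψ, hψ, hψe⟩ :=
    Cfsg.Agent.Lib.helper89.exists_extension F hrec hφ hφR (centralizerIn S W) hN
  have hψT : ∀ t : ↥(centralizerIn S W), ψ t ∈ centralizerIn S W := by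
    intro t
    refine ⟨(F.le_of_mem hψ).2 t, Subgroup.mem_centralizer_iff.2 ?_⟩
    intro w hw
    have hw' : ((γ⁻¹ ⟨w, hw⟩ : W) : Ω) ∈ W := (γ⁻¹ ⟨w, hw⟩).2
    have e1 : ψ ⟨((γ⁻¹ ⟨w, hw⟩ : W) : Ω), hWT hw'⟩ = w := by
      rw [hψe _ hw' (hWT hw')]
      show ((γ (γ⁻¹ ⟨w, hw⟩) : W) : Ω) = w
      rw [MulAut.apply_inv_self]
    have e2 : (⟨((γ⁻¹ ⟨w, hw⟩ : W) : Ω), hWT hw'⟩ : ↥(centralizerIn S W)) * t =
        t * ⟨((γ⁻¹ ⟨w, hw⟩ : W) : Ω), hWT hw'⟩ :=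
      Subtype.ext (Subgroup.mem_centralizer_iff.1 t.2.2 _ hw')
    rw [← e1, ← map_mul, ← map_mul, e2]
  obtain ⟨α, hα⟩ := Cfsg.Agent.Lib.helper89.exists_aut_of_mem F hψ hψT
  refine ⟨α, fun x hx hxT => ?_⟩
  rw [hα, hψe x hx hxT]
  rfl

/-- Transport of an automorphism of `T = C_S(u) ≤ Ω` to the centralizer of `u` in `↥S`. -/
theorem h47_transport (u : ↥S) (T : Subgroup Ω)
    (hT : ∀ g : Ω, g ∈ T ↔ g ∈ S ∧ g * (u : Ω) = (u : Ω) * g) (α : MulAut T) :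
    ∃ φ : MulAut ↥(Subgroup.centralizer ({u} : Set ↥S)),
      ∀ (x : ↥S) (hx : x ∈ Subgroup.centralizer ({u} : Set ↥S)) (hxT : (x : Ω) ∈ T),
        (((φ ⟨x, hx⟩ : ↥(Subgroup.centralizer ({u} : Set ↥S))) : ↥S) : Ω) =
          ((α ⟨(x : Ω), hxT⟩ : T) : Ω) := by
  let e : ↥(Subgroup.centralizer ({u} : Set ↥S)) ≃* T :=
    { toFun := fun x => ⟨((x : ↥S) : Ω), (hT _).2 ⟨(x : ↥S).2,
        congrArg Subtype.val (Subgroup.mem_centralizer_singleton_iff.1 x.2)⟩⟩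
      invFun := fun t => ⟨⟨(t : Ω), ((hT _).1 t.2).1⟩,
        Subgroup.mem_centralizer_singleton_iff.2 (Subtype.ext ((hT _).1 t.2).2)⟩
      left_inv := fun x => rfl
      right_inv := fun t => rfl
      map_mul' := fun x y => rfl }
  refine ⟨e.trans (MulEquiv.trans α e.symm), fun x hx hxT => ?_⟩
  rfl

/-- **Piece FC of S5213** (direct route). -/
theorem fc [Finite S] (hS : IsPGroup 2 S) (F : Cfsg.FusionSystem S) (hF : F.IsSaturated 2)
    (h2 : Cfsg.PRankLE 2 2 ↥S) (hZ : F.center = ⊥) (z : ↥S) (hz2 : orderOf z = 2)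
    (hzc : ∀ g : ↥S, g * z = z * g)
    (huniq : ∀ z' : ↥S, (∀ g : ↥S, g * z' = z' * g) → orderOf z' = 2 → z' = z) :
    ∃ (u : ↥S) (φ : MulAut ↥(Subgroup.centralizer ({u} : Set ↥S))), u * u = 1 ∧ u ≠ 1 ∧ u ≠ z ∧
      ∀ (hz : z ∈ Subgroup.centralizer ({u} : Set ↥S))
        (hu : u ∈ Subgroup.centralizer ({u} : Set ↥S)),
        ((φ ⟨z, hz⟩ : ↥(Subgroup.centralizer ({u} : Set ↥S))) : ↥S) = u ∧
        ((φ ⟨u, hu⟩ : ↥(Subgroup.centralizer ({u} : Set ↥S))) : ↥S) = z * u := by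
  have hzS : (z : Ω) ∈ S := z.2
  have hz1 : (z : Ω) ≠ 1 := by
    intro h
    have : z = 1 := Subtype.ext h
    rw [this, orderOf_one] at hz2
    omega
  have hzz : (z : Ω) * (z : Ω) = 1 := by
    have : z ^ 2 = 1 := by rw [← hz2]; exact pow_orderOf_eq_one z
    rw [pow_two] at this
    exact congrArg Subtype.val this
  have hzcΩ : ∀ g ∈ S, g * (z : Ω) = (z : Ω) * g := fun g hg =>
    congrArg Subtype.val (hzc ⟨g, hg⟩)
  have huniqΩ : ∀ v ∈ S, v * v = 1 → v ≠ 1 → (∀ g ∈ S, g * v = v * g) → v = (z : Ω) := by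
    intro v hv hvv hv1 hvc
    have ho : orderOf (⟨v, hv⟩ : ↥S) = 2 := by
      apply orderOf_eq_prime
      · rw [pow_two]; exact Subtype.ext hvv
      · intro h; exact hv1 (congrArg Subtype.val h)
    exact congrArg Subtype.val (huniq ⟨v, hv⟩ (fun g => Subtype.ext (hvc g g.2)) ho)
  obtain ⟨W, u₀, hWn, hzW, hu₀W, hu₀1, hu₀z, hWsq, hWc, μ, hμ, hμz⟩ :=
    h47_exists_W hS F hF h2 hZ hzS hz1 hzz hzcΩ
  have hWS : W ≤ S := hWn.1
  obtain ⟨hfa, hrec⟩ :=
    Cfsg.Agent.Lib.helper88.fullyAutomized_receptive_of_fullyNormalized hS F hF hWn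
  obtain ⟨a, ha, haz⟩ := h47_exists_moving hS F hF h2 hzS hz1 hzz hzcΩ huniqΩ hWn hzW hu₀W
    hu₀1 hu₀z hWsq hWc μ hμ hμz
  obtain ⟨γ, hγ, hγ1, hγ2⟩ := h47_exists_three F h2 hzS hz1 hzz hzcΩ hfa hzW hWsq hWc a ha haz
  obtain ⟨α, hα⟩ := h47_extend_aut F hWS hrec hWc γ hγ
  -- the element `u = γ z`
  obtain ⟨uW, huWdef⟩ : ∃ uW : W, uW = γ ⟨(z : Ω), hzW⟩ := ⟨_, rfl⟩
  rw [← huWdef] at hγ1 hγ2
  have hu1 : (uW : Ω) ≠ 1 := by
    intro h
    have h' : γ ⟨(z : Ω), hzW⟩ = γ 1 := by rw [map_one, ← huWdef]; exact Subtype.ext h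
    exact hz1 (congrArg Subtype.val (γ.injective h'))
  have huz : (uW : Ω) ≠ (z : Ω) := fun h => hγ1 (Subtype.ext h)
  have hγu : ((γ uW : W) : Ω) = (z : Ω) * (uW : Ω) := by
    rcases h47_w4 h2 hzS hz1 hzz hzcΩ hWS uW.2 hu1 huz hWsq hWc (γ uW).2 with h | h | h | h
    · exfalso
      have h' : γ uW = γ 1 := by rw [map_one]; exact Subtype.ext h
      exact hu1 (congrArg Subtype.val (γ.injective h'))
    · exact absurd (Subtype.ext h) hγ2
    · exfalso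
      have h' : γ uW = γ ⟨(z : Ω), hzW⟩ := by rw [← huWdef]; exact Subtype.ext h
      exact huz (congrArg Subtype.val (γ.injective h'))
    · exact h
  have hWT : W ≤ centralizerIn S W := fun w hw =>
    ⟨hWS hw, Subgroup.mem_centralizer_iff.2 (fun x hx => hWc x hx w hw)⟩
  have hT : ∀ g : Ω, g ∈ centralizerIn S W ↔ g ∈ S ∧ g * (uW : Ω) = (uW : Ω) * g := by
    intro g
    constructor
    · intro hg
      exact ⟨hg.1, (Subgroup.mem_centralizer_iff.1 hg.2 _ uW.2).symm⟩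
    · rintro ⟨hgS, hgu⟩
      refine ⟨hgS, Subgroup.mem_centralizer_iff.2 ?_⟩
      intro w hw
      rcases h47_w4 h2 hzS hz1 hzz hzcΩ hWS uW.2 hu1 huz hWsq hWc hw with h | h | h | h
      · rw [h]; simp
      · rw [h]; exact (hzcΩ g hgS).symm
      · rw [h]; exact hgu.symm
      · rw [h, mul_assoc, ← hgu, ← mul_assoc, ← hzcΩ g hgS, mul_assoc]
  obtain ⟨φ, hφ⟩ := h47_transport (⟨(uW : Ω), hWS uW.2⟩ : ↥S) (centralizerIn S W) hT α
  refine ⟨⟨(uW : Ω), hWS uW.2⟩, φ, Subtype.ext (hWsq _ uW.2),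
    fun h => hu1 (congrArg Subtype.val h), fun h => huz (congrArg Subtype.val h),
    fun hz hu => ⟨Subtype.ext ?_, Subtype.ext ?_⟩⟩
  · rw [hφ z hz (hWT hzW), hα _ hzW (hWT hzW), ← huWdef]
  · rw [hφ _ hu (hWT uW.2), hα _ uW.2 (hWT uW.2)]
    exact hγu

end Cfsg.Agent.Lib.helper47.S5213
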