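import Mathlib
import Cfsg.Agent.Lib.helper89.S60Defs

set_option autoImplicit false

/-!
S6000, piece EX3 (racer copy by helper47): elements of order 3 of the normalizer of `R` with
traces `1` and `-2`.
-/

namespace Cfsg.Agent.Lib.helper89.S60

open Matrix Cfsg Cfsg.Geo

/-- trace lemma: `a` anticommutes with `b`, `b * b = -1`, `M` commutes with `b`. -/
theorem h47_ex3_trace {F : Type*} [Field F] (h2 : (2 : F) ≠ 0) (a b M : Matrix (Fin 4) (Fin 4) F)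
    (hbb : b * b = -1) (hab : a * b = -(b * a)) (hM : M * b = b * M) :
    Matrix.trace (a * M) = 0 := by
  have hba : b * a = -(a * b) := by rw [hab, neg_neg]
  have e1 : b * (a * M * b) = a * M := by
    calc b * (a * M * b) = (b * a) * M * b := by simp only [mul_assoc]
      _ = -(a * (b * M) * b) := by rw [hba]; simp only [neg_mul, mul_assoc]
      _ = -(a * M * (b * b)) := by rw [← hM]; simp only [mul_assoc]
      _ = a * M := by rw [hbb]; simp
  have e2 : a * M * b * b = -(a * M) := by rw [mul_assoc (a * M), hbb]; simp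
  have e3 : Matrix.trace (a * M * b * b) = Matrix.trace (a * M) := by
    rw [Matrix.trace_mul_comm, e1]
  rw [e2, Matrix.trace_neg] at e3
  have e4 : (2 : F) * Matrix.trace (a * M) = 0 := by linear_combination -e3
  exact (mul_eq_zero.1 e4).resolve_left h2

theorem h47_ex3_traceG {F : Type*} [Field F] (h2 : (2 : F) ≠ 0) (i j M : Matrix (Fin 4) (Fin 4) F)
    (hii : i * i = -1) (hjj : j * j = -1) (hji : j * i = -(i * j)) (hMi : M * i = i * M)
    (hMj : M * j = j * M) : Matrix.trace ((1 + i) * (1 + j) * M) = Matrix.trace M := by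
  have hij : i * j = -(j * i) := by rw [hji, neg_neg]
  have e : (1 + i) * (1 + j) * M = M + j * M + i * ((1 + j) * M) := by noncomm_ring
  have hM' : (1 + j) * M * j = j * ((1 + j) * M) := by
    rw [mul_assoc, hMj, ← mul_assoc, ← mul_assoc]
    congr 1
    noncomm_ring
  rw [e, Matrix.trace_add, Matrix.trace_add, h47_ex3_trace h2 j i M hii hji hMi,
    h47_ex3_trace h2 i j ((1 + j) * M) hjj hij hM', add_zero, add_zero]

theorem h47_ex3_cube {F : Type*} [Field F] (i j : Matrix (Fin 4) (Fin 4) F)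
    (hi : i * i = -1) (hj : j * j = -1) (hij : j * i = -(i * j)) :
    ((1 + i) * (1 + j)) ^ 3 = (-8 : F) • (1 : Matrix (Fin 4) (Fin 4) F) := by
  have hi' : ∀ x : Matrix (Fin 4) (Fin 4) F, i * (i * x) = -x := fun x => by
    rw [← mul_assoc, hi, neg_mul, one_mul]
  have hj' : ∀ x : Matrix (Fin 4) (Fin 4) F, j * (j * x) = -x := fun x => by
    rw [← mul_assoc, hj, neg_mul, one_mul]
  have hij' : ∀ x : Matrix (Fin 4) (Fin 4) F, j * (i * x) = -(i * (j * x)) := fun x => by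
    rw [← mul_assoc, hij, neg_mul, mul_assoc]
  have hsq : ((1 + i) * (1 + j)) * ((1 + i) * (1 + j))
      = (2 : F) • ((1 + i) * (1 + j)) - (4 : F) • (1 : Matrix (Fin 4) (Fin 4) F) := by
    simp only [mul_add, add_mul, mul_one, one_mul, mul_assoc, hi, hj, hij, hi', hj', hij',
      mul_neg, neg_mul, neg_neg]
    module
  rw [pow_succ, pow_two, hsq, sub_mul, smul_mul_assoc, smul_mul_assoc, one_mul, hsq]
  module

theorem h47_ex3_unit {F : Type*} [Field F] (h2 : (2 : F) ≠ 0) (y : Matrix (Fin 4) (Fin 4) F)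
    (hyy : y * y = -1) : ∃ g : GL (Fin 4) F, (g : Matrix (Fin 4) (Fin 4) F) = 1 + y := by
  have e1 : (1 + y) * (1 - y) = (2 : F) • (1 : Matrix (Fin 4) (Fin 4) F) := by
    have : (1 + y) * (1 - y) = 1 - y * y := by noncomm_ring
    rw [this, hyy, sub_neg_eq_add, two_smul]
  have e2 : (1 - y) * (1 + y) = (2 : F) • (1 : Matrix (Fin 4) (Fin 4) F) := by
    have : (1 - y) * (1 + y) = 1 - y * y := by noncomm_ring
    rw [this, hyy, sub_neg_eq_add, two_smul]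
  refine ⟨⟨1 + y, (2⁻¹ : F) • (1 - y), ?_, ?_⟩, rfl⟩
  · rw [mul_smul_comm, e1, smul_smul, inv_mul_cancel₀ h2, one_smul]
  · rw [smul_mul_assoc, e2, smul_smul, inv_mul_cancel₀ h2, one_smul]

theorem h47_ex3_scalar {F : Type*} [Field F] (R : Subgroup (GL (Fin 4) F)) (c : F) (hc : c ≠ 0) :
    ∃ d : GL (Fin 4) F, (d : Matrix (Fin 4) (Fin 4) F) = c • (1 : Matrix (Fin 4) (Fin 4) F) ∧
      d ∈ subgroupNormalizer R := by
  refine ⟨⟨c • 1, c⁻¹ • 1, ?_, ?_⟩, rfl, ?_⟩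
  · rw [smul_mul_assoc, one_mul, smul_smul, mul_inv_cancel₀ hc, one_smul]
  · rw [smul_mul_assoc, one_mul, smul_smul, inv_mul_cancel₀ hc, one_smul]
  · rw [subgroupNormalizer, Subgroup.mem_normalizer_iff]
    intro s
    have hcs : (⟨c • 1, c⁻¹ • 1, by
        rw [smul_mul_assoc, one_mul, smul_smul, mul_inv_cancel₀ hc, one_smul], by
        rw [smul_mul_assoc, one_mul, smul_smul, inv_mul_cancel₀ hc, one_smul]⟩ : GL (Fin 4) F) * s
        = s * ⟨c • 1, c⁻¹ • 1, by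
        rw [smul_mul_assoc, one_mul, smul_smul, mul_inv_cancel₀ hc, one_smul], by
        rw [smul_mul_assoc, one_mul, smul_smul, inv_mul_cancel₀ hc, one_smul]⟩ := by
      apply Units.ext
      simp only [Units.val_mul, smul_mul_assoc, one_mul, mul_smul_comm, mul_one]
    rw [hcs, mul_inv_cancel_right]

theorem h47_ex3_norm {F : Type*} [Field F] (R : Subgroup (GL (Fin 4) F))
    (hcomm : ∀ s ∈ R, ∀ t ∈ R, (s : Matrix (Fin 4) (Fin 4) F) * (t : Matrix (Fin 4) (Fin 4) F) = (t : Matrix (Fin 4) (Fin 4) F) * (s : Matrix (Fin 4) (Fin 4) F) ∨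
      (s : Matrix (Fin 4) (Fin 4) F) * (t : Matrix (Fin 4) (Fin 4) F) = -((t : Matrix (Fin 4) (Fin 4) F) * (s : Matrix (Fin 4) (Fin 4) F)))
    (Y : GL (Fin 4) F) (hY : Y ∈ R)
    (hYY : (Y : Matrix (Fin 4) (Fin 4) F) * (Y : Matrix (Fin 4) (Fin 4) F) = -1)
    (g : GL (Fin 4) F) (hg : (g : Matrix (Fin 4) (Fin 4) F) = 1 + (Y : Matrix (Fin 4) (Fin 4) F)) :
    g ∈ subgroupNormalizer R := by
  have hYinv : ((Y⁻¹ : GL (Fin 4) F) : Matrix (Fin 4) (Fin 4) F)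
      = -(Y : Matrix (Fin 4) (Fin 4) F) := by
    apply Units.inv_eq_of_mul_eq_one_right
    rw [mul_neg, hYY, neg_neg]
  have hfwd : ∀ s ∈ R, g * s * g⁻¹ ∈ R := by
    intro s hs
    rcases hcomm s hs Y hY with h | h
    · have e : g * s = s * g := by
        apply Units.ext
        simp only [Units.val_mul, hg]
        rw [add_mul, mul_add, one_mul, mul_one, h]
      rw [e, mul_inv_cancel_right]
      exact hs
    · have e : g * s = (Y * s) * g := by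
        apply Units.ext
        simp only [Units.val_mul, hg]
        calc (1 + (Y : Matrix (Fin 4) (Fin 4) F)) * (s : Matrix (Fin 4) (Fin 4) F)
            = (s : Matrix (Fin 4) (Fin 4) F) + (Y : Matrix (Fin 4) (Fin 4) F) * (s : Matrix (Fin 4) (Fin 4) F) := by
              rw [add_mul, one_mul]
          _ = (Y : Matrix (Fin 4) (Fin 4) F) * (s : Matrix (Fin 4) (Fin 4) F)
              + (Y : Matrix (Fin 4) (Fin 4) F) * ((s : Matrix (Fin 4) (Fin 4) F) * (Y : Matrix (Fin 4) (Fin 4) F)) := by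
              rw [h, mul_neg, ← mul_assoc, hYY, neg_mul, one_mul, neg_neg, add_comm]
          _ = (Y : Matrix (Fin 4) (Fin 4) F) * (s : Matrix (Fin 4) (Fin 4) F) * (1 + (Y : Matrix (Fin 4) (Fin 4) F)) := by
              rw [mul_add, mul_one, mul_assoc]
      rw [e, mul_inv_cancel_right]
      exact R.mul_mem hY hs
  have hbwd : ∀ r ∈ R, g⁻¹ * r * g ∈ R := by
    intro r hr
    rcases hcomm r hr Y hY with h | h
    · have e : r * g = g * r := by
        apply Units.ext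
        simp only [Units.val_mul, hg]
        rw [add_mul, mul_add, one_mul, mul_one, h]
      rw [mul_assoc, e, inv_mul_cancel_left]
      exact hr
    · have e : r * g = g * (Y⁻¹ * r) := by
        apply Units.ext
        simp only [Units.val_mul, hg, hYinv]
        calc (r : Matrix (Fin 4) (Fin 4) F) * (1 + (Y : Matrix (Fin 4) (Fin 4) F))
            = (r : Matrix (Fin 4) (Fin 4) F) + -((Y : Matrix (Fin 4) (Fin 4) F) * (r : Matrix (Fin 4) (Fin 4) F)) := by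
              rw [mul_add, mul_one, h]
          _ = (1 + (Y : Matrix (Fin 4) (Fin 4) F)) * (-(Y : Matrix (Fin 4) (Fin 4) F) * (r : Matrix (Fin 4) (Fin 4) F)) := by
              rw [add_mul, one_mul, neg_mul, mul_neg, ← mul_assoc, hYY, neg_mul, one_mul, neg_neg,
                add_comm]
      rw [mul_assoc, e, inv_mul_cancel_left]
      exact R.mul_mem (R.inv_mem hY) hr
  rw [subgroupNormalizer, Subgroup.mem_normalizer_iff]
  intro s
  constructor
  · exact hfwd s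
  · intro hs
    have h1 := hbwd _ hs
    have e : g⁻¹ * (g * s * g⁻¹) * g = s := by group
    rwa [e] at h1

theorem h47_ex3_comm1 {A : Type*} [Ring A] {a b : A} (h : Commute a b) : Commute a (1 + b) :=
  (Commute.one_right a).add_right h

theorem h47_ex3_comm2 {A : Type*} [Ring A] {a b : A} (h : Commute a b) : Commute (1 + a) (1 + b) :=
  (Commute.one_right _).add_right ((Commute.one_left _).add_left h)

/-- EX3 (racer copy by helper47). -/
theorem h47_s60_exists_three {F : Type*} [Field F] [Fintype F] (h2 : (2 : F) ≠ 0) (R : Subgroup (GL (Fin 4) F)) (w : F) (hG : Good R w) :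
    ∃ hA hB : GL (Fin 4) F, hA ∈ subgroupNormalizer R ∧ hB ∈ subgroupNormalizer R ∧ hA ^ 3 = 1 ∧ hB ^ 3 = 1 ∧
      Matrix.trace (hA : Matrix (Fin 4) (Fin 4) F) = 1 ∧ Matrix.trace (hB : Matrix (Fin 4) (Fin 4) F) = -2 := by
  classical
  obtain ⟨t, htR, htsq, hta, -⟩ := hG.frame
  obtain ⟨z, hzR, hz⟩ := hG.wmem
  have hww := hG.wsq
  have s0 := htsq 0
  have s1 := htsq 1
  have s2 := htsq 2
  have s3 := htsq 3
  have s0' : ∀ x : Matrix (Fin 4) (Fin 4) F, (t 0 : Matrix (Fin 4) (Fin 4) F) * ((t 0 : Matrix (Fin 4) (Fin 4) F) * x) = x := fun x => by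
    rw [← mul_assoc, s0, one_mul]
  have s1' : ∀ x : Matrix (Fin 4) (Fin 4) F, (t 1 : Matrix (Fin 4) (Fin 4) F) * ((t 1 : Matrix (Fin 4) (Fin 4) F) * x) = x := fun x => by
    rw [← mul_assoc, s1, one_mul]
  have s2' : ∀ x : Matrix (Fin 4) (Fin 4) F, (t 2 : Matrix (Fin 4) (Fin 4) F) * ((t 2 : Matrix (Fin 4) (Fin 4) F) * x) = x := fun x => by
    rw [← mul_assoc, s2, one_mul]
  have s3' : ∀ x : Matrix (Fin 4) (Fin 4) F, (t 3 : Matrix (Fin 4) (Fin 4) F) * ((t 3 : Matrix (Fin 4) (Fin 4) F) * x) = x := fun x => by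
    rw [← mul_assoc, s3, one_mul]
  have h10 := hta 1 0 (by decide)
  have h20 := hta 2 0 (by decide)
  have h21 := hta 2 1 (by decide)
  have h30 := hta 3 0 (by decide)
  have h31 := hta 3 1 (by decide)
  have h32 := hta 3 2 (by decide)
  have h10' : ∀ x : Matrix (Fin 4) (Fin 4) F, (t 1 : Matrix (Fin 4) (Fin 4) F) * ((t 0 : Matrix (Fin 4) (Fin 4) F) * x) = -((t 0 : Matrix (Fin 4) (Fin 4) F) * ((t 1 : Matrix (Fin 4) (Fin 4) F) * x)) := fun x => by
    rw [← mul_assoc, h10, neg_mul, mul_assoc]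
  have h20' : ∀ x : Matrix (Fin 4) (Fin 4) F, (t 2 : Matrix (Fin 4) (Fin 4) F) * ((t 0 : Matrix (Fin 4) (Fin 4) F) * x) = -((t 0 : Matrix (Fin 4) (Fin 4) F) * ((t 2 : Matrix (Fin 4) (Fin 4) F) * x)) := fun x => by
    rw [← mul_assoc, h20, neg_mul, mul_assoc]
  have h21' : ∀ x : Matrix (Fin 4) (Fin 4) F, (t 2 : Matrix (Fin 4) (Fin 4) F) * ((t 1 : Matrix (Fin 4) (Fin 4) F) * x) = -((t 1 : Matrix (Fin 4) (Fin 4) F) * ((t 2 : Matrix (Fin 4) (Fin 4) F) * x)) := fun x => by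
    rw [← mul_assoc, h21, neg_mul, mul_assoc]
  have h30' : ∀ x : Matrix (Fin 4) (Fin 4) F, (t 3 : Matrix (Fin 4) (Fin 4) F) * ((t 0 : Matrix (Fin 4) (Fin 4) F) * x) = -((t 0 : Matrix (Fin 4) (Fin 4) F) * ((t 3 : Matrix (Fin 4) (Fin 4) F) * x)) := fun x => by
    rw [← mul_assoc, h30, neg_mul, mul_assoc]
  have h31' : ∀ x : Matrix (Fin 4) (Fin 4) F, (t 3 : Matrix (Fin 4) (Fin 4) F) * ((t 1 : Matrix (Fin 4) (Fin 4) F) * x) = -((t 1 : Matrix (Fin 4) (Fin 4) F) * ((t 3 : Matrix (Fin 4) (Fin 4) F) * x)) := fun x => by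
    rw [← mul_assoc, h31, neg_mul, mul_assoc]
  have h32' : ∀ x : Matrix (Fin 4) (Fin 4) F, (t 3 : Matrix (Fin 4) (Fin 4) F) * ((t 2 : Matrix (Fin 4) (Fin 4) F) * x) = -((t 2 : Matrix (Fin 4) (Fin 4) F) * ((t 3 : Matrix (Fin 4) (Fin 4) F) * x)) := fun x => by
    rw [← mul_assoc, h32, neg_mul, mul_assoc]
  obtain ⟨Y1, hY1⟩ : ∃ Y1 : GL (Fin 4) F, Y1 = t 0 * t 1 := ⟨_, rfl⟩
  obtain ⟨Y2, hY2⟩ : ∃ Y2 : GL (Fin 4) F, Y2 = t 1 * t 2 := ⟨_, rfl⟩
  obtain ⟨Y3, hY3⟩ : ∃ Y3 : GL (Fin 4) F, Y3 = t 0 * t 1 * t 2 := ⟨_, rfl⟩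
  obtain ⟨Y4, hY4⟩ : ∃ Y4 : GL (Fin 4) F, Y4 = z * t 3 := ⟨_, rfl⟩
  have hY1R : Y1 ∈ R := by rw [hY1]; exact R.mul_mem (htR 0) (htR 1)
  have hY2R : Y2 ∈ R := by rw [hY2]; exact R.mul_mem (htR 1) (htR 2)
  have hY3R : Y3 ∈ R := by rw [hY3]; exact R.mul_mem (R.mul_mem (htR 0) (htR 1)) (htR 2)
  have hY4R : Y4 ∈ R := by rw [hY4]; exact R.mul_mem hzR (htR 3)
  have hY1v : (Y1 : Matrix (Fin 4) (Fin 4) F) = (t 0 : Matrix (Fin 4) (Fin 4) F) * (t 1 : Matrix (Fin 4) (Fin 4) F) := by rw [hY1, Units.val_mul]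
  have hY2v : (Y2 : Matrix (Fin 4) (Fin 4) F) = (t 1 : Matrix (Fin 4) (Fin 4) F) * (t 2 : Matrix (Fin 4) (Fin 4) F) := by rw [hY2, Units.val_mul]
  have hY3v : (Y3 : Matrix (Fin 4) (Fin 4) F) = (t 0 : Matrix (Fin 4) (Fin 4) F) * (t 1 : Matrix (Fin 4) (Fin 4) F) * (t 2 : Matrix (Fin 4) (Fin 4) F) := by
    rw [hY3, Units.val_mul, Units.val_mul]
  have hY4v : (Y4 : Matrix (Fin 4) (Fin 4) F) = w • (t 3 : Matrix (Fin 4) (Fin 4) F) := by
    rw [hY4, Units.val_mul, hz, smul_mul_assoc, one_mul]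
  have r1 : (Y1 : Matrix (Fin 4) (Fin 4) F) * (Y1 : Matrix (Fin 4) (Fin 4) F) = -1 := by
    simp only [hY1v, hY2v, hY3v, hY4v, mul_assoc, smul_mul_assoc, mul_smul_comm, smul_smul, one_mul, mul_one,
      s0, s1, s2, s3, s0', s1', s2', s3', h10, h20, h21, h30, h31, h32, h10', h20', h21', h30', h31', h32',
      mul_neg, neg_mul, neg_neg, smul_neg, neg_smul, hww, one_smul]
  have r2 : (Y2 : Matrix (Fin 4) (Fin 4) F) * (Y2 : Matrix (Fin 4) (Fin 4) F) = -1 := by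
    simp only [hY1v, hY2v, hY3v, hY4v, mul_assoc, smul_mul_assoc, mul_smul_comm, smul_smul, one_mul, mul_one,
      s0, s1, s2, s3, s0', s1', s2', s3', h10, h20, h21, h30, h31, h32, h10', h20', h21', h30', h31', h32',
      mul_neg, neg_mul, neg_neg, smul_neg, neg_smul, hww, one_smul]
  have r3 : (Y3 : Matrix (Fin 4) (Fin 4) F) * (Y3 : Matrix (Fin 4) (Fin 4) F) = -1 := by
    simp only [hY1v, hY2v, hY3v, hY4v, mul_assoc, smul_mul_assoc, mul_smul_comm, smul_smul, one_mul, mul_one,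
      s0, s1, s2, s3, s0', s1', s2', s3', h10, h20, h21, h30, h31, h32, h10', h20', h21', h30', h31', h32',
      mul_neg, neg_mul, neg_neg, smul_neg, neg_smul, hww, one_smul]
  have r4 : (Y4 : Matrix (Fin 4) (Fin 4) F) * (Y4 : Matrix (Fin 4) (Fin 4) F) = -1 := by
    simp only [hY1v, hY2v, hY3v, hY4v, mul_assoc, smul_mul_assoc, mul_smul_comm, smul_smul, one_mul, mul_one,
      s0, s1, s2, s3, s0', s1', s2', s3', h10, h20, h21, h30, h31, h32, h10', h20', h21', h30', h31', h32',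
      mul_neg, neg_mul, neg_neg, smul_neg, neg_smul, hww, one_smul]
  have r12 : (Y2 : Matrix (Fin 4) (Fin 4) F) * (Y1 : Matrix (Fin 4) (Fin 4) F) = -((Y1 : Matrix (Fin 4) (Fin 4) F) * (Y2 : Matrix (Fin 4) (Fin 4) F)) := by
    simp only [hY1v, hY2v, hY3v, hY4v, mul_assoc, smul_mul_assoc, mul_smul_comm, smul_smul, one_mul, mul_one,
      s0, s1, s2, s3, s0', s1', s2', s3', h10, h20, h21, h30, h31, h32, h10', h20', h21', h30', h31', h32',
      mul_neg, neg_mul, neg_neg, smul_neg, neg_smul, hww, one_smul]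
  have r34 : (Y4 : Matrix (Fin 4) (Fin 4) F) * (Y3 : Matrix (Fin 4) (Fin 4) F) = -((Y3 : Matrix (Fin 4) (Fin 4) F) * (Y4 : Matrix (Fin 4) (Fin 4) F)) := by
    simp only [hY1v, hY2v, hY3v, hY4v, mul_assoc, smul_mul_assoc, mul_smul_comm, smul_smul, one_mul, mul_one,
      s0, s1, s2, s3, s0', s1', s2', s3', h10, h20, h21, h30, h31, h32, h10', h20', h21', h30', h31', h32',
      mul_neg, neg_mul, neg_neg, smul_neg, neg_smul, hww, one_smul]
  have c13 : Commute (Y1 : Matrix (Fin 4) (Fin 4) F) (Y3 : Matrix (Fin 4) (Fin 4) F) := by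
    show (Y1 : Matrix (Fin 4) (Fin 4) F) * (Y3 : Matrix (Fin 4) (Fin 4) F) = (Y3 : Matrix (Fin 4) (Fin 4) F) * (Y1 : Matrix (Fin 4) (Fin 4) F)
    simp only [hY1v, hY2v, hY3v, hY4v, mul_assoc, smul_mul_assoc, mul_smul_comm, smul_smul, one_mul, mul_one,
      s0, s1, s2, s3, s0', s1', s2', s3', h10, h20, h21, h30, h31, h32, h10', h20', h21', h30', h31', h32',
      mul_neg, neg_mul, neg_neg, smul_neg, neg_smul, hww, one_smul]
  have c14 : Commute (Y1 : Matrix (Fin 4) (Fin 4) F) (Y4 : Matrix (Fin 4) (Fin 4) F) := by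
    show (Y1 : Matrix (Fin 4) (Fin 4) F) * (Y4 : Matrix (Fin 4) (Fin 4) F) = (Y4 : Matrix (Fin 4) (Fin 4) F) * (Y1 : Matrix (Fin 4) (Fin 4) F)
    simp only [hY1v, hY2v, hY3v, hY4v, mul_assoc, smul_mul_assoc, mul_smul_comm, smul_smul, one_mul, mul_one,
      s0, s1, s2, s3, s0', s1', s2', s3', h10, h20, h21, h30, h31, h32, h10', h20', h21', h30', h31', h32',
      mul_neg, neg_mul, neg_neg, smul_neg, neg_smul, hww, one_smul]
  have c23 : Commute (Y2 : Matrix (Fin 4) (Fin 4) F) (Y3 : Matrix (Fin 4) (Fin 4) F) := by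
    show (Y2 : Matrix (Fin 4) (Fin 4) F) * (Y3 : Matrix (Fin 4) (Fin 4) F) = (Y3 : Matrix (Fin 4) (Fin 4) F) * (Y2 : Matrix (Fin 4) (Fin 4) F)
    simp only [hY1v, hY2v, hY3v, hY4v, mul_assoc, smul_mul_assoc, mul_smul_comm, smul_smul, one_mul, mul_one,
      s0, s1, s2, s3, s0', s1', s2', s3', h10, h20, h21, h30, h31, h32, h10', h20', h21', h30', h31', h32',
      mul_neg, neg_mul, neg_neg, smul_neg, neg_smul, hww, one_smul]
  have c24 : Commute (Y2 : Matrix (Fin 4) (Fin 4) F) (Y4 : Matrix (Fin 4) (Fin 4) F) := by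
    show (Y2 : Matrix (Fin 4) (Fin 4) F) * (Y4 : Matrix (Fin 4) (Fin 4) F) = (Y4 : Matrix (Fin 4) (Fin 4) F) * (Y2 : Matrix (Fin 4) (Fin 4) F)
    simp only [hY1v, hY2v, hY3v, hY4v, mul_assoc, smul_mul_assoc, mul_smul_comm, smul_smul, one_mul, mul_one,
      s0, s1, s2, s3, s0', s1', s2', s3', h10, h20, h21, h30, h31, h32, h10', h20', h21', h30', h31', h32',
      mul_neg, neg_mul, neg_neg, smul_neg, neg_smul, hww, one_smul]
  obtain ⟨n1, hn1⟩ := h47_ex3_unit h2 _ r1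
  obtain ⟨n2, hn2⟩ := h47_ex3_unit h2 _ r2
  obtain ⟨n3, hn3⟩ := h47_ex3_unit h2 _ r3
  obtain ⟨n4, hn4⟩ := h47_ex3_unit h2 _ r4
  have hn1N := h47_ex3_norm R hG.comm Y1 hY1R r1 n1 hn1
  have hn2N := h47_ex3_norm R hG.comm Y2 hY2R r2 n2 hn2
  have hn3N := h47_ex3_norm R hG.comm Y3 hY3R r3 n3 hn3
  have hn4N := h47_ex3_norm R hG.comm Y4 hY4R r4 n4 hn4
  have h2i : (2⁻¹ : F) ≠ 0 := inv_ne_zero h2
  obtain ⟨d1, hd1, hd1N⟩ := h47_ex3_scalar R (-(2⁻¹ : F)) (neg_ne_zero.2 h2i)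
  obtain ⟨d2, hd2, hd2N⟩ := h47_ex3_scalar R ((2⁻¹ : F) * 2⁻¹) (mul_ne_zero h2i h2i)
  have cube1 := h47_ex3_cube (Y1 : Matrix (Fin 4) (Fin 4) F) (Y2 : Matrix (Fin 4) (Fin 4) F) r1 r2 r12
  have cube2 := h47_ex3_cube (Y3 : Matrix (Fin 4) (Fin 4) F) (Y4 : Matrix (Fin 4) (Fin 4) F) r3 r4 r34
  have cG : Commute ((1 + (Y1 : Matrix (Fin 4) (Fin 4) F)) * (1 + (Y2 : Matrix (Fin 4) (Fin 4) F))) ((1 + (Y3 : Matrix (Fin 4) (Fin 4) F)) * (1 + (Y4 : Matrix (Fin 4) (Fin 4) F))) :=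
    ((h47_ex3_comm2 c13).mul_right (h47_ex3_comm2 c14)).mul_left
      ((h47_ex3_comm2 c23).mul_right (h47_ex3_comm2 c24))
  have cy1 : Commute (Y1 : Matrix (Fin 4) (Fin 4) F) ((1 + (Y3 : Matrix (Fin 4) (Fin 4) F)) * (1 + (Y4 : Matrix (Fin 4) (Fin 4) F))) :=
    (h47_ex3_comm1 c13).mul_right (h47_ex3_comm1 c14)
  have cy2 : Commute (Y2 : Matrix (Fin 4) (Fin 4) F) ((1 + (Y3 : Matrix (Fin 4) (Fin 4) F)) * (1 + (Y4 : Matrix (Fin 4) (Fin 4) F))) :=
    (h47_ex3_comm1 c23).mul_right (h47_ex3_comm1 c24)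
  have tG2 : Matrix.trace ((1 + (Y3 : Matrix (Fin 4) (Fin 4) F)) * (1 + (Y4 : Matrix (Fin 4) (Fin 4) F))) = 4 := by
    have h := h47_ex3_traceG h2 (Y3 : Matrix (Fin 4) (Fin 4) F) (Y4 : Matrix (Fin 4) (Fin 4) F) 1 r3 r4 r34 (by rw [one_mul, mul_one])
      (by rw [one_mul, mul_one])
    rw [mul_one] at h
    rw [h, Matrix.trace_one]
    simp
  have tG1 : Matrix.trace ((1 + (Y1 : Matrix (Fin 4) (Fin 4) F)) * (1 + (Y2 : Matrix (Fin 4) (Fin 4) F))) = 4 := by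
    have h := h47_ex3_traceG h2 (Y1 : Matrix (Fin 4) (Fin 4) F) (Y2 : Matrix (Fin 4) (Fin 4) F) 1 r1 r2 r12 (by rw [one_mul, mul_one])
      (by rw [one_mul, mul_one])
    rw [mul_one] at h
    rw [h, Matrix.trace_one]
    simp
  have tG12 : Matrix.trace ((1 + (Y1 : Matrix (Fin 4) (Fin 4) F)) * (1 + (Y2 : Matrix (Fin 4) (Fin 4) F)) * ((1 + (Y3 : Matrix (Fin 4) (Fin 4) F)) * (1 + (Y4 : Matrix (Fin 4) (Fin 4) F)))) = 4 := by
    rw [h47_ex3_traceG h2 (Y1 : Matrix (Fin 4) (Fin 4) F) (Y2 : Matrix (Fin 4) (Fin 4) F) _ r1 r2 r12 cy1.eq.symm cy2.eq.symm, tG2]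
  have hvalA : ((d2 * (n1 * n2) * (n3 * n4) : GL (Fin 4) F) : Matrix (Fin 4) (Fin 4) F)
      = ((2⁻¹ : F) * 2⁻¹) • ((1 + (Y1 : Matrix (Fin 4) (Fin 4) F)) * (1 + (Y2 : Matrix (Fin 4) (Fin 4) F)) * ((1 + (Y3 : Matrix (Fin 4) (Fin 4) F)) * (1 + (Y4 : Matrix (Fin 4) (Fin 4) F)))) := by
    simp only [Units.val_mul, hd2, hn1, hn2, hn3, hn4, smul_mul_assoc, one_mul]
  have hvalB : ((d1 * (n1 * n2) : GL (Fin 4) F) : Matrix (Fin 4) (Fin 4) F)
      = (-(2⁻¹ : F)) • ((1 + (Y1 : Matrix (Fin 4) (Fin 4) F)) * (1 + (Y2 : Matrix (Fin 4) (Fin 4) F))) := by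
    simp only [Units.val_mul, hd1, hn1, hn2, smul_mul_assoc, one_mul]
  have num1 : ((2⁻¹ : F) * 2⁻¹) ^ 3 * (-8 * -8) = 1 := by
    field_simp
    norm_num
  have num2 : (-(2⁻¹ : F)) ^ 3 * (-8) = 1 := by
    field_simp
    norm_num
  have num3 : ((2⁻¹ : F) * 2⁻¹) * 4 = 1 := by
    field_simp
    norm_num
  have num4 : (-(2⁻¹ : F)) * 4 = -2 := by
    field_simp
    norm_num
  refine ⟨d2 * (n1 * n2) * (n3 * n4), d1 * (n1 * n2), ?_, ?_, ?_, ?_, ?_, ?_⟩
  · exact (subgroupNormalizer R).mul_mem ((subgroupNormalizer R).mul_mem hd2N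
      ((subgroupNormalizer R).mul_mem hn1N hn2N)) ((subgroupNormalizer R).mul_mem hn3N hn4N)
  · exact (subgroupNormalizer R).mul_mem hd1N ((subgroupNormalizer R).mul_mem hn1N hn2N)
  · apply Units.ext
    rw [Units.val_pow_eq_pow_val, hvalA, smul_pow, cG.mul_pow, cube1, cube2, smul_mul_assoc, one_mul,
      smul_smul, smul_smul, mul_assoc, num1, one_smul, Units.val_one]
  · apply Units.ext
    rw [Units.val_pow_eq_pow_val, hvalB, smul_pow, cube1, smul_smul, num2, one_smul, Units.val_one]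
  · rw [hvalA, Matrix.trace_smul, tG12, smul_eq_mul, num3]
  · rw [hvalB, Matrix.trace_smul, tG1, smul_eq_mul, num4]

end Cfsg.Agent.Lib.helper89.S60
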