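import Mathlib
import Cfsg.Agent.Lib.helper24.S6eDefs

set_option autoImplicit false

namespace Cfsg.Agent.Lib.helper24

open Matrix Cfsg Cfsg.Geo

/-- four pairwise anticommuting involutions of a ring -/
structure h47_Rel {A : Type*} [Ring A] (T0 T1 T2 T3 : A) : Prop where
  h00 : T0 * T0 = 1
  h11 : T1 * T1 = 1
  h22 : T2 * T2 = 1
  h33 : T3 * T3 = 1
  h10 : T1 * T0 = -(T0 * T1)
  h20 : T2 * T0 = -(T0 * T2)
  h30 : T3 * T0 = -(T0 * T3)
  h21 : T2 * T1 = -(T1 * T2)
  h31 : T3 * T1 = -(T1 * T3)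
  h32 : T3 * T2 = -(T2 * T3)

namespace h47_Rel

variable {A : Type*} [Ring A] {T0 T1 T2 T3 : A} (r : h47_Rel T0 T1 T2 T3)
include r

theorem h00' (X : A) : T0 * (T0 * X) = X := by rw [← mul_assoc, r.h00, one_mul]
theorem h11' (X : A) : T1 * (T1 * X) = X := by rw [← mul_assoc, r.h11, one_mul]
theorem h22' (X : A) : T2 * (T2 * X) = X := by rw [← mul_assoc, r.h22, one_mul]
theorem h33' (X : A) : T3 * (T3 * X) = X := by rw [← mul_assoc, r.h33, one_mul]
theorem h10' (X : A) : T1 * (T0 * X) = -(T0 * (T1 * X)) := by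
  rw [← mul_assoc, r.h10, neg_mul, mul_assoc]
theorem h20' (X : A) : T2 * (T0 * X) = -(T0 * (T2 * X)) := by
  rw [← mul_assoc, r.h20, neg_mul, mul_assoc]
theorem h30' (X : A) : T3 * (T0 * X) = -(T0 * (T3 * X)) := by
  rw [← mul_assoc, r.h30, neg_mul, mul_assoc]
theorem h21' (X : A) : T2 * (T1 * X) = -(T1 * (T2 * X)) := by
  rw [← mul_assoc, r.h21, neg_mul, mul_assoc]
theorem h31' (X : A) : T3 * (T1 * X) = -(T1 * (T3 * X)) := by
  rw [← mul_assoc, r.h31, neg_mul, mul_assoc]
theorem h32' (X : A) : T3 * (T2 * X) = -(T2 * (T3 * X)) := by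
  rw [← mul_assoc, r.h32, neg_mul, mul_assoc]

theorem w_sq : (T0 * T1 * T2 * T3) * (T0 * T1 * T2 * T3) = 1 := by
  simp only [mul_assoc, neg_mul, mul_neg, neg_neg, mul_one, one_mul, r.h00, r.h11, r.h22, r.h33,
    r.h10, r.h20, r.h30, r.h21, r.h31, r.h32, r.h00', r.h11', r.h22', r.h33', r.h10', r.h20',
    r.h30', r.h21', r.h31', r.h32']

theorem w_0 : (T0 * T1 * T2 * T3) * T0 = -(T0 * (T0 * T1 * T2 * T3)) := by
  simp only [mul_assoc, neg_mul, mul_neg, neg_neg, mul_one, one_mul, r.h00, r.h11, r.h22, r.h33,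
    r.h10, r.h20, r.h30, r.h21, r.h31, r.h32, r.h00', r.h11', r.h22', r.h33', r.h10', r.h20',
    r.h30', r.h21', r.h31', r.h32']

theorem w_1 : (T0 * T1 * T2 * T3) * T1 = -(T1 * (T0 * T1 * T2 * T3)) := by
  simp only [mul_assoc, neg_mul, mul_neg, neg_neg, mul_one, one_mul, r.h00, r.h11, r.h22, r.h33,
    r.h10, r.h20, r.h30, r.h21, r.h31, r.h32, r.h00', r.h11', r.h22', r.h33', r.h10', r.h20',
    r.h30', r.h21', r.h31', r.h32']

theorem w_2 : (T0 * T1 * T2 * T3) * T2 = -(T2 * (T0 * T1 * T2 * T3)) := by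
  simp only [mul_assoc, neg_mul, mul_neg, neg_neg, mul_one, one_mul, r.h00, r.h11, r.h22, r.h33,
    r.h10, r.h20, r.h30, r.h21, r.h31, r.h32, r.h00', r.h11', r.h22', r.h33', r.h10', r.h20',
    r.h30', r.h21', r.h31', r.h32']

theorem w_3 : (T0 * T1 * T2 * T3) * T3 = -(T3 * (T0 * T1 * T2 * T3)) := by
  simp only [mul_assoc, neg_mul, mul_neg, neg_neg, mul_one, one_mul, r.h00, r.h11, r.h22, r.h33,
    r.h10, r.h20, r.h30, r.h21, r.h31, r.h32, r.h00', r.h11', r.h22', r.h33', r.h10', r.h20',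
    r.h30', r.h21', r.h31', r.h32']

theorem classify (h1 : (1 : A) ≠ -1) (a0 a1 a2 a3 : Bool) (X : A)
    (hX : X = (if a0 then T0 else 1) * (if a1 then T1 else 1) * (if a2 then T2 else 1) *
      (if a3 then T3 else 1))
    (hXX : X * X = 1) (hX1 : X ≠ 1) :
    X = T0 ∨ X = T1 ∨ X = T2 ∨ X = T3 ∨ X = T0 * T1 * T2 * T3 := by
  subst hX
  cases a0 <;> cases a1 <;> cases a2 <;> cases a3 <;>
    simp only [if_true, if_false, Bool.false_eq_true, mul_one, one_mul, true_or, or_true]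
      at hXX hX1 ⊢
  all_goals first
    | exact absurd rfl hX1
    | (exfalso
       simp only [mul_assoc, neg_mul, mul_neg, neg_neg, mul_one, one_mul, r.h00, r.h11, r.h22,
         r.h33, r.h10, r.h20, r.h30, r.h21, r.h31, r.h32, r.h00', r.h11', r.h22', r.h33', r.h10',
         r.h20', r.h30', r.h21', r.h31', r.h32'] at hXX
       exact h1 hXX.symm)

end h47_Rel

theorem h47_s6_invol_card {F : Type*} [Field F] [Fintype F] (h2 : (2 : F) ≠ 0) (R : Subgroup (GL S6I F))
    (hneg : ∃ z ∈ R, (z : Matrix S6I S6I F) = -1) (t : Fin 4 → GL S6I F) (hfr : S6Frame R t) :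
    Nat.card {s : GL S6I F // s ∈ R ∧ (s : Matrix S6I S6I F) * (s : Matrix S6I S6I F) = 1 ∧ (s : Matrix S6I S6I F) ≠ 1 ∧ (s : Matrix S6I S6I F) ≠ -1} = 10 := by
  obtain ⟨z, hzR, hz⟩ := hneg
  obtain ⟨htR, ht2, hta, hgen⟩ := hfr
  have h1 : (1 : Matrix S6I S6I F) ≠ -1 := by
    intro h
    have h' := congrFun (congrFun h (Sum.inl 0)) (Sum.inl 0)
    simp only [Matrix.one_apply_eq, Matrix.neg_apply] at h'
    apply h2
    linear_combination h'
  have r : h47_Rel (t 0 : Matrix S6I S6I F) (t 1 : Matrix S6I S6I F) (t 2 : Matrix S6I S6I F)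
      (t 3 : Matrix S6I S6I F) :=
    ⟨ht2 0, ht2 1, ht2 2, ht2 3, hta 1 0 (by decide), hta 2 0 (by decide), hta 3 0 (by decide),
      hta 2 1 (by decide), hta 3 1 (by decide), hta 3 2 (by decide)⟩
  obtain ⟨U, hU⟩ : ∃ U : Option (Fin 4) → GL S6I F,
      U = fun o => o.elim (t 0 * t 1 * t 2 * t 3) t := ⟨_, rfl⟩
  have hUn : ((U none : GL S6I F) : Matrix S6I S6I F) = (t 0 : Matrix S6I S6I F) *
      (t 1 : Matrix S6I S6I F) * (t 2 : Matrix S6I S6I F) * (t 3 : Matrix S6I S6I F) := by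
    rw [hU]; simp [Units.val_mul]
  have hUs : ∀ i, U (some i) = t i := by intro i; rw [hU]; rfl
  have hUR : ∀ o, U o ∈ R := by
    intro o
    rcases o with _ | i
    · rw [hU]
      exact R.mul_mem (R.mul_mem (R.mul_mem (htR 0) (htR 1)) (htR 2)) (htR 3)
    · rw [hUs]; exact htR i
  have hU2 : ∀ o, ((U o : GL S6I F) : Matrix S6I S6I F) * ((U o : GL S6I F) : Matrix S6I S6I F) = 1 := by
    intro o
    rcases o with _ | i
    · rw [hUn]; exact r.w_sq
    · rw [hUs]; exact ht2 i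
  have hWt : ∀ i : Fin 4, ((U none : GL S6I F) : Matrix S6I S6I F) * (t i : Matrix S6I S6I F) =
      -((t i : Matrix S6I S6I F) * ((U none : GL S6I F) : Matrix S6I S6I F)) := by
    intro i
    rw [hUn]
    fin_cases i
    · exact r.w_0
    · exact r.w_1
    · exact r.w_2
    · exact r.w_3
  have hUa : ∀ o o', o ≠ o' → ((U o : GL S6I F) : Matrix S6I S6I F) * ((U o' : GL S6I F) : Matrix S6I S6I F) =
      -(((U o' : GL S6I F) : Matrix S6I S6I F) * ((U o : GL S6I F) : Matrix S6I S6I F)) := by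
    intro o o' hoo
    rcases o with _ | i <;> rcases o' with _ | j
    · exact absurd rfl hoo
    · rw [hUs]; exact hWt j
    · rw [hUs, hWt i, neg_neg]
    · rw [hUs, hUs]; exact hta i j (fun h => hoo (by rw [h]))
  -- distinctness
  have hne : ∀ o o', o ≠ o' → ((U o : GL S6I F) : Matrix S6I S6I F) ≠ ((U o' : GL S6I F) : Matrix S6I S6I F) ∧
      ((U o : GL S6I F) : Matrix S6I S6I F) ≠ -((U o' : GL S6I F) : Matrix S6I S6I F) := by
    intro o o' hoo
    have h := hUa o o' hoo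
    constructor
    · intro heq
      rw [heq, hU2] at h
      exact h1 h
    · intro heq
      rw [heq, neg_mul, mul_neg, neg_neg, hU2] at h
      exact h1 h.symm
  have hself : ∀ o, ((U o : GL S6I F) : Matrix S6I S6I F) ≠ -((U o : GL S6I F) : Matrix S6I S6I F) := by
    intro o heq
    have h := hU2 o
    nth_rewrite 1 [heq] at h
    rw [neg_mul, hU2] at h
    exact h1 h.symm
  have hU1 : ∀ o, ((U o : GL S6I F) : Matrix S6I S6I F) ≠ 1 ∧ ((U o : GL S6I F) : Matrix S6I S6I F) ≠ -1 := by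
    intro o
    obtain ⟨o', hoo⟩ : ∃ o' : Option (Fin 4), o ≠ o' := by
      rcases o with _ | i
      · exact ⟨some 0, by simp⟩
      · exact ⟨none, by simp⟩
    have h := hUa o o' hoo
    constructor
    · intro heq
      rw [heq, one_mul, mul_one] at h
      exact hself o' h
    · intro heq
      rw [heq, neg_mul, one_mul, mul_neg, mul_one, neg_neg] at h
      exact hself o' h.symm
  -- the ten elements
  obtain ⟨g, hg⟩ : ∃ g : Option (Fin 4) × Bool → GL S6I F,
      g = fun x => if x.2 then z * U x.1 else U x.1 := ⟨_, rfl⟩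
  have hgM : ∀ o ε, ((g (o, ε) : GL S6I F) : Matrix S6I S6I F) =
      if ε then -((U o : GL S6I F) : Matrix S6I S6I F) else ((U o : GL S6I F) : Matrix S6I S6I F) := by
    intro o ε
    rw [hg]
    cases ε
    · simp
    · simp [Units.val_mul, hz]
  have hgR : ∀ x, g x ∈ R := by
    intro x
    rw [hg]
    dsimp only
    split_ifs
    · exact R.mul_mem hzR (hUR _)
    · exact hUR _
  have hg2 : ∀ x, ((g x : GL S6I F) : Matrix S6I S6I F) * ((g x : GL S6I F) : Matrix S6I S6I F) = 1 := by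
    rintro ⟨o, ε⟩
    rw [hgM]
    cases ε
    · simpa using hU2 o
    · simpa using hU2 o
  have hg1 : ∀ x, ((g x : GL S6I F) : Matrix S6I S6I F) ≠ 1 := by
    rintro ⟨o, ε⟩
    rw [hgM]
    cases ε
    · simpa using (hU1 o).1
    · intro h
      apply (hU1 o).2
      simp only [if_true] at h
      rw [← h, neg_neg]
  have hg1' : ∀ x, ((g x : GL S6I F) : Matrix S6I S6I F) ≠ -1 := by
    rintro ⟨o, ε⟩
    rw [hgM]
    cases ε
    · simpa using (hU1 o).2
    · intro h
      apply (hU1 o).1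
      simp only [if_true] at h
      exact neg_injective h
  have hinj : Function.Injective (fun x : Option (Fin 4) × Bool =>
      (⟨g x, hgR x, hg2 x, hg1 x, hg1' x⟩ : {s : GL S6I F // s ∈ R ∧ (s : Matrix S6I S6I F) * (s : Matrix S6I S6I F) = 1 ∧ (s : Matrix S6I S6I F) ≠ 1 ∧ (s : Matrix S6I S6I F) ≠ -1})) := by
    rintro ⟨o, ε⟩ ⟨o', ε'⟩ hxy
    have hG : g (o, ε) = g (o', ε') := congrArg Subtype.val hxy
    have hM : ((g (o, ε) : GL S6I F) : Matrix S6I S6I F) = ((g (o', ε') : GL S6I F) : Matrix S6I S6I F) := by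
      rw [hG]
    rw [hgM, hgM] at hM
    by_cases hoo : o = o'
    · subst hoo
      cases ε <;> cases ε'
      · rfl
      · exfalso
        simp only [if_true, if_false, Bool.false_eq_true] at hM
        exact hself o hM
      · exfalso
        simp only [if_true, if_false, Bool.false_eq_true] at hM
        exact hself o hM.symm
      · rfl
    · exfalso
      cases ε <;> cases ε' <;> simp only [if_true, if_false, Bool.false_eq_true] at hM
      · exact (hne o o' hoo).1 hM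
      · exact (hne o o' hoo).2 hM
      · exact (hne o' o (Ne.symm hoo)).2 hM.symm
      · exact (hne o o' hoo).1 (neg_injective hM)
  have hsurj : Function.Surjective (fun x : Option (Fin 4) × Bool =>
      (⟨g x, hgR x, hg2 x, hg1 x, hg1' x⟩ : {s : GL S6I F // s ∈ R ∧ (s : Matrix S6I S6I F) * (s : Matrix S6I S6I F) = 1 ∧ (s : Matrix S6I S6I F) ≠ 1 ∧ (s : Matrix S6I S6I F) ≠ -1})) := by
    rintro ⟨s, hsR, hs2, hs1, hs1'⟩
    obtain ⟨a, ε, hs⟩ := hgen s hsR
    obtain ⟨P, hP⟩ : ∃ P : Matrix S6I S6I F, P = (if a 0 then (t 0 : Matrix S6I S6I F) else 1) *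
        (if a 1 then (t 1 : Matrix S6I S6I F) else 1) * (if a 2 then (t 2 : Matrix S6I S6I F) else 1) *
        (if a 3 then (t 3 : Matrix S6I S6I F) else 1) := ⟨_, rfl⟩
    rw [← hP] at hs
    have hsP : (s : Matrix S6I S6I F) = if ε then -P else P := by
      rw [hs]; cases ε <;> simp
    have hPP : P * P = 1 := by
      rw [hsP] at hs2
      cases ε
      · simpa using hs2
      · simpa using hs2
    have hP1 : P ≠ 1 := by
      intro h
      rw [h] at hsP
      cases ε
      · exact hs1 (by simpa using hsP)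
      · exact hs1' (by simpa using hsP)
    have hcl := r.classify h1 (a 0) (a 1) (a 2) (a 3) P hP hPP hP1
    have key : ∃ o, P = ((U o : GL S6I F) : Matrix S6I S6I F) := by
      rcases hcl with h | h | h | h | h
      · exact ⟨some 0, by rw [hUs]; exact h⟩
      · exact ⟨some 1, by rw [hUs]; exact h⟩
      · exact ⟨some 2, by rw [hUs]; exact h⟩
      · exact ⟨some 3, by rw [hUs]; exact h⟩
      · exact ⟨none, by rw [hUn]; exact h⟩
    obtain ⟨o, ho⟩ := key
    refine ⟨(o, ε), ?_⟩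
    apply Subtype.ext
    apply Units.ext
    show ((g (o, ε) : GL S6I F) : Matrix S6I S6I F) = (s : Matrix S6I S6I F)
    rw [hgM, hsP, ho]
  rw [← Nat.card_congr (Equiv.ofBijective _ ⟨hinj, hsurj⟩)]
  simp [Nat.card_eq_fintype_card]

end Cfsg.Agent.Lib.helper24
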