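import Mathlib

set_option autoImplicit false

namespace Cfsg.Agent.Lib.helper47

section reindex

variable {ι κ : Type*} [Fintype ι] [DecidableEq ι] [Fintype κ] [DecidableEq κ]
  {R : Type*} [CommRing R]

/-- the underlying map of `slReindex` -/
def slReindexFun (e : ι ≃ κ) (A : Matrix.SpecialLinearGroup ι R) :
    Matrix.SpecialLinearGroup κ R :=
  ⟨Matrix.reindex e e (A : Matrix ι ι R), by
    rw [Matrix.det_reindex_self]
    exact A.det_coe⟩

theorem slReindexFun_coe (e : ι ≃ κ) (A : Matrix.SpecialLinearGroup ι R) :
    ((slReindexFun e A : Matrix.SpecialLinearGroup κ R) : Matrix κ κ R) =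
      Matrix.reindex e e (A : Matrix ι ι R) := rfl

/-- reindexing `SL` along an equivalence of index types -/
def slReindex (e : ι ≃ κ) : Matrix.SpecialLinearGroup ι R ≃* Matrix.SpecialLinearGroup κ R where
  toFun := slReindexFun e
  invFun := slReindexFun e.symm
  left_inv A := by
    apply Subtype.ext
    rw [slReindexFun_coe, slReindexFun_coe]
    ext i j
    simp [Matrix.reindex_apply]
  right_inv B := by
    apply Subtype.ext
    rw [slReindexFun_coe, slReindexFun_coe]
    ext i j
    simp [Matrix.reindex_apply]
  map_mul' A B := by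
    apply Subtype.ext
    rw [Matrix.SpecialLinearGroup.coe_mul, slReindexFun_coe, slReindexFun_coe, slReindexFun_coe,
      Matrix.SpecialLinearGroup.coe_mul]
    simp only [Matrix.reindex_apply]
    rw [Matrix.submatrix_mul_equiv]

theorem slReindex_coe (e : ι ≃ κ) (A : Matrix.SpecialLinearGroup ι R) :
    ((slReindex e A : Matrix.SpecialLinearGroup κ R) : Matrix κ κ R) =
      Matrix.reindex e e (A : Matrix ι ι R) := rfl

theorem slReindex_symm_coe (e : ι ≃ κ) (B : Matrix.SpecialLinearGroup κ R) :
    (((slReindex e).symm B : Matrix.SpecialLinearGroup ι R) : Matrix ι ι R) =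
      Matrix.reindex e.symm e.symm (B : Matrix κ κ R) := rfl

end reindex

section center

variable {G H : Type*} [Group G] [Group H]

/-- a group isomorphism preserves the centre -/
theorem mulEquiv_mem_center_iff (e : G ≃* H) (z : G) :
    e z ∈ Subgroup.center H ↔ z ∈ Subgroup.center G := by
  rw [Subgroup.mem_center_iff, Subgroup.mem_center_iff]
  constructor
  · intro h g
    apply e.injective
    rw [map_mul, map_mul]
    exact h (e g)
  · intro h g
    obtain ⟨g', rfl⟩ := e.surjective g
    rw [← map_mul, ← map_mul, h g']

end center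

end Cfsg.Agent.Lib.helper47
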