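import Mathlib
import Cfsg.Prelude.Def_Classical
import Cfsg.Agent.Lib.helper99.UGen1
import Cfsg.Agent.Lib.helper17.Herm
import Cfsg.Agent.Lib.helper44.SUWDefs
import Cfsg.Agent.Lib.helper76.SUWLEVI
import Cfsg.Agent.Lib.helper72.SUODefs

/-!
# S2334, piece TORUS (helper47): the Levi torus element of `SU_{2m+1}(q)` acting on the Siegel
elements by `C ↦ (a σ a) C`.  The `2m × 2m` part follows helper76's `h76_levi_core`, for a general
pair `B`, `B' = B⁻†`.
-/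

set_option autoImplicit false

namespace Cfsg.Agent.Lib.helper72.SUO

open Matrix Cfsg Cfsg.Agent.Lib.helper99 Cfsg.Agent.Lib.helper44.SUW

theorem h47_map_smul_one {K : Type*} [Field K] {n : Type*} [Fintype n] [DecidableEq n]
    (σ : K →+* K) (c : K) : (c • (1 : Matrix n n K)).map σ = σ c • (1 : Matrix n n K) := by
  ext i j
  by_cases h : i = j <;> simp [h]

theorem h47_embMat_mul {K : Type*} [Field K] {m : ℕ}
    (M N : Matrix (Fin (m + m)) (Fin (m + m)) K) (c d : K) :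
    embMat (M * N) (c * d) = embMat M c * embMat N d := by
  unfold embMat
  rw [Matrix.submatrix_mul_equiv, fromBlocks_multiply]
  simp [smul_smul, mul_comm c d]

/-- the Levi matrix for a general pair `B`, `B' = B⁻†` (after helper76's `h76_levi_core`). -/
theorem h47_levi_mat {K : Type*} [Field K] {m : ℕ}
    (σ : K →+* K) (hσσ : ∀ x, σ (σ x) = x)
    (ζ : K) (hζ1 : ζ ≠ 1) (hζ : ζ * σ ζ = 1)
    (ε : K) (hε : ε * σ ε = -1)
    (B B' : Matrix (Fin m) (Fin m) K)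
    (hB'1 : B'ᵀ * B.map σ = 1) (hB'2 : Bᵀ * B'.map σ = 1) (hB'3 : (B.map σ)ᵀ * B' = 1) :
    ∃ M : Matrix (Fin (m + m)) (Fin (m + m)) K, M.det = B.det * B'.det ∧ Mᵀ * M.map σ = 1 ∧
      ∀ C : Matrix (Fin m) (Fin m) K,
        M * uMat σ ε C = uMat σ ε (B * C * (B.map σ)ᵀ) * M := by
  classical
  obtain ⟨a, ha⟩ : ∃ a : K, a = (1 - ζ)⁻¹ := ⟨_, rfl⟩
  obtain ⟨b, hb⟩ : ∃ b : K, b = ε * ζ * a := ⟨_, rfl⟩
  have h1ζ : (1 - ζ) ≠ 0 := sub_ne_zero.2 (Ne.symm hζ1)
  have hε' : σ ε * ε = -1 := by rw [mul_comm]; exact hε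
  have e1 : a + σ ε * b = 1 := by
    calc a + σ ε * b = a * (1 + (σ ε * ε) * ζ) := by rw [hb]; ring
      _ = a * (1 - ζ) := by rw [hε']; ring
      _ = 1 := by rw [ha]; exact inv_mul_cancel₀ h1ζ
  have e2 : a * σ a + b * σ b = 0 := by
    have h : b * σ b = (ε * σ ε) * (ζ * σ ζ) * (a * σ a) := by
      rw [hb]; simp only [map_mul]; ring
    rw [h, hε, hζ]; ring
  have e1' : σ a + ε * σ b = 1 := by
    have h := congrArg σ e1
    simpa [map_add, map_mul, hσσ] using h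
  obtain ⟨P, hP⟩ : ∃ P : Matrix (Fin m ⊕ Fin m) (Fin m ⊕ Fin m) K, P = h76_sb m 1 a ε b :=
    ⟨_, rfl⟩
  obtain ⟨Pi, hPi⟩ : ∃ Pi : Matrix (Fin m ⊕ Fin m) (Fin m ⊕ Fin m) K,
      Pi = h76_sb m (σ a) (σ b) 1 (σ ε) := ⟨_, rfl⟩
  obtain ⟨H, hH⟩ : ∃ H : Matrix (Fin m ⊕ Fin m) (Fin m ⊕ Fin m) K, H = h76_sb m 0 1 1 0 :=
    ⟨_, rfl⟩
  obtain ⟨D, hD⟩ : ∃ D : Matrix (Fin m ⊕ Fin m) (Fin m ⊕ Fin m) K, D = fromBlocks B 0 0 B' :=
    ⟨_, rfl⟩
  have hPiP : Pi * P = 1 := by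
    rw [hPi, hP, h76_sb_mul, ← h76_sb_one]
    refine h76_sb_congr m ?_ ?_ ?_ ?_
    · linear_combination e1'
    · linear_combination e2
    · linear_combination hε
    · linear_combination e1
  have hPPi : P * Pi = 1 := mul_eq_one_comm.1 hPiP
  have hPH : Pᵀ * P.map σ = H := by
    rw [hP, hH, h76_sb_transpose, h76_sb_map, h76_sb_mul]
    refine h76_sb_congr m ?_ ?_ ?_ ?_
    · rw [map_one]; linear_combination hε
    · linear_combination e1'
    · rw [map_one]; linear_combination e1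
    · linear_combination e2
  have hHf : H = fromBlocks 0 1 1 0 := by
    rw [hH]; unfold h76_sb; simp
  have hDH : Dᵀ * H * D.map σ = H := by
    rw [hHf, hD, fromBlocks_transpose, fromBlocks_map, fromBlocks_multiply, fromBlocks_multiply]
    simp [hB'1, hB'2]
  have hdetD : D.det = B.det * B'.det := by
    rw [hD, Matrix.det_fromBlocks_zero₂₁]
  obtain ⟨G, hG⟩ : ∃ G : Matrix (Fin m ⊕ Fin m) (Fin m ⊕ Fin m) K, G = P * D * Pi := ⟨_, rfl⟩
  have hGu : Gᵀ * G.map σ = 1 := by rw [hG]; exact h76_conj_unitary σ P Pi D H hPPi hPH hDH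
  have hGdet : G.det = B.det * B'.det := by
    rw [hG, Matrix.det_mul, Matrix.det_mul, hdetD]
    have h1 : P.det * Pi.det = 1 := by rw [← Matrix.det_mul, hPPi, Matrix.det_one]
    linear_combination (B.det * B'.det) * h1
  have hU : ∀ C : Matrix (Fin m) (Fin m) K,
      fromBlocks (1 + C) (σ ε • C) (ε • C) (1 - C) = 1 + P * fromBlocks 0 C 0 0 * Pi := by
    intro C
    rw [hP, hPi]
    unfold h76_sb
    rw [fromBlocks_multiply, fromBlocks_multiply, ← fromBlocks_one, fromBlocks_add]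
    congr 1 <;> simp [smul_smul, hε', sub_eq_add_neg]
  have hDN : ∀ C : Matrix (Fin m) (Fin m) K,
      D * fromBlocks 0 C 0 0 = fromBlocks 0 (B * C * (B.map σ)ᵀ) 0 0 * D := by
    intro C
    rw [hD, fromBlocks_multiply, fromBlocks_multiply]
    simp [Matrix.mul_assoc, hB'3]
  obtain ⟨e, he⟩ : ∃ e : Fin (m + m) ≃ Fin m ⊕ Fin m, e = finSumFinEquiv.symm := ⟨_, rfl⟩
  have hMdet : (G.submatrix e e).det = B.det * B'.det := by
    rw [Matrix.det_submatrix_equiv_self]; exact hGdet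
  have hMu : (G.submatrix e e)ᵀ * (G.submatrix e e).map σ = 1 := by
    have h : (G.submatrix e e)ᵀ * (G.submatrix e e).map σ = (Gᵀ * G.map σ).submatrix e e := by
      rw [← Matrix.submatrix_mul_equiv Gᵀ (G.map σ) e e e]
      rfl
    rw [h, hGu, Matrix.submatrix_one_equiv]
  refine ⟨G.submatrix e e, hMdet, hMu, fun C => ?_⟩
  unfold uMat
  rw [← he]
  rw [Matrix.submatrix_mul_equiv, Matrix.submatrix_mul_equiv, hU C, hU (B * C * (B.map σ)ᵀ), hG,
    h76_conj_comm P Pi D _ _ hPiP (hDN C)]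

/-- TORUS (L) -/
theorem torus {K : Type*} [Field K] [Fintype K] {q m : ℕ} (hK : Fintype.card K = q ^ 2)
    (σ : K →+* K) (hσ : ∀ x, σ x = x ^ q) (ε : K) (hε : ε * σ ε = -1) (a : K) (ha : a ≠ 0) :
    ∃ g : ↥(Cfsg.SU (m + m + 1) K q), ∀ C ∈ skewH σ m,
      suMat g * uhMat σ ε C =
        uhMat σ ε ((a • (1 : Matrix (Fin m) (Fin m) K)) * C *
          ((a • (1 : Matrix (Fin m) (Fin m) K)).map σ)ᵀ) * suMat g := by
  classical
  have hσσ : ∀ x, σ (σ x) = x := by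
    intro x
    rw [hσ, hσ, Cfsg.Agent.Lib.helper17.pow_q_pow_q hK]
  have hq2 : 1 < q := Cfsg.Agent.Lib.helper17.two_le_of_card_eq_sq hK
  have hθ : ∃ θ : K, σ θ ≠ θ := by
    by_contra hall
    push Not at hall
    have hsub : (Finset.univ : Finset K).val ⊆
        (Polynomial.X ^ q - Polynomial.X : Polynomial K).roots := by
      intro x _
      rw [Polynomial.mem_roots (FiniteField.X_pow_card_sub_X_ne_zero K hq2)]
      have hx : x ^ q = x := by rw [← hσ]; exact hall x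
      simp [hx]
    have h := Polynomial.card_le_degree_of_subset_roots hsub
    rw [FiniteField.X_pow_card_sub_X_natDegree_eq K hq2, Finset.card_univ, hK] at h
    nlinarith
  obtain ⟨θ, hθ⟩ := hθ
  have hθ0 : θ ≠ 0 := by
    rintro rfl
    exact hθ (map_zero σ)
  have hσ0 : ∀ x : K, x ≠ 0 → σ x ≠ 0 := by
    intro x hx h
    apply hx
    have h2 := congrArg σ h
    rw [hσσ, map_zero] at h2
    exact h2
  have hσθ0 : σ θ ≠ 0 := hσ0 θ hθ0
  have hζ1 : θ / σ θ ≠ 1 := by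
    intro h
    rw [div_eq_one_iff_eq hσθ0] at h
    exact hθ h.symm
  have hζ : (θ / σ θ) * σ (θ / σ θ) = 1 := by
    rw [map_div₀, hσσ]
    field_simp
  have hσa : σ a ≠ 0 := hσ0 a ha
  obtain ⟨B, hBdef⟩ : ∃ B : Matrix (Fin m) (Fin m) K, B = a • 1 := ⟨_, rfl⟩
  obtain ⟨B', hB'def⟩ : ∃ B' : Matrix (Fin m) (Fin m) K, B' = (σ a)⁻¹ • 1 := ⟨_, rfl⟩
  have hmapB : B.map σ = σ a • (1 : Matrix (Fin m) (Fin m) K) := by
    rw [hBdef, h47_map_smul_one]
  have hmapB' : B'.map σ = a⁻¹ • (1 : Matrix (Fin m) (Fin m) K) := by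
    rw [hB'def, h47_map_smul_one, map_inv₀, hσσ]
  have hB'1 : B'ᵀ * B.map σ = 1 := by
    rw [hmapB, hB'def, Matrix.transpose_smul, Matrix.transpose_one, Matrix.smul_mul,
      Matrix.one_mul, smul_smul, inv_mul_cancel₀ hσa, one_smul]
  have hB'2 : Bᵀ * B'.map σ = 1 := by
    rw [hmapB', hBdef, Matrix.transpose_smul, Matrix.transpose_one, Matrix.smul_mul,
      Matrix.one_mul, smul_smul, mul_inv_cancel₀ ha, one_smul]
  have hB'3 : (B.map σ)ᵀ * B' = 1 := by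
    rw [hmapB, hB'def, Matrix.transpose_smul, Matrix.transpose_one, Matrix.smul_mul,
      Matrix.one_mul, smul_smul, mul_inv_cancel₀ hσa, one_smul]
  obtain ⟨M, hMdet, hMu, hMc⟩ :=
    h47_levi_mat σ hσσ (θ / σ θ) hζ1 hζ ε hε B B' hB'1 hB'2 hB'3
  have hdetB : B.det = a ^ m := by
    rw [hBdef, Matrix.det_smul, Matrix.det_one, mul_one, Fintype.card_fin]
  have hdetB' : B'.det = (σ a)⁻¹ ^ m := by
    rw [hB'def, Matrix.det_smul, Matrix.det_one, mul_one, Fintype.card_fin]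
  obtain ⟨μ, hμ⟩ : ∃ μ : K, μ = (σ a * a⁻¹) ^ m := ⟨_, rfl⟩
  have hμσ : μ * σ μ = 1 := by
    rw [hμ, map_pow, map_mul, map_inv₀, hσσ, ← mul_pow]
    have h1 : σ a * a⁻¹ * (a * (σ a)⁻¹) = 1 := by field_simp
    rw [h1, one_pow]
  have hdetμ : M.det * μ = 1 := by
    rw [hMdet, hdetB, hdetB', hμ, ← mul_pow, ← mul_pow]
    have h1 : a * (σ a)⁻¹ * (σ a * a⁻¹) = 1 := by field_simp
    rw [h1, one_pow]
  have hEdet : (embMat M μ).det = 1 := by
    unfold embMat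
    rw [Matrix.det_submatrix_equiv_self, Matrix.det_fromBlocks_zero₂₁, Matrix.det_smul,
      Matrix.det_one, mul_one, Fintype.card_fin, pow_one]
    exact hdetμ
  have hEu : (embMat M μ)ᵀ * (embMat M μ).map σ = 1 := by
    unfold embMat
    have h : ((fromBlocks M 0 0 (μ • (1 : Matrix (Fin 1) (Fin 1) K))).submatrix
          finSumFinEquiv.symm finSumFinEquiv.symm)ᵀ *
        ((fromBlocks M 0 0 (μ • (1 : Matrix (Fin 1) (Fin 1) K))).submatrix
          finSumFinEquiv.symm finSumFinEquiv.symm).map σ =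
        ((fromBlocks M 0 0 (μ • (1 : Matrix (Fin 1) (Fin 1) K)))ᵀ *
          (fromBlocks M 0 0 (μ • (1 : Matrix (Fin 1) (Fin 1) K))).map σ).submatrix
          finSumFinEquiv.symm finSumFinEquiv.symm := by
      rw [← Matrix.submatrix_mul_equiv _ _ finSumFinEquiv.symm finSumFinEquiv.symm
        finSumFinEquiv.symm]
      rfl
    have h2 : (μ • (1 : Matrix (Fin 1) (Fin 1) K))ᵀ * (μ • (1 : Matrix (Fin 1) (Fin 1) K)).map σ
        = 1 := by
      rw [h47_map_smul_one, Matrix.transpose_smul, Matrix.transpose_one, Matrix.smul_mul,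
        Matrix.one_mul, smul_smul, hμσ, one_smul]
    rw [h, fromBlocks_transpose, fromBlocks_map, fromBlocks_multiply, hMu, h2]
    simp [fromBlocks_one]
  refine ⟨mkSU (embMat M μ) hEdet (h76_herm_of_unitary σ hσ _ hEu), fun C _ => ?_⟩
  rw [suMat_mkSU]
  unfold uhMat
  rw [← hBdef, ← h47_embMat_mul, ← h47_embMat_mul, hMc C, mul_one, one_mul]

end Cfsg.Agent.Lib.helper72.SUO
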