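import Mathlib
import Cfsg.Agent.Lib.helper47.SUWRANK1

/-!
# S2335, piece PAIR (racer copy by helper47): the characters `C ↦ ψ (tr (Y C))` of the
skew-Hermitian matrices are non-trivial for `Y ≠ 0`, hence sum to zero.
-/

set_option autoImplicit false

namespace Cfsg.Agent.Lib.helper44.SUW

open Matrix

/-- PAIR (racer copy, verbatim statement) -/
theorem h47_pair_orth {K : Type*} [Field K] [Fintype K] {q m : ℕ} (hK : Fintype.card K = q ^ 2)
    (σ : K →+* K) (hσ : ∀ x, σ x = x ^ q) (ψ : AddChar K ℂ) (hψ : ψ 1 ≠ 1)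
    [Fintype ↥(skewH σ m)] (Y : Matrix (Fin m) (Fin m) K) (hY : Y ∈ skewH σ m) (hY0 : Y ≠ 0) :
    ∑ C : ↥(skewH σ m), ψ (Matrix.trace (Y * C.1)) = 0 := by
  obtain ⟨hσσ, hσid⟩ := h47_sigma_facts hK σ hσ
  obtain ⟨v, hv⟩ := h47_exists_aniso_core σ hσσ hσid Y hY hY0
  obtain ⟨a, ha⟩ : ∃ a, a = hval σ Y v := ⟨_, rfl⟩
  have ha0 : a ≠ 0 := by rw [ha]; exact hv
  have hσa : σ a = -a := by
    have h := h47_sq_conj σ hσσ Y hY v v
    rw [h47_sq_self, ← ha] at h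
    linear_combination h
  obtain ⟨C₂, hC₂⟩ : ∃ C₂ : Matrix (Fin m) (Fin m) K,
      C₂ = a⁻¹ • Matrix.vecMulVec v (fun j => σ (v j)) := ⟨_, rfl⟩
  have hmem : C₂ ∈ skewH σ m := by
    rw [mem_skewH]
    intro i j
    rw [hC₂]
    simp only [Matrix.smul_apply, Matrix.vecMulVec_apply, smul_eq_mul, map_mul, map_inv₀, hσa,
      hσσ]
    field_simp
  have htr : Matrix.trace (Y * C₂) = 1 := by
    have h1 : Matrix.trace (Y * C₂) = a⁻¹ * hval σ Y v := by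
      rw [hC₂, Matrix.trace]
      simp only [Matrix.diag_apply, Matrix.mul_apply, Matrix.smul_apply,
        Matrix.vecMulVec_apply, smul_eq_mul]
      unfold hval
      rw [Finset.mul_sum]
      refine Finset.sum_congr rfl (fun i _ => ?_)
      rw [Finset.mul_sum]
      refine Finset.sum_congr rfl (fun j _ => ?_)
      ring
    rw [h1, ← ha, inv_mul_cancel₀ ha0]
  obtain ⟨f, hf⟩ : ∃ f : ↥(skewH σ m) → ℂ, f = fun C => ψ (Matrix.trace (Y * C.1)) := ⟨_, rfl⟩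
  have hfC : ∀ C : ↥(skewH σ m), f C = ψ (Matrix.trace (Y * C.1)) := fun C => by rw [hf]
  have hstep : ∀ C : ↥(skewH σ m), f (C + ⟨C₂, hmem⟩) = ψ 1 * f C := by
    intro C
    rw [hfC, hfC]
    have h2 : ((C + ⟨C₂, hmem⟩ : ↥(skewH σ m)) : Matrix (Fin m) (Fin m) K) = C.1 + C₂ := rfl
    rw [h2, Matrix.mul_add, Matrix.trace_add, AddChar.map_add_eq_mul, htr, mul_comm]
  have hshift : ∑ C : ↥(skewH σ m), f C = ψ 1 * ∑ C : ↥(skewH σ m), f C := by
    have h3 : ∑ C : ↥(skewH σ m), f (C + ⟨C₂, hmem⟩) = ∑ C : ↥(skewH σ m), f C :=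
      Equiv.sum_comp (Equiv.addRight (⟨C₂, hmem⟩ : ↥(skewH σ m))) f
    rw [Finset.mul_sum, ← h3]
    exact Finset.sum_congr rfl (fun C _ => hstep C)
  have h1 : (ψ 1 - 1) * ∑ C : ↥(skewH σ m), f C = 0 := by linear_combination -hshift
  have h4 : ∑ C : ↥(skewH σ m), ψ (Matrix.trace (Y * C.1)) = ∑ C : ↥(skewH σ m), f C :=
    Finset.sum_congr rfl (fun C _ => (hfC C).symm)
  rw [h4]
  rcases mul_eq_zero.1 h1 with h | h
  · exact absurd (sub_eq_zero.1 h) hψ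
  · exact h

end Cfsg.Agent.Lib.helper44.SUW
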