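import Mathlib
import Cfsg.Agent.Lib.helper47.SpFusE

/-!
A nontrivial subgroup of `U` closed under `Sp`-fusion inside `U` is all of `U`.
-/

set_option autoImplicit false

namespace Cfsg.Agent.Lib.helper47.SpFus

open Matrix Cfsg.Agent.Lib.helper47.PSLn Cfsg.Agent.Lib.helper47.PSLnFus

variable {m : ℕ} {F : Type*} [Field F]

local notation "Tv" => Matrix.SpecialLinearGroup.transvection

theorem single_neg' (i j : Fin m) (c : F) : Matrix.single i j (-c) = -Matrix.single i j c := by
  ext a b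
  simp only [Matrix.single_apply, Matrix.neg_apply]
  split_ifs <;> simp

theorem symij (i j : Fin m) (c : F) : (Matrix.single i j c + Matrix.single j i c)ᵀ =
    Matrix.single i j c + Matrix.single j i c := by
  rw [transpose_add, Matrix.transpose_single, Matrix.transpose_single, add_comm]

theorem phi_wE_coe (j : Fin m) : (phi j (wE h01 (1 : F))).1 =
    fromBlocks (1 + Matrix.single j j (-1)) (Matrix.single j j 1) (Matrix.single j j (-1))
      (1 + Matrix.single j j (-1)) := by
  rw [phi_coe, wE_coe h01 1 one_ne_zero]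
  unfold embM
  have e00 : ((1 - Matrix.single 0 0 1 - Matrix.single 1 1 1 +
      Matrix.single 0 1 1 + Matrix.single 1 0 (-(1 : F)⁻¹) : Matrix (Fin 2) (Fin 2) F)) 0 0 = 0 := by
    simp [Matrix.single_apply]
  have e01 : ((1 - Matrix.single 0 0 1 - Matrix.single 1 1 1 +
      Matrix.single 0 1 1 + Matrix.single 1 0 (-(1 : F)⁻¹) : Matrix (Fin 2) (Fin 2) F)) 0 1 = 1 := by
    simp [Matrix.single_apply]
  have e10 : ((1 - Matrix.single 0 0 1 - Matrix.single 1 1 1 +
      Matrix.single 0 1 1 + Matrix.single 1 0 (-(1 : F)⁻¹) : Matrix (Fin 2) (Fin 2) F)) 1 0 = -1 := by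
    simp [Matrix.single_apply]
  have e11 : ((1 - Matrix.single 0 0 1 - Matrix.single 1 1 1 +
      Matrix.single 0 1 1 + Matrix.single 1 0 (-(1 : F)⁻¹) : Matrix (Fin 2) (Fin 2) F)) 1 1 = 0 := by
    simp [Matrix.single_apply]
  rw [e00, e01, e10, e11, zero_sub]

/-- The Weyl element of the `j`-th hyperbolic plane conjugates the short root element
`rS (c (E_ij + E_ji))` to the Levi transvection `1 + c E_ij`. -/
theorem claimC [NeZero m] {i j : Fin m} (hij : i ≠ j) (c : F) :
    phi j (wE h01 (1 : F)) * rS (Matrix.single i j c + Matrix.single j i c) (symij i j c) *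
      (phi j (wE h01 (1 : F)))⁻¹ = lvS (Tv hij c) := by
  suffices h : phi j (wE h01 (1 : F)) * rS (Matrix.single i j c + Matrix.single j i c)
      (symij i j c) = lvS (Tv hij c) * phi j (wE h01 (1 : F)) by rw [h]; group
  apply Subtype.ext
  rw [sp_coe_mul, sp_coe_mul, phi_wE_coe, rS_coe, lvS_Tv_coe, fromBlocks_multiply,
    fromBlocks_multiply]
  simp only [Matrix.add_mul, Matrix.mul_add, Matrix.one_mul, Matrix.mul_one, Matrix.mul_zero,
    Matrix.zero_mul, add_zero, zero_add, Matrix.single_mul_single_same, single_mul_ne hij,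
    single_mul_ne hij.symm, mul_one, one_mul, mul_neg, neg_mul, single_neg', neg_neg]
  congr 1 <;> abel

theorem rS_inv (S : Matrix (Fin m) (Fin m) F) (hS : Sᵀ = S) :
    (rS S hS)⁻¹ = rS (-S) (by rw [transpose_neg, hS]) := by
  apply inv_eq_of_mul_eq_one_right
  rw [rS_mul]
  apply Subtype.ext
  rw [rS_coe, sp_coe_one, add_neg_cancel, fromBlocks_one]

/-- The symmetric matrices `S` with `rS S ∈ T`. -/
def LT (T : Subgroup (SpG m F)) : AddSubgroup (Matrix (Fin m) (Fin m) F) where
  carrier := {S | ∃ hS : Sᵀ = S, rS S hS ∈ T}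
  add_mem' := by
    rintro S S' ⟨hS, h1⟩ ⟨hS', h2⟩
    refine ⟨by rw [transpose_add, hS, hS'], ?_⟩
    rw [← rS_mul S S' hS hS']
    exact T.mul_mem h1 h2
  zero_mem' := ⟨transpose_zero, by rw [rS_zero]; exact T.one_mem⟩
  neg_mem' := by
    rintro S ⟨hS, h1⟩
    refine ⟨by rw [transpose_neg, hS], ?_⟩
    rw [← rS_inv S hS]
    exact T.inv_mem h1

theorem mem_LT (T : Subgroup (SpG m F)) (S : Matrix (Fin m) (Fin m) F) :
    S ∈ LT T ↔ ∃ hS : Sᵀ = S, rS S hS ∈ T := Iff.rfl

section closed

variable [Finite F] (T : Subgroup (SpG m F))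
  (hcl : ∀ x ∈ T, ∀ g : SpG m F, g * x * g⁻¹ ∈ U m F → g * x * g⁻¹ ∈ T)

include hcl

theorem LT_conj (g : GL (Fin m) F) (S : Matrix (Fin m) (Fin m) F) (hS : S ∈ LT T) :
    (g : Matrix (Fin m) (Fin m) F) * S * (g : Matrix (Fin m) (Fin m) F)ᵀ ∈ LT T := by
  obtain ⟨hS', h1⟩ := hS
  refine ⟨congr_symm _ S hS', ?_⟩
  have h2 := hcl _ h1 (lv g) (by rw [lv_conj_rS]; exact RS_le_U (rS_mem_RS _ _))
  rwa [lv_conj_rS] at h2

theorem LT_conj_Tv {i j : Fin m} (hij : i ≠ j) (t : F) (S : Matrix (Fin m) (Fin m) F)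
    (hS : S ∈ LT T) : (1 + Matrix.single i j t) * S * (1 + Matrix.single j i t) ∈ LT T := by
  have h := LT_conj T hcl (Matrix.SpecialLinearGroup.toGL (Tv hij t)) S hS
  rw [Matrix.SpecialLinearGroup.coe_GL_coe_matrix, Matrix.SpecialLinearGroup.transvection_coe,
    transpose_add, transpose_one, Matrix.transpose_single] at h
  exact h

theorem LT_comm (hTU : T ≤ U m F) (A : SpecialLinearGroup (Fin m) F) (hA : lvS A ∈ T)
    (S : Matrix (Fin m) (Fin m) F) (hS : Sᵀ = S) : S - A.1 * S * A.1ᵀ ∈ LT T := by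
  have hr : rS S hS ∈ U m F := RS_le_U (rS_mem_RS S hS)
  have h1 : rS S hS * lvS A * (rS S hS)⁻¹ ∈ T :=
    hcl _ hA _ ((U m F).mul_mem ((U m F).mul_mem hr (hTU hA)) ((U m F).inv_mem hr))
  have h2 := T.mul_mem h1 (T.inv_mem hA)
  have h3 : rS S hS * lvS A * (rS S hS)⁻¹ * (lvS A)⁻¹ =
      rS S hS * (lvS A * rS (-S) (by rw [transpose_neg, hS]) * (lvS A)⁻¹) := by
    rw [rS_inv]; group
  have h4 : lvS A = lv (Matrix.SpecialLinearGroup.toGL A) := rfl
  rw [h3, h4, lv_conj_rS, rS_mul, Matrix.SpecialLinearGroup.coe_GL_coe_matrix] at h2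
  have h5 : S + A.1 * (-S) * A.1ᵀ ∈ LT T := ⟨_, h2⟩
  have e : S + A.1 * (-S) * A.1ᵀ = S - A.1 * S * A.1ᵀ := by
    rw [Matrix.mul_neg, Matrix.neg_mul, sub_eq_add_neg]
  rw [e] at h5
  exact h5

/-- Diagonal elements of `LT` give all "short root" elements. -/
theorem LT_short_of_diag (h1 : ∀ (i : Fin m) (c : F), Matrix.single i i c ∈ LT T)
    {i j : Fin m} (hij : i ≠ j) (c : F) : Matrix.single i j c + Matrix.single j i c ∈ LT T := by
  have h2 := LT_conj_Tv T hcl hij.symm 1 _ (h1 i c)
  have h3 := (LT T).sub_mem ((LT T).sub_mem h2 (h1 i c)) (h1 j c)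
  have e : (1 + Matrix.single j i (1 : F)) * Matrix.single i i c * (1 + Matrix.single i j 1) -
      Matrix.single i i c - Matrix.single j j c = Matrix.single i j c + Matrix.single j i c := by
    simp only [Matrix.add_mul, Matrix.mul_add, Matrix.one_mul, Matrix.mul_one,
      Matrix.single_mul_single_same, mul_one, one_mul]
    abel
  rw [e] at h3
  exact h3

/-- `LT` contains all symmetric matrices as soon as it contains the diagonal ones. -/
theorem LT_all_of_diag (h1 : ∀ (i : Fin m) (c : F), Matrix.single i i c ∈ LT T)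
    (S : Matrix (Fin m) (Fin m) F) (hS : Sᵀ = S) : S ∈ LT T := by
  have hN : ∀ N : Matrix (Fin m) (Fin m) F, N + Nᵀ ∈ LT T := by
    intro N
    have e1 := Matrix.matrix_eq_sum_single N
    have e : N + Nᵀ = ∑ i, ∑ j, (Matrix.single i j (N i j) + Matrix.single j i (N i j)) := by
      calc N + Nᵀ = (∑ i, ∑ j, Matrix.single i j (N i j)) +
            (∑ i, ∑ j, Matrix.single i j (N i j))ᵀ := by rw [← e1]
        _ = _ := by
          simp only [Matrix.transpose_sum, Matrix.transpose_single, ← Finset.sum_add_distrib]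
    rw [e]
    refine AddSubgroup.sum_mem _ (fun i _ => AddSubgroup.sum_mem _ (fun j _ => ?_))
    by_cases hij : i = j
    · subst hij
      exact (LT T).add_mem (h1 i _) (h1 i _)
    · exact LT_short_of_diag T hcl h1 hij _
  have hD : Matrix.diagonal (fun i => S i i) ∈ LT T := by
    rw [Matrix.matrix_eq_sum_single (Matrix.diagonal (fun i => S i i))]
    refine AddSubgroup.sum_mem _ (fun i _ => AddSubgroup.sum_mem _ (fun j _ => ?_))
    by_cases hij : i = j
    · subst hij
      exact h1 i _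
    · rw [Matrix.diagonal_apply_ne _ hij, Matrix.single_zero]
      exact (LT T).zero_mem
  have e : S = (Matrix.of fun i j => if i < j then S i j else 0) +
      (Matrix.of fun i j => if i < j then S i j else 0)ᵀ + Matrix.diagonal (fun i => S i i) := by
    ext a b
    simp only [Matrix.add_apply, Matrix.transpose_apply, Matrix.of_apply]
    rcases lt_trichotomy a b with h | h | h
    · rw [if_pos h, if_neg (not_lt_of_gt h), Matrix.diagonal_apply_ne _ (ne_of_lt h), add_zero,
        add_zero]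
    · subst h
      rw [if_neg (lt_irrefl a), Matrix.diagonal_apply_eq, add_zero, zero_add]
    · rw [if_neg (not_lt_of_gt h), if_pos h, Matrix.diagonal_apply_ne _ (ne_of_gt h), add_zero,
        zero_add]
      exact (congrFun (congrFun hS a) b).symm
  rw [e]
  exact (LT T).add_mem (hN _) hD

/-- All diagonal elements from the long root group. -/
theorem LT_diag_of_long [NeZero m] (h0 : ∀ c : F, Matrix.single (0 : Fin m) 0 c ∈ LT T)
    (i : Fin m) (c : F) : Matrix.single i i c ∈ LT T := by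
  by_cases hi : i = 0
  · subst hi
    exact h0 c
  · have h2 := LT_conj_Tv T hcl hi 1 _ (h0 c)
    have h3 := LT_conj_Tv T hcl (Ne.symm hi) (-1) _ h2
    have e : (1 + Matrix.single (0 : Fin m) i (-1 : F)) *
        ((1 + Matrix.single i 0 (1 : F)) * Matrix.single 0 0 c * (1 + Matrix.single 0 i 1)) *
        (1 + Matrix.single i 0 (-1 : F)) = Matrix.single i i c := by
      simp only [Matrix.add_mul, Matrix.mul_add, Matrix.one_mul, Matrix.mul_one,
        Matrix.single_mul_single_same, single_mul_ne hi, single_mul_ne (Ne.symm hi), mul_one,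
        one_mul, mul_neg, neg_mul, single_neg', neg_neg, add_zero, zero_add, Matrix.mul_zero,
        Matrix.zero_mul, Matrix.mul_neg, Matrix.neg_mul]
      abel
    rw [e] at h3
    exact h3

/-- The diagonal matrix with `t` at position `i`. -/
def dgi (i : Fin m) (t : F) (ht : t ≠ 0) : GL (Fin m) F :=
  dg (fun k => if k = i then Units.mk0 t ht else 1)

omit [Finite F] hcl in
theorem dgi_coe (i : Fin m) (t : F) (ht : t ≠ 0) :
    ((dgi i t ht : GL (Fin m) F) : Matrix (Fin m) (Fin m) F) =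
      1 + Matrix.single i i (t - 1) := by
  show Matrix.diagonal (fun k => (((if k = i then Units.mk0 t ht else 1 : Fˣ)) : F)) = _
  ext a b
  rw [Matrix.add_apply, Matrix.single_apply]
  by_cases hab : a = b
  · subst hab
    rw [Matrix.one_apply_eq, Matrix.diagonal_apply_eq]
    by_cases hai : a = i
    · subst hai
      rw [if_pos rfl, if_pos ⟨rfl, rfl⟩, Units.val_mk0]; ring
    · rw [if_neg hai, if_neg (fun h => hai h.1.symm), add_zero, Units.val_one]
  · rw [Matrix.one_apply_ne hab, Matrix.diagonal_apply_ne _ hab,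
      if_neg (fun h => hab (h.1.symm.trans h.2)), add_zero]

theorem LT_conj_dgi (i : Fin m) (t : F) (ht : t ≠ 0) (S : Matrix (Fin m) (Fin m) F)
    (hS : S ∈ LT T) :
    (1 + Matrix.single i i (t - 1)) * S * (1 + Matrix.single i i (t - 1)) ∈ LT T := by
  have h := LT_conj T hcl (dgi i t ht) S hS
  rw [dgi_coe, transpose_add, transpose_one, Matrix.transpose_single] at h
  exact h

theorem LT_long_scale [NeZero m] (t x : F) (h : Matrix.single (0 : Fin m) 0 x ∈ LT T) :
    Matrix.single (0 : Fin m) 0 (t * x * t) ∈ LT T := by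
  by_cases ht : t = 0
  · subst ht
    rw [zero_mul, zero_mul, Matrix.single_zero]
    exact (LT T).zero_mem
  · have h2 := LT_conj_dgi T hcl 0 t ht _ h
    have e : (1 + Matrix.single (0 : Fin m) (0 : Fin m) (t - 1)) *
        Matrix.single (0 : Fin m) (0 : Fin m) x *
        (1 + Matrix.single (0 : Fin m) (0 : Fin m) (t - 1)) =
        Matrix.single (0 : Fin m) (0 : Fin m) (t * x * t) := by
      simp only [Matrix.add_mul, Matrix.mul_add, Matrix.one_mul, Matrix.mul_one,
        Matrix.single_mul_single_same, ← Matrix.single_add]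
      congr 1
      ring
    rw [e] at h2
    exact h2

/-- One nontrivial long root element gives the whole long root group. -/
theorem LT_long_all [NeZero m] (a : F) (ha : a ≠ 0) (h : Matrix.single (0 : Fin m) 0 a ∈ LT T)
    (c : F) : Matrix.single (0 : Fin m) 0 c ∈ LT T := by
  by_cases h2 : (2 : F) = 0
  · have hch : ringChar F = 2 :=
      CharP.ringChar_of_prime_eq_zero Nat.prime_two (by exact_mod_cast h2)
    obtain ⟨r, hr⟩ := FiniteField.isSquare_of_char_two hch (c / a)
    have h3 := LT_long_scale T hcl r a h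
    have e : r * a * r = c := by
      calc r * a * r = (r * r) * a := by ring
        _ = c := by rw [← hr]; field_simp
    rw [e] at h3
    exact h3
  · have h3 := LT_long_scale T hcl ((c / a + 1) / 2) a h
    have h4 := LT_long_scale T hcl ((c / a - 1) / 2) a h
    have h5 := (LT T).sub_mem h3 h4
    have e : Matrix.single (0 : Fin m) (0 : Fin m) ((c / a + 1) / 2 * a * ((c / a + 1) / 2)) -
        Matrix.single (0 : Fin m) (0 : Fin m) ((c / a - 1) / 2 * a * ((c / a - 1) / 2)) =
        Matrix.single (0 : Fin m) (0 : Fin m) c := by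
      rw [sub_eq_add_neg, ← single_neg', ← Matrix.single_add]
      congr 1
      field_simp
      ring
    rw [e] at h5
    exact h5

/-- Short root elements give long root elements. -/
theorem long_of_short [NeZero m] (hTU : T ≤ U m F) (j : Fin m) (c : F) (hj : j ≠ 0)
    (hc : c ≠ 0) (h : Matrix.single 0 j c + Matrix.single j 0 c ∈ LT T) :
    ∃ c' : F, c' ≠ 0 ∧ Matrix.single (0 : Fin m) 0 c' ∈ LT T := by
  have h0j : (0 : Fin m) < j := (Fin.pos_iff_ne_zero' j).mpr hj
  obtain ⟨hs, h1⟩ := id h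
  have h2 : lvS (Tv (ne_of_lt h0j) c) ∈ T := by
    have h3 := hcl _ h1 (phi j (wE h01 1)) (by
      rw [claimC (ne_of_lt h0j) c]; exact lvS_mem_U _ (Tv_mem_UT h0j c))
    rwa [claimC (ne_of_lt h0j) c] at h3
  have h3 := LT_comm T hcl hTU _ h2 (Matrix.single j j 1) (Matrix.transpose_single j j 1)
  rw [Matrix.SpecialLinearGroup.transvection_coe, transpose_add, transpose_one,
    Matrix.transpose_single] at h3
  have h4 := (LT T).add_mem h3 h
  have e : Matrix.single j j (1 : F) - (1 + Matrix.single (0 : Fin m) j c) *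
      Matrix.single j j 1 * (1 + Matrix.single j (0 : Fin m) c) +
      (Matrix.single (0 : Fin m) j c + Matrix.single j (0 : Fin m) c) =
      -Matrix.single (0 : Fin m) (0 : Fin m) (c * c) := by
    simp only [Matrix.add_mul, Matrix.mul_add, Matrix.one_mul, Matrix.mul_one,
      Matrix.single_mul_single_same, mul_one, one_mul]
    abel
  rw [e] at h4
  have h5 := (LT T).neg_mem h4
  rw [neg_neg] at h5
  exact ⟨c * c, mul_ne_zero hc hc, h5⟩

/-- From a central element to a root element. -/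
theorem exists_root_elt [NeZero m] (hm : 2 ≤ m) (hex : m = 2 → ∃ t : F, t ≠ 0 ∧ t ≠ 1)
    (B : Matrix (Fin m) (Fin m) F) (hB0 : B ≠ 0) (hBT : B ∈ LT T)
    (hsh : ∀ (i j : Fin m), i < j → ∀ l, l ≠ i → B j l = 0) :
    (∃ c : F, c ≠ 0 ∧ Matrix.single (0 : Fin m) 0 c ∈ LT T) ∨
    (∃ (j : Fin m) (c : F), j ≠ 0 ∧ c ≠ 0 ∧
      Matrix.single 0 j c + Matrix.single j 0 c ∈ LT T) := by
  obtain ⟨i1, hi1⟩ : ∃ i1 : Fin m, i1.val = 1 := ⟨⟨1, by omega⟩, rfl⟩
  have h10 : i1 ≠ 0 := by
    intro h
    rw [h] at hi1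
    simp at hi1
  have hBs : Bᵀ = B := by
    obtain ⟨h, -⟩ := hBT
    exact h
  have hs : ∀ x y, B x y = B y x := fun x y => congrFun (congrFun hBs y) x
  have hB1 : ∀ j l : Fin m, j ≠ 0 → l ≠ 0 → B j l = 0 :=
    fun j l hj hl => hsh 0 j ((Fin.pos_iff_ne_zero' j).mpr hj) l hl
  have hB2 : ∀ j : Fin m, j ≠ 0 → j ≠ i1 → B j 0 = 0 := by
    intro j hj hj1
    have hlt : i1 < j := by
      rw [Fin.lt_def, hi1]
      have h1 : j.val ≠ 0 := fun h => hj (Fin.ext (by rw [h]; simp))
      have h2 : j.val ≠ 1 := fun h => hj1 (Fin.ext (by rw [h, hi1]))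
      omega
    exact hsh i1 j hlt 0 (Ne.symm h10)
  obtain ⟨a, ha⟩ : ∃ a, a = B 0 0 := ⟨_, rfl⟩
  obtain ⟨b, hb⟩ : ∃ b, b = B 0 i1 := ⟨_, rfl⟩
  have hBeq : B = Matrix.single 0 0 a + (Matrix.single 0 i1 b + Matrix.single i1 0 b) := by
    ext x y
    simp only [Matrix.add_apply, Matrix.single_apply]
    by_cases hx : x = 0
    · subst hx
      by_cases hy : y = 0
      · subst hy
        simp [ha, h10, Ne.symm h10]
      · by_cases hy1 : y = i1
        · subst hy1
          simp [hb, hy, Ne.symm hy]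
        · rw [hs, hB2 y hy hy1]
          simp [Ne.symm hy, Ne.symm hy1, hy]
    · by_cases hy : y = 0
      · subst hy
        by_cases hx1 : x = i1
        · subst hx1
          simp [hb, hx, Ne.symm hx, hs x 0]
        · rw [hB2 x hx hx1]
          simp [Ne.symm hx, Ne.symm hx1, hx]
      · rw [hB1 x y hx hy]
        simp [Ne.symm hx, Ne.symm hy]
  by_cases hb0 : b = 0
  · left
    have ha0 : a ≠ 0 := by
      intro ha0
      apply hB0
      rw [hBeq, hb0, ha0]
      simp
    refine ⟨a, ha0, ?_⟩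
    have h3 := hBT
    rw [hBeq, hb0, Matrix.single_zero, Matrix.single_zero, add_zero, add_zero] at h3
    exact h3
  · right
    by_cases ha0 : a = 0
    · refine ⟨i1, b, h10, hb0, ?_⟩
      have h3 := hBT
      rw [hBeq, ha0, Matrix.single_zero, zero_add] at h3
      exact h3
    · by_cases hm3 : 3 ≤ m
      · obtain ⟨i2, hi2⟩ : ∃ i2 : Fin m, i2.val = 2 := ⟨⟨2, by omega⟩, rfl⟩
        have h21 : i2 ≠ i1 := fun h => by rw [h, hi1] at hi2; omega
        have h20 : i2 ≠ 0 := fun h => by rw [h] at hi2; simp at hi2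
        have h3 := LT_conj_Tv T hcl h21 1 _ hBT
        have h4 := (LT T).sub_mem h3 hBT
        have e : (1 + Matrix.single i2 i1 (1 : F)) * B * (1 + Matrix.single i1 i2 1) - B =
            Matrix.single 0 i2 b + Matrix.single i2 0 b := by
          rw [hBeq]
          simp only [Matrix.add_mul, Matrix.mul_add, Matrix.one_mul, Matrix.mul_one,
            Matrix.single_mul_single_same, single_mul_ne h10, single_mul_ne (Ne.symm h10), mul_one,
            one_mul, add_zero, zero_add, Matrix.mul_zero, Matrix.zero_mul]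
          abel
        rw [e] at h4
        exact ⟨i2, b, h20, hb0, h4⟩
      · have hm2 : m = 2 := by omega
        obtain ⟨t, ht0, ht1⟩ := hex hm2
        have h3 := LT_conj_dgi T hcl i1 t ht0 _ hBT
        have h4 := (LT T).sub_mem h3 hBT
        have e : (1 + Matrix.single i1 i1 (t - 1)) * B * (1 + Matrix.single i1 i1 (t - 1)) - B =
            Matrix.single 0 i1 ((t - 1) * b) + Matrix.single i1 0 ((t - 1) * b) := by
          rw [hBeq]
          simp only [Matrix.add_mul, Matrix.mul_add, Matrix.one_mul, Matrix.mul_one,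
            Matrix.single_mul_single_same, single_mul_ne h10, single_mul_ne (Ne.symm h10),
            add_zero, zero_add, Matrix.mul_zero, Matrix.zero_mul, mul_comm b (t - 1)]
          abel
        rw [e] at h4
        exact ⟨i1, (t - 1) * b, h10, mul_ne_zero (sub_ne_zero.mpr ht1) hb0, h4⟩

end closed

theorem exists_ne_zero_one [Fintype F] (h : 3 ≤ Fintype.card F) : ∃ t : F, t ≠ 0 ∧ t ≠ 1 := by
  classical
  by_contra hcon
  push_neg at hcon
  have hsub : (Finset.univ : Finset F) ⊆ {0, 1} := by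
    intro t _
    by_cases ht : t = 0
    · simp [ht]
    · simp [hcon t ht]
  have h2 := Finset.card_le_card hsub
  rw [Finset.card_univ] at h2
  have h3 : ({0, 1} : Finset F).card ≤ 2 := Finset.card_le_two
  omega

section fin

variable [Fintype F] {p f : ℕ} [Fact p.Prime] [CharP F p] (T : Subgroup (SpG m F))
  (hcl : ∀ x ∈ T, ∀ g : SpG m F, g * x * g⁻¹ ∈ U m F → g * x * g⁻¹ ∈ T)

include hcl

/-- A central element of `U` in `T`. -/
theorem exists_center_elt (hF : Fintype.card F = p ^ f) (hTU : T ≤ U m F) (hT : T ≠ ⊥) :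
    ∃ B : Matrix (Fin m) (Fin m) F, B ≠ 0 ∧ B ∈ LT T ∧
      ∀ (i j : Fin m), i < j → ∀ l, l ≠ i → B j l = 0 := by
  haveI := finite_sp (m := m) (F := F)
  obtain ⟨z, hzT, hz1, hzZ⟩ := exists_ZS_of_closed (U m F) T (isPGroup_U hF) hTU hT
    (fun x hx g hg => hcl x hx g ((U m F).mul_mem ((U m F).mul_mem hg (hTU hx))
      ((U m F).inv_mem hg)))
  rw [mem_ZS] at hzZ
  obtain ⟨hzU, hzc⟩ := hzZ
  have hzR : z ∈ RS m F := mem_RS_of_comm z hzU (fun x hx => (hzc x (RS_le_U hx)).symm)
  obtain ⟨B, hB, rfl⟩ := exists_rS_of_mem z hzR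
  refine ⟨B, ?_, ⟨hB, hzT⟩, ?_⟩
  · rintro rfl
    exact hz1 rS_zero
  · intro i j hij l hl
    have h1 := hzc _ (lvS_mem_U _ (Tv_mem_UT hij (1 : F)))
    have h2 : lvS (Tv (ne_of_lt hij) (1 : F)) * rS B hB *
        (lvS (Tv (ne_of_lt hij) (1 : F)))⁻¹ = rS B hB := by
      rw [h1]; group
    have h3 : lvS (Tv (ne_of_lt hij) (1 : F)) =
        lv (Matrix.SpecialLinearGroup.toGL (Tv (ne_of_lt hij) (1 : F))) := rfl
    rw [h3, lv_conj_rS] at h2
    have h4 := congrArg (fun g : SpG m F => g.1.toBlocks₁₂) h2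
    simp only [rS_coe, toBlocks_fromBlocks₁₂] at h4
    rw [Matrix.SpecialLinearGroup.coe_GL_coe_matrix, Matrix.SpecialLinearGroup.transvection_coe,
      transpose_add, transpose_one, Matrix.transpose_single] at h4
    have h5 := congrFun (congrFun h4 i) l
    rw [Matrix.mul_add, Matrix.mul_one, Matrix.add_apply,
      Matrix.mul_single_apply_of_ne _ _ _ _ _ hl, add_zero, Matrix.add_mul, Matrix.one_mul,
      Matrix.add_apply, Matrix.single_mul_apply_same, one_mul] at h5
    exact left_eq_add.mp h5.symm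

/-- **Strong closure.** A nontrivial subgroup of `U` closed under fusion in `U` is `U`. -/
theorem hsc_sp [NeZero m] (hF : Fintype.card F = p ^ f) (hm : 2 ≤ m)
    (hex : m = 2 → 3 ≤ Fintype.card F) (hTU : T ≤ U m F) (hT : T ≠ ⊥) : T = U m F := by
  obtain ⟨B, hB0, hBT, hsh⟩ := exists_center_elt T hcl hF hTU hT
  have hlong : ∃ c : F, c ≠ 0 ∧ Matrix.single (0 : Fin m) 0 c ∈ LT T := by
    rcases exists_root_elt T hcl hm (fun h => exists_ne_zero_one (hex h)) B hB0 hBT hsh with
      h | ⟨j, c, hj, hc, h⟩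
    · exact h
    · exact long_of_short T hcl hTU j c hj hc h
  obtain ⟨a, ha, hla⟩ := hlong
  have hdiag := LT_diag_of_long T hcl (LT_long_all T hcl a ha hla)
  have hall := LT_all_of_diag T hcl hdiag
  have hRS : RS m F ≤ T := by
    intro x hx
    obtain ⟨S, hS, rfl⟩ := exists_rS_of_mem x hx
    obtain ⟨hS', h⟩ := hall S hS
    exact h
  have hTv : ∀ (i j : Fin m) (hij : i < j) (c : F), lvS (Tv (ne_of_lt hij) c) ∈ T := by
    intro i j hij c
    have h1 := hRS (rS_mem_RS _ (symij i j c))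
    have h3 := hcl _ h1 (phi j (wE h01 1)) (by
      rw [claimC (ne_of_lt hij) c]; exact lvS_mem_U _ (Tv_mem_UT hij c))
    rwa [claimC (ne_of_lt hij) c] at h3
  apply le_antisymm hTU
  intro g hg
  obtain ⟨A, hA, S, hS, rfl⟩ := exists_decomp g hg
  refine T.mul_mem ?_ (hRS (rS_mem_RS S hS))
  have h1 := UT_le_closure A hA
  have h2 : Subgroup.closure {x : SpecialLinearGroup (Fin m) F |
      ∃ (i j : Fin m) (hij : i < j) (c : F), x = Tv (ne_of_lt hij) c} ≤ T.comap lvS := by
    rw [Subgroup.closure_le]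
    rintro _ ⟨i, j, hij, c, rfl⟩
    exact hTv i j hij c
  exact h2 h1

end fin

end Cfsg.Agent.Lib.helper47.SpFus
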