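import Mathlib
import Cfsg.Agent.Lib.helper47.SpFusF

/-!
The `p`-fusion system of `PSp_{2m}(F)` (`m ≥ 2`, `F` finite of characteristic `p`, not
`PSp_4(2)`) is simple: verification of the hypotheses `LeviHyp`.
-/

set_option autoImplicit false

namespace Cfsg.Agent.Lib.helper47.SpFus

open Matrix Cfsg.Agent.Lib.helper47.PSLn Cfsg.Agent.Lib.helper47.PSLnFus
  Cfsg.Agent.Lib.helper47.FusionLevi

local notation "Tv" => Matrix.SpecialLinearGroup.transvection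

/-- Torus elements come from transvections. -/
theorem hE_mem_of_Tv {F : Type*} [Field F] {G' : Type*} [Group G'] {n : ℕ}
    (ψ : SpecialLinearGroup (Fin n) F →* G') (C : Subgroup G') {a b : Fin n} (hab : a ≠ b)
    (h1 : ∀ c : F, ψ (Tv hab c) ∈ C) (h2 : ∀ c : F, ψ (Tv hab.symm c) ∈ C) (t : F) :
    ψ (hE hab t) ∈ C := by
  have hw : ∀ t : F, ψ (wE hab t) ∈ C := by
    intro t
    unfold wE
    rw [map_mul, map_mul]
    exact C.mul_mem (C.mul_mem (h1 t) (h2 _)) (h1 t)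
  unfold hE
  rw [map_mul, map_inv]
  exact C.mul_mem (hw t) (C.inv_mem (hw 1))

variable {m : ℕ} {F : Type*} [Field F]

/-- Torus elements of the Siegel Levi factor. -/
def HS (m : ℕ) (F : Type*) [Field F] : Set (Cfsg.PSp m F) :=
  {y | ∃ (a b : Fin m) (hab : a ≠ b) (t : F), t ≠ 0 ∧ y = prS (lvS (hE hab t))}

/-- Torus elements of the Levi factor of the stabiliser of `⟨e₁⟩`. -/
def HP (m : ℕ) (F : Type*) [Field F] [NeZero m] : Set (Cfsg.PSp m F) :=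
  {y | ∃ (i : Fin m) (t : F), i ≠ 0 ∧ t ≠ 0 ∧ y = prS (phi i (hE h01 t))}

variable [Fintype F] {p f : ℕ} [Fact p.Prime] [CharP F p] [NeZero m]

theorem Ubar_ne_bot (hF : Fintype.card F = p ^ f) :
    (U m F).map (prS (m := m) (F := F)) ≠ ⊥ := by
  intro h
  have h1 : prS (rS (Matrix.single (0 : Fin m) 0 (1 : F)) (Matrix.transpose_single 0 0 1)) ∈
      (U m F).map prS := ⟨_, RS_le_U (rS_mem_RS _ _), rfl⟩
  rw [h, Subgroup.mem_bot] at h1
  have h2 := prS_inj_U hF _ 1 (RS_le_U (rS_mem_RS _ _)) (U m F).one_mem (by rw [h1, map_one])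
  have h3 : (rS (Matrix.single (0 : Fin m) 0 (1 : F)) (Matrix.transpose_single 0 0 1)).1
      (Sum.inl 0) (Sum.inr 0) = (1 : SpG m F).1 (Sum.inl 0) (Sum.inr 0) := by rw [h2]
  rw [rS_coe, sp_coe_one, fromBlocks_apply₁₂, Matrix.single_apply_same,
    Matrix.one_apply_ne Sum.inl_ne_inr] at h3
  exact one_ne_zero h3

theorem hsc_psp (hF : Fintype.card F = p ^ f) (hm : 2 ≤ m) (hex : m = 2 → 3 ≤ Fintype.card F)
    (T : Subgroup (Cfsg.PSp m F)) (hTle : T ≤ (U m F).map prS) (hT : T ≠ ⊥)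
    (hcl : ∀ x ∈ T, ∀ g : Cfsg.PSp m F, g * x * g⁻¹ ∈ (U m F).map prS → g * x * g⁻¹ ∈ T) :
    T = (U m F).map prS := by
  have h1 : T.comap prS ⊓ U m F = U m F := by
    refine hsc_sp (T.comap prS ⊓ U m F) ?_ hF hm hex inf_le_right ?_
    · intro x hx g hg
      refine ⟨?_, hg⟩
      show prS (g * x * g⁻¹) ∈ T
      rw [map_mul, map_mul, map_inv]
      apply hcl _ hx.1
      rw [← map_inv, ← map_mul, ← map_mul]
      exact ⟨_, hg, rfl⟩
    · intro hbot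
      apply hT
      rw [Subgroup.eq_bot_iff_forall]
      intro x hx
      obtain ⟨u, hu, rfl⟩ := hTle hx
      have h2 : u ∈ T.comap prS ⊓ U m F := ⟨hx, hu⟩
      rw [hbot, Subgroup.mem_bot] at h2
      rw [h2, map_one]
  apply le_antisymm hTle
  rintro _ ⟨u, hu, rfl⟩
  rw [← h1] at hu
  exact hu.1

theorem hwc_gen (hF : Fintype.card F = p ^ f) (R : Subgroup (SpG m F)) (hRU : R ≤ U m F)
    (hw : ∀ s : SpG m F, (∀ x ∈ R, s * x * s⁻¹ ∈ U m F) → ∀ x ∈ R, s * x * s⁻¹ ∈ R)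
    (g : Cfsg.PSp m F) (h : ∀ x ∈ R.map prS, g * x * g⁻¹ ∈ (U m F).map prS) :
    ∀ x ∈ R.map prS, g * x * g⁻¹ ∈ R.map prS := by
  obtain ⟨s, rfl⟩ := prS_surj g
  have h' : ∀ x ∈ R, s * x * s⁻¹ ∈ U m F := by
    intro x hx
    obtain ⟨a, ha⟩ := U_pow hF x (hRU hx)
    apply mem_U_of_prS_mem hF _ a (conj_pow_one s x _ ha)
    have := h (prS x) ⟨x, hx, rfl⟩
    rwa [← map_inv, ← map_mul, ← map_mul] at this
  rintro _ ⟨x, hx, rfl⟩
  rw [← map_inv, ← map_mul, ← map_mul]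
  exact ⟨_, hw s h' x hx, rfl⟩

theorem hcent_gen (hF : Fintype.card F = p ^ f) (R : Subgroup (SpG m F)) (hRU : R ≤ U m F)
    (hc : ∀ u ∈ U m F, (∀ x ∈ R, u * x = x * u) → u ∈ R)
    (c : Cfsg.PSp m F) (hcU : c ∈ (U m F).map prS) (h : ∀ x ∈ R.map prS, c * x * c⁻¹ = x) :
    c ∈ R.map prS := by
  obtain ⟨u, hu, rfl⟩ := hcU
  refine ⟨u, hc u hu (fun x hx => ?_), rfl⟩
  have h1 := h (prS x) ⟨x, hx, rfl⟩
  rw [← map_inv, ← map_mul, ← map_mul] at h1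
  have h2 := prS_inj_U hF _ _ ((U m F).mul_mem ((U m F).mul_mem hu (hRU hx))
    ((U m F).inv_mem hu)) (hRU hx) h1
  exact mul_inv_eq_iff_eq_mul.mp h2

omit [Fintype F] [NeZero m] in
theorem hH_psp [Finite F] (s : SpG m F) (hs : ∀ x ∈ U m F, s * x * s⁻¹ ∈ U m F)
    (x : Cfsg.PSp m F) (hx : x ∈ (U m F).map prS) :
    prS s * x * (prS s)⁻¹ ∈ (U m F).map prS := by
  obtain ⟨u, hu, rfl⟩ := hx
  rw [← map_inv, ← map_mul, ← map_mul]
  exact ⟨_, hs u hu, rfl⟩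

theorem hW_S (h : Cfsg.PSp m F) (hh : h ∈ HS m F) :
    h ∈ Subgroup.closure {y : Cfsg.PSp m F | ∃ g x : Cfsg.PSp m F,
      (∀ r ∈ (RS m F).map prS, g * r * g⁻¹ ∈ (RS m F).map prS) ∧ x ∈ (U m F).map prS ∧
        y = g * x * g⁻¹} := by
  obtain ⟨a, b, hab, t, -, rfl⟩ := hh
  have key : ∀ (a b : Fin m) (hab : a ≠ b) (c : F), (prS.comp lvS) (Tv hab c) ∈
      Subgroup.closure {y : Cfsg.PSp m F | ∃ g x : Cfsg.PSp m F,
        (∀ r ∈ (RS m F).map prS, g * r * g⁻¹ ∈ (RS m F).map prS) ∧ x ∈ (U m F).map prS ∧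
          y = g * x * g⁻¹} := by
    intro a b hab c
    apply Subgroup.subset_closure
    rcases lt_or_gt_of_ne hab with hlt | hgt
    · exact ⟨1, prS (lvS (Tv hab c)), fun r hr => by simpa using hr,
        ⟨_, lvS_mem_U _ (Tv_mem_UT hlt c), rfl⟩, by simp⟩
    · refine ⟨prS (lvS (wE hab.symm (1 : F))), prS (lvS (Tv hab.symm (-c))), ?_,
        ⟨_, lvS_mem_U _ (Tv_mem_UT hgt (-c)), rfl⟩, ?_⟩
      · rintro _ ⟨x, hx, rfl⟩
        rw [← map_inv, ← map_mul, ← map_mul]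
        exact ⟨_, conj_RS_of_PS _ (lvS_mem_PS _) x hx, rfl⟩
      · show prS (lvS (Tv hab c)) = _
        rw [← map_inv, ← map_mul, ← map_mul, ← map_inv, ← map_mul, ← map_mul, wE_conj, neg_neg]
  exact hE_mem_of_Tv (prS.comp lvS) _ hab (key a b hab) (key b a hab.symm) t

theorem hW_P (h : Cfsg.PSp m F) (hh : h ∈ HP m F) :
    h ∈ Subgroup.closure {y : Cfsg.PSp m F | ∃ g x : Cfsg.PSp m F,
      (∀ r ∈ (Q1 m F).map prS, g * r * g⁻¹ ∈ (Q1 m F).map prS) ∧ x ∈ (U m F).map prS ∧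
        y = g * x * g⁻¹} := by
  obtain ⟨i, t, hi, -, rfl⟩ := hh
  have k1 : ∀ c : F, (prS.comp (phi i)) (Tv h01 c) ∈
      Subgroup.closure {y : Cfsg.PSp m F | ∃ g x : Cfsg.PSp m F,
        (∀ r ∈ (Q1 m F).map prS, g * r * g⁻¹ ∈ (Q1 m F).map prS) ∧ x ∈ (U m F).map prS ∧
          y = g * x * g⁻¹} := by
    intro c
    apply Subgroup.subset_closure
    refine ⟨1, prS (phi i (Tv h01 c)), fun r hr => by simpa using hr, ⟨_, ?_, rfl⟩, by simp⟩
    rw [phi_Tv]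
    exact RS_le_U (rS_mem_RS _ _)
  have k2 : ∀ c : F, (prS.comp (phi i)) (Tv h01.symm c) ∈
      Subgroup.closure {y : Cfsg.PSp m F | ∃ g x : Cfsg.PSp m F,
        (∀ r ∈ (Q1 m F).map prS, g * r * g⁻¹ ∈ (Q1 m F).map prS) ∧ x ∈ (U m F).map prS ∧
          y = g * x * g⁻¹} := by
    intro c
    apply Subgroup.subset_closure
    refine ⟨prS (phi i (wE h01 (1 : F))), prS (phi i (Tv h01 (-c))), ?_, ⟨_, ?_, rfl⟩, ?_⟩
    · rintro _ ⟨x, hx, rfl⟩
      rw [← map_inv, ← map_mul, ← map_mul]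
      exact ⟨_, conj_mem_Q1 _ 1 (by rw [one_smul]; exact phi_mulVec_e1 i hi _) x hx, rfl⟩
    · rw [phi_Tv]
      exact RS_le_U (rS_mem_RS _ _)
    · show prS (phi i (Tv h01.symm c)) = _
      rw [← map_inv, ← map_mul, ← map_mul, ← map_inv, ← map_mul, ← map_mul, wE_conj, neg_neg]
  exact hE_mem_of_Tv (prS.comp (phi i)) _ h01 k1 k2 t

theorem hgen_psp (hF : Fintype.card F = p ^ f) (hm : 2 ≤ m) (M : Subgroup (Cfsg.PSp m F))
    (hU : (U m F).map prS ≤ M) (hHS : HS m F ⊆ M) (hHP : HP m F ⊆ M) (g : Cfsg.PSp m F)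
    (hg : ∀ x ∈ (U m F).map prS, g * x * g⁻¹ ∈ (U m F).map prS) : g ∈ M := by
  haveI := finite_sp (m := m) (F := F)
  obtain ⟨s, rfl⟩ := prS_surj g
  have h1 : ∀ x ∈ U m F, s * x * s⁻¹ ∈ U m F := by
    intro x hx
    obtain ⟨a, ha⟩ := U_pow hF x hx
    apply mem_U_of_prS_mem hF _ a (conj_pow_one s x _ ha)
    have := hg (prS x) ⟨x, hx, rfl⟩
    rwa [← map_inv, ← map_mul, ← map_mul] at this
  obtain ⟨hs, hup⟩ := norm_U_upper s h1
  have hsi : s⁻¹ ∈ PS m F := (PS m F).inv_mem hs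
  have hPP : s.1.toBlocks₁₁ * s⁻¹.1.toBlocks₁₁ = 1 := by
    rw [← PS_b11_mul _ _ hsi, mul_inv_cancel, sp_coe_one, ← fromBlocks_one, toBlocks_fromBlocks₁₁]
  obtain ⟨d, hdd⟩ : ∃ d : F, d = s.1.toBlocks₁₁.det := ⟨_, rfl⟩
  have hd : d ≠ 0 := by
    intro h0
    have h2 := congrArg Matrix.det hPP
    rw [Matrix.det_mul, ← hdd, h0, zero_mul, Matrix.det_one] at h2
    exact zero_ne_one h2
  obtain ⟨i₀, hi₀⟩ : ∃ i₀ : Fin m, i₀.val = 1 := ⟨⟨1, by omega⟩, rfl⟩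
  have hi0 : i₀ ≠ 0 := by
    intro h
    rw [h] at hi₀
    simp at hi₀
  have hdi : d⁻¹ ≠ 0 := inv_ne_zero hd
  obtain ⟨τ, hτ⟩ : ∃ τ : SpG m F, τ = phi i₀ (hE h01 d⁻¹) := ⟨_, rfl⟩
  have hτP : τ ∈ PS m F := by rw [hτ]; exact phi_hE_mem_PS i₀ _ hdi
  have hτM : prS τ ∈ M := hHP ⟨i₀, d⁻¹, hi0, hdi, by rw [hτ]⟩
  have hs1 : τ * s ∈ PS m F := (PS m F).mul_mem hτP hs
  have hb : (τ * s).1.toBlocks₁₁ =
      Matrix.diagonal (fun k => if k = i₀ then d⁻¹ else 1) * s.1.toBlocks₁₁ := by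
    rw [PS_b11_mul _ _ hs, hτ, phi_hE_b11 i₀ _ hdi]
  have hdet : (τ * s).1.toBlocks₁₁.det = 1 := by
    rw [hb, Matrix.det_mul, Matrix.det_diagonal, Finset.prod_ite_eq', if_pos (Finset.mem_univ _),
      ← hdd, inv_mul_cancel₀ hd]
  obtain ⟨A, hA⟩ : ∃ A : SpecialLinearGroup (Fin m) F, A.1 = (τ * s).1.toBlocks₁₁ :=
    ⟨⟨_, hdet⟩, rfl⟩
  have hAup : ∀ i j : Fin m, j < i → A.1 i j = 0 := by
    intro i j hji
    rw [hA, hb, Matrix.diagonal_mul, hup i j hji, mul_zero]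
  have hAM : prS (lvS A) ∈ M :=
    upper_mem (M.comap (prS.comp lvS))
      (fun u hu => hU ⟨_, lvS_mem_U u hu, rfl⟩)
      (fun a b hab t ht => hHS ⟨a, b, hab, t, ht, rfl⟩) (m - 1) 0 (by omega) A hAup
      (fun i hi => absurd hi (Nat.not_lt_zero _))
  have hr : (lvS A)⁻¹ * (τ * s) ∈ RS m F := by
    refine ⟨(PS m F).mul_mem ((PS m F).inv_mem (lvS_mem_PS A)) hs1, ?_⟩
    rw [PS_b11_mul _ _ hs1, ← map_inv, lvS_b11, ← hA, coe_inv_mul']
  have hrM : prS ((lvS A)⁻¹ * (τ * s)) ∈ M := hU ⟨_, RS_le_U hr, rfl⟩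
  have e : prS s = (prS τ)⁻¹ * (prS (lvS A) * prS ((lvS A)⁻¹ * (τ * s))) := by
    rw [← map_mul, ← map_inv, ← map_mul]
    congr 1
    group
  rw [e]
  exact M.mul_mem (M.inv_mem hτM) (M.mul_mem hAM hrM)

/-- The hypotheses of the Levi criterion hold for `PSp_{2m}(F)`. -/
theorem leviHyp_psp (hF : Fintype.card F = p ^ f) (hm : 2 ≤ m)
    (hex : m = 2 → 3 ≤ Fintype.card F) :
    LeviHyp ((U m F).map (prS (m := m) (F := F)))
      (fun j : Bool => cond j ((Q1 m F).map prS) ((RS m F).map prS))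
      (fun j : Bool => cond j (HP m F) (HS m F)) where
  hne := Ubar_ne_bot hF
  hsc := hsc_psp hF hm hex
  hR := by
    intro j
    cases j
    · exact Subgroup.map_mono RS_le_U
    · exact Subgroup.map_mono Q1_le_U
  hwc := by
    intro j
    cases j
    · exact hwc_gen hF (RS m F) RS_le_U conj_RS_of_conj
    · exact hwc_gen hF (Q1 m F) Q1_le_U (conj_Q1_of_conj hm)
  hcent := by
    intro j
    cases j
    · exact hcent_gen hF (RS m F) RS_le_U mem_RS_of_comm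
    · exact hcent_gen hF (Q1 m F) Q1_le_U mem_Q1_of_comm
  hH := by
    intro j
    cases j
    · rintro _ ⟨a, b, hab, t, ht, rfl⟩ x hx
      exact hH_psp _ (lvS_hE_conj_U hab t ht) x hx
    · rintro _ ⟨i, t, -, ht, rfl⟩ x hx
      exact hH_psp _ (phi_hE_conj_U i t ht) x hx
  hW := by
    intro j
    cases j
    · exact hW_S
    · exact hW_P
  hgen := by
    intro M hU _ hH g hg
    exact hgen_psp hF hm M hU (hH false) (hH true) g hg

end Cfsg.Agent.Lib.helper47.SpFus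

namespace Cfsg.Agent.Lib.helper47.SpFus

open Cfsg.Agent.Lib.helper47.FusionLevi

/-- **The `p`-fusion system of `PSp_{2m}(K)`, `m ≥ 2`, `K` finite of characteristic `p`
(not `PSp_4(2)`), is simple.** -/
theorem psp_fusion_simple {K : Type*} [Field K] [Fintype K] (p : ℕ) [Fact p.Prime] [CharP K p]
    (m : ℕ) (hm : 2 ≤ m) (hex : m = 2 → 3 ≤ Fintype.card K) (S : Sylow p (Cfsg.PSp m K)) :
    (Cfsg.groupFusionSystem (S : Subgroup (Cfsg.PSp m K))).IsSimple p := by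
  obtain ⟨f, -, hF⟩ := FiniteField.card K p
  haveI : NeZero m := ⟨by omega⟩
  haveI := finite_sp (m := m) (F := K)
  haveI : Finite (Cfsg.PSp m K) := Finite.of_surjective _ prS_surj
  exact isSimple_of_leviHyp_sylow ((sylU (m := m) hF).mapSurjective prS_surj) _ _
    (leviHyp_psp hF hm hex) S

end Cfsg.Agent.Lib.helper47.SpFus
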