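import Mathlib
import Cfsg.Agent.Lib.helper47.UGenH

/-!
Two-generation of the antidiagonal-form special unitary group of degree four over a field with
at least nine elements.
-/

set_option autoImplicit false

namespace Cfsg.Agent.Lib.helper47.UGen

open Matrix Cfsg Cfsg.Agent.Lib.helper47.PSLn Cfsg.Agent.Lib.helper47.UFus

variable {K : Type*} [Field K] {σ : K →+* K}

theorem pred_mul_succ (q : ℕ) (hq : 1 ≤ q) : (q + 1) * (q - 1) + 1 = q ^ 2 := by
  obtain ⟨r, hr⟩ : ∃ r, q = r + 1 := ⟨q - 1, by omega⟩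
  rw [hr]
  simp
  ring

theorem norm_pow_pred [Fintype K] {q : ℕ} (hK : Fintype.card K = q ^ 2) (hσ : ∀ x, σ x = x ^ q)
    (hq : 1 ≤ q) (lam : K) (hlam0 : lam ≠ 0) : (lam * σ lam) ^ (q - 1) = 1 := by
  have e := pred_mul_succ q hq
  have h1 : lam * σ lam = lam ^ (q + 1) := by rw [hσ]; ring
  rw [h1, ← pow_mul]
  have h2 : (q + 1) * (q - 1) = Fintype.card K - 1 := by rw [hK]; omega
  rw [h2]
  exact FiniteField.pow_card_sub_one_eq_one lam hlam0

set_option maxHeartbeats 1600000 in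
/-- degree four, `q ≥ 3` -/
theorem gen_four [Fintype K] {q : ℕ} (hK : Fintype.card K = q ^ 2) (hσ : ∀ x, σ x = x ^ q)
    (hF : FF σ) (hq : 3 ≤ q) :
    ∃ a b : ↥(UG 4 σ), Subgroup.closure ({a, b} : Set ↥(UG 4 σ)) = ⊤ := by
  classical
  have hmn : 2 * 2 ≤ 4 := by norm_num
  obtain ⟨a, ha⟩ : ∃ a : Fin 4, a = eI 4 0 := ⟨_, rfl⟩
  obtain ⟨j, hj⟩ : ∃ j : Fin 4, j = eI 4 1 := ⟨_, rfl⟩
  have he0 : a ≠ Fin.rev a := by rw [ha]; exact eI_ne_rev 2 hmn (by omega)
  have he1 : j ≠ Fin.rev j := by rw [hj]; exact eI_ne_rev 2 hmn (by omega)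
  have h01 : a ≠ j := by rw [ha, hj]; exact eI_ne 2 hmn (by omega) (by omega) (by norm_num)
  have h01' : a ≠ Fin.rev j := by rw [ha, hj]; exact eI_ne_rev' 2 hmn (by omega) (by omega)
  have h10' : j ≠ Fin.rev a := by rw [ha, hj]; exact eI_ne_rev' 2 hmn (by omega) (by omega)
  have he0' : Fin.rev a ≠ Fin.rev (Fin.rev a) := by rw [Fin.rev_rev]; exact Ne.symm he0
  have hf1 : Fin.rev j ≠ Fin.rev (Fin.rev j) := by rw [Fin.rev_rev]; exact Ne.symm he1
  have hr2 : Fin.rev j ≠ Fin.rev a := fun h => h01 (Fin.rev_injective h).symm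
  have hq2 : 3 * q ≤ q ^ 2 := by nlinarith
  obtain ⟨g, hg, hgen, hord⟩ := exists_gen_unit hK
  obtain ⟨lam, hlam⟩ : ∃ lam : K, lam = (g : K) := ⟨_, rfl⟩
  rw [← hlam] at hgen hord
  have hlam0 : lam ≠ 0 := by rw [hlam]; exact g.ne_zero
  have hσlam : σ lam ≠ 0 := fun h => hlam0 ((map_eq_zero σ).mp h)
  -- the diagonal
  obtain ⟨d, hd⟩ : ∃ d : Fin 4 → K, d = pT σ a lam * pT σ j lam⁻¹ := ⟨_, rfl⟩
  have hda : d a = lam := by
    rw [hd, Pi.mul_apply, pT_self _ he0, pT_of_ne _ _ _ h01 h01', mul_one]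
  have hdj : d j = lam⁻¹ := by
    rw [hd, Pi.mul_apply, pT_self _ he1, pT_of_ne _ _ _ (Ne.symm h01) h10', one_mul]
  have hdra : d (Fin.rev a) = (σ lam)⁻¹ := by
    rw [hd, Pi.mul_apply, pT_rev _ he0, pT_of_ne _ _ _ (Ne.symm h10') (Ne.symm hr2), mul_one]
  have hdrj : d (Fin.rev j) = σ lam := by
    rw [hd, Pi.mul_apply, pT_rev _ he1, pT_of_ne _ _ _ (Ne.symm h01') hr2, one_mul, map_inv₀,
      inv_inv]
  have hunit : ∀ k, σ (d (Fin.rev k)) * d k = 1 := by
    intro k; rw [hd]; exact pair_unit hF _ _ he0 he1 lam hlam0 k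
  have hprod : ∏ k, d k = 1 := by rw [hd]; exact pair_prod _ _ lam hlam0
  obtain ⟨τ, τ', w, cw, hτ, hτ', hτ'eq, hwτ, hcw0, hw⟩ := weyl_setup hσ hF a he0 d hprod hunit
  obtain ⟨d', hd'⟩ : ∃ d' : Fin 4 → K, d' = fun k => d (Fin.rev k) := ⟨_, rfl⟩
  rw [← hd'] at hτ'
  have hunit' : ∀ k, σ (d' (Fin.rev k)) * d' k = 1 := by
    intro k; rw [hd']; exact hunit (Fin.rev k)
  have hd'a : d' a = (σ lam)⁻¹ := by rw [hd']; exact hdra
  have hd'j : d' j = σ lam := by rw [hd']; exact hdrj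
  -- the unipotent element
  obtain ⟨s₀, hs00, hs0⟩ := hF.eps
  have hσs0 : σ s₀ = -s₀ := by linear_combination hs0
  have hdot : ∀ c c' : K, (Pi.single j c : Fin 4 → K) ⬝ᵥ wv σ (Pi.single j c') = 0 := by
    intro c c'
    rw [wv_single, single_dotProduct, Pi.single_eq_of_ne he1, mul_zero]
  have hval : s₀ + σ s₀ + (Pi.single j 1 : Fin 4 → K) ⬝ᵥ wv σ (Pi.single j 1) = 0 := by
    rw [hdot, add_zero]; exact hs0
  obtain ⟨y, hy⟩ : ∃ y, y = qU hF a (Pi.single j 1) s₀ he0 (single_ne h01 1) hval := ⟨_, rfl⟩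
  refine ⟨τ, y * w, ?_⟩
  have haH : τ ∈ Subgroup.closure ({τ, y * w} : Set ↥(UG 4 σ)) :=
    Subgroup.subset_closure (by simp)
  have hbH : y * w ∈ Subgroup.closure ({τ, y * w} : Set ↥(UG 4 σ)) :=
    Subgroup.subset_closure (by simp)
  generalize Subgroup.closure ({τ, y * w} : Set ↥(UG 4 σ)) = H at haH hbH ⊢
  have hτ'H : τ' ∈ H := by rw [hτ'eq]; exact H.inv_mem (H.pow_mem haH q)
  -- the first commutator
  obtain ⟨c', hc'⟩ : ∃ c' : K, c' = -((σ lam)⁻¹ * (σ lam)⁻¹) := ⟨_, rfl⟩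
  have hc'eq : c' * d' j = -d' a := by rw [hc', hd'a, hd'j]; field_simp
  have hM1 := comm_step hF a j he0 (Ne.symm h01) s₀ hval τ τ' w hwτ haH hτ'H d' hτ' hunit'
    (by rw [← hy]; exact hbH) c' hc'eq
  rw [hdot, sub_zero, hd'a] at hM1
  obtain ⟨c₁, hc₁⟩ : ∃ c₁ : K, c₁ = 1 + c' := ⟨_, rfl⟩
  obtain ⟨s₁, hs₁⟩ : ∃ s₁ : K, s₁ = s₀ + (σ lam)⁻¹ * σ (σ lam)⁻¹ * σ s₀ := ⟨_, rfl⟩
  rw [← hc₁, ← hs₁] at hM1
  have hc₁0 : c₁ ≠ 0 := by
    intro h
    have h1 : (σ lam)⁻¹ * (σ lam)⁻¹ = 1 := by linear_combination hc' - h + hc₁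
    have h2 : (σ lam)⁻¹ * (σ lam)⁻¹ * (σ lam * σ lam) = 1 := by field_simp
    rw [h1, one_mul] at h2
    have h3 : lam ^ 2 = 1 := by
      apply σ.injective
      rw [map_pow, map_one, pow_two]
      exact h2
    exact hord 2 (by norm_num) (by omega) h3
  have hs₁0 : s₁ ≠ 0 := by
    intro h
    rw [hs₁, map_inv₀, hF.inv, hσs0] at h
    have h1 : s₀ * (lam * σ lam - 1) = 0 := by
      have h2 : (s₀ + (σ lam)⁻¹ * lam⁻¹ * -s₀) * (lam * σ lam) = s₀ * (lam * σ lam - 1) := by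
        field_simp
        ring
      rw [← h2, h, zero_mul]
    rcases mul_eq_zero.mp h1 with h2 | h2
    · exact hs00 h2
    · have h3 : lam ^ (q + 1) = 1 := by
        rw [pow_succ, ← hσ]
        linear_combination h2
      exact hord (q + 1) (by omega) (by omega) h3
  have hs₁skew : s₁ + σ s₁ = 0 := by
    have := hM1.valid hF he0 (single_ne h01 _)
    rwa [hdot, add_zero] at this
  -- removing the central part
  have hM2 := hM1.conj_diag_pow τ haH d hτ hunit a j c₁ s₁ (q - 1)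
  have hθ : d a / d j = lam ^ 2 := by rw [hda, hdj]; field_simp
  rw [hθ, hda, norm_pow_pred hK hσ (by omega) lam hlam0, one_mul] at hM2
  have hM3 := hM1.mul (hM2.qinv hF he0 (single_ne h01 _))
  rw [qM_mul a he0 _ _ (single_ne h01 _) (by rw [Pi.neg_apply, single_ne h01, neg_zero]),
    ← Pi.single_neg, ← Pi.single_add, hdot, sub_zero, hs₁skew] at hM3
  have hc₂ : c₁ + -((lam ^ 2) ^ (q - 1) * c₁) ≠ 0 := by
    intro h
    have h1 : (1 - (lam ^ 2) ^ (q - 1)) * c₁ = 0 := by linear_combination h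
    rcases mul_eq_zero.mp h1 with h2 | h2
    · have h3 : lam ^ (2 * (q - 1)) = 1 := by
        rw [pow_mul]
        linear_combination -h2
      exact hord (2 * (q - 1)) (by omega) (by omega) h3
    · exact hc₁0 h2
  -- the short root group
  have hX : ∀ c : K, Mem H (qM σ a (Pi.single j c) 0) := by
    refine field_fill (fun c => Mem H (qM σ a (Pi.single j c) 0)) ?_ ?_ ?_ (lam ^ 2) ?_ ?_ _ hc₂
      hM3
    · intro c c' (h : Mem H (qM σ a (Pi.single j c) 0)) (h' : Mem H (qM σ a (Pi.single j c') 0))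
      show Mem H (qM σ a (Pi.single j (c + c')) 0)
      have := h.mul h'
      rwa [qM_mul a he0 _ _ (single_ne h01 c) (single_ne h01 c'), ← Pi.single_add, hdot,
        sub_zero, add_zero] at this
    · intro c (h : Mem H (qM σ a (Pi.single j c) 0))
      show Mem H (qM σ a (Pi.single j (-c)) 0)
      have := h.qinv hF he0 (single_ne h01 c)
      rwa [← Pi.single_neg, map_zero] at this
    · show Mem H (qM σ a (Pi.single j 0) 0)
      rw [qM_single_zero]
      exact Mem.one H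
    · intro c (h : Mem H (qM σ a (Pi.single j c) 0))
      show Mem H (qM σ a (Pi.single j (lam ^ 2 * c)) 0)
      exact h.conj_diag τ haH d hτ hunit a j c (lam ^ 2 * c) 0 0
        (by rw [hda, hdj]; field_simp) (by rw [mul_zero])
    · intro B hB
      exact Cfsg.Agent.Lib.helper45.subfield_eq_top_of_gen_sq_mem (by rw [hK]; omega) g hg B
        (by rw [← hlam]; exact hB)
  -- the long root group
  have hZ1 : Mem H (qM σ a 0 s₁) := by
    have := hM1.mul (hX (-c₁))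
    rwa [qM_mul a he0 _ _ (single_ne h01 _) (single_ne h01 _), ← Pi.single_add, add_neg_cancel,
      Pi.single_zero, hdot, sub_zero, add_zero] at this
  have hGa : Good H (ev a : Fin 4 → K) := by
    intro c A hA
    rw [← qM_zero] at hA
    have hvalc := valid_of_mem hF A a 0 c he0 rfl hA
    rw [wv_zero, dotProduct_zero, add_zero] at hvalc
    by_cases hc : c = 0
    · have : A = 1 := mt_inj (by rw [hA, hc, qM_zero, mt_one, uM]; simp)
      rw [this]; exact H.one_mem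
    · have hσs1 : σ s₁ = -s₁ := by linear_combination hs₁skew
      have hσc : σ c = -c := by linear_combination hvalc
      obtain ⟨N, hN⟩ := norm_pow_cover' hF lam hgen (c / s₁) (div_ne_zero hc hs₁0)
        (by rw [map_div₀, hσs1, hσc, neg_div_neg_eq])
      have h1 : Mem H (qM σ a (Pi.single j 0) s₁) := by rw [Pi.single_zero]; exact hZ1
      have h2 := h1.conj_diag_pow τ haH d hτ hunit a j 0 s₁ N
      rw [mul_zero, Pi.single_zero, hda, hN, div_mul_cancel₀ _ hs₁0] at h2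
      exact h2.elim A hA
  have hyH : y ∈ H := by
    have hZ0 : Mem H (qM σ a 0 s₀) :=
      ⟨zU hF a s₀ he0 hs0, zU_mem hF a s₀ he0 hs0 (hGa s₀), mt_zU' hF a s₀ he0 hs0⟩
    have := (hX 1).mul hZ0
    rw [qM_mul a he0 _ _ (single_ne h01 1) rfl, add_zero, wv_zero, dotProduct_zero, sub_zero,
      zero_add] at this
    exact this.elim y (by rw [hy, mt_qU])
  have hwH : w ∈ H := by
    have : w = y⁻¹ * (y * w) := by group
    rw [this]; exact H.mul_mem (H.inv_mem hyH) hbH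
  have hGa' : Good H (ev (Fin.rev a) : Fin 4 → K) := by
    have := hGa.act hwH
    rw [hw] at this
    exact Good.of_smul (hcw0 a) this
  have hXU : ∀ c, xU hF a j c he0 (Ne.symm h01) he1 ∈ H := fun c =>
    (hX c).elim _ (mt_xU hF a j c he0 (Ne.symm h01) he1)
  have Lf : Line H (Fin.rev a) (Fin.rev j) := fun μ =>
    line_of_root₂ hF a j he0 (Ne.symm h01) h10' he1 hXU hGa' μ
  have Le : Line H a j := by
    intro μ
    have h1 := (Lf (μ * cw (Fin.rev a) / cw (Fin.rev j))).act hwH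
    rw [mulVec_add, mulVec_smul, hw, hw, Fin.rev_rev, Fin.rev_rev] at h1
    have e : cw (Fin.rev a) • (ev a : Fin 4 → K) +
        (μ * cw (Fin.rev a) / cw (Fin.rev j)) • cw (Fin.rev j) • ev j =
        cw (Fin.rev a) • ((ev a : Fin 4 → K) + μ • ev j) := by
      rw [smul_add, smul_smul, smul_smul]
      congr 2
      have := hcw0 (Fin.rev j)
      field_simp
    rw [e] at h1
    exact Good.of_smul (hcw0 _) h1
  have hGj : Good H (ev j : Fin 4 → K) := by
    have h1 := (Le 1).act (hXU (-1))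
    rw [xU_mulVec] at h1
    have e : (ev a : Fin 4 → K) + (1 : K) • ev j +
        (-1 * ((ev a : Fin 4 → K) + (1 : K) • ev j : Fin 4 → K) j) • (ev a : Fin 4 → K) -
        (σ (-1) * ((ev a : Fin 4 → K) + (1 : K) • ev j : Fin 4 → K) (Fin.rev a)) •
          ev (Fin.rev j) = ev j := by
      simp only [Pi.add_apply, Pi.smul_apply, smul_eq_mul, ev_apply, if_pos,
        if_neg (Ne.symm h01), if_neg (Ne.symm he0), if_neg (Ne.symm h10'), mul_zero, mul_one,
        add_zero, zero_add, zero_smul, sub_zero, one_smul]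
      module
    rw [e] at h1
    exact h1
  have hGj' : Good H (ev (Fin.rev j) : Fin 4 → K) := by
    have := hGj.act hwH
    rw [hw] at this
    exact Good.of_smul (hcw0 j) this
  have quad := Line.quad hF he0 (Ne.symm h01) h10' he1 hGa hGa' hGj hGj' Le
  have hG : ∀ k : Fin 4, k ≠ Fin.rev k → Good H (ev k : Fin 4 → K) := by
    intro k hk
    obtain ⟨i, hi, hki | hki⟩ := hyp_cases 2 hmn (by norm_num) k hk
    · interval_cases i
      · rw [hki, ← ha]; exact hGa
      · rw [hki, ← hj]; exact hGj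
    · interval_cases i
      · rw [hki, ← ha]; exact hGa'
      · rw [hki, ← hj]; exact hGj'
  have hL : ∀ l : Fin 4, l ≠ a → l ≠ Fin.rev a → l ≠ Fin.rev l →
      Line H a l ∧ Line H (Fin.rev a) l := by
    intro l hl1 hl2 hl3
    obtain ⟨i, hi, hli | hli⟩ := hyp_cases 2 hmn (by norm_num) l hl3
    · interval_cases i
      · exact absurd (by rw [hli, ← ha]) hl1
      · rw [hli, ← hj]; exact ⟨Le, quad.2.1⟩
    · interval_cases i
      · exact absurd (by rw [hli, ← ha]) hl2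
      · rw [hli, ← hj]; exact ⟨quad.1, quad.2.2⟩
  have h4 : ∀ k : Fin 4, k = Fin.rev k → ∀ B : K, B ≠ 0 → ∃ z' : Fin 4 → K,
      z' ⬝ᵥ wv σ z' = 0 ∧ z' (Fin.rev a) = 1 ∧ z' k = B ∧ Good H z' :=
    fun k hk => absurd hk (fun h => no_mid_even (n := 4) 2 rfl k h)
  exact top_of_lines hK hσ hF (by norm_num) (by omega) H a he0 hG hL h4

end Cfsg.Agent.Lib.helper47.UGen
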