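import Mathlib
import Cfsg.Agent.Lib.helper47.UGenH

/-!
Two-generation of the antidiagonal-form special unitary group of degree three over a field with
at least nine elements.
-/

set_option autoImplicit false

namespace Cfsg.Agent.Lib.helper47.UGen

open Matrix Cfsg Cfsg.Agent.Lib.helper47.PSLn Cfsg.Agent.Lib.helper47.UFus

variable {K : Type*} [Field K] {σ : K →+* K}

set_option maxHeartbeats 1600000 in
/-- degree three, `q ≥ 3` -/
theorem gen_three [Fintype K] {q : ℕ} (hK : Fintype.card K = q ^ 2) (hσ : ∀ x, σ x = x ^ q)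
    (hF : FF σ) (hq : 3 ≤ q) :
    ∃ a b : ↥(UG 3 σ), Subgroup.closure ({a, b} : Set ↥(UG 3 σ)) = ⊤ := by
  classical
  have hmn : 2 * 1 ≤ 3 := by norm_num
  obtain ⟨a, ha⟩ : ∃ a : Fin 3, a = eI 3 0 := ⟨_, rfl⟩
  obtain ⟨j, hj⟩ : ∃ j : Fin 3, j = eI 3 1 := ⟨_, rfl⟩
  have he0 : a ≠ Fin.rev a := by rw [ha]; exact eI_ne_rev 1 hmn (by omega)
  have hmid : j = Fin.rev j := by
    rw [hj]
    apply Fin.ext
    rw [Fin.val_rev, eI_val (by omega)]
  have h01 : a ≠ j := by
    intro h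
    have := congrArg Fin.val h
    rw [ha, hj, eI_val (by omega), eI_val (by omega)] at this
    omega
  have h10' : j ≠ Fin.rev a := by
    intro h
    have := congrArg Fin.val h
    rw [ha, hj, Fin.val_rev, eI_val (by omega), eI_val (by omega)] at this
    omega
  have he0' : Fin.rev a ≠ Fin.rev (Fin.rev a) := by rw [Fin.rev_rev]; exact Ne.symm he0
  have hq2 : 3 * q ≤ q ^ 2 := by nlinarith
  obtain ⟨g, hg, hgen, hord⟩ := exists_gen_unit hK
  obtain ⟨lam, hlam⟩ : ∃ lam : K, lam = (g : K) := ⟨_, rfl⟩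
  rw [← hlam] at hgen hord
  have hlam0 : lam ≠ 0 := by rw [hlam]; exact g.ne_zero
  have hσlam : σ lam ≠ 0 := fun h => hlam0 ((map_eq_zero σ).mp h)
  -- the diagonal
  obtain ⟨ζ, hζ⟩ : ∃ ζ : K, ζ = σ lam / lam := ⟨_, rfl⟩
  have hζ0 : ζ ≠ 0 := by rw [hζ]; exact div_ne_zero hσlam hlam0
  have hσζ : σ ζ * ζ = 1 := by
    rw [hζ, map_div₀, hF.inv]
    field_simp
  obtain ⟨d, hd⟩ : ∃ d : Fin 3 → K, d = pT σ a lam * Pi.mulSingle j ζ := ⟨_, rfl⟩
  have hda : d a = lam := by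
    rw [hd, Pi.mul_apply, pT_self _ he0, Pi.mulSingle_eq_of_ne h01, mul_one]
  have hdj : d j = ζ := by
    rw [hd, Pi.mul_apply, pT_of_ne _ _ _ (Ne.symm h01) h10', Pi.mulSingle_eq_same, one_mul]
  have hdra : d (Fin.rev a) = (σ lam)⁻¹ := by
    rw [hd, Pi.mul_apply, pT_rev _ he0, Pi.mulSingle_eq_of_ne (Ne.symm h10'), mul_one]
  have hunit : ∀ k, σ (d (Fin.rev k)) * d k = 1 := by
    intro k
    rw [hd, Pi.mul_apply, Pi.mul_apply, map_mul]
    have h1 := pT_unit hF a he0 lam hlam0 k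
    have h2 : σ ((Pi.mulSingle j ζ : Fin 3 → K) (Fin.rev k)) *
        (Pi.mulSingle j ζ : Fin 3 → K) k = 1 := by
      by_cases hk : k = j
      · rw [hk, ← hmid, Pi.mulSingle_eq_same]
        exact hσζ
      · have hk' : Fin.rev k ≠ j := by
          intro h
          apply hk
          rw [← Fin.rev_rev k, h, ← hmid]
        rw [Pi.mulSingle_eq_of_ne hk, Pi.mulSingle_eq_of_ne hk', map_one, mul_one]
    calc σ (pT σ a lam (Fin.rev k)) * σ ((Pi.mulSingle j ζ : Fin 3 → K) (Fin.rev k)) *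
          (pT σ a lam k * (Pi.mulSingle j ζ : Fin 3 → K) k)
        = (σ (pT σ a lam (Fin.rev k)) * pT σ a lam k) *
          (σ ((Pi.mulSingle j ζ : Fin 3 → K) (Fin.rev k)) *
            (Pi.mulSingle j ζ : Fin 3 → K) k) := by ring
      _ = 1 := by rw [h1, h2, mul_one]
  have hprod : ∏ k, d k = 1 := by
    rw [hd]
    simp only [Pi.mul_apply]
    rw [Finset.prod_mul_distrib, pT_prod, Finset.prod_pi_mulSingle', if_pos (Finset.mem_univ _),
      hζ]
    field_simp
  obtain ⟨τ, τ', w, cw, hτ, hτ', hτ'eq, hwτ, hcw0, hw⟩ := weyl_setup hσ hF a he0 d hprod hunit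
  obtain ⟨d', hd'⟩ : ∃ d' : Fin 3 → K, d' = fun k => d (Fin.rev k) := ⟨_, rfl⟩
  rw [← hd'] at hτ'
  have hunit' : ∀ k, σ (d' (Fin.rev k)) * d' k = 1 := by
    intro k; rw [hd']; exact hunit (Fin.rev k)
  have hd'a : d' a = (σ lam)⁻¹ := by rw [hd']; exact hdra
  have hd'j : d' j = ζ := by
    rw [hd']
    show d (Fin.rev j) = ζ
    rw [← hmid]
    exact hdj
  -- the unipotent element
  have hdot : ∀ c c' : K, (Pi.single j c : Fin 3 → K) ⬝ᵥ wv σ (Pi.single j c') = c * σ c' := by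
    intro c c'
    rw [wv_single, single_dotProduct, ← hmid, Pi.single_eq_same]
  obtain ⟨t₀, ht₀⟩ := hF.tr (-1) (by rw [map_neg, map_one])
  have hval : t₀ + σ t₀ + (Pi.single j 1 : Fin 3 → K) ⬝ᵥ wv σ (Pi.single j 1) = 0 := by
    rw [hdot, ht₀, map_one]; ring
  obtain ⟨y, hy⟩ : ∃ y, y = qU hF a (Pi.single j 1) t₀ he0 (single_ne h01 1) hval := ⟨_, rfl⟩
  refine ⟨τ, y * w, ?_⟩
  have haH : τ ∈ Subgroup.closure ({τ, y * w} : Set ↥(UG 3 σ)) :=
    Subgroup.subset_closure (by simp)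
  have hbH : y * w ∈ Subgroup.closure ({τ, y * w} : Set ↥(UG 3 σ)) :=
    Subgroup.subset_closure (by simp)
  generalize Subgroup.closure ({τ, y * w} : Set ↥(UG 3 σ)) = H at haH hbH ⊢
  have hτ'H : τ' ∈ H := by rw [hτ'eq]; exact H.inv_mem (H.pow_mem haH q)
  -- the first commutator
  obtain ⟨c', hc'⟩ : ∃ c' : K, c' = -((σ lam)⁻¹ / ζ) := ⟨_, rfl⟩
  have hc'eq : c' * d' j = -d' a := by rw [hc', hd'a, hd'j]; field_simp
  have hM1 := comm_step hF a j he0 (Ne.symm h01) t₀ hval τ τ' w hwτ haH hτ'H d' hτ' hunit'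
    (by rw [← hy]; exact hbH) c' hc'eq
  obtain ⟨c₁, hc₁⟩ : ∃ c₁ : K, c₁ = 1 + c' := ⟨_, rfl⟩
  rw [← hc₁] at hM1
  have hc₁0 : c₁ ≠ 0 := by
    intro h
    have h1 : (σ lam)⁻¹ / ζ = 1 := by linear_combination hc' - h + hc₁
    have h2 : lam = σ lam * σ lam := by
      rw [hζ] at h1
      field_simp at h1
      linear_combination h1
    have h3 : lam ^ (2 * q - 1) = 1 := by
      apply mul_right_cancel₀ hlam0
      rw [← pow_succ, one_mul]
      have : 2 * q - 1 + 1 = 2 * q := by omega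
      rw [this, two_mul, pow_add, ← hσ]
      exact h2.symm
    exact hord (2 * q - 1) (by omega) (by omega) h3
  -- the short root elements
  have hY : ∀ c : K, ∃ t, Mem H (qM σ a (Pi.single j c) t) := by
    refine field_fill (fun c => ∃ t, Mem H (qM σ a (Pi.single j c) t)) ?_ ?_ ?_ (lam / ζ) ?_ ?_
      c₁ hc₁0 ⟨_, hM1⟩
    · intro c c' (h : ∃ t, Mem H (qM σ a (Pi.single j c) t))
        (h' : ∃ t, Mem H (qM σ a (Pi.single j c') t))
      show ∃ t, Mem H (qM σ a (Pi.single j (c + c')) t)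
      obtain ⟨t, ht⟩ := h
      obtain ⟨t', ht'⟩ := h'
      have := ht.mul ht'
      rw [qM_mul a he0 _ _ (single_ne h01 c) (single_ne h01 c'), ← Pi.single_add] at this
      exact ⟨_, this⟩
    · intro c (h : ∃ t, Mem H (qM σ a (Pi.single j c) t))
      show ∃ t, Mem H (qM σ a (Pi.single j (-c)) t)
      obtain ⟨t, ht⟩ := h
      have := ht.qinv hF he0 (single_ne h01 c)
      rw [← Pi.single_neg] at this
      exact ⟨_, this⟩
    · show ∃ t, Mem H (qM σ a (Pi.single j 0) t)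
      exact ⟨0, by rw [qM_single_zero]; exact Mem.one H⟩
    · intro c (h : ∃ t, Mem H (qM σ a (Pi.single j c) t))
      show ∃ t, Mem H (qM σ a (Pi.single j (lam / ζ * c)) t)
      obtain ⟨t, ht⟩ := h
      exact ⟨_, ht.conj_diag τ haH d hτ hunit a j c (lam / ζ * c) t _
        (by rw [hda, hdj]; field_simp) rfl⟩
    · intro B hB
      apply subfield_eq_top_of_gen_cube_mem hK hq g hg B
      rw [← hlam]
      have h1 : (lam / ζ) ^ q ∈ B := B.pow_mem hB q
      have h2 : (lam / ζ) ^ 2 * (lam / ζ) ^ q = lam ^ 3 := by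
        rw [← hσ, map_div₀, hζ, map_div₀, hF.inv]
        field_simp
      rw [← h2]
      exact B.mul_mem (B.pow_mem hB 2) h1
  -- the long root elements
  have hZ : ∀ c c' : K, Mem H (qM σ a 0 (c' * σ c - c * σ c')) := by
    intro c c'
    obtain ⟨t, ht⟩ := hY c
    obtain ⟨t', ht'⟩ := hY c'
    have h1 := ht.mul ht'
    have h2 := ht'.mul ht
    rw [qM_mul a he0 _ _ (single_ne h01 c) (single_ne h01 c'), hdot] at h1
    rw [qM_mul a he0 _ _ (single_ne h01 c') (single_ne h01 c), hdot,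
      add_comm (Pi.single j c' : Fin 3 → K)] at h2
    have h3 := h1.diff hF he0 (by rw [Pi.add_apply, single_ne h01, single_ne h01, add_zero]) h2
    have e : t + t' - c * σ c' - (t' + t - c' * σ c) = c' * σ c - c * σ c' := by ring
    rwa [e] at h3
  obtain ⟨x₀, hx₀⟩ := hF.tr 1 (map_one σ)
  have hGa : Good H (ev a : Fin 3 → K) := by
    intro s A hA
    rw [← qM_zero] at hA
    have hvals := valid_of_mem hF A a 0 s he0 rfl hA
    rw [wv_zero, dotProduct_zero, add_zero] at hvals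
    have hσs : σ s = -s := by linear_combination hvals
    have h1 := hZ (-(s * x₀)) 1
    have e : 1 * σ (-(s * x₀)) - -(s * x₀) * σ 1 = s := by
      rw [map_neg, map_mul, hσs, map_one]
      linear_combination s * hx₀
    rw [e] at h1
    exact h1.elim A hA
  have hYall : ∀ c t : K, t + σ t + c * σ c = 0 → Mem H (qM σ a (Pi.single j c) t) := by
    intro c t hv
    obtain ⟨t', ht'⟩ := hY c
    have hv' := ht'.valid hF he0 (single_ne h01 c)
    rw [hdot] at hv'
    have hsk : (t - t') + σ (t - t') = 0 := by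
      rw [map_sub]
      linear_combination hv - hv'
    have hZ0 : Mem H (qM σ a 0 (t - t')) :=
      ⟨zU hF a (t - t') he0 hsk, zU_mem hF a _ he0 hsk (hGa _), mt_zU' hF a _ he0 hsk⟩
    have := hZ0.mul ht'
    rw [qM_mul a he0 _ _ rfl (single_ne h01 c), zero_add, zero_dotProduct, sub_zero,
      sub_add_cancel] at this
    exact this
  have hyH : y ∈ H := by
    have := hYall 1 t₀ (by rw [map_one, mul_one]; linear_combination ht₀)
    exact this.elim y (by rw [hy, mt_qU])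
  have hwH : w ∈ H := by
    have : w = y⁻¹ * (y * w) := by group
    rw [this]; exact H.mul_mem (H.inv_mem hyH) hbH
  have hGa' : Good H (ev (Fin.rev a) : Fin 3 → K) := by
    have := hGa.act hwH
    rw [hw] at this
    exact Good.of_smul (hcw0 a) this
  have hG : ∀ k : Fin 3, k ≠ Fin.rev k → Good H (ev k : Fin 3 → K) := by
    intro k hk
    obtain ⟨i, hi, hki | hki⟩ := hyp_cases 1 hmn (by norm_num) k hk
    · have hi0 : i = 0 := by omega
      rw [hki, hi0, ← ha]; exact hGa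
    · have hi0 : i = 0 := by omega
      rw [hki, hi0, ← ha]; exact hGa'
  have hL : ∀ l : Fin 3, l ≠ a → l ≠ Fin.rev a → l ≠ Fin.rev l →
      Line H a l ∧ Line H (Fin.rev a) l := by
    intro l hl1 hl2 hl3
    obtain ⟨i, hi, hli | hli⟩ := hyp_cases 1 hmn (by norm_num) l hl3
    · have hi0 : i = 0 := by omega
      exact absurd (by rw [hli, hi0, ← ha]) hl1
    · have hi0 : i = 0 := by omega
      exact absurd (by rw [hli, hi0, ← ha]) hl2
  have h4 : ∀ k : Fin 3, k = Fin.rev k → ∀ B : K, B ≠ 0 → ∃ z' : Fin 3 → K,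
      z' ⬝ᵥ wv σ z' = 0 ∧ z' (Fin.rev a) = 1 ∧ z' k = B ∧ Good H z' := by
    intro k hk B _
    have hkj : k = j := mid_unique hk hmid
    obtain ⟨c, hc⟩ : ∃ c : K, c = -σ B := ⟨_, rfl⟩
    obtain ⟨t, ht⟩ := hF.tr (-(c * σ c)) (by rw [map_neg, map_mul, hF.inv]; ring)
    have hv : t + σ t + (Pi.single j c : Fin 3 → K) ⬝ᵥ wv σ (Pi.single j c) = 0 := by
      rw [hdot, ht]; ring
    obtain ⟨Y, hYdef⟩ : ∃ Y, Y = qU hF a (Pi.single j c) t he0 (single_ne h01 c) hv := ⟨_, rfl⟩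
    have hYH : Y ∈ H := (hYall c t (by rw [ht]; ring)).elim Y (by rw [hYdef, mt_qU])
    refine ⟨mt Y *ᵥ ev (Fin.rev a), ?_, ?_, ?_, hGa'.act hYH⟩
    · rw [iso_act, wv_ev, Fin.rev_rev, dot_ev_apply, ev_apply, if_neg he0]
    · rw [hYdef, mt_qU, qM_mulVec, wv_single, ← hmid]
      simp only [Pi.add_apply, Pi.sub_apply, Pi.smul_apply, smul_eq_mul, ev_apply,
        if_neg (Ne.symm he0), single_ne (Ne.symm h10') (σ c), if_pos, mul_zero, add_zero,
        sub_zero, mul_one, one_mul]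
    · rw [hkj, hYdef, mt_qU, qM_mulVec, wv_single, ← hmid]
      simp only [Pi.add_apply, Pi.sub_apply, Pi.smul_apply, smul_eq_mul, ev_apply, if_neg h10',
        if_neg (Ne.symm h01), Pi.single_eq_same, if_pos, mul_zero, add_zero, zero_add, mul_one,
        one_mul, zero_sub]
      rw [hc, map_neg, hF.inv, neg_neg]
  exact top_of_lines hK hσ hF (by norm_num) (by omega) H a he0 hG hL h4

end Cfsg.Agent.Lib.helper47.UGen
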