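import Cfsg.Agent.Lib.helper81.WTDefs

/-! S4414 split project (architect helper81), piece E3 (racer copy by helper47): fixed points
commute with base change (hard inclusion). -/

set_option autoImplicit false

namespace Cfsg.Agent.Lib.helper81.WT

open scoped TensorProduct

universe u v w

/-- [E3] fixed points commute with base change (hard inclusion), racer copy -/
theorem helper47_fix_bc_le {S : Type u} [Group S] [Finite S] {E : Type v} [AddCommGroup E] [Module (ZMod 2) E] [Finite E]
    (ρ : Representation (ZMod 2) S E)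
    (F : Type w) [Field F] [Finite F] [Algebra (ZMod 2) F] (T : Subgroup S) (v : F ⊗[ZMod 2] E)
    (hv : v ∈ fixT (bc F ρ) T) :
    v ∈ Submodule.span F ((fun e : E => (1 : F) ⊗ₜ[ZMod 2] e) '' {e : E | ∀ s ∈ T, ρ s e = e}) := by
  classical
  obtain ⟨ι, ⟨b⟩⟩ : ∃ ι : Type w, Nonempty (Module.Basis ι (ZMod 2) F) :=
    ⟨_, ⟨Module.Basis.ofVectorSpace (ZMod 2) F⟩⟩
  have key : ∀ (s : S) (c : ι →₀ E),
      bc F ρ s ((TensorProduct.equivFinsuppOfBasisLeft b).symm c)
        = (TensorProduct.equivFinsuppOfBasisLeft b).symm (c.mapRange (ρ s) (map_zero _)) := by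
    intro s c
    rw [TensorProduct.equivFinsuppOfBasisLeft_symm_apply,
      TensorProduct.equivFinsuppOfBasisLeft_symm_apply, map_finsuppSum,
      Finsupp.sum_mapRange_index]
    · refine Finsupp.sum_congr fun i _ => ?_
      rw [bc_tmul]
    · intro i; exact TensorProduct.tmul_zero _ _
  obtain ⟨c, hc⟩ : ∃ c, c = TensorProduct.equivFinsuppOfBasisLeft b v := ⟨_, rfl⟩
  have hvc : v = (TensorProduct.equivFinsuppOfBasisLeft b).symm c := by
    rw [hc, LinearEquiv.symm_apply_apply]
  have hfix : ∀ s ∈ T, ∀ i, ρ s (c i) = c i := by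
    intro s hs i
    have h1 : bc F ρ s v = v := hv s hs
    rw [hvc, key] at h1
    have h2 := (TensorProduct.equivFinsuppOfBasisLeft b).symm.injective h1
    have h3 := DFunLike.congr_fun h2 i
    simpa using h3
  rw [hvc, TensorProduct.equivFinsuppOfBasisLeft_symm_apply]
  refine Submodule.sum_mem _ fun i _ => ?_
  have h4 : b i ⊗ₜ[ZMod 2] c i = (b i) • ((1 : F) ⊗ₜ[ZMod 2] c i) := by
    rw [TensorProduct.smul_tmul', smul_eq_mul, mul_one]
  show b i ⊗ₜ[ZMod 2] c i ∈ _
  rw [h4]
  exact Submodule.smul_mem _ _ (Submodule.subset_span ⟨c i, fun s hs => hfix s hs i, rfl⟩)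

end Cfsg.Agent.Lib.helper81.WT
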